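import Groth.Agent.VarietyLib.GeomField
import Mathlib.RingTheory.Valuation.ValuationSubring
import Mathlib.RingTheory.Valuation.LocalSubring
import Mathlib.RingTheory.Valuation.Basic
import Mathlib.LinearAlgebra.TensorProduct.Basis

/-! Units of a tensor product of two domains over an algebraically closed field: the cross ratio at points is `1`. -/

universe u

namespace Groth.Agent.Et18.Rosenlicht

open TensorProduct

variable (K : Type u) [Field K]

section Content

variable {K}
variable {L : Type u} [Field L] [Algebra K L] {B : Type u} [CommRing B] [IsDomain B] [Algebra K B]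

/-- evaluation of the right factor -/
noncomputable def evR (A : Type u) [CommRing A] [Algebra K A] {B : Type u} [CommRing B] [Algebra K B]
    (ψ : B →ₐ[K] K) : A ⊗[K] B →ₐ[A] A :=
  (Algebra.TensorProduct.rid K A A).toAlgHom.comp (Algebra.TensorProduct.map (AlgHom.id A A) ψ)

lemma evR_tmul (A : Type u) [CommRing A] [Algebra K A] {B : Type u} [CommRing B] [Algebra K B]
    (ψ : B →ₐ[K] K) (a : A) (b : B) : evR A ψ (a ⊗ₜ b) = ψ b • a := by simp [evR]

lemma evR_map {A A' : Type u} [CommRing A] [Algebra K A] [CommRing A'] [Algebra K A'] (ι : A →ₐ[K] A')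
    {B : Type u} [CommRing B] [Algebra K B] (ψ : B →ₐ[K] K) (z : A ⊗[K] B) :
    evR A' ψ (Algebra.TensorProduct.map ι (AlgHom.id K B) z) = ι (evR A ψ z) := by
  induction z with
  | zero => simp
  | add a b ha hb => simp only [map_add, ha, hb]
  | tmul a b => simp [evR_tmul, map_smul]

omit [IsDomain B] in
/-- a nonzero element is a multiple of one with integral coefficients and nonzero reduction -/
theorem exists_content (V : ValuationSubring L) [Algebra K ↥V] [IsScalarTower K ↥V L] {z : L ⊗[K] B} (hz : z ≠ 0) :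
    ∃ (c : L) (z₀ : ↥V ⊗[K] B),
      z = (c ⊗ₜ (1 : B)) * Algebra.TensorProduct.map (IsScalarTower.toAlgHom K ↥V L) (AlgHom.id K B) z₀ ∧
        Algebra.TensorProduct.map (IsScalarTower.toAlgHom K ↥V (IsLocalRing.ResidueField ↥V))
          (AlgHom.id K B) z₀ ≠ 0 := by
  classical
  let b := Module.Free.chooseBasis K B
  let C := TensorProduct.equivFinsuppOfBasisRight (M := L) b
  have hsum : z = (C z).sum fun i l => l ⊗ₜ[K] b i := (C.symm_apply_apply z).symm.trans (by
    rw [TensorProduct.equivFinsuppOfBasisRight_symm_apply])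
  have hne : (C z).support.Nonempty := Finsupp.support_nonempty_iff.2 (C.map_ne_zero_iff.2 hz)
  obtain ⟨j, hj, hmax⟩ := Finset.exists_max_image (C z).support (fun i => V.valuation (C z i)) hne
  have hj0 : C z j ≠ 0 := Finsupp.mem_support_iff.1 hj
  have hmem : ∀ i, (C z i) * (C z j)⁻¹ ∈ V := fun i => by
    rw [← V.valuation_le_one_iff, map_mul, map_inv₀]
    by_cases hi : i ∈ (C z).support
    · calc V.valuation (C z i) * (V.valuation (C z j))⁻¹ ≤ V.valuation (C z j) * (V.valuation (C z j))⁻¹ :=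
            mul_le_mul_of_nonneg_right (hmax i hi) zero_le
        _ = 1 := mul_inv_cancel₀ (V.valuation.ne_zero_iff.2 hj0)
    · rw [Finsupp.notMem_support_iff.1 hi, map_zero, zero_mul]
      exact zero_le
  refine ⟨C z j, ∑ i ∈ (C z).support, (⟨_, hmem i⟩ : ↥V) ⊗ₜ[K] b i, ?_, ?_⟩
  · rw [map_sum, Finset.mul_sum]
    conv_lhs => rw [hsum, Finsupp.sum]
    refine Finset.sum_congr rfl fun i _ => ?_
    rw [Algebra.TensorProduct.map_tmul, Algebra.TensorProduct.tmul_mul_tmul, one_mul]
    change _ = (C z j * (C z i * (C z j)⁻¹)) ⊗ₜ[K] b i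
    rw [mul_comm (C z j), inv_mul_cancel_right₀ hj0]
  · intro h0
    have h1 := congrArg (fun w => TensorProduct.equivFinsuppOfBasisRight (M := IsLocalRing.ResidueField ↥V) b w j) h0
    simp only [map_sum, Algebra.TensorProduct.map_tmul, AlgHom.coe_id, id_eq,
      Finsupp.coe_finsetSum, Finset.sum_apply, TensorProduct.equivFinsuppOfBasisRight_apply_tmul,
      map_zero, Finsupp.coe_zero, Pi.zero_apply] at h1
    rw [Finset.sum_eq_single j] at h1
    · simp only [Finsupp.mapRange_apply, Module.Basis.repr_self, Finsupp.single_eq_same, one_smul] at h1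
      change IsLocalRing.residue ↥V ⟨_, hmem j⟩ = 0 at h1
      rw [show (⟨_, hmem j⟩ : ↥V) = 1 from Subtype.ext (mul_inv_cancel₀ hj0), map_one] at h1
      exact one_ne_zero h1
    · intro i _ hi
      simp [Finsupp.single_eq_of_ne (Ne.symm hi)]
    · exact fun h => absurd hj h

omit [IsDomain B] in
lemma evR_tmul_one_mul (ψ : B →ₐ[K] K) (c : L) (z : L ⊗[K] B) :
    evR L ψ ((c ⊗ₜ (1 : B)) * z) = c * evR L ψ z := by
  rw [map_mul, evR_tmul, map_one, one_smul]

/-- valuations of values of a unit at different points agree -/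
theorem mul_inv_mem [IsAlgClosed K] (V : ValuationSubring L) (hV : ∀ r : K, algebraMap K L r ∈ V)
    {f g : L ⊗[K] B} (hfg : f * g = 1) (ψ ψ' : B →ₐ[K] K) :
    evR L ψ f * (evR L ψ' f)⁻¹ ∈ V := by
  classical
  letI : Algebra K ↥V := ((algebraMap K L).codRestrict V.toSubring hV).toAlgebra
  haveI : IsScalarTower K ↥V L := IsScalarTower.of_algebraMap_eq fun _ => rfl
  have : IsDomain (IsLocalRing.ResidueField ↥V ⊗[K] B) :=
    VarietyLib.isDomain_tensor_of_isAlgClosed K _ B
  have hne : ∀ x y : L ⊗[K] B, x * y = 1 → x ≠ 0 := fun x y h h0 => by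
    rw [h0, zero_mul] at h
    exact one_ne_zero (α := L) (by simpa using (congrArg (evR L ψ) h).symm)
  obtain ⟨c, f₀, hf, hf0⟩ := exists_content V (hne f g hfg)
  obtain ⟨d, g₀, hg, hg0⟩ := exists_content V (hne g f (by rw [mul_comm]; exact hfg))
  set ι := Algebra.TensorProduct.map (IsScalarTower.toAlgHom K ↥V L) (AlgHom.id K B)
  set ρ := Algebra.TensorProduct.map (IsScalarTower.toAlgHom K ↥V (IsLocalRing.ResidueField ↥V)) (AlgHom.id K B)
  have hι : Function.Injective ι :=
    Module.Flat.rTensor_preserves_injective_linearMap (M := B)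
      (IsScalarTower.toAlgHom K ↥V L).toLinearMap Subtype.val_injective
  have hev : ∀ φ : B →ₐ[K] K, evR L φ f = c * (evR ↥V φ f₀ : L) ∧ evR L φ g = d * (evR ↥V φ g₀ : L) :=
    fun φ => by
      constructor
      · rw [hf, evR_tmul_one_mul, evR_map]; rfl
      · rw [hg, evR_tmul_one_mul, evR_map]; rfl
  -- the product `f₀ g₀` is a unit constant
  have h1 : (c * d) ⊗ₜ (1 : B) * ι (f₀ * g₀) = 1 := by
    rw [map_mul, ← hfg, hf, hg, mul_mul_mul_comm, Algebra.TensorProduct.tmul_mul_tmul, one_mul]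
  have hcd : c * d ≠ 0 := fun h => by
    rw [h, TensorProduct.zero_tmul, zero_mul] at h1
    exact one_ne_zero (α := L) (by simpa using (congrArg (evR L ψ) h1).symm)
  have h2 : ι (f₀ * g₀) = (c * d)⁻¹ ⊗ₜ (1 : B) := by
    calc ι (f₀ * g₀) = ((c * d)⁻¹ ⊗ₜ (1 : B)) * ((c * d) ⊗ₜ (1 : B) * ι (f₀ * g₀)) := by
          rw [← mul_assoc, Algebra.TensorProduct.tmul_mul_tmul, inv_mul_cancel₀ hcd, one_mul,
            ← Algebra.TensorProduct.one_def, one_mul]
      _ = _ := by rw [h1, mul_one]
  set e : ↥V := evR ↥V ψ f₀ * evR ↥V ψ g₀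
  have he : (e : L) = (c * d)⁻¹ := by
    have h3 := congrArg (evR L ψ) h2
    rw [evR_map, evR_tmul, map_one, one_smul, map_mul] at h3
    exact h3
  have h4 : f₀ * g₀ = e ⊗ₜ (1 : B) := hι (by
    rw [h2, Algebra.TensorProduct.map_tmul, AlgHom.coe_id, id_eq, IsScalarTower.coe_toAlgHom']
    exact congrArg (· ⊗ₜ (1 : B)) he.symm)
  have heu : IsUnit e := by
    by_contra h
    have h0 : IsLocalRing.residue ↥V e = 0 := Ideal.Quotient.eq_zero_iff_mem.2 h
    have h5 : ρ f₀ * ρ g₀ = 0 := by
      rw [← map_mul, h4, Algebra.TensorProduct.map_tmul, IsScalarTower.coe_toAlgHom']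
      change IsLocalRing.residue ↥V e ⊗ₜ[K] (1 : B) = 0
      rw [h0, TensorProduct.zero_tmul]
    exact mul_ne_zero hf0 hg0 h5
  have hunit : ∀ φ : B →ₐ[K] K, IsUnit (evR ↥V φ f₀) := fun φ => by
    refine isUnit_of_mul_isUnit_left (y := evR ↥V φ g₀) ?_
    rw [← map_mul, h4, evR_tmul, map_one, one_smul]
    exact heu
  obtain ⟨w, hw⟩ := (hunit ψ').exists_left_inv
  have hw' : (evR ↥V ψ' f₀ : L)⁻¹ = (w : L) :=
    inv_eq_of_mul_eq_one_left (by exact_mod_cast congrArg (Subtype.val : ↥V → L) hw)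
  have hc : c ≠ 0 := left_ne_zero_of_mul hcd
  rw [(hev ψ).1, (hev ψ').1, mul_inv, mul_mul_mul_comm, mul_inv_cancel₀ hc, one_mul, hw']
  exact V.mul_mem _ _ (evR ↥V ψ f₀).2 w.2

end Content

/-- Rosenlicht: the cross ratio of a unit of `A ⊗ B` at rational points is `1`. -/
theorem cross_ratio [IsAlgClosed K] {A B : Type u} [CommRing A] [IsDomain A] [Algebra K A] [CommRing B] [IsDomain B] [Algebra K B]
    {f g : A ⊗[K] B} (hfg : f * g = 1) (φ φ' : A →ₐ[K] K) (ψ ψ' : B →ₐ[K] K) :
    φ (evR A ψ f) * φ' (evR A ψ' f) = φ (evR A ψ' f) * φ' (evR A ψ f) := by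
  classical
  let L := FractionRing A
  let ι := Algebra.TensorProduct.map (IsScalarTower.toAlgHom K A L) (AlgHom.id K B)
  have hinj : Function.Injective (algebraMap A L) := IsFractionRing.injective A L
  have hL : ι f * ι g = 1 := by rw [← map_mul, hfg, map_one]
  have hne : algebraMap A L (evR A ψ' f) ≠ 0 := fun h => by
    have h1 : evR A ψ' f * evR A ψ' g = 1 := by rw [← map_mul, hfg, map_one]
    rw [hinj (h.trans (map_zero _).symm), zero_mul] at h1
    exact zero_ne_one h1
  set r := algebraMap A L (evR A ψ f) * (algebraMap A L (evR A ψ' f))⁻¹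
  haveI : IsIntegrallyClosedIn (algebraMap K L).range L := by
    rw [Subring.isIntegrallyClosedIn_iff]
    intro x hx
    have hx' : IsIntegral K x := by
      obtain ⟨p, hp, hpx⟩ := hx
      obtain ⟨q, hq, -, hqm⟩ := Polynomial.lifts_and_degree_eq_and_monic
        ((Polynomial.mem_lifts p).2 (Polynomial.map_surjective _ (algebraMap K L).rangeRestrict_surjective p)) hp
      refine ⟨q, hqm, ?_⟩
      rw [← hq, Polynomial.eval₂_map] at hpx
      exact hpx
    obtain ⟨c, hc⟩ := (IsAlgClosed.algebraMap_bijective_of_isIntegral (k := K)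
      (K := ↥(integralClosure K L))).2 ⟨x, hx'⟩
    exact ⟨c, congrArg Subtype.val hc⟩
  obtain ⟨s, hs⟩ : r ∈ (algebraMap K L).range := by
    by_contra hr
    obtain ⟨V, hV, hrV⟩ := Subring.exists_le_valuationSubring_of_isIntegrallyClosedIn hr
    refine hrV ?_
    have := mul_inv_mem V (fun c => hV ⟨c, rfl⟩) hL ψ ψ'
    rwa [evR_map, evR_map] at this
  have h' : evR A ψ f = algebraMap K A s * evR A ψ' f := hinj (by
    rw [map_mul, ← IsScalarTower.algebraMap_apply, show algebraMap K L s = r from hs,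
      inv_mul_cancel_right₀ hne])
  rw [h', map_mul, map_mul, AlgHom.commutes, AlgHom.commutes]
  ring

end Groth.Agent.Et18.Rosenlicht
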