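import Mathlib.AlgebraicGeometry.Morphisms.LocalFlatDescent
import Mathlib.AlgebraicGeometry.Morphisms.Proper
import Mathlib.AlgebraicGeometry.Morphisms.Finite
import Mathlib.AlgebraicGeometry.Morphisms.Integral
import Mathlib.AlgebraicGeometry.Morphisms.QuasiFinite
import Mathlib.AlgebraicGeometry.Morphisms.Separated

/-!
# fpqc descent of basic properties of morphisms of schemes
-/

open CategoryTheory CategoryTheory.Limits AlgebraicGeometry MorphismProperty Opposite

universe u

set_option backward.isDefEq.respectTransparency.types false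

namespace Groth.Agent.Et18

/-- The morphisms along which fpqc descent holds. -/
abbrev FPQC : MorphismProperty Scheme.{u} := @Surjective ⊓ @Flat ⊓ @QuasiCompact

lemma fpqc_H₁ : (@IsLocalIso ⊓ @Surjective : MorphismProperty Scheme.{u}) ≤
    (@Surjective ⊓ @Flat : MorphismProperty Scheme.{u}) := by
  rw [inf_comm]
  exact inf_le_inf le_rfl (IsLocalIso.le_of_isZariskiLocalAtSource _)

theorem descends_quasiCompact : DescendsAlong @QuasiCompact FPQC.{u} := by
  refine IsZariskiLocalAtTarget.descendsAlong_inf_quasiCompact _ _ fpqc_H₁ ?_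
  intro R S Y φ g ⟨_, _⟩ h
  rw [HasAffineProperty.iff_of_isAffine (P := @QuasiCompact)] at h ⊢
  exact (pullback.snd (Spec.map φ) g).surjective.compactSpace (pullback.snd (Spec.map φ) g).continuous

theorem descends_quasiSeparated : DescendsAlong @QuasiSeparated FPQC.{u} := by
  have := descends_quasiCompact.{u}
  rw [quasiSeparated_eq_diagonal_is_quasiCompact]
  infer_instance

lemma isIso_of_isIso_appTop {X Y : Scheme.{u}} [IsAffine X] [IsAffine Y] (f : X ⟶ Y)
    [IsIso f.appTop] : IsIso f :=
  ((isomorphisms Scheme).arrow_mk_iso_iff (arrowIsoSpecΓOfIsAffine f)).mpr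
    (inferInstanceAs (IsIso (Spec.map f.appTop)))

lemma isPushout_appTop_of_flat {X T S P : Scheme.{u}} {iX : X ⟶ S} {f : T ⟶ S} {g : P ⟶ X}
    {iY : P ⟶ T} (H : IsPullback g iY iX f) [Flat f] [IsAffine S] [IsAffine T] [CompactSpace X]
    [QuasiSeparatedSpace X] : IsPushout iX.appTop f.appTop g.appTop iY.appTop := by
  have := (isIso_pushoutSection_iff H (US := ⊤) (UT := ⊤) (UX := ⊤) (UY := ⊤) le_top le_top
    (by simp)).mp (isIso_pushoutSection_of_isQuasiSeparated_of_flat_right H _ _ _
      (isAffineOpen_top S) (isAffineOpen_top T) isCompact_univ isQuasiSeparated_univ)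
  simp only [Scheme.Hom.appLE] at this
  convert this using 1 <;> simp [Scheme.Hom.appTop]

lemma isAffine_of_fpqc {S : Scheme.{u}} [IsAffine S] {X Y : Scheme.{u}} [IsAffine X] (f : X ⟶ S)
    (g : Y ⟶ S) (hf : Surjective f) [Flat f] [IsAffine (pullback f g)]
    [CompactSpace Y] [QuasiSeparatedSpace Y] : IsAffine Y := by
  let h : Spec Γ(Y, ⊤) ⟶ S := Spec.map g.appTop ≫ S.isoSpec.inv
  have hh : Y.toSpecΓ ≫ h = g := by
    simp [h, ← Scheme.toSpecΓ_naturality_assoc]
  let q : pullback f g ⟶ pullback h f :=
    pullback.lift (pullback.snd f g ≫ Y.toSpecΓ) (pullback.fst f g)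
      (by rw [Category.assoc, hh, pullback.condition])
  have hsq : IsPullback (pullback.snd f g) q Y.toSpecΓ (pullback.fst h f) := by
    refine IsPullback.of_bot (v₂₁ := pullback.snd h f) (v₂₂ := h) (h₃₁ := f) ?_ ?_
      (IsPullback.of_hasPullback h f)
    · rw [hh, pullback.lift_snd]
      exact (IsPullback.of_hasPullback f g).flip
    · rw [pullback.lift_fst]
  have hout := isPushout_appTop_of_flat (IsPullback.of_hasPullback f g).flip
  have htop := isPushout_appTop_of_flat (IsPullback.of_hasPullback h f)
  have hsqΓ : IsPushout (pullback.fst h f).appTop Y.toSpecΓ.appTop q.appTop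
      (pullback.snd f g).appTop := by
    refine (htop.flip.paste_vert_iff ?_).mp ?_
    · rw [← Scheme.Hom.comp_appTop, ← Scheme.Hom.comp_appTop, pullback.lift_fst]
    · rw [← Scheme.Hom.comp_appTop, ← Scheme.Hom.comp_appTop, hh, pullback.lift_snd]
      exact hout.flip
  have : IsIso Y.toSpecΓ.appTop := by rw [Scheme.toSpecΓ_appTop]; infer_instance
  have : IsIso q.appTop := hsqΓ.isIso_inl_of_isIso
  have hq : IsIso q := isIso_of_isIso_appTop q
  refine ⟨MorphismProperty.of_isPullback_of_descendsAlong (P := isomorphisms Scheme.{u})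
    (Q := FPQC.{u}) hsq.flip ⟨⟨?_, ?_⟩, ?_⟩ hq⟩
  · exact MorphismProperty.pullback_fst _ _ hf
  · infer_instance
  · infer_instance

theorem descends_isAffineHom : DescendsAlong @IsAffineHom FPQC.{u} := by
  have := descends_quasiCompact.{u}
  have := descends_quasiSeparated.{u}
  refine IsZariskiLocalAtTarget.descendsAlong_inf_quasiCompact _ _ fpqc_H₁ ?_
  intro R S Y φ g ⟨h₁, h₂⟩ h
  have hq : QuasiCompact g := MorphismProperty.of_pullback_fst_of_descendsAlong
    (P := @QuasiCompact) (Q := FPQC.{u}) ⟨⟨h₁, h₂⟩, inferInstance⟩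
    (inferInstanceAs (QuasiCompact (pullback.fst (Spec.map φ) g)))
  have hs : QuasiSeparated g := MorphismProperty.of_pullback_fst_of_descendsAlong
    (P := @QuasiSeparated) (Q := FPQC.{u}) ⟨⟨h₁, h₂⟩, inferInstance⟩
    (inferInstanceAs (QuasiSeparated (pullback.fst (Spec.map φ) g)))
  rw [HasAffineProperty.iff_of_isAffine (P := @QuasiCompact)] at hq
  rw [HasAffineProperty.iff_of_isAffine (P := @QuasiSeparated)] at hs
  rw [HasAffineProperty.iff_of_isAffine (P := @IsAffineHom)] at h ⊢
  exact isAffine_of_fpqc (Spec.map φ) g h₁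

theorem descends_isIntegralHom : DescendsAlong @IsIntegralHom FPQC.{u} := by
  have := descends_isAffineHom.{u}
  rw [IsIntegralHom.eq_universallyClosed_inf_isAffineHom]
  infer_instance

theorem descends_monomorphisms : DescendsAlong (monomorphisms Scheme.{u}) FPQC.{u} := by
  rw [← diagonal_isomorphisms]
  infer_instance

theorem descends_isFinite : DescendsAlong @IsFinite FPQC.{u} := by
  have := descends_isIntegralHom.{u}
  rw [IsFinite.eq_inf]
  infer_instance

theorem descends_isClosedImmersion : DescendsAlong @IsClosedImmersion FPQC.{u} := by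
  have := descends_isFinite.{u}
  have := descends_monomorphisms.{u}
  rw [IsClosedImmersion.eq_isFinite_inf_mono]
  infer_instance

theorem descends_isSeparated : DescendsAlong @IsSeparated FPQC.{u} := by
  have := descends_isClosedImmersion.{u}
  rw [IsSeparated.isSeparated_eq_diagonal_isClosedImmersion]
  infer_instance

theorem descends_isProper : DescendsAlong @IsProper FPQC.{u} := by
  have := descends_isSeparated.{u}
  rw [isProper_eq]
  infer_instance

theorem descends_locallyQuasiFinite :
    DescendsAlong (@LocallyQuasiFinite ⊓ @LocallyOfFiniteType : MorphismProperty Scheme.{u})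
      FPQC.{u} := by
  have : IsZariskiLocalAtTarget (@LocallyQuasiFinite ⊓ @LocallyOfFiniteType : MorphismProperty Scheme.{u}) :=
    inferInstance
  refine IsZariskiLocalAtTarget.descendsAlong _ _ ?_
  intro R X Y f g hf ⟨h₁, h₂⟩
  have hlft : LocallyOfFiniteType g :=
    MorphismProperty.of_pullback_fst_of_descendsAlong (Q := FPQC.{u}) hf h₂
  refine ⟨IsZariskiLocalAtSource.iff_of_openCover (P := @LocallyQuasiFinite) Y.affineCover |>.mpr
    fun i ↦ ?_, hlft⟩
  obtain ⟨⟨_, _⟩, _⟩ := hf
  set gi := Y.affineCover.f i ≫ g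
  have : LocallyQuasiFinite (pullback.fst f gi) := by
    have heq : pullback.fst f gi = pullback.map _ _ _ _ (𝟙 _) (Y.affineCover.f i) (𝟙 _) (by simp)
        (by simp [gi]) ≫ pullback.fst f g := ((pullback.lift_fst _ _ _).trans (Category.comp_id _)).symm
    rw [heq]
    exact IsZariskiLocalAtSource.comp h₁ _
  refine .of_finite_preimage_singleton gi fun z ↦ ?_
  obtain ⟨x, hx⟩ := f.surjective z
  refine (((pullback.fst f gi).finite_preimage_singleton x).image (pullback.snd f gi)).subset ?_
  intro y hy
  obtain ⟨w, hw₁, hw₂⟩ := Scheme.Pullback.exists_preimage_pullback x y (hx.trans hy.symm)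
  exact ⟨w, hw₁, hw₂⟩

end Groth.Agent.Et18
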