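import Groth.Agent.Et18.RosenlichtAlg
import Mathlib.AlgebraicGeometry.AlgClosed.Basic
import Mathlib.AlgebraicGeometry.Geometrically.Reduced
import Mathlib.AlgebraicGeometry.Geometrically.Connected
import Mathlib.AlgebraicGeometry.Morphisms.Flat

/-! Units on a product of connected reduced schemes over a field that are trivial on both axes are trivial. -/

set_option autoImplicit false

universe u

open CategoryTheory Limits AlgebraicGeometry TensorProduct TopologicalSpace

namespace Groth.Agent.Et18.Rosenlicht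

variable {K : Type u} [Field K]

/-- rational points -/
abbrev Pt {X : Scheme.{u}} (a : X ⟶ Spec (CommRingCat.of K)) : Type u :=
  {p : Spec (CommRingCat.of K) ⟶ X // p ≫ a = 𝟙 _}

/-- two points lie on a common affine integral piece -/
def SamePiece {X : Scheme.{u}} (a : X ⟶ Spec (CommRingCat.of K)) (x x' : Pt a) : Prop :=
  ∃ (A : Type u) (_ : CommRing A) (_ : IsDomain A) (_ : Algebra K A) (α : Spec (CommRingCat.of A) ⟶ X),
    α ≫ a = Spec.map (CommRingCat.ofHom (algebraMap K A)) ∧
      ∃ φ φ' : A →ₐ[K] K, x.1 = Spec.map (CommRingCat.ofHom φ.toRingHom) ≫ α ∧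
        x'.1 = Spec.map (CommRingCat.ofHom φ'.toRingHom) ≫ α

section Conn

variable {X : Scheme.{u}} (a : X ⟶ Spec (CommRingCat.of K))

lemma exists_factor {x : Pt a} {η : X} (hx : η ⤳ x.1.base (IsLocalRing.closedPoint K)) {U : X.Opens}
    (hU : IsAffineOpen U) (hxU : x.1.base (IsLocalRing.closedPoint K) ∈ U) :
    ∃ θ : Γ(X, U) ⟶ CommRingCat.of K, Spec.map θ ≫ hU.fromSpec = x.1 ∧
      (hU.primeIdealOf ⟨η, hx.mem_open U.2 hxU⟩).asIdeal ≤ RingHom.ker θ.hom := by
  have hr : Set.range x.1.base ⊆ Set.range hU.fromSpec.base := by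
    rw [hU.range_fromSpec]
    rintro _ ⟨z, rfl⟩
    rw [Subsingleton.elim z (IsLocalRing.closedPoint K)]
    exact hxU
  set l := IsOpenImmersion.lift hU.fromSpec x.1 hr
  have hl : l ≫ hU.fromSpec = x.1 := IsOpenImmersion.lift_fac _ _ hr
  refine ⟨Spec.preimage l, by rw [Spec.map_preimage, hl], ?_⟩
  have h1 : hU.primeIdealOf ⟨η, hx.mem_open U.2 hxU⟩ ⤳ l.base (IsLocalRing.closedPoint K) := by
    refine hU.fromSpec.isOpenEmbedding.isInducing.specializes_iff.1 ?_
    rw [hU.fromSpec_primeIdealOf]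
    exact (congrArg (fun g : Spec (CommRingCat.of K) ⟶ X => η ⤳ g.base (IsLocalRing.closedPoint K)) hl).mpr hx
  have h2 := (PrimeSpectrum.le_iff_specializes _ _).2 h1
  conv_rhs at h2 => rw [← Spec.map_preimage l]
  intro r hr'
  have h3 := h2 hr'
  change (Spec.preimage l).hom r ∈ (IsLocalRing.closedPoint K).asIdeal at h3
  rw [RingHom.mem_ker]
  by_contra h
  exact (IsLocalRing.mem_maximalIdeal _).1 h3 (Ne.isUnit h)

lemma samePiece_of_mem {x x' : Pt a} {η : X} (hx : η ⤳ x.1.base (IsLocalRing.closedPoint K))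
    (hx' : η ⤳ x'.1.base (IsLocalRing.closedPoint K)) {U : X.Opens} (hU : IsAffineOpen U)
    (hxU : x.1.base (IsLocalRing.closedPoint K) ∈ U) (hxU' : x'.1.base (IsLocalRing.closedPoint K) ∈ U) :
    SamePiece a x x' := by
  obtain ⟨θ, hθ, hθp⟩ := exists_factor a hx hU hxU
  obtain ⟨θ', hθ', hθp'⟩ := exists_factor a hx' hU hxU'
  set p := (hU.primeIdealOf ⟨η, hx.mem_open U.2 hxU⟩).asIdeal
  let π : Γ(X, U) ⟶ CommRingCat.of (Γ(X, U) ⧸ p) := CommRingCat.ofHom (Ideal.Quotient.mk p)
  let α : Spec (CommRingCat.of (Γ(X, U) ⧸ p)) ⟶ X := Spec.map π ≫ hU.fromSpec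
  let s : CommRingCat.of K ⟶ CommRingCat.of (Γ(X, U) ⧸ p) := Spec.preimage (α ≫ a)
  letI : Algebra K (Γ(X, U) ⧸ p) := s.hom.toAlgebra
  have hfac : ∀ (y : Pt a) (t : Γ(X, U) ⟶ CommRingCat.of K) (ht : Spec.map t ≫ hU.fromSpec = y.1)
      (htp : p ≤ RingHom.ker t.hom),
      ∃ φ : (Γ(X, U) ⧸ p) →ₐ[K] K, y.1 = Spec.map (CommRingCat.ofHom φ.toRingHom) ≫ α := by
    intro y t ht htp
    let t' : CommRingCat.of (Γ(X, U) ⧸ p) ⟶ CommRingCat.of K := CommRingCat.ofHom (Ideal.Quotient.lift p t.hom htp)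
    have h1 : Spec.map t' ≫ α = y.1 := by
      rw [← Category.assoc, ← Spec.map_comp, show π ≫ t' = t by ext r; rfl, ht]
    have h2 : s ≫ t' = 𝟙 _ := Spec.map_injective (by
      rw [Spec.map_comp, Spec.map_preimage, ← Category.assoc, h1, y.2, Spec.map_id])
    exact ⟨{ t'.hom with commutes' := fun r => congrArg (fun g => g.hom r) h2 }, h1.symm⟩
  obtain ⟨φ, hφ⟩ := hfac x θ hθ hθp
  obtain ⟨φ', hφ'⟩ := hfac x' θ' hθ' hθp'
  exact ⟨_, inferInstance, inferInstance, inferInstance, α, (Spec.map_preimage _).symm, φ, φ', hφ, hφ'⟩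

variable [IsAlgClosed K] [LocallyOfFiniteType a]

lemma exists_pt {z : X} (hz : IsClosed ({z} : Set X)) : ∃ p : Pt a, p.1.base (IsLocalRing.closedPoint K) = z := by
  obtain ⟨p, hp⟩ := (pointEquivClosedPoint a).surjective ⟨z, hz⟩
  exact ⟨p, congrArg Subtype.val hp⟩

lemma eqvGen_of_specializes {x x' : Pt a} {η : X} (hx : η ⤳ x.1.base (IsLocalRing.closedPoint K))
    (hx' : η ⤳ x'.1.base (IsLocalRing.closedPoint K)) : Relation.EqvGen (SamePiece a) x x' := by
  have : JacobsonSpace X := LocallyOfFiniteType.jacobsonSpace a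
  obtain ⟨_, ⟨U, hU, rfl⟩, hxU, -⟩ :=
    X.isBasis_affineOpens.exists_subset_of_mem_open (Set.mem_univ (x.1.base (IsLocalRing.closedPoint K))) isOpen_univ
  obtain ⟨_, ⟨V, hV, rfl⟩, hxV, -⟩ :=
    X.isBasis_affineOpens.exists_subset_of_mem_open (Set.mem_univ (x'.1.base (IsLocalRing.closedPoint K))) isOpen_univ
  have hne : ((U : Set X) ∩ V ∩ closure {η}).Nonempty :=
    ⟨η, ⟨hx.mem_open U.2 hxU, hx'.mem_open V.2 hxV⟩, subset_closure rfl⟩
  obtain ⟨z, ⟨⟨hzU, hzV⟩, hzη⟩, hz⟩ := nonempty_inter_closedPoints hne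
    ((U.2.inter V.2).isLocallyClosed.inter isClosed_closure.isLocallyClosed)
  obtain ⟨x'', hx''⟩ := exists_pt a hz
  have hη : η ⤳ x''.1.base (IsLocalRing.closedPoint K) := by
    rw [hx'']; exact specializes_iff_mem_closure.2 hzη
  exact .trans _ x'' _ (.rel _ _ (samePiece_of_mem a hx hη hU hxU (hx'' ▸ hzU)))
    (.rel _ _ (samePiece_of_mem a hη hx' hV (hx'' ▸ hzV) hxV))

theorem eqvGen_samePiece [QuasiCompact a] [ConnectedSpace X] (e x : Pt a) :
    Relation.EqvGen (SamePiece a) e x := by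
  classical
  have : JacobsonSpace X := LocallyOfFiniteType.jacobsonSpace a
  have : IsLocallyNoetherian X := LocallyOfFiniteType.isLocallyNoetherian a
  have : CompactSpace X := QuasiCompact.compactSpace_of_compactSpace a
  have : IsNoetherian X := {}
  let C : Set X := {z | ∃ p : Pt a, z ⤳ p.1.base (IsLocalRing.closedPoint K) ∧
    Relation.EqvGen (SamePiece a) e p}
  have hgen : ∀ z' z : X, z' ⤳ z → z ∈ C → z' ∈ C := fun z' z h ⟨p, hp, hpe⟩ => ⟨p, h.trans hp, hpe⟩
  have hspec : ∀ z' z : X, z' ⤳ z → z' ∈ C → z ∈ C := fun z' z h ⟨p, hp, hpe⟩ => by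
    obtain ⟨q, hq, hq'⟩ := nonempty_inter_closedPoints (Z := closure ({z} : Set X))
      ⟨z, subset_closure rfl⟩ isClosed_closure.isLocallyClosed
    obtain ⟨r, hr⟩ := exists_pt a hq'
    have hzr : z ⤳ r.1.base (IsLocalRing.closedPoint K) := by rw [hr]; exact specializes_iff_mem_closure.2 hq
    exact ⟨r, hzr, .trans _ p _ hpe (eqvGen_of_specializes a hp (h.trans hzr))⟩
  have hcl : ∀ D : Set X, (∀ z' z : X, z' ⤳ z → (z' ∈ D ↔ z ∈ D)) → IsClosed D := by
    intro D hD
    have hfin : (irreducibleComponents X).Finite := TopologicalSpace.NoetherianSpace.finite_irreducibleComponents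
    have : D = ⋃ Z ∈ {Z ∈ irreducibleComponents X | Z ⊆ D}, Z := by
      refine subset_antisymm (fun z hz => ?_) (Set.iUnion₂_subset fun Z hZ => hZ.2)
      refine Set.mem_biUnion (x := irreducibleComponent z)
        ⟨irreducibleComponent_mem_irreducibleComponents z, fun w hw => ?_⟩ mem_irreducibleComponent
      have hg := (isIrreducible_irreducibleComponent (x := z)).isGenericPoint_genericPoint
        isClosed_irreducibleComponent
      exact (hD _ _ (hg.specializes hw)).1 ((hD _ _ (hg.specializes mem_irreducibleComponent)).2 hz)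
    rw [this]
    exact (hfin.subset fun Z hZ => hZ.1).isClosed_biUnion fun Z hZ =>
      isClosed_of_mem_irreducibleComponents _ hZ.1
  have hC : IsClopen C := by
    refine ⟨hcl C fun z' z h => ⟨hspec _ _ h, hgen _ _ h⟩, ?_⟩
    rw [← isClosed_compl_iff]
    exact hcl Cᶜ fun z' z h => not_congr ⟨hspec _ _ h, hgen _ _ h⟩
  have huniv : C = Set.univ := hC.eq_univ ⟨_, e, specializes_rfl, .refl _⟩
  obtain ⟨p, hp, hpe⟩ : x.1.base (IsLocalRing.closedPoint K) ∈ C := huniv ▸ Set.mem_univ _
  exact .trans _ p _ hpe (eqvGen_of_specializes a hp specializes_rfl)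

end Conn

section Val

variable {X Y Q : Scheme.{u}} {a : X ⟶ Spec (CommRingCat.of K)} {b : Y ⟶ Spec (CommRingCat.of K)}
  {q₁ : Q ⟶ X} {q₂ : Q ⟶ Y} (h : IsPullback q₁ q₂ a b)

/-- the point of the product given by two rational points -/
noncomputable def pr (x : Pt a) (y : Pt b) : Spec (CommRingCat.of K) ⟶ Q :=
  h.lift x.1 y.1 (x.2.trans y.2.symm)

/-- the value of a function at a pair of rational points -/
noncomputable def val (f : Γ(Q, ⊤)) (x : Pt a) (y : Pt b) : K :=
  (Scheme.ΓSpecIso (CommRingCat.of K)).hom ((pr h x y).appTop f)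

lemma val_ne_zero {f : Γ(Q, ⊤)} (hf : IsUnit f) (x : Pt a) (y : Pt b) : val h f x y ≠ 0 :=
  ((hf.map (pr h x y).appTop.hom).map (Scheme.ΓSpecIso (CommRingCat.of K)).hom.hom).ne_zero

theorem val_cross [IsAlgClosed K] {f : Γ(Q, ⊤)} (hf : IsUnit f) {x x' : Pt a} {y y' : Pt b}
    (hx : SamePiece a x x') (hy : SamePiece b y y') :
    val h f x y * val h f x' y' = val h f x y' * val h f x' y := by
  obtain ⟨A, _, _, _, α, hα, φ, φ', hφ, hφ'⟩ := hx
  obtain ⟨B, _, _, _, β, hβ, ψ, ψ', hψ, hψ'⟩ := hy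
  let iA : CommRingCat.of A ⟶ CommRingCat.of (A ⊗[K] B) :=
    CommRingCat.ofHom Algebra.TensorProduct.includeLeftRingHom
  let iB : CommRingCat.of B ⟶ CommRingCat.of (A ⊗[K] B) :=
    CommRingCat.ofHom Algebra.TensorProduct.includeRight.toRingHom
  have hw : (Spec.map iA ≫ α) ≫ a = (Spec.map iB ≫ β) ≫ b := by
    rw [Category.assoc, hα, Category.assoc, hβ, ← Spec.map_comp, ← Spec.map_comp]
    congr 1
    ext r
    exact (Algebra.TensorProduct.includeLeft (R := K) (S := K) (A := A) (B := B)).commutes r |>.trans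
      ((Algebra.TensorProduct.includeRight (R := K) (A := A) (B := B)).commutes r).symm
  let δ := h.lift (Spec.map iA ≫ α) (Spec.map iB ≫ β) hw
  set g : A ⊗[K] B := (Scheme.ΓSpecIso (CommRingCat.of (A ⊗[K] B))).hom (δ.appTop f) with hg_def
  have hg : IsUnit g :=
    (hf.map δ.appTop.hom).map (Scheme.ΓSpecIso (CommRingCat.of (A ⊗[K] B))).hom.hom
  have hval : ∀ (x : Pt a) (φ : A →ₐ[K] K), x.1 = Spec.map (CommRingCat.ofHom φ.toRingHom) ≫ α →
      ∀ (y : Pt b) (ψ : B →ₐ[K] K), y.1 = Spec.map (CommRingCat.ofHom ψ.toRingHom) ≫ β →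
      val h f x y = φ (evR A ψ g) := by
    intro x φ hφ y ψ hψ
    let χ : A ⊗[K] B →ₐ[K] K := φ.comp ((evR A ψ).restrictScalars K)
    let c : CommRingCat.of (A ⊗[K] B) ⟶ CommRingCat.of K := CommRingCat.ofHom χ.toRingHom
    have hp : pr h x y = Spec.map c ≫ δ := by
      apply h.hom_ext
      · rw [pr, h.lift_fst, Category.assoc, h.lift_fst, ← Category.assoc, ← Spec.map_comp, hφ]
        congr 2
        ext r
        simp [c, χ, iA, evR_tmul]
      · rw [pr, h.lift_snd, Category.assoc, h.lift_snd, ← Category.assoc, ← Spec.map_comp, hψ]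
        congr 2
        ext r
        simp [c, χ, iB, evR_tmul, Algebra.smul_def]
    rw [val, hp, Scheme.Hom.comp_appTop]
    exact congrArg (fun φ => φ.hom (δ.appTop f)) (Scheme.ΓSpecIso_naturality c)
  rw [hval x φ hφ y ψ hψ, hval x' φ' hφ' y' ψ' hψ', hval x φ hφ y' ψ' hψ', hval x' φ' hφ' y ψ hψ]
  obtain ⟨g', hg'⟩ := hg.exists_right_inv
  exact cross_ratio K hg' φ φ' ψ ψ'

theorem eq_one_of_axes [IsAlgClosed K] [IsReduced Q] [LocallyOfFiniteType a] [QuasiCompact a] [ConnectedSpace X]
    [LocallyOfFiniteType b] [QuasiCompact b] [ConnectedSpace Y] (e : Pt a) (e' : Pt b) {f : Γ(Q, ⊤)}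
    (hf : IsUnit f)
    (h1 : (h.lift (𝟙 X) (a ≫ e'.1) (by rw [Category.assoc, e'.2, Category.id_comp, Category.comp_id])).appTop f = 1)
    (h2 : (h.lift (b ≫ e.1) (𝟙 Y) (by rw [Category.assoc, e.2, Category.id_comp, Category.comp_id])).appTop f = 1) :
    f = 1 := by
  have v1 : ∀ x, val h f x e' = 1 := fun x => by
    have hp : pr h x e' = x.1 ≫ h.lift (𝟙 X) (a ≫ e'.1)
        (by rw [Category.assoc, e'.2, Category.id_comp, Category.comp_id]) := by
      apply h.hom_ext
      · simp [pr]
      · rw [pr, h.lift_snd, Category.assoc, h.lift_snd, ← Category.assoc, x.2, Category.id_comp]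
    rw [val, hp, Scheme.Hom.comp_appTop, CommRingCat.comp_apply, h1, map_one, map_one]
  have v2 : ∀ y, val h f e y = 1 := fun y => by
    have hp : pr h e y = y.1 ≫ h.lift (b ≫ e.1) (𝟙 Y)
        (by rw [Category.assoc, e.2, Category.id_comp, Category.comp_id]) := by
      apply h.hom_ext
      · rw [pr, h.lift_fst, Category.assoc, h.lift_fst, ← Category.assoc, y.2, Category.id_comp]
      · simp [pr]
    rw [val, hp, Scheme.Hom.comp_appTop, CommRingCat.comp_apply, h2, map_one, map_one]
  have hconst : ∀ y y', SamePiece b y y' → ∀ x, val h f x y = val h f x y' := by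
    intro y y' hy x
    have hiff : ∀ p q : Pt a, Relation.EqvGen (SamePiece a) p q →
        (val h f p y = val h f p y' ↔ val h f q y = val h f q y') := by
      intro p q hpq
      induction hpq with
      | rel p q hpq =>
        have hc := val_cross h hf hpq hy
        constructor
        · intro e1
          rw [e1] at hc
          exact (mul_left_cancel₀ (val_ne_zero h hf p y') hc).symm
        · intro e1
          rw [e1] at hc
          exact mul_right_cancel₀ (val_ne_zero h hf q y') hc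
      | refl => exact Iff.rfl
      | symm p q _ ih => exact ih.symm
      | trans p q r _ _ i1 i2 => exact i1.trans i2
    exact (hiff e x (eqvGen_samePiece a e x)).1 ((v2 y).trans (v2 y').symm)
  have hall : ∀ x y, val h f x y = 1 := by
    intro x y
    have key : ∀ p q : Pt b, Relation.EqvGen (SamePiece b) p q → val h f x p = val h f x q := by
      intro p q hpq
      induction hpq with
      | rel p q hpq => exact hconst p q hpq x
      | refl => rfl
      | symm p q _ ih => exact ih.symm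
      | trans p q r _ _ i1 i2 => exact i1.trans i2
    exact (key e' y (eqvGen_samePiece b e' y)).symm.trans (v1 x)
  rw [← sub_eq_zero]
  refine eq_zero_of_basicOpen_eq_bot (f - 1) ?_
  by_contra hne
  haveI : LocallyOfFiniteType q₁ := MorphismProperty.of_isPullback h.flip ‹LocallyOfFiniteType b›
  haveI : LocallyOfFiniteType (q₁ ≫ a) := inferInstance
  have : JacobsonSpace Q := LocallyOfFiniteType.jacobsonSpace (q₁ ≫ a)
  obtain ⟨z, hz, hzc⟩ := nonempty_inter_closedPoints (Z := ((Q.basicOpen (f - 1) : Q.Opens) : Set Q))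
    ((TopologicalSpace.Opens.ne_bot_iff_nonempty _).1 hne) (Q.basicOpen (f - 1)).2.isLocallyClosed
  obtain ⟨p, hp⟩ := exists_pt (q₁ ≫ a) hzc
  let x : Pt a := ⟨p.1 ≫ q₁, by rw [Category.assoc, p.2]⟩
  let y : Pt b := ⟨p.1 ≫ q₂, by rw [Category.assoc, ← h.w, p.2]⟩
  have hpe : pr h x y = p.1 := by
    apply h.hom_ext
    · rw [pr, h.lift_fst]
    · rw [pr, h.lift_snd]
  have h0 : p.1.appTop (f - 1) = 0 := by
    refine (Scheme.ΓSpecIso (CommRingCat.of K)).commRingCatIsoToRingEquiv.injective ?_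
    change (Scheme.ΓSpecIso (CommRingCat.of K)).hom (p.1.appTop (f - 1)) = (Scheme.ΓSpecIso (CommRingCat.of K)).hom 0
    rw [map_sub, map_one, map_sub, map_one, map_zero, ← hpe]
    exact sub_eq_zero.2 (hall x y)
  have hmem : IsLocalRing.closedPoint K ∈ p.1 ⁻¹ᵁ Q.basicOpen (f - 1) := by
    change p.1.base _ ∈ Q.basicOpen (f - 1)
    rw [hp]; exact hz
  rw [Scheme.preimage_basicOpen_top, h0, Scheme.basicOpen_zero] at hmem
  exact hmem

end Val

theorem appTop_injective_of_flat_surjective {X Y : Scheme.{u}} (f : X ⟶ Y) [Flat f] [Surjective f] :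
    Function.Injective f.appTop := by
  intro x y h
  refine TopCat.Presheaf.section_ext Y.sheaf ⊤ x y fun p hp => ?_
  obtain ⟨q, rfl⟩ := f.surjective p
  algebraize [(f.stalkMap q).hom]
  have : Module.FaithfullyFlat (Y.presheaf.stalk (f q)) (X.presheaf.stalk q) :=
    @Module.FaithfullyFlat.of_flat_of_isLocalHom _ _ _ _ _ _ _
      (Flat.stalkMap f q) (f.toLRSHom.prop q)
  refine (‹RingHom.FaithfullyFlat _›.injective : Function.Injective (f.stalkMap q)) ?_
  erw [Scheme.Hom.germ_stalkMap_apply, Scheme.Hom.germ_stalkMap_apply]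
  exact congrArg (fun z => X.presheaf.germ (f ⁻¹ᵁ ⊤) q hp z) h

/-- descent to an arbitrary field -/
theorem eq_one_of_axes_field {k : Type u} [Field k] {X Y : Scheme.{u}} (a : X ⟶ Spec (CommRingCat.of k))
    (b : Y ⟶ Spec (CommRingCat.of k))
    [LocallyOfFiniteType a] [QuasiCompact a] [GeometricallyReduced a] [GeometricallyConnected a]
    [LocallyOfFiniteType b] [QuasiCompact b] [GeometricallyReduced b] [GeometricallyConnected b]
    (e : Pt a) (e' : Pt b) {f : Γ(pullback a b, ⊤)} (hf : IsUnit f)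
    (h1 : (pullback.lift (𝟙 X) (a ≫ e'.1) (by rw [Category.assoc, e'.2, Category.id_comp, Category.comp_id])
      : X ⟶ pullback a b).appTop f = 1)
    (h2 : (pullback.lift (b ≫ e.1) (𝟙 Y) (by rw [Category.assoc, e.2, Category.id_comp, Category.comp_id])
      : Y ⟶ pullback a b).appTop f = 1) :
    f = 1 := by
  let σ : Spec (CommRingCat.of (AlgebraicClosure k)) ⟶ Spec (CommRingCat.of k) :=
    Spec.map (CommRingCat.ofHom (algebraMap k (AlgebraicClosure k)))
  haveI : Flat σ := inferInstance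
  haveI : Surjective σ := inferInstance
  let aK := pullback.snd a σ
  let bK := pullback.snd b σ
  let Q := pullback b (aK ≫ σ)
  let q₁ : Q ⟶ pullback a σ := pullback.snd b (aK ≫ σ)
  let q₂ : Q ⟶ pullback b σ := pullback.lift (pullback.fst b (aK ≫ σ)) (q₁ ≫ aK)
    (by rw [pullback.condition, Category.assoc])
  have hQ : IsPullback q₁ q₂ aK bK :=
    (IsPullback.of_right (h₁₁ := q₂) (h₁₂ := pullback.fst b σ)
      (by rw [pullback.lift_fst]; exact IsPullback.of_hasPullback b (aK ≫ σ))
      (pullback.lift_snd _ _ _) (IsPullback.of_hasPullback b σ)).flip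
  have hw : (q₁ ≫ pullback.fst a σ) ≫ a = pullback.fst b (aK ≫ σ) ≫ b := by
    rw [Category.assoc, pullback.condition]
    exact pullback.condition.symm
  let π : Q ⟶ pullback a b := pullback.lift (q₁ ≫ pullback.fst a σ) (pullback.fst b (aK ≫ σ)) hw
  have hπ : IsPullback π q₁ (pullback.fst a b) (pullback.fst a σ) :=
    IsPullback.of_right (h₁₂ := pullback.snd a b) (h₂₂ := a) (v₁₃ := b)
      (by rw [pullback.lift_snd, pullback.condition]; exact IsPullback.of_hasPullback b (aK ≫ σ))
      (pullback.lift_fst _ _ _) (IsPullback.of_hasPullback a b).flip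
  haveI : Flat π := MorphismProperty.of_isPullback hπ.flip inferInstance
  haveI : Surjective π := MorphismProperty.of_isPullback hπ.flip inferInstance
  haveI : IsLocallyNoetherian (pullback a σ) := LocallyOfFiniteType.isLocallyNoetherian aK
  haveI : IsReduced (pullback a σ) := inferInstance
  haveI : IsReduced Q := inferInstanceAs (IsReduced (pullback b (aK ≫ σ)))
  haveI : ConnectedSpace ↥(pullback a σ) :=
    GeometricallyConnected.geometrically_connectedSpace _ _ _ (IsPullback.of_hasPullback a σ)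
  haveI : ConnectedSpace ↥(pullback b σ) :=
    GeometricallyConnected.geometrically_connectedSpace _ _ _ (IsPullback.of_hasPullback b σ)
  let eK : Pt aK := ⟨pullback.lift (σ ≫ e.1) (𝟙 _) (by rw [Category.assoc, e.2, Category.comp_id, Category.id_comp]),
    pullback.lift_snd _ _ _⟩
  let eK' : Pt bK := ⟨pullback.lift (σ ≫ e'.1) (𝟙 _) (by rw [Category.assoc, e'.2, Category.comp_id, Category.id_comp]),
    pullback.lift_snd _ _ _⟩
  refine appTop_injective_of_flat_surjective π ?_
  rw [map_one]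
  refine eq_one_of_axes hQ eK eK' (hf.map π.appTop.hom) ?_ ?_
  · rw [← CommRingCat.comp_apply, ← Scheme.Hom.comp_appTop]
    have hcomp : hQ.lift (𝟙 _) (aK ≫ eK'.1) (by rw [Category.assoc, eK'.2, Category.id_comp, Category.comp_id]) ≫ π =
        pullback.fst a σ ≫ pullback.lift (𝟙 X) (a ≫ e'.1)
          (by rw [Category.assoc, e'.2, Category.id_comp, Category.comp_id]) := by
      apply pullback.hom_ext
      · rw [Category.assoc, pullback.lift_fst, Category.assoc (pullback.fst a σ), pullback.lift_fst]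
        refine (Category.assoc _ _ _).symm.trans ((congrArg (· ≫ pullback.fst a σ) (hQ.lift_fst _ _ _)).trans ?_)
        simp
      · rw [Category.assoc, Category.assoc (pullback.fst a σ), pullback.lift_snd (f := a) (g := b),
          pullback.lift_snd (f := a) (g := b)]
        refine (congrArg (_ ≫ ·) (pullback.lift_fst _ _ _).symm).trans ((Category.assoc _ _ _).symm.trans
          ((congrArg (· ≫ pullback.fst b σ) (hQ.lift_snd _ _ _)).trans ?_))
        change (pullback.snd a σ ≫ pullback.lift (σ ≫ e'.1) (𝟙 _) _) ≫ pullback.fst b σ = _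
        rw [Category.assoc, pullback.lift_fst, pullback.condition_assoc]
    rw [hcomp, Scheme.Hom.comp_appTop, CommRingCat.comp_apply, h1, map_one]
  · rw [← CommRingCat.comp_apply, ← Scheme.Hom.comp_appTop]
    have hcomp : hQ.lift (bK ≫ eK.1) (𝟙 _) (by rw [Category.assoc, eK.2, Category.id_comp, Category.comp_id]) ≫ π =
        pullback.fst b σ ≫ pullback.lift (b ≫ e.1) (𝟙 Y)
          (by rw [Category.assoc, e.2, Category.id_comp, Category.comp_id]) := by
      apply pullback.hom_ext
      · rw [Category.assoc, pullback.lift_fst, Category.assoc (pullback.fst b σ), pullback.lift_fst]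
        refine (Category.assoc _ _ _).symm.trans ((congrArg (· ≫ pullback.fst a σ) (hQ.lift_fst _ _ _)).trans ?_)
        change (pullback.snd b σ ≫ pullback.lift (σ ≫ e.1) (𝟙 _) _) ≫ pullback.fst a σ = _
        rw [Category.assoc, pullback.lift_fst, pullback.condition_assoc]
      · rw [Category.assoc, Category.assoc (pullback.fst b σ), pullback.lift_snd (f := a) (g := b),
          pullback.lift_snd (f := a) (g := b)]
        refine (congrArg (_ ≫ ·) (pullback.lift_fst _ _ _).symm).trans ((Category.assoc _ _ _).symm.trans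
          ((congrArg (· ≫ pullback.fst b σ) (hQ.lift_snd _ _ _)).trans ?_))
        simp
    rw [hcomp, Scheme.Hom.comp_appTop, CommRingCat.comp_apply, h2, map_one]

end Groth.Agent.Et18.Rosenlicht
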