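import Mathlib.RingTheory.Smooth.IntegralClosure
import Mathlib.RingTheory.Etale.Basic
import Mathlib.RingTheory.Unramified.Field
import Mathlib.RingTheory.Artinian.Module
import Mathlib.RingTheory.Flat.FaithfullyFlat.Algebra
import Mathlib.RingTheory.IntegralClosure.IntegrallyClosed

/-!
# Normality ascends along étale maps and descends along faithfully flat ones
-/

universe u

open TensorProduct

namespace Groth.Agent.Et18

/-- Smooth base change of an integrally closed subring stays integrally closed. -/
theorem exists_eq_of_isIntegral_baseChange (R T K : Type u) [CommRing R] [CommRing T] [CommRing K]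
    [Algebra R T] [Algebra R K] (hR : integralClosure R K = ⊥)
    (h : Function.Bijective (TensorProduct.toIntegralClosure R T K)) (z : T ⊗[R] K)
    (hz : IsIntegral T z) : ∃ t : T, t ⊗ₜ[R] (1 : K) = z := by
  obtain ⟨w, hw⟩ := h.2 ⟨z, hz⟩
  have hw' : z = Algebra.TensorProduct.map (AlgHom.id T T) (integralClosure R K).val w :=
    (congrArg Subtype.val hw).symm
  subst hw'
  clear hz hw
  induction w using TensorProduct.induction_on with
  | zero => exact ⟨0, by simp⟩
  | tmul t k =>
      obtain ⟨r, hr⟩ := Algebra.mem_bot.mp (show (k : K) ∈ (⊥ : Subalgebra R K) by rw [← hR]; exact k.2)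
      refine ⟨r • t, ?_⟩
      rw [Algebra.TensorProduct.map_tmul, AlgHom.id_apply, Subalgebra.coe_val, ← hr,
        Algebra.algebraMap_eq_smul_one, TensorProduct.smul_tmul]
  | add a b ha hb =>
      obtain ⟨s, hs⟩ := ha
      obtain ⟨t, ht⟩ := hb
      exact ⟨s + t, by rw [map_add, ← hs, ← ht, add_tmul]⟩

/-- A reduced Artinian ring with no nontrivial idempotents is a field. -/
theorem isField_of_artinian_reduced (L : Type u) [CommRing L] [Nontrivial L] [IsArtinianRing L] [IsReduced L]
    (h : ∀ e : L, IsIdempotentElem e → e = 0 ∨ e = 1) : IsField L := by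
  refine ⟨exists_pair_ne L, mul_comm, fun {x} hx => ?_⟩
  obtain ⟨n, hn⟩ := IsArtinian.monotone_stabilizes (R := L) (M := L)
    ⟨fun k => OrderDual.toDual (Ideal.span {x ^ k}), fun a b hab =>
      Ideal.span_singleton_le_span_singleton.mpr (pow_dvd_pow x hab)⟩
  obtain ⟨y, hy⟩ : x ^ (2 * (n + 1)) ∣ x ^ (n + 1) := by
    have h1 := hn (n + 1) (Nat.le_succ n)
    have h2 := hn (2 * (n + 1)) (by omega)
    exact Ideal.span_singleton_le_span_singleton.mp (le_of_eq (OrderDual.toDual.injective (h1.symm.trans h2)))
  rcases h (x ^ (n + 1) * y) (by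
    rw [IsIdempotentElem]
    linear_combination (-y) * hy) with he | he
  · refine absurd ?_ hx
    refine IsReduced.eq_zero x ⟨n + 1, ?_⟩
    rw [hy, two_mul, pow_add, mul_assoc, he, mul_zero]
  · exact ⟨x ^ n * y, by rw [← mul_assoc, ← pow_succ']; exact he⟩

/-- The local rings of an étale algebra over a normal domain are normal domains. -/
theorem normal_localization_of_etale (R S : Type u) [CommRing R] [IsDomain R] [IsIntegrallyClosed R]
    [CommRing S] [Algebra R S] [Algebra.Etale R S] (q : Ideal S) [q.IsPrime] :
    IsDomain (Localization.AtPrime q) ∧ IsIntegrallyClosed (Localization.AtPrime q) := by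
  let K := FractionRing R
  let T := Localization.AtPrime q
  have hbij : Function.Bijective (TensorProduct.toIntegralClosure R T K) :=
    TensorProduct.toIntegralClosure_bijective_of_tower (S := S)
      TensorProduct.toIntegralClosure_bijective_of_smooth
      (TensorProduct.toIntegralClosure_bijective_of_isLocalization q.primeCompl)
  have : Module.Flat R T := Module.Flat.trans R S T
  let L := T ⊗[R] K
  have hinj : Function.Injective (algebraMap T L) :=
    Algebra.TensorProduct.includeLeft_injective (R := R) (S := T) (A := T) (IsFractionRing.injective R K)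
  have : Nontrivial L := hinj.nontrivial
  have : Algebra.EssFiniteType S T := Algebra.EssFiniteType.of_isLocalization T q.primeCompl
  have : Algebra.EssFiniteType R T := Algebra.EssFiniteType.comp R S T
  have : Algebra.FormallyUnramified S T := Algebra.FormallyUnramified.of_isLocalization q.primeCompl
  have : Algebra.FormallyUnramified R T := Algebra.FormallyUnramified.comp R S T
  have : Algebra.FormallyUnramified K (K ⊗[R] T) := inferInstance
  have : IsReduced (K ⊗[R] T) := Algebra.FormallyUnramified.isReduced_of_field K _
  have : Module.Finite K (K ⊗[R] T) := Algebra.FormallyUnramified.finite_of_free K _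
  have : IsArtinianRing (K ⊗[R] T) := IsArtinianRing.of_finite K _
  let c : (K ⊗[R] T) ≃+* L := (Algebra.TensorProduct.comm R K T).toRingEquiv
  have : IsReduced L := isReduced_of_injective c.symm c.symm.injective
  have : IsArtinianRing L := c.surjective.isArtinianRing
  have hclosed : ∀ z : L, IsIntegral T z → ∃ t, algebraMap T L t = z := fun z hz =>
    exists_eq_of_isIntegral_baseChange R T K (IsIntegrallyClosed.integralClosure_eq_bot R K) hbij z hz
  have hfield : IsField L := isField_of_artinian_reduced L fun e he => by
    obtain ⟨t, rfl⟩ := hclosed e ⟨Polynomial.X ^ 2 - Polynomial.X,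
      Polynomial.monic_X_pow_sub (by simp), by
        simp only [Polynomial.eval₂_sub, Polynomial.eval₂_X_pow, Polynomial.eval₂_X]
        rw [sq, he.eq, sub_self]⟩
    have ht : IsIdempotentElem t := hinj (by rw [map_mul, he.eq])
    rcases IsLocalRing.isUnit_or_isUnit_one_sub_self t with h | h
    · exact .inr (by rw [h.mul_left_cancel (ht.eq.trans (mul_one t).symm), map_one])
    · exact .inl (by rw [h.mul_right_eq_zero.mp (show (1 - t) * t = 0 by rw [sub_mul, one_mul, ht.eq, sub_self]), map_zero])
  let := hfield.toField
  have : IsDomain T := hinj.isDomain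
  have : IsFractionRing T L := by
    have : FaithfulSMul T L := (faithfulSMul_iff_algebraMap_injective T L).mpr hinj
    refine IsFractionRing.of_field T L fun z => ?_
    obtain ⟨t, r, hr, e⟩ : ∃ (t : T) (r : R), r ≠ 0 ∧ z * algebraMap R L r = algebraMap T L t := by
      induction z using TensorProduct.induction_on with
      | zero => exact ⟨0, 1, one_ne_zero, by simp⟩
      | tmul t k =>
          obtain ⟨⟨a, b⟩, hk⟩ := IsLocalization.surj (nonZeroDivisors R) k
          refine ⟨a • t, b, nonZeroDivisors.ne_zero b.2, ?_⟩
          rw [← Algebra.TensorProduct.includeRight.commutes (R := R) (b : R),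
            Algebra.TensorProduct.includeRight_apply, Algebra.TensorProduct.tmul_mul_tmul, mul_one, hk,
            Algebra.algebraMap_eq_smul_one (A := K), ← TensorProduct.smul_tmul]
          rfl
      | add x y hx hy =>
          obtain ⟨s, a, ha, hs⟩ := hx
          obtain ⟨t, b, hb, ht⟩ := hy
          refine ⟨s * algebraMap R T b + t * algebraMap R T a, a * b, mul_ne_zero ha hb, ?_⟩
          simp only [map_mul, map_add, ← IsScalarTower.algebraMap_apply]
          linear_combination algebraMap R L b * hs + algebraMap R L a * ht
    have hr0 : algebraMap R L r ≠ 0 := fun h0 => hr <| by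
      let ψ : K →+* L := (Algebra.TensorProduct.includeRight : K →ₐ[R] L).toRingHom
      have h1 : ψ (algebraMap R K r) = ψ 0 :=
        ((AlgHom.commutes (Algebra.TensorProduct.includeRight : K →ₐ[R] L) r).trans h0).trans (map_zero ψ).symm
      exact IsFractionRing.injective R K ((ψ.injective h1).trans (map_zero _).symm)
    exact ⟨t, algebraMap R T r, by rw [← IsScalarTower.algebraMap_apply]; exact (eq_div_iff hr0).mpr e⟩
  exact ⟨‹_›, (isIntegrallyClosed_iff L).mpr fun {z} hz => hclosed z hz⟩

/-- Normality descends along faithfully flat maps. -/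
theorem normal_of_faithfullyFlat (R S : Type u) [CommRing R] [CommRing S] [Algebra R S]
    [Module.FaithfullyFlat R S] [IsDomain S] [IsIntegrallyClosed S] :
    IsDomain R ∧ IsIntegrallyClosed R := by
  have hinj : Function.Injective (algebraMap R S) := FaithfulSMul.algebraMap_injective R S
  have : IsDomain R := hinj.isDomain
  refine ⟨‹_›, (isIntegrallyClosed_iff (FractionRing R)).mpr fun {z} hz => ?_⟩
  obtain ⟨a, ⟨b, hb⟩, rfl⟩ := IsLocalization.exists_mk'_eq (nonZeroDivisors R) z
  let φ : FractionRing R →+* FractionRing S :=
    IsFractionRing.lift (A := R) (g := (algebraMap S (FractionRing S)).comp (algebraMap R S))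
      ((IsFractionRing.injective S _).comp hinj)
  have hφ : ∀ r : R, φ (algebraMap R _ r) = algebraMap S _ (algebraMap R S r) := fun r => by
    simp only [φ, IsFractionRing.lift_algebraMap, RingHom.comp_apply]
  have hint : IsIntegral S (φ (IsLocalization.mk' _ a ⟨b, hb⟩)) := by
    obtain ⟨p, hp, hp0⟩ := hz
    refine ⟨p.map (algebraMap R S), hp.map _, ?_⟩
    rw [Polynomial.eval₂_map, ← φ.map_zero, ← hp0, Polynomial.hom_eval₂]
    congr 1
    ext r
    exact (hφ r).symm
  obtain ⟨s, hs⟩ := IsIntegrallyClosed.isIntegral_iff.mp hint
  have h1 : algebraMap R S a = algebraMap R S b * s := by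
    refine IsFractionRing.injective S (FractionRing S) ?_
    rw [map_mul, hs]
    rw [← hφ, ← hφ, ← map_mul]
    exact congrArg φ (IsLocalization.mk'_spec' (FractionRing R) a ⟨b, hb⟩).symm
  have h2 : a ∈ Ideal.span {b} := by
    rw [← Ideal.comap_map_eq_self_of_faithfullyFlat (A := R) (B := S) (Ideal.span {b}), Ideal.mem_comap, h1,
      Ideal.map_span, Set.image_singleton]
    exact Ideal.mul_mem_right _ _ (Ideal.mem_span_singleton_self _)
  obtain ⟨c, rfl⟩ := Ideal.mem_span_singleton.mp h2
  exact ⟨c, (IsLocalization.mk'_eq_iff_eq_mul.mpr (by rw [← map_mul, mul_comm])).symm⟩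

end Groth.Agent.Et18
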