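import Groth.Agent.HenselLib.HullProps
import Groth.Agent.Et18.EtaleNormal
import Mathlib.AlgebraicGeometry.Morphisms.Etale
import Mathlib.AlgebraicGeometry.Morphisms.FormallyUnramified
import Mathlib.AlgebraicGeometry.Noetherian
import Mathlib.RingTheory.Ideal.KrullsHeightTheorem
import Mathlib.RingTheory.Unramified.LocalRing

/-!
# Local rings along étale morphisms
-/

universe u

open CategoryTheory AlgebraicGeometry IsLocalRing TensorProduct

set_option backward.isDefEq.respectTransparency.types false
set_option backward.isDefEq.respectTransparency false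

namespace Groth.Agent.Et18

/-- Flat local maps with trivial closed fibre preserve the dimension. -/
theorem ringKrullDim_eq_of_flat_of_map_maximalIdeal (R S : Type u) [CommRing R] [CommRing S]
    [IsLocalRing R] [IsLocalRing S] [IsNoetherianRing R] [IsNoetherianRing S] [Algebra R S] [IsLocalHom (algebraMap R S)]
    [Module.Flat R S] (hm : (maximalIdeal R).map (algebraMap R S) = maximalIdeal S) :
    ringKrullDim S = ringKrullDim R := by
  rw [← maximalIdeal_height_eq_ringKrullDim, ← maximalIdeal_height_eq_ringKrullDim]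
  have : (maximalIdeal S).LiesOver (maximalIdeal R) :=
    ⟨((((local_hom_TFAE (algebraMap R S)).out 0 4 : _ ↔ (maximalIdeal S).comap (algebraMap R S) = maximalIdeal R).mp ‹_›)).symm⟩
  rw [Ideal.height_eq_height_add_of_liesOver_of_hasGoingDown (maximalIdeal R) (maximalIdeal S)]
  have h : (maximalIdeal S).map (Ideal.Quotient.mk ((maximalIdeal R).map (algebraMap R S))) = ⊥ := by
    rw [hm, Ideal.map_quotient_self]
  have hfield : IsField (S ⧸ (maximalIdeal R).map (algebraMap R S)) :=
    Ideal.Quotient.maximal_ideal_iff_isField_quotient _ |>.mp (hm ▸ maximalIdeal.isMaximal S)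
  letI := hfield.toField
  rw [h, Ideal.height_bot, add_zero]

variable {X Y : Scheme.{u}} (f : X ⟶ Y)

/-- The stalk map of an étale morphism is flat and carries the maximal ideal to the maximal ideal. -/
theorem stalkMap_flat_and_map_maximalIdeal [Etale f] (x : X) :
    (f.stalkMap x).hom.Flat ∧
      (maximalIdeal (Y.presheaf.stalk (f x))).map (f.stalkMap x).hom =
        maximalIdeal (X.presheaf.stalk x) := by
  refine ⟨Flat.stalkMap f x, ?_⟩
  algebraize [(f.stalkMap x).hom]
  have : IsLocalHom (algebraMap (Y.presheaf.stalk (f x)) (X.presheaf.stalk x)) :=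
    inferInstanceAs <| IsLocalHom (f.stalkMap x).hom
  have : Algebra.EssFiniteType (Y.presheaf.stalk (f x)) (X.presheaf.stalk x) := by
    rw [← RingHom.essFiniteType_algebraMap, RingHom.algebraMap_toAlgebra]
    exact LocallyOfFiniteType.stalkMap f x
  have : Algebra.FormallyUnramified (Y.presheaf.stalk (f x)) (X.presheaf.stalk x) := by
    rw [← RingHom.formallyUnramified_algebraMap, RingHom.algebraMap_toAlgebra]
    exact FormallyUnramified.stalkMap f x
  exact Algebra.FormallyUnramified.map_maximalIdeal

theorem ringKrullDim_stalk_eq_of_etale [Etale f] [IsLocallyNoetherian Y] (x : X) :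
    ringKrullDim (X.presheaf.stalk x) = ringKrullDim (Y.presheaf.stalk (f.base x)) := by
  obtain ⟨hf, hm⟩ := stalkMap_flat_and_map_maximalIdeal f x
  have := LocallyOfFiniteType.isLocallyNoetherian f
  algebraize [(f.stalkMap x).hom]
  have : IsLocalHom (algebraMap (Y.presheaf.stalk (f x)) (X.presheaf.stalk x)) :=
    inferInstanceAs <| IsLocalHom (f.stalkMap x).hom
  exact ringKrullDim_eq_of_flat_of_map_maximalIdeal _ _ hm

theorem isRegularLocalRing_stalk_iff_of_etale [Etale f] [IsLocallyNoetherian Y] (x : X) :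
    IsRegularLocalRing (X.presheaf.stalk x) ↔ IsRegularLocalRing (Y.presheaf.stalk (f.base x)) := by
  obtain ⟨hf, hm⟩ := stalkMap_flat_and_map_maximalIdeal f x
  have := LocallyOfFiniteType.isLocallyNoetherian f
  have hd := ringKrullDim_stalk_eq_of_etale f x
  algebraize [(f.stalkMap x).hom]
  have : IsLocalHom (algebraMap (Y.presheaf.stalk (f x)) (X.presheaf.stalk x)) :=
    inferInstanceAs <| IsLocalHom (f.stalkMap x).hom
  exact (HenselLib.isRegularLocalRing_iff_of_flat (R := Y.presheaf.stalk (f x))
    (X.presheaf.stalk x) hm hd).symm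

/-- The local ring at a point of an étale scheme is a localization of an étale algebra over the
local ring of the base. -/
theorem exists_etale_localization [Etale f] (x : X) :
    ∃ (B : Type u) (_ : CommRing B) (_ : Algebra (Y.presheaf.stalk (f x)) B)
      (_ : Algebra.Etale (Y.presheaf.stalk (f x)) B) (q : Ideal B) (_ : q.IsPrime),
      Nonempty (Localization.AtPrime q ≃+* X.presheaf.stalk x) := by
  obtain ⟨U, hU, hxU, -⟩ := exists_isAffineOpen_mem_and_subset (X := Y) (x := f x) (U := ⊤) trivial
  obtain ⟨V, hV, hxV, hle⟩ := exists_isAffineOpen_mem_and_subset (X := X) (x := x) (U := f ⁻¹ᵁ U) hxU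
  replace hle : V ≤ f ⁻¹ᵁ U := hle
  have hV' := HasRingHomProperty.appLE @Etale f inferInstance ⟨U, hU⟩ ⟨V, hV⟩ hle
  algebraize [(f.appLE U V hle).hom]
  have : Algebra.Etale Γ(Y, U) Γ(X, V) := hV'
  letI : Algebra Γ(Y, U) (Y.presheaf.stalk (f x)) := (Y.presheaf.germ U (f x) hxU).hom.toAlgebra
  letI : Algebra Γ(X, V) (X.presheaf.stalk x) := (X.presheaf.germ V x hxV).hom.toAlgebra
  have : IsLocalization.AtPrime (X.presheaf.stalk x) (hV.primeIdealOf ⟨x, hxV⟩).asIdeal :=
    hV.isLocalization_stalk ⟨x, hxV⟩
  let A := Y.presheaf.stalk (f x)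
  let B := A ⊗[Γ(Y, U)] Γ(X, V)
  letI : Algebra A (X.presheaf.stalk x) := (f.stalkMap x).hom.toAlgebra
  letI : Algebra Γ(Y, U) (X.presheaf.stalk x) :=
    ((X.presheaf.germ V x hxV).hom.comp (f.appLE U V hle).hom).toAlgebra
  have : IsScalarTower Γ(Y, U) Γ(X, V) (X.presheaf.stalk x) := IsScalarTower.of_algebraMap_eq fun _ => rfl
  have : IsScalarTower Γ(Y, U) A (X.presheaf.stalk x) := IsScalarTower.of_algebraMap_eq fun r => by
    change X.presheaf.germ V x hxV (f.appLE U V hle r) = (Y.presheaf.germ U (f x) hxU ≫ f.stalkMap x) r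
    rw [Scheme.Hom.germ_stalkMap, Scheme.Hom.appLE, CommRingCat.comp_apply, TopCat.Presheaf.germ_res_apply]
    rfl
  let μ : B →ₐ[A] X.presheaf.stalk x :=
    Algebra.TensorProduct.lift (Algebra.ofId A _) (IsScalarTower.toAlgHom Γ(Y, U) Γ(X, V) _)
      fun a b => Commute.all _ _
  let i : Γ(X, V) →+* B := Algebra.TensorProduct.includeRight.toRingHom
  have hi : ∀ b, μ (i b) = algebraMap Γ(X, V) (X.presheaf.stalk x) b := fun b => by
    change μ (1 ⊗ₜ[Γ(Y, U)] b) = _
    exact (Algebra.TensorProduct.lift_tmul _ _ _ (1 : A) b).trans (by rw [map_one, one_mul]; rfl)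
  let q : Ideal B := (maximalIdeal (X.presheaf.stalk x)).comap μ.toRingHom
  let lu : Localization.AtPrime q →+* X.presheaf.stalk x :=
    IsLocalization.lift (M := q.primeCompl) (S := Localization.AtPrime q) (g := μ.toRingHom) fun b => by
      by_contra hb
      exact b.2 ((mem_maximalIdeal _).mpr hb)
  let inv : X.presheaf.stalk x →+* Localization.AtPrime q :=
    IsLocalization.lift (M := (hV.primeIdealOf ⟨x, hxV⟩).asIdeal.primeCompl)
      (g := (algebraMap B (Localization.AtPrime q)).comp i) fun b => by
        refine IsLocalization.map_units (Localization.AtPrime q) (⟨i b.1, ?_⟩ : q.primeCompl)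
        intro hb
        refine b.2 ((IsLocalization.AtPrime.comap_maximalIdeal (X.presheaf.stalk x)
          (hV.primeIdealOf ⟨x, hxV⟩).asIdeal).le ?_)
        change algebraMap Γ(X, V) (X.presheaf.stalk x) b.1 ∈ maximalIdeal (X.presheaf.stalk x)
        rw [← hi]
        exact hb
  have h1 : lu.comp inv = RingHom.id _ := by
    refine IsLocalization.ringHom_ext (hV.primeIdealOf ⟨x, hxV⟩).asIdeal.primeCompl (RingHom.ext fun b => ?_)
    change lu (inv (algebraMap Γ(X, V) (X.presheaf.stalk x) b)) = _
    rw [IsLocalization.lift_eq, RingHom.comp_apply, IsLocalization.lift_eq]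
    exact hi b
  have h2 : inv.comp lu = RingHom.id _ := by
    refine IsLocalization.ringHom_ext q.primeCompl ?_
    let e₁ := (inv.comp lu).comp (algebraMap B (Localization.AtPrime q))
    let e₂ := algebraMap B (Localization.AtPrime q)
    have hB : ∀ b, e₁ (i b) = e₂ (i b) := fun b => by
      change inv (lu (algebraMap B _ (i b))) = algebraMap B _ (i b)
      rw [IsLocalization.lift_eq]
      change inv (μ (i b)) = _
      rw [hi, IsLocalization.lift_eq]
      rfl
    have hA : e₁.comp (algebraMap A B) = e₂.comp (algebraMap A B) := by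
      have : IsLocalization.AtPrime A (hU.primeIdealOf ⟨f x, hxU⟩).asIdeal :=
        hU.isLocalization_stalk ⟨f x, hxU⟩
      refine IsLocalization.ringHom_ext (hU.primeIdealOf ⟨f x, hxU⟩).asIdeal.primeCompl (RingHom.ext fun r => ?_)
      have h3 : algebraMap A B (algebraMap Γ(Y, U) A r) = i (algebraMap Γ(Y, U) Γ(X, V) r) := by
        rw [← IsScalarTower.algebraMap_apply]
        exact ((Algebra.TensorProduct.includeRight : Γ(X, V) →ₐ[Γ(Y, U)] B).commutes r).symm
      change e₁ (algebraMap A B (algebraMap Γ(Y, U) A r)) = e₂ (algebraMap A B (algebraMap Γ(Y, U) A r))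
      rw [h3, hB]
    refine RingHom.ext fun z => ?_
    change e₁ z = e₂ z
    induction z using TensorProduct.induction_on with
    | zero => simp
    | tmul a b =>
        have : a ⊗ₜ[Γ(Y, U)] b = algebraMap A B a * i b := by
          change _ = (a ⊗ₜ[Γ(Y, U)] (1 : Γ(X, V))) * (1 ⊗ₜ[Γ(Y, U)] b)
          rw [Algebra.TensorProduct.tmul_mul_tmul, mul_one, one_mul]
        rw [this, map_mul, map_mul, hB]
        exact congrArg (· * e₂ (i b)) (RingHom.congr_fun hA a)
    | add y z hy hz => rw [map_add, map_add, hy, hz]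
  exact ⟨B, inferInstance, inferInstance, inferInstance, q, inferInstance,
    ⟨RingEquiv.ofRingHom lu inv h1 h2⟩⟩

theorem faithfullyFlat_stalk_of_etale [Etale f] (x : X) :
    letI := (f.stalkMap x).hom.toAlgebra
    Module.FaithfullyFlat (Y.presheaf.stalk (f x)) (X.presheaf.stalk x) := by
  algebraize [(f.stalkMap x).hom]
  exact @Module.FaithfullyFlat.of_flat_of_isLocalHom _ _ _ _ _ _ _
    (Flat.stalkMap f x) (f.toLRSHom.prop x)

theorem isReduced_stalk_iff_of_etale [Etale f] (x : X) :
    _root_.IsReduced (X.presheaf.stalk x) ↔ _root_.IsReduced (Y.presheaf.stalk (f.base x)) := by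
  constructor
  · intro
    algebraize [(f.stalkMap x).hom]
    have := faithfullyFlat_stalk_of_etale f x
    exact isReduced_of_injective (algebraMap (Y.presheaf.stalk (f x)) (X.presheaf.stalk x))
      (FaithfulSMul.algebraMap_injective _ _)
  · intro
    obtain ⟨B, _, _, _, q, _, ⟨e⟩⟩ := exists_etale_localization f x
    have : _root_.IsReduced B := HenselLib.isReduced_of_etale (Y.presheaf.stalk (f x)) B
    exact isReduced_of_injective e.symm e.symm.injective

theorem normal_stalk_iff_of_etale [Etale f] (x : X) :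
    (IsDomain (X.presheaf.stalk x) ∧ IsIntegrallyClosed (X.presheaf.stalk x)) ↔
      (IsDomain (Y.presheaf.stalk (f.base x)) ∧ IsIntegrallyClosed (Y.presheaf.stalk (f.base x))) := by
  constructor
  · rintro ⟨_, _⟩
    algebraize [(f.stalkMap x).hom]
    have := faithfullyFlat_stalk_of_etale f x
    exact normal_of_faithfullyFlat (Y.presheaf.stalk (f x)) (X.presheaf.stalk x)
  · rintro ⟨_, _⟩
    obtain ⟨B, _, _, _, q, _, ⟨e⟩⟩ := exists_etale_localization f x
    obtain ⟨_, _⟩ := normal_localization_of_etale (Y.presheaf.stalk (f x)) B q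
    exact ⟨e.symm.injective.isDomain, IsIntegrallyClosed.of_equiv e⟩

end Groth.Agent.Et18
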