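import Groth.Agent.Et18.PropABC
import Groth.Prelude.Def_SGA4b
import Mathlib.CategoryTheory.Sites.EpiMono

/-!
# Direct images along morphisms with property (B) preserve epimorphisms
-/

universe w u

open CategoryTheory CategoryTheory.Limits AlgebraicGeometry Opposite

set_option backward.isDefEq.respectTransparency.types false
set_option backward.isDefEq.respectTransparency false

namespace Groth.Agent.Et18

variable {X Y : Scheme.{u}}

/-- An open piece of an object of the small étale site. -/
noncomputable def etalePiece (P : X.Etale) (W : P.left.Opens) : X.Etale :=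
  haveI : Etale P.hom := P.prop
  Scheme.Etale.mk (W.ι ≫ P.hom)

/-- The inclusion of `etalePiece`. -/
noncomputable def etalePieceHom (P : X.Etale) (W : P.left.Opens) : etalePiece P W ⟶ P :=
  MorphismProperty.Over.homMk W.ι rfl

lemma subsingleton_sections_of_isEmpty {F : X.Etaleᵒᵖ ⥤ Type w}
    (hF : Presieve.IsSheaf X.smallEtaleTopology F) (Z : X.Etale) (h : IsEmpty Z.left) :
    Subsingleton (F.obj (op Z)) :=
  ⟨fun a b => (hF _ (bot_mem_of_isEmpty Z h)).isSeparatedFor.ext fun _ _ hf => False.elim hf⟩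

/-- Sections on pairwise disjoint open pieces covering an object glue. -/
theorem isSheafFor_etalePieces {F : X.Etaleᵒᵖ ⥤ Type w}
    (hF : Presieve.IsSheaf X.smallEtaleTopology F) (P : X.Etale) {μ : Type u}
    (W : μ → P.left.Opens) (hcov : (⨆ a, W a) = ⊤) :
    (Presieve.ofArrows _ fun a => etalePieceHom P (W a)).IsSheafFor F := by
  rw [Presieve.isSheafFor_iff_generate]
  refine hF _ ?_
  change Sieve.ofArrows _ _ ∈ _
  rw [Scheme.ofArrows_mem_smallEtaleTopology_iff, Set.eq_univ_iff_forall]
  intro x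
  obtain ⟨a, ha⟩ := TopologicalSpace.Opens.mem_iSup.mp (hcov ▸ TopologicalSpace.Opens.mem_top x)
  exact Set.mem_iUnion.mpr ⟨a, ⟨⟨x, ha⟩, rfl⟩⟩

theorem exists_glue_etalePieces {F : X.Etaleᵒᵖ ⥤ Type w}
    (hF : Presieve.IsSheaf X.smallEtaleTopology F) (P : X.Etale) {μ : Type u}
    (W : μ → P.left.Opens) (hdis : ∀ a b, a ≠ b → Disjoint (W a) (W b)) (hcov : (⨆ a, W a) = ⊤)
    (x : ∀ a, F.obj (op (etalePiece P (W a)))) :
    ∃ t : F.obj (op P), ∀ a, F.map (etalePieceHom P (W a)).op t = x a := by
  obtain ⟨t, ht, -⟩ := (Presieve.isSheafFor_arrows_iff _ _).mp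
    (isSheafFor_etalePieces hF P W hcov) x (fun a b Z ga gb hab => by
      have h : ga.left ≫ (W a).ι = gb.left ≫ (W b).ι := congrArg (fun k => k.left) hab
      rcases eq_or_ne a b with rfl | hne
      · obtain rfl : ga = gb := (Scheme.Etale.forget X).map_injective
          (Over.OverMorphism.ext ((cancel_mono (W a).ι).mp h))
        rfl
      · have : IsEmpty Z.left := ⟨fun z => by
          have h1 : (ga.left z).1 = (gb.left z).1 := congrArg (fun k : Z.left ⟶ P.left => k z) h
          exact Set.disjoint_left.mp (TopologicalSpace.Opens.coe_disjoint.mpr (hdis a b hne)) (ga.left z).2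
            (h1 ▸ (gb.left z).2)⟩
        exact (subsingleton_sections_of_isEmpty hF Z this).elim _ _)
  exact ⟨t, ht⟩

/-- If `f` has property (B), sections of `f_*` of the target of a locally surjective map lift
locally. -/
theorem imageSieve_mem_of_propB (f : X ⟶ Y) (hB : BigSite.PropB f) {F G : X.Etaleᵒᵖ ⥤ Type w}
    (hF : Presieve.IsSheaf X.smallEtaleTopology F) (hG : Presieve.IsSheaf X.smallEtaleTopology G)
    (φ : F ⟶ G) [Presheaf.IsLocallySurjective X.smallEtaleTopology φ]
    (V : Y.Etale) (s : G.obj (op ((EtCoh.bc f).obj V))) :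
    Presheaf.imageSieve (Functor.whiskerLeft (EtCoh.bc f).op φ) s ∈ Y.smallEtaleTopology V := by
  have eY : Y.smallEtaleTopology =
      (Y.smallPretopology (P := EtCoh.etaleMP) (Q := EtCoh.etaleMP)).toGrothendieck :=
    Scheme.smallGrothendieckTopology_eq_toGrothendieck_smallPretopology Y le_rfl
  have eX : X.smallEtaleTopology =
      (X.smallPretopology (P := EtCoh.etaleMP) (Q := EtCoh.etaleMP)).toGrothendieck :=
    Scheme.smallGrothendieckTopology_eq_toGrothendieck_smallPretopology X le_rfl
  have hR : Presheaf.imageSieve φ s ∈ X.smallEtaleTopology ((EtCoh.bc f).obj V) :=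
    Presheaf.imageSieve_mem _ φ s
  rw [eX] at hR
  replace hR := (Scheme.mem_toGrothendieck_smallPretopology _ _).1 hR
  choose U b w hb _ hbw using hR
  choose t₀ ht₀ using hb
  have : Etale V.hom := V.prop
  let σ := pullbackSymmetry f V.hom
  let g : ∀ x, (U x).left ⟶ pullback f V.hom := fun x => (b x).left ≫ σ.inv
  have hg : ∀ x, Etale (g x) := fun x => by
    have : Etale (b x).left := by
      have hw : (b x).left ≫ ((EtCoh.bc f).obj V).hom = (U x).hom := Over.w (b x).hom
      have : Etale ((EtCoh.bc f).obj V).hom := ((EtCoh.bc f).obj V).prop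
      have : Etale ((b x).left ≫ ((EtCoh.bc f).obj V).hom) := hw.symm ▸ (U x).prop
      exact Etale.of_comp (b x).left ((EtCoh.bc f).obj V).hom
    exact inferInstanceAs (Etale ((b x).left ≫ σ.inv))
  obtain ⟨κ, V', v', hv', hsur, hsplit⟩ := hB V.left V.hom _ (fun x => (U x).left) g hg fun z =>
    ⟨σ.hom z, w (σ.hom z), by
      change σ.inv ((b _).left (w _)) = z
      rw [hbw]
      exact congrArg (fun k : pullback f V.hom ⟶ pullback f V.hom => k z) σ.hom_inv_id⟩
  rw [eY]
  refine (Scheme.mem_toGrothendieck_smallPretopology V _).2 fun y => ?_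
  obtain ⟨j, y', hy'⟩ := hsur y
  have := hv' j
  let V₂ : Y.Etale := Scheme.Etale.mk (v' j ≫ V.hom)
  let a : V₂ ⟶ V := MorphismProperty.Over.homMk (v' j) rfl
  refine ⟨V₂, a, y', ?_, inferInstanceAs (Etale (v' j)), hy'⟩
  obtain ⟨μ, W, hdis, hcov, hfac⟩ := hsplit j
  choose i h hh using hfac
  let P := (EtCoh.bc f).obj V₂
  let e : P.left ⟶ pullback f (v' j ≫ V.hom) := (pullbackSymmetry f (v' j ≫ V.hom)).inv
  let W' : μ → P.left.Opens := fun k => e ⁻¹ᵁ W k
  have hcov' : (⨆ k, W' k) = ⊤ := by
    rw [← Scheme.Hom.preimage_iSup, hcov]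
    rfl
  have he : e ≫ pullback.map f (v' j ≫ V.hom) f V.hom (𝟙 X) (v' j) (𝟙 Y) (by simp) (by simp) ≫
      σ.hom = ((EtCoh.bc f).map a).left := by
    apply pullback.hom_ext
    · have := (EtCoh.isPullback_bc_map f a).w
      refine Eq.trans ?_ this.symm
      simp only [σ, e, Category.assoc, pullbackSymmetry_hom_comp_fst, pullback.lift_snd]
      exact pullbackSymmetry_inv_comp_snd_assoc _ _ _
    · refine Eq.trans ?_ (Over.w ((EtCoh.bc f).map a).hom).symm
      simp only [σ, e, Category.assoc, pullbackSymmetry_hom_comp_snd, pullback.lift_fst, Category.comp_id]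
      exact pullbackSymmetry_inv_comp_fst _ _
  let l : ∀ k, (etalePiece P (W' k)).left ⟶ (U (i k)).left := fun k => (e ∣_ W k) ≫ h k
  have hl : ∀ k, l k ≫ (b (i k)).left = (W' k).ι ≫ ((EtCoh.bc f).map a).left := fun k => by
    have h1 : h k ≫ (b (i k)).left = (W k).ι ≫
        pullback.map f (v' j ≫ V.hom) f V.hom (𝟙 X) (v' j) (𝟙 Y) (by simp) (by simp) ≫ σ.hom := by
      rw [← Category.assoc, ← hh k]
      simp only [g, Category.assoc, Iso.inv_hom_id, Category.comp_id]
    rw [← he]
    simp only [l, Category.assoc, h1]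
    exact morphismRestrict_ι_assoc e (W k) _
  let c : ∀ k, etalePiece P (W' k) ⟶ U (i k) := fun k => MorphismProperty.Over.homMk (l k) (by
    have h1 : (b (i k)).left ≫ ((EtCoh.bc f).obj V).hom = (U (i k)).hom := Over.w (b (i k)).hom
    have h2 : ((EtCoh.bc f).map a).left ≫ ((EtCoh.bc f).obj V).hom = P.hom :=
      Over.w ((EtCoh.bc f).map a).hom
    calc l k ≫ (U (i k)).hom = (l k ≫ (b (i k)).left) ≫ ((EtCoh.bc f).obj V).hom := by
          exact ((Category.assoc (l k) _ _).trans (congrArg (l k ≫ ·) h1)).symm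
      _ = (W' k).ι ≫ P.hom := by rw [hl, Category.assoc, h2])
  have hc : ∀ k, c k ≫ b (i k) = etalePieceHom P (W' k) ≫ (EtCoh.bc f).map a := fun k =>
    (Scheme.Etale.forget X).map_injective (Over.OverMorphism.ext (hl k))
  obtain ⟨t, ht⟩ := exists_glue_etalePieces hF P W'
    (fun k k' hk => TopologicalSpace.Opens.coe_disjoint.mp
      (Disjoint.preimage e (TopologicalSpace.Opens.coe_disjoint.mpr (hdis k k' hk)))) hcov'
    fun k => F.map (c k).op (t₀ (i k))
  refine ⟨t, (isSheafFor_etalePieces hG P W' hcov').isSeparatedFor.ext ?_⟩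
  rintro Z - ⟨k⟩
  change G.map _ (φ.app _ t) = G.map _ (G.map ((EtCoh.bc f).map a).op s)
  rw [← NatTrans.naturality_apply φ, ht, NatTrans.naturality_apply φ, ht₀]
  simp only [← Functor.map_comp_apply, ← op_comp, hc]

/-- A morphism with property (B) has direct image of sheaves of sets preserving epimorphisms. -/
theorem pushSh_preservesEpimorphisms_of_propB (f : X ⟶ Y) (hB : BigSite.PropB f) :
    (EtDesc.pushSh f).PreservesEpimorphisms where
  preserves {F G} φ hφ := by
    have : Sheaf.IsLocallySurjective φ := (Sheaf.isLocallySurjective_iff_epi φ).mpr hφ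
    have : Sheaf.IsLocallySurjective ((EtDesc.pushSh f).map φ) :=
      ⟨fun {V} s => imageSieve_mem_of_propB f hB ((isSheaf_iff_isSheaf_of_type _ _).mp F.property)
        ((isSheaf_iff_isSheaf_of_type _ _).mp G.property) φ.hom V s⟩
    infer_instance

/-- A morphism with property (B) has direct image of abelian sheaves preserving epimorphisms. -/
theorem push_preservesEpimorphisms_of_propB (f : X ⟶ Y) (hB : BigSite.PropB f) :
    (EtCoh.push f).PreservesEpimorphisms where
  preserves {F G} φ hφ := by
    have h1 : Sheaf.IsLocallySurjective φ := (Sheaf.isLocallySurjective_iff_epi' (φ := φ) ..).mpr hφ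
    have h2 : ∀ (H : EtCoh.Ab X), Presieve.IsSheaf X.smallEtaleTopology
        (H.obj ⋙ forget AddCommGrpCat.{u + 1}) := fun H =>
      (isSheaf_iff_isSheaf_of_type _ _).mp ((sheafCompose _ (forget AddCommGrpCat.{u + 1})).obj H).property
    have h3 : Presheaf.IsLocallySurjective X.smallEtaleTopology
        (Functor.whiskerRight φ.hom (forget AddCommGrpCat.{u + 1})) :=
      (Presheaf.isLocallySurjective_iff_whisker_forget _ φ.hom).mp h1
    have : Sheaf.IsLocallySurjective ((EtCoh.push f).map φ) :=
      ⟨fun {V} s => imageSieve_mem_of_propB f hB (h2 F) (h2 G)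
        (Functor.whiskerRight φ.hom (forget AddCommGrpCat.{u + 1})) V s⟩
    infer_instance

end Groth.Agent.Et18
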