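import Groth.Agent.Et18.StalkPush
import Groth.Agent.Et18.PropBEpi
import Groth.Prelude.Def_EtShriek2
import Groth.Prelude.Def_EtAcyc
import Groth.Prelude.Def_PBC

/-!
# Germs and supports of sections
-/

universe u

open CategoryTheory CategoryTheory.Limits AlgebraicGeometry Opposite

set_option backward.isDefEq.respectTransparency.types false
set_option backward.isDefEq.respectTransparency false

namespace Groth.Agent.Et18

variable {X : Scheme.{u}} (F : EtCoh.Ab X)

lemma etale_map_left {U V : X.Etale} (g : V ⟶ U) : Etale g.left := by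
  have : Etale U.hom := U.prop
  have h : g.left ≫ U.hom = V.hom := Over.w g.hom
  have : Etale (g.left ≫ U.hom) := h ▸ V.prop
  exact Etale.of_comp g.left U.hom

/-- The point underlying an element of a geometric fibre. -/
noncomputable def fiberPt {Ω : Type u} [Field Ω] [IsSepClosed Ω] {ξ : Spec (CommRingCat.of Ω) ⟶ X}
    {U : X.Etale} (v : (Scheme.pointSmallEtale ξ).fiber.obj U) : U.left :=
  let t : Spec (CommRingCat.of Ω) ⟶ U.left := v.left
  t default

lemma fiberPt_map {Ω : Type u} [Field Ω] [IsSepClosed Ω] {ξ : Spec (CommRingCat.of Ω) ⟶ X}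
    {U W : X.Etale} (g : W ⟶ U) (w : (Scheme.pointSmallEtale ξ).fiber.obj W) :
    g.left (fiberPt w) = fiberPt ((Scheme.pointSmallEtale ξ).fiber.map g w) := rfl

lemma hom_fiberPt {Ω : Type u} [Field Ω] [IsSepClosed Ω] {ξ : Spec (CommRingCat.of Ω) ⟶ X}
    {U : X.Etale} (v : (Scheme.pointSmallEtale ξ).fiber.obj U) : U.hom (fiberPt v) = ξ default :=
  congrArg (fun k : Spec (CommRingCat.of Ω) ⟶ X => k default) (Over.w v)

/-- A point of a geometric fibre. -/
lemma exists_fiber_point {Ω : Type u} [Field Ω] [IsSepClosed Ω] (ξ : Spec (CommRingCat.of Ω) ⟶ X)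
    (U : X.Etale) (y : U.left) (h : U.hom y = ξ default) :
    ∃ v : (Scheme.pointSmallEtale ξ).fiber.obj U,
      fiberPt v = y := by
  haveI : Etale U.hom := U.prop
  obtain ⟨l, hl, hd⟩ := Scheme.exists_fac_of_etale_of_isSepClosed U.hom ξ y h
  exact ⟨Over.homMk l hl, hd⟩

theorem isClosed_sectSupp (U : X.Etale) (σ : EtCoh.sect F U) :
    IsClosed (EtShriek.sectSupp F U σ) := by
  constructor
  have : (EtShriek.sectSupp F U σ)ᶜ =
      ⋃ (W : X.Etale) (g : W ⟶ U) (_ : F.obj.map g.op σ = 0), Set.range g.left := by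
    ext x
    simp [EtShriek.sectSupp]
    tauto
  rw [this]
  exact isOpen_iUnion fun W => isOpen_iUnion fun g => isOpen_iUnion fun _ =>
    haveI := etale_map_left g
    g.left.isOpenMap.isOpen_range

lemma not_mem_sectSupp_of_germ_eq_zero {Ω : Type u} [Field Ω] [IsSepClosed Ω]
    (ξ : Spec (CommRingCat.of Ω) ⟶ X) (U : X.Etale) (σ : EtCoh.sect F U)
    (v : (Scheme.pointSmallEtale ξ).fiber.obj U)
    (h : (Scheme.pointSmallEtale ξ).toPresheafFiber U v F.obj σ = 0) :
    fiberPt v ∉ EtShriek.sectSupp F U σ := by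
  intro hmem
  obtain ⟨W, g, w, hw, hσ⟩ :=
    ((Scheme.pointSmallEtale ξ).toPresheafFiber_eq_iff' (P := F.obj) U v σ 0).mp (h.trans (map_zero _).symm)
  refine hmem W g ⟨fiberPt w, ?_⟩ (hσ.trans (map_zero _))
  exact (fiberPt_map g w).trans (congrArg fiberPt hw)

lemma germ_eq_zero_of_not_mem_sectSupp {Ω : Type u} [Field Ω] [IsSepClosed Ω]
    (ξ : Spec (CommRingCat.of Ω) ⟶ X) (U : X.Etale) (σ : EtCoh.sect F U)
    (v : (Scheme.pointSmallEtale ξ).fiber.obj U)
    (h : fiberPt v ∉ EtShriek.sectSupp F U σ) :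
    (Scheme.pointSmallEtale ξ).toPresheafFiber U v F.obj σ = 0 := by
  simp only [EtShriek.sectSupp, Set.mem_setOf_eq, not_forall, not_not] at h
  obtain ⟨W, g, ⟨z, hz⟩, hσ⟩ := h
  haveI := etale_map_left g
  let vl : Spec (CommRingCat.of Ω) ⟶ U.left := v.left
  obtain ⟨l, hl, -⟩ := Scheme.exists_fac_of_etale_of_isSepClosed g.left vl z hz
  let w : (Scheme.pointSmallEtale ξ).fiber.obj W := Over.homMk l (by
    have : (l ≫ g.left) ≫ U.hom = ξ := by rw [hl]; exact Over.w v
    rw [Category.assoc] at this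
    exact (congrArg (fun t => l ≫ t) (Over.w g.hom)).symm.trans this)
  have hw : (Scheme.pointSmallEtale ξ).fiber.map g w = v := Over.OverMorphism.ext hl
  rw [← hw, ← GrothendieckTopology.Point.toPresheafFiber_w_apply, hσ, map_zero]

theorem supp_eq_union : EtPBC.supp F =
    ⋃ (U : X.Etale) (σ : EtCoh.sect F U), U.hom '' EtShriek.sectSupp F U σ := by
  ext x
  simp only [Set.mem_iUnion, Set.mem_image]
  constructor
  · rintro ⟨Ω, _, _, ξ, hξ, hne⟩
    by_contra hcon
    push Not at hcon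
    refine hne ?_
    have : Subsingleton ((EtCoh.stalk ξ).obj F) := by
      refine ⟨fun a b => ?_⟩
      suffices ∀ a : ToType ((EtCoh.stalk ξ).obj F), a = 0 from (this a).trans (this b).symm
      intro a
      obtain ⟨U, v, σ, rfl⟩ := (Scheme.pointSmallEtale ξ).toPresheafFiber_jointly_surjective (P := F.obj) a
      refine germ_eq_zero_of_not_mem_sectSupp F ξ U σ v fun hm => hcon U σ _ hm ?_
      refine (hom_fiberPt v).trans ?_
      exact (Set.mem_singleton_iff.mp (hξ ▸ Set.mem_range_self _))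
    exact AddCommGrpCat.isZero_of_subsingleton _
  · rintro ⟨U, σ, y, hy, rfl⟩
    refine ⟨_, _, inferInstance, sepPoint X (U.hom y), ?_, fun hz => ?_⟩
    · exact Set.eq_singleton_iff_unique_mem.mpr ⟨⟨default, sepPoint_default X _⟩, by
        rintro _ ⟨t, rfl⟩; rw [Subsingleton.elim t default, sepPoint_default]⟩
    · obtain ⟨v, hv⟩ := exists_fiber_point (sepPoint X (U.hom y)) U y (sepPoint_default X _).symm
      have := AddCommGrpCat.subsingleton_of_isZero hz
      exact not_mem_sectSupp_of_germ_eq_zero F _ U σ v (this.elim _ _) (hv.symm ▸ hy)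

theorem isLTorsion_iff_stalks (L : Set ℕ) :
    EtAcyc.IsLTorsion L F ↔
      ∀ (Ω : Type u) [Field Ω] [IsSepClosed Ω] (ξ : Spec (CommRingCat.of Ω) ⟶ X)
        (t : (EtCoh.stalk ξ).obj F), ∃ m : ℕ, EtAcyc.PrimesIn L m ∧ m • t = 0 := by
  constructor
  · intro h Ω _ _ ξ t
    obtain ⟨U, v, σ, rfl⟩ := (Scheme.pointSmallEtale ξ).toPresheafFiber_jointly_surjective (P := F.obj) t
    obtain ⟨V, g, m, ⟨z, hz⟩, hm, h0⟩ := h U σ (fiberPt v)
    refine ⟨m, hm, ?_⟩
    refine (map_nsmul _ m σ).symm.trans ?_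
    refine germ_eq_zero_of_not_mem_sectSupp F ξ U (m • σ) v fun hs => hs V g ⟨z, hz⟩ ?_
    exact (map_nsmul _ m σ).trans h0
  · intro h U σ x
    obtain ⟨v, hv⟩ := exists_fiber_point (sepPoint X (U.hom x)) U x (sepPoint_default X _).symm
    obtain ⟨m, hm, h0⟩ := h _ (sepPoint X (U.hom x))
      ((Scheme.pointSmallEtale _).toPresheafFiber U v F.obj σ)
    have h1 := not_mem_sectSupp_of_germ_eq_zero F _ U (m • σ) v ((map_nsmul _ m σ).trans h0)
    rw [hv] at h1
    rw [EtShriek.sectSupp, Set.mem_setOf_eq] at h1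
    push Not at h1
    obtain ⟨W, g, hz, hσ⟩ := h1
    exact ⟨W, g, m, hz, hm, (map_nsmul _ m σ).symm.trans hσ⟩

lemma primesIn_prod {ι : Type*} (L : Set ℕ) (t : Finset ι) (m : ι → ℕ)
    (h : ∀ i ∈ t, EtAcyc.PrimesIn L (m i)) : EtAcyc.PrimesIn L (∏ i ∈ t, m i) := by
  refine ⟨Finset.prod_pos fun i hi => (h i hi).1, fun p hp hdvd => ?_⟩
  obtain ⟨i, hi, hpi⟩ := (Nat.Prime.prime hp).exists_mem_finset_dvd hdvd
  exact (h i hi).2 p hp hpi

theorem exists_smul_eq_zero_of_compactSpace (L : Set ℕ) (hF : EtAcyc.IsLTorsion L F) (U : X.Etale)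
    [CompactSpace U.left] (s : EtCoh.sect F U) :
    ∃ m : ℕ, EtAcyc.PrimesIn L m ∧ m • s = 0 := by
  choose V g m hv hm h0 using fun x : U.left => hF U s x
  obtain ⟨t, ht⟩ := isCompact_univ.elim_finite_subcover (fun x => Set.range (g x).left)
    (fun x => haveI := etale_map_left (g x); (g x).left.isOpenMap.isOpen_range)
    (fun x _ => Set.mem_iUnion.mpr ⟨x, hv x⟩)
  refine ⟨∏ x ∈ t, m x, primesIn_prod L t m fun x _ => hm x, ?_⟩
  have hG : Presieve.IsSheaf X.smallEtaleTopology (F.obj ⋙ forget AddCommGrpCat.{u + 1}) :=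
    (isSheaf_iff_isSheaf_of_type _ _).mp
      ((sheafCompose X.smallEtaleTopology (forget AddCommGrpCat.{u + 1})).obj F).property
  have hcov : Sieve.ofArrows _ (fun x : t => g x.1) ∈ X.smallEtaleTopology U := by
    rw [Scheme.ofArrows_mem_smallEtaleTopology_iff, Set.eq_univ_iff_forall]
    intro y
    obtain ⟨x, hx, hy⟩ := Set.mem_iUnion₂.mp (ht (Set.mem_univ y))
    exact Set.mem_iUnion.mpr ⟨⟨x, hx⟩, hy⟩
  refine (hG _ hcov).isSeparatedFor.ext fun Z k hk => ?_
  obtain ⟨_, a, _, ⟨x⟩, rfl⟩ := hk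
  obtain ⟨c, hc⟩ := Finset.dvd_prod_of_mem m x.2
  change F.obj.map (a ≫ g x.1).op ((∏ x ∈ t, m x) • s) = F.obj.map (a ≫ g x.1).op (0 : EtCoh.sect F U)
  rw [op_comp, Functor.map_comp, ConcreteCategory.comp_apply, ConcreteCategory.comp_apply,
    map_nsmul, map_zero, hc, mul_comm, mul_nsmul', h0, smul_zero]

end Groth.Agent.Et18
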