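import Groth.Prelude.Def_EtShriek2
import Groth.Agent.Et18.GermBasics
import Mathlib.AlgebraicGeometry.Morphisms.QuasiFinite

/-!
# Closed subsets proper over a base
-/

universe u

open CategoryTheory CategoryTheory.Limits AlgebraicGeometry Opposite Scheme

set_option backward.isDefEq.respectTransparency.types false
set_option backward.isDefEq.respectTransparency false

namespace Groth.Agent.Et18

variable {U S : Scheme.{u}}

/-- The reduced closed subscheme of a closed subset. -/
noncomputable abbrev redSub (Z : Set U) (hZ : IsClosed Z) : U.IdealSheafData :=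
  IdealSheafData.vanishingIdeal ⟨Z, hZ⟩

lemma range_redSub (Z : Set U) (hZ : IsClosed Z) : Set.range (redSub Z hZ).subschemeι = Z := by
  rw [IdealSheafData.range_subschemeι, IdealSheafData.coe_support_vanishingIdeal]
  rfl

lemma redSub_anti {Z Z' : Set U} (hZ : IsClosed Z) (hZ' : IsClosed Z') (h : Z' ⊆ Z) :
    redSub Z hZ ≤ redSub Z' hZ' :=
  IdealSheafData.vanishingIdeal_antimono h

theorem IsProperOver.isClosed {g : U ⟶ S} {Z : Set U} (h : ClSub.IsProperOver g Z) : IsClosed Z :=
  h.1

theorem IsProperOver.of_subset {g : U ⟶ S} {Z Z' : Set U} (h : ClSub.IsProperOver g Z)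
    (hZ' : IsClosed Z') (hs : Z' ⊆ Z) : ClSub.IsProperOver g Z' := by
  obtain ⟨hZ, hp⟩ := h
  refine ⟨hZ', ?_⟩
  change IsProper ((redSub Z' hZ').subschemeι ≫ g)
  have e := IdealSheafData.inclusion_subschemeι (redSub_anti hZ hZ' hs)
  haveI : IsClosedImmersion (IdealSheafData.inclusion (redSub_anti hZ hZ' hs) ≫
      (redSub Z hZ).subschemeι) := by rw [e]; infer_instance
  haveI : IsClosedImmersion (IdealSheafData.inclusion (redSub_anti hZ hZ' hs)) :=
    IsClosedImmersion.of_comp _ (redSub Z hZ).subschemeι
  haveI : IsProper ((redSub Z hZ).subschemeι ≫ g) := hp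
  rw [← e, Category.assoc]
  infer_instance

/-- The image of a scheme universally closed over the base is proper over the base. -/
theorem isProperOver_range (g : U ⟶ S) [IsSeparated g] [LocallyOfFiniteType g]
    {T : Scheme.{u}} (h : T ⟶ U) [UniversallyClosed (h ≫ g)] :
    ClSub.IsProperOver g (Set.range h) := by
  haveI : UniversallyClosed h := UniversallyClosed.of_comp_of_isSeparated h g
  have hc : IsClosed (Set.range h) := h.isClosedMap.isClosed_range
  refine ⟨hc, ?_⟩
  change IsProper ((redSub (Set.range h) hc).subschemeι ≫ g)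
  have hle : h.ker ≤ redSub (Set.range h) hc :=
    IdealSheafData.le_support_iff_le_vanishingIdeal.mp h.range_subset_ker_support
  haveI : UniversallyClosed (h.toImage ≫ h.imageι ≫ g) := by
    rw [Hom.toImage_imageι_assoc]; infer_instance
  haveI : UniversallyClosed (h.imageι ≫ g) := UniversallyClosed.of_comp_surjective h.toImage _
  haveI : IsProper (h.imageι ≫ g) := {}
  have e := IdealSheafData.inclusion_subschemeι hle
  haveI : IsClosedImmersion (IdealSheafData.inclusion hle ≫ h.ker.subschemeι) := by
    rw [e]; infer_instance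
  haveI : IsClosedImmersion (IdealSheafData.inclusion hle) :=
    IsClosedImmersion.of_comp _ h.ker.subschemeι
  rw [← e, Category.assoc]
  infer_instance

/-- The range of a closed immersion with proper composite is proper over the base. -/
theorem isProperOver_of_isClosedImmersion (g : U ⟶ S) {T : Scheme.{u}} (k : T ⟶ U)
    [IsClosedImmersion k] [IsProper (k ≫ g)] : ClSub.IsProperOver g (Set.range k) := by
  have hc : IsClosed (Set.range k) := k.isClosedEmbedding.isClosed_range
  refine ⟨hc, ?_⟩
  change IsProper ((redSub (Set.range k) hc).subschemeι ≫ g)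
  have hle : k.ker ≤ redSub (Set.range k) hc :=
    IdealSheafData.le_support_iff_le_vanishingIdeal.mp k.range_subset_ker_support
  let a := IdealSheafData.inclusion hle ≫ inv k.toImage
  have ha : a ≫ k = (redSub (Set.range k) hc).subschemeι := by
    have : inv k.toImage ≫ k = k.imageι := (IsIso.inv_comp_eq _).mpr k.toImage_imageι.symm
    rw [Category.assoc, this]
    exact IdealSheafData.inclusion_subschemeι hle
  haveI : IsClosedImmersion (a ≫ k) := by rw [ha]; infer_instance
  haveI : IsClosedImmersion a := IsClosedImmersion.of_comp a k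
  rw [← ha, Category.assoc]
  infer_instance

/-- A scheme covered by two closed subschemes separated over the base is separated. -/
theorem isSeparated_of_covers {Z₁ Z₂ Z : Scheme.{u}} (a : Z₁ ⟶ Z) (b : Z₂ ⟶ Z) (g : Z ⟶ S)
    [IsClosedImmersion a] [IsClosedImmersion b] [IsSeparated (a ≫ g)] [IsSeparated (b ≫ g)]
    (h : Set.range a ∪ Set.range b = Set.univ) : IsSeparated g := by
  have key : ∀ {W : Scheme.{u}} (c : W ⟶ Z) [IsClosedImmersion c] [IsSeparated (c ≫ g)],
      IsClosed (Set.range (c ≫ pullback.diagonal g)) := by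
    intro W c _ _
    let m := pullback.map (c ≫ g) (c ≫ g) g g c c (𝟙 S) (Category.comp_id _) (Category.comp_id _)
    haveI : IsClosedImmersion m :=
      MorphismProperty.pullbackMap (P := @IsClosedImmersion) ‹IsClosedImmersion c›
        ‹IsClosedImmersion c› rfl rfl
    have e : c ≫ pullback.diagonal g = pullback.diagonal (c ≫ g) ≫ m := by
      apply pullback.hom_ext <;> simp [m]
    rw [e]
    exact (pullback.diagonal (c ≫ g) ≫ m).isClosedEmbedding.isClosed_range
  have hr : IsClosed (Set.range (pullback.diagonal g)) := by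
    have : Set.range (pullback.diagonal g) =
        Set.range (a ≫ pullback.diagonal g) ∪ Set.range (b ≫ pullback.diagonal g) := by
      rw [← Set.image_univ, ← h, Set.image_union, ← Set.range_comp, ← Set.range_comp]
      rfl
    rw [this]
    exact (key a).union (key b)
  exact ⟨IsClosedImmersion.of_isPreimmersion _ hr⟩

theorem universallyClosed_of_covers {Z₁ Z₂ Z : Scheme.{u}} (a : Z₁ ⟶ Z) (b : Z₂ ⟶ Z) (g : Z ⟶ S)
    [ha : UniversallyClosed (a ≫ g)] [hb : UniversallyClosed (b ≫ g)]
    (h : Set.range a ∪ Set.range b = Set.univ) : UniversallyClosed g := by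
  constructor
  intro X' Y' i₁ i₂ f' H C hC
  have Ha := ha.universally_isClosedMap _ _ _ ((IsPullback.of_hasPullback i₁ a).paste_horiz H)
  have Hb := hb.universally_isClosedMap _ _ _ ((IsPullback.of_hasPullback i₁ b).paste_horiz H)
  have hca := Ha _ (hC.preimage (pullback.fst i₁ a).continuous)
  have hcb := Hb _ (hC.preimage (pullback.fst i₁ b).continuous)
  have he : f' '' C = (pullback.fst i₁ a ≫ f') '' (pullback.fst i₁ a ⁻¹' C) ∪
      (pullback.fst i₁ b ≫ f') '' (pullback.fst i₁ b ⁻¹' C) := by
    have e : ∀ {W : Scheme.{u}} (k : W ⟶ X'), (k ≫ f') '' (k ⁻¹' C) =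
        f' '' (C ∩ Set.range k) := fun k => by
      rw [show ⇑(k ≫ f') = f' ∘ k from funext (Scheme.Hom.comp_apply k f'), Set.image_comp,
        Set.image_preimage_eq_inter_range]
    rw [e, e, ← Set.image_union, ← Set.inter_union_distrib_left, Scheme.Pullback.range_fst,
      Scheme.Pullback.range_fst, ← Set.preimage_union, h, Set.preimage_univ, Set.inter_univ]
  rw [he]
  exact hca.union hcb

theorem IsProperOver.union {g : U ⟶ S} [LocallyOfFiniteType g] {Z₁ Z₂ : Set U}
    (h₁ : ClSub.IsProperOver g Z₁) (h₂ : ClSub.IsProperOver g Z₂) :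
    ClSub.IsProperOver g (Z₁ ∪ Z₂) := by
  obtain ⟨hc₁, hp₁⟩ := h₁
  obtain ⟨hc₂, hp₂⟩ := h₂
  have hc := hc₁.union hc₂
  let J := redSub (Z₁ ∪ Z₂) hc
  let a := IdealSheafData.inclusion (redSub_anti hc hc₁ Set.subset_union_left)
  let b := IdealSheafData.inclusion (redSub_anti hc hc₂ Set.subset_union_right)
  have ea : a ≫ J.subschemeι = _ := IdealSheafData.inclusion_subschemeι _
  have eb : b ≫ J.subschemeι = _ := IdealSheafData.inclusion_subschemeι _
  haveI : IsClosedImmersion (a ≫ J.subschemeι) := by rw [ea]; infer_instance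
  haveI : IsClosedImmersion (b ≫ J.subschemeι) := by rw [eb]; infer_instance
  haveI : IsClosedImmersion a := IsClosedImmersion.of_comp a J.subschemeι
  haveI : IsClosedImmersion b := IsClosedImmersion.of_comp b J.subschemeι
  haveI : IsProper (a ≫ J.subschemeι ≫ g) := by rw [reassoc_of% ea]; exact hp₁
  haveI : IsProper (b ≫ J.subschemeι ≫ g) := by rw [reassoc_of% eb]; exact hp₂
  have hcov : Set.range a ∪ Set.range b = Set.univ := by
    refine Set.eq_univ_iff_forall.mpr fun x => ?_
    have hinj := J.subschemeι.isClosedEmbedding.injective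
    have hx : J.subschemeι x ∈ Z₁ ∪ Z₂ := range_redSub _ hc ▸ Set.mem_range_self x
    rcases hx with hx | hx
    · obtain ⟨y, hy⟩ := (range_redSub _ hc₁).symm ▸ hx
      exact Or.inl ⟨y, hinj ((Scheme.Hom.comp_apply a J.subschemeι y).symm.trans (ea ▸ hy))⟩
    · obtain ⟨y, hy⟩ := (range_redSub _ hc₂).symm ▸ hx
      exact Or.inr ⟨y, hinj ((Scheme.Hom.comp_apply b J.subschemeι y).symm.trans (eb ▸ hy))⟩
  haveI : UniversallyClosed (J.subschemeι ≫ g) := universallyClosed_of_covers a b _ hcov
  haveI : IsSeparated (J.subschemeι ≫ g) := isSeparated_of_covers a b _ hcov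
  refine ⟨hc, ?_⟩
  change IsProper (J.subschemeι ≫ g)
  exact {}

theorem isProperOver_empty (g : U ⟶ S) : ClSub.IsProperOver g (∅ : Set U) := by
  haveI : IsProper (emptyIsInitial.to U ≫ g) := by
    rw [emptyIsInitial.hom_ext (emptyIsInitial.to U ≫ g) (emptyIsInitial.to S)]; infer_instance
  have := isProperOver_of_isClosedImmersion g (emptyIsInitial.to U)
  rwa [Set.range_eq_empty] at this

/-- Base change of a closed subset proper over the base. -/
theorem IsProperOver.preimage {g : U ⟶ S} {Z : Set U} (h : ClSub.IsProperOver g Z)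
    {U' S' : Scheme.{u}} {a : U' ⟶ U} {g' : U' ⟶ S'} {b : S' ⟶ S} (hsq : IsPullback a g' g b)
    : ClSub.IsProperOver g' (a ⁻¹' Z) := by
  obtain ⟨hZ, hp⟩ := h
  have H := ((IsPullback.of_hasPullback a (redSub Z hZ).subschemeι).flip.paste_vert hsq)
  haveI : IsProper (pullback.fst a (redSub Z hZ).subschemeι ≫ g') :=
    MorphismProperty.of_isPullback (P := @IsProper) H hp
  have := isProperOver_of_isClosedImmersion g' (pullback.fst a (redSub Z hZ).subschemeι)
  rwa [Scheme.Pullback.range_fst, range_redSub] at this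

/-- The image in the base of a closed subset proper over it is closed. -/
theorem IsProperOver.isClosed_image {g : U ⟶ S} {Z : Set U} (h : ClSub.IsProperOver g Z) :
    IsClosed (g '' Z) := by
  obtain ⟨hZ, hp⟩ := h
  have : g '' Z = Set.range ((redSub Z hZ).subschemeι ≫ g) := by
    rw [show ⇑((redSub Z hZ).subschemeι ≫ g) = g ∘ _ from funext (Scheme.Hom.comp_apply _ g),
      Set.range_comp, range_redSub]
  rw [this]
  haveI : IsProper ((redSub Z hZ).subschemeι ≫ g) := hp
  exact ((redSub Z hZ).subschemeι ≫ g).isClosedMap.isClosed_range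

/-- A closed subset proper over the base has finite fibres if the morphism is locally quasi-finite. -/
theorem IsProperOver.finite_fibre {g : U ⟶ S} [LocallyQuasiFinite g] {Z : Set U}
    (h : ClSub.IsProperOver g Z) (y : S) : (Z ∩ g ⁻¹' {y}).Finite := by
  obtain ⟨hZ, hp⟩ := h
  let k := (redSub Z hZ).subschemeι ≫ g
  haveI : IsProper k := hp
  have : Z ∩ g ⁻¹' {y} ⊆ (redSub Z hZ).subschemeι '' (k ⁻¹' {y}) := by
    rintro x ⟨hx, hxy⟩
    obtain ⟨z, rfl⟩ := (range_redSub Z hZ).symm ▸ hx
    exact ⟨z, by simpa [k] using hxy, rfl⟩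
  exact ((k.finite_preimage_singleton y).image _).subset this

/-- The support of the restriction of a section. -/
theorem sectSupp_restrict_subset {X : Scheme.{u}} (F : EtCoh.Ab X) {U W : X.Etale} (m : W ⟶ U)
    (s : EtCoh.sect F U) :
    EtShriek.sectSupp F W (F.obj.map m.op s) ⊆ m.left ⁻¹' EtShriek.sectSupp F U s := by
  intro x hx
  obtain ⟨v, hv⟩ := exists_fiber_point (sepPoint X (W.hom x)) W x (sepPoint_default X _).symm
  by_contra hcon
  rw [Set.mem_preimage, ← hv, fiberPt_map m v] at hcon
  have h0 := germ_eq_zero_of_not_mem_sectSupp F _ U s _ hcon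
  rw [← GrothendieckTopology.Point.toPresheafFiber_w_apply] at h0
  exact not_mem_sectSupp_of_germ_eq_zero F _ W _ v h0 (hv.symm ▸ hx)

end Groth.Agent.Et18
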