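import Groth.Agent.NeronLib.SepPoints
import Mathlib

/-!
# Rational points of smooth schemes over separably closed fields, components of noetherian spaces
-/

set_option autoImplicit false

universe u

open CategoryTheory AlgebraicGeometry TopologicalSpace

namespace Groth.Agent.Et18.SepPointOpen

/-- A nonempty open of a smooth scheme over a separably closed field contains a rational point. -/
theorem exists_point_mem {k : Type u} [Field k] [IsSepClosed k] {X : Scheme.{u}}
    (f : X ⟶ Spec (CommRingCat.of k)) [Smooth f] (O : X.Opens) (x : X) (hx : x ∈ O) :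
    ∃ t : Spec (CommRingCat.of k) ⟶ X, t ≫ f = 𝟙 _ ∧ ∀ y, t y ∈ O := by
  haveI : Smooth (O.ι ≫ f) := inferInstance
  obtain ⟨U, hU, V, hV, hxV, e, hstd⟩ :=
    (Smooth.iff_forall_exists_isStandardSmooth (O.ι ≫ f)).1 inferInstance (⟨x, hx⟩ : O)
  have hUtop : U = ⊤ := top_unique fun y _ => by
    rw [Subsingleton.elim y ((O.ι ≫ f) ⟨x, hx⟩)]
    exact e hxV
  subst hUtop
  obtain ⟨φ, hφ⟩ := Spec.map_surjective (hV.fromSpec ≫ O.ι ≫ f)
  have hφs : φ.hom.IsStandardSmooth := by
    have h1 : φ = (Scheme.ΓSpecIso (CommRingCat.of k)).inv ≫ (O.ι ≫ f).appLE ⊤ V e := by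
      apply Spec.map_injective
      rw [hφ, Spec.map_comp, ← hU.SpecMap_appLE_fromSpec (O.ι ≫ f) hV e, IsAffineOpen.fromSpec_top,
        Scheme.isoSpec_Spec_inv]
    rw [h1]
    exact RingHom.isStandardSmooth_respectsIso.right _ (Scheme.ΓSpecIso (CommRingCat.of k)).symm.commRingCatIsoToRingEquiv hstd
  algebraize [φ.hom]
  haveI : Nontrivial Γ(O, V) := by
    by_contra hc
    rw [not_nontrivial_iff_subsingleton] at hc
    have hne : (hV.primeIdealOf ⟨_, hxV⟩).asIdeal ≠ ⊤ := (hV.primeIdealOf ⟨_, hxV⟩).isPrime.ne_top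
    exact hne (Subsingleton.elim _ _)
  obtain ⟨ψ, -⟩ := NeronLib.SepPoints.exists_algHom_ne_zero_of_isStandardSmooth k k Γ(O, V) 1
    (fun h => not_isNilpotent_one h)
  refine ⟨Spec.map (CommRingCat.ofHom ψ.toRingHom) ≫ hV.fromSpec ≫ O.ι, ?_, fun y => ?_⟩
  · rw [Category.assoc, Category.assoc, ← hφ, ← Spec.map_comp, ← Spec.map_id]
    exact congrArg Spec.map (CommRingCat.hom_ext (RingHom.ext ψ.commutes))
  · rw [← Category.assoc, Scheme.Hom.comp_apply]
    exact (_ : O).2

variable {α : Type*} [TopologicalSpace α] [NoetherianSpace α]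

theorem finite_range_connectedComponent : (Set.range (fun x : α => connectedComponent x)).Finite := by
  classical
  rcases isEmpty_or_nonempty α with h | h
  · simp [Set.range_eq_empty]
  refine ((NoetherianSpace.finite_irreducibleComponents (α := α)).image
    (fun C => connectedComponent (Classical.epsilon (· ∈ C)))).subset ?_
  rintro _ ⟨x, rfl⟩
  refine ⟨irreducibleComponent x, irreducibleComponent_mem_irreducibleComponents x, ?_⟩
  refine (connectedComponent_eq ?_).symm
  exact isIrreducible_irreducibleComponent.isConnected.subset_connectedComponent mem_irreducibleComponent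
    (Classical.epsilon_spec (p := (· ∈ irreducibleComponent x)) ⟨x, mem_irreducibleComponent⟩)

theorem isOpen_connectedComponent' (x : α) : IsOpen (connectedComponent x) := by
  have h : connectedComponent x =
      (⋃₀ (Set.range (fun y : α => connectedComponent y) \ {connectedComponent x}))ᶜ := by
    ext y
    constructor
    · rintro hy ⟨C, ⟨⟨z, rfl⟩, hC⟩, hyC⟩
      exact hC ((connectedComponent_eq hyC).trans (connectedComponent_eq hy).symm)
    · intro hy
      by_contra hne
      refine hy ⟨connectedComponent y, ⟨⟨y, rfl⟩, fun h => hne ?_⟩, mem_connectedComponent⟩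
      rw [Set.mem_singleton_iff] at h
      rw [← h]; exact mem_connectedComponent
  rw [h, isOpen_compl_iff, Set.sUnion_eq_biUnion]
  refine Set.Finite.isClosed_biUnion finite_range_connectedComponent.sdiff ?_
  rintro _ ⟨⟨z, rfl⟩, -⟩
  exact isClosed_connectedComponent

end Groth.Agent.Et18.SepPointOpen
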