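import Groth.Agent.Et18.StalkPush
import Mathlib.CategoryTheory.Sites.Limits

/-!
# Supports: sections over empty schemes and stalks outside the image
-/

universe u

open CategoryTheory CategoryTheory.Limits AlgebraicGeometry Opposite

set_option backward.isDefEq.respectTransparency.types false
set_option backward.isDefEq.respectTransparency false

namespace Groth.Agent.Et18

variable {X Y : Scheme.{u}}

lemma bot_mem_of_isEmpty (W : X.Etale) (h : IsEmpty W.left) : ⊥ ∈ X.smallEtaleTopology W := by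
  have : (⊥ : Sieve W) = Sieve.ofArrows (fun i : PEmpty.{u + 1} => (i.elim : X.Etale))
      (fun i => i.elim) := by
    ext Z g
    exact ⟨False.elim, by rintro ⟨Z, p, q, ⟨i⟩, rfl⟩; exact i.elim⟩
  rw [this, Scheme.ofArrows_mem_smallEtaleTopology_iff]
  ext x
  exact (h.false x).elim

/-- Sections over the empty scheme vanish. -/
lemma isZero_sections_of_isEmpty (F : EtCoh.Ab X) (W : X.Etale) (h : IsEmpty W.left) :
    IsZero (F.obj.obj (op W)) :=
  (isZero_zero _).of_iso
    ((Sheaf.isTerminalOfBotCover F W (bot_mem_of_isEmpty W h)).uniqueUpToIso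
      HasZeroObject.zeroIsTerminal)

/-- The open piece of an étale scheme away from a closed subset of the base. -/
noncomputable def etaleAway (V : X.Etale) (U : X.Opens) : X.Etale :=
  haveI : Etale V.hom := V.prop
  Scheme.Etale.mk ((V.hom ⁻¹ᵁ U).ι ≫ V.hom)

/-- The inclusion of `etaleAway`. -/
noncomputable def etaleAwayHom (V : X.Etale) (U : X.Opens) : etaleAway V U ⟶ V :=
  MorphismProperty.Over.homMk (V.hom ⁻¹ᵁ U).ι rfl

lemma range_etaleAway_hom_subset (V : X.Etale) (U : X.Opens) :
    Set.range (etaleAway V U).hom ⊆ (U : Set X) := by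
  rintro _ ⟨t, rfl⟩
  exact t.2

lemma exists_fiber_etaleAway {Ω : Type u} [Field Ω] [IsSepClosed Ω]
    (ξ : Spec (CommRingCat.of Ω) ⟶ X) (V : X.Etale) (U : X.Opens) (hξ : ξ default ∈ U)
    (v : (Scheme.pointSmallEtale ξ).fiber.obj V) :
    ∃ v' : (Scheme.pointSmallEtale ξ).fiber.obj (etaleAway V U),
      (Scheme.pointSmallEtale ξ).fiber.map (etaleAwayHom V U) v' = v := by
  have hw : (v.left : Spec (CommRingCat.of Ω) ⟶ V.left) ≫ V.hom = ξ := Over.w v
  have hv : Set.range v.left ⊆ Set.range (V.hom ⁻¹ᵁ U).ι := by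
    rw [Scheme.Opens.range_ι]
    intro y hy
    obtain ⟨t, rfl⟩ : ∃ t : Spec (CommRingCat.of Ω), v.left t = y := hy
    change ((v.left : Spec (CommRingCat.of Ω) ⟶ V.left) ≫ V.hom) t ∈ U
    rw [hw, Subsingleton.elim t default]
    exact hξ
  refine ⟨Over.homMk (IsOpenImmersion.lift (V.hom ⁻¹ᵁ U).ι v.left hv) ?_, ?_⟩
  · refine (Category.assoc _ _ _).symm.trans ?_
    rw [IsOpenImmersion.lift_fac]
    exact Over.w v
  · exact Over.OverMorphism.ext (IsOpenImmersion.lift_fac _ _ _)

/-- A stalk vanishes if the sections vanish over an open neighbourhood of the point. -/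
theorem isZero_stalk_of_isZero_sections {Ω : Type u} [Field Ω] [IsSepClosed Ω]
    (ξ : Spec (CommRingCat.of Ω) ⟶ X) (F : EtCoh.Ab X) (U : X.Opens) (hξ : ξ default ∈ U)
    (h : ∀ V : X.Etale, Set.range V.hom ⊆ (U : Set X) → IsZero (F.obj.obj (op V))) :
    IsZero ((EtCoh.stalk ξ).obj F) := by
  rw [IsZero.iff_id_eq_zero]
  refine (Scheme.pointSmallEtale ξ).presheafFiber_hom_ext fun V v => ?_
  obtain ⟨v', rfl⟩ := exists_fiber_etaleAway ξ V U hξ v
  have h0 : (Scheme.pointSmallEtale ξ).toPresheafFiber V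
      ((Scheme.pointSmallEtale ξ).fiber.map (etaleAwayHom V U) v') F.obj = 0 := by
    rw [← (Scheme.pointSmallEtale ξ).toPresheafFiber_w (etaleAwayHom V U) v' F.obj,
      (h _ (range_etaleAway_hom_subset V U)).eq_of_tgt (F.obj.map (etaleAwayHom V U).op) 0,
      zero_comp]
  exact ((congrArg (fun t => t ≫ _) h0).trans zero_comp).trans
    ((congrArg (fun t => t ≫ _) h0).trans zero_comp).symm

/-- Direct images have no sections over opens disjoint from the image. -/
lemma isZero_push_sections (f : X ⟶ Y) (G : EtCoh.Ab X) (V : Y.Etale)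
    (hV : Disjoint (Set.range V.hom) (Set.range f)) :
    IsZero (((EtCoh.push f).obj G).obj.obj (op V)) := by
  refine isZero_sections_of_isEmpty G ((EtCoh.bc f).obj V) ⟨fun t => ?_⟩
  exact Set.disjoint_left.mp hV ⟨_, rfl⟩
    ⟨((EtCoh.bc f).obj V).hom t, congrArg (fun g => g t) (pullback.condition (f := V.hom) (g := f)).symm⟩

/-- Stalks of direct images vanish outside the closure of the image. -/
theorem isZero_stalk_push_of_disjoint (f : X ⟶ Y) (G : EtCoh.Ab X) {Ω : Type u} [Field Ω]
    [IsSepClosed Ω] (η : Spec (CommRingCat.of Ω) ⟶ Y) (U : Y.Opens) (hη : η default ∈ U)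
    (hU : Disjoint (U : Set Y) (Set.range f)) :
    IsZero ((EtCoh.stalk η).obj ((EtCoh.push f).obj G)) :=
  isZero_stalk_of_isZero_sections η _ U hη fun V hV => isZero_push_sections f G V (hU.mono_left hV)

end Groth.Agent.Et18
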