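import Groth.Agent.Et18.ExtZero
import Groth.Agent.Et18.Support
import Groth.Prelude.Def_W4c1etweilhu916Glue
import Mathlib.CategoryTheory.Adjunction.Triple

/-!
# Recollement for abelian étale sheaves

A closed immersion `i` and the open immersion `j` of its complement.
-/

universe u

open CategoryTheory CategoryTheory.Limits AlgebraicGeometry Opposite

set_option backward.isDefEq.respectTransparency.types false
set_option backward.isDefEq.respectTransparency false

namespace Groth.Agent.Et18

variable {X Y W : Scheme.{u}}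

lemma isIso_kernel_ι_of_eq_zero {C : Type*} [Category* C] [HasZeroMorphisms C] {A B : C}
    {a : A ⟶ B} [HasKernel a] (h : a = 0) : IsIso (kernel.ι a) :=
  ⟨kernel.lift a (𝟙 A) (by simp [h]), by rw [← cancel_mono (kernel.ι a)]; simp, by simp⟩

lemma isZero_sigma_of_isEmpty {C : Type*} [Category* C] [HasZeroMorphisms C] {J : Type*} [IsEmpty J]
    (A : J → C) [HasCoproduct A] : IsZero (∐ A) :=
  (IsZero.iff_id_eq_zero _).mpr (Sigma.hom_ext _ _ fun a => isEmptyElim a)

lemma isIso_stalk_map_of_pull (f : Y ⟶ X) {Ω : Type u} [Field Ω] [IsSepClosed Ω]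
    (ξ : Spec (CommRingCat.of Ω) ⟶ Y) {F G : EtCoh.Ab X} (a : F ⟶ G)
    [IsIso ((EtCoh.pull f).map a)] : IsIso ((EtCoh.stalk (ξ ≫ f)).map a) :=
  (NatIso.isIso_map_iff (stalkPullIso f ξ) a).mp
    (inferInstanceAs (IsIso ((EtCoh.stalk ξ).map ((EtCoh.pull f).map a))))

/-- A geometric point with its field. -/
structure GeomPt (X : Scheme.{u}) where
  /-- The field. -/
  Ω : Type u
  /-- It is a field. -/
  [field : Field Ω]
  /-- It is separably closed. -/
  [sep : IsSepClosed Ω]
  /-- The point. -/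
  pt : Spec (CommRingCat.of Ω) ⟶ X

attribute [instance] GeomPt.field GeomPt.sep

section TwoPieces

variable (f : Y ⟶ X) (g : W ⟶ X)

/-- Two morphisms are jointly surjective. -/
abbrev JointlySurjective : Prop := ∀ x : X, x ∈ Set.range f ∨ x ∈ Set.range g

variable {f g}

/-- A morphism is invertible if its pullbacks to two covering pieces are. -/
theorem isIso_of_pulls (hfg : JointlySurjective f g) {F G : EtCoh.Ab X} (a : F ⟶ G)
    [IsIso ((EtCoh.pull f).map a)] [IsIso ((EtCoh.pull g).map a)] : IsIso a := by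
  let p : ULift.{u + 1} (Y ⊕ W) → GeomPt X := fun i =>
    Sum.elim (fun y => ⟨_, sepPoint Y y ≫ f⟩) (fun w => ⟨_, sepPoint W w ≫ g⟩) i.down
  refine isIso_of_stalks_family (ι := ULift.{u + 1} (Y ⊕ W)) (Ω := fun i => (p i).Ω)
    (fun i => (p i).pt) ?_ a ?_
  · intro x
    rcases hfg x with ⟨y, hy⟩ | ⟨w, hw⟩
    · exact ⟨⟨.inl y⟩, (congrArg f (sepPoint_default Y y)).trans hy⟩
    · exact ⟨⟨.inr w⟩, (congrArg g (sepPoint_default W w)).trans hw⟩
  · rintro ⟨y | w⟩
    · exact isIso_stalk_map_of_pull f (sepPoint Y y) a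
    · exact isIso_stalk_map_of_pull g (sepPoint W w) a

theorem isZero_of_pulls (hfg : JointlySurjective f g) {F : EtCoh.Ab X}
    (h₁ : IsZero ((EtCoh.pull f).obj F)) (h₂ : IsZero ((EtCoh.pull g).obj F)) : IsZero F := by
  have : IsIso ((EtCoh.pull f).map (0 : F ⟶ F)) := ⟨0, h₁.eq_of_src _ _, h₁.eq_of_src _ _⟩
  have : IsIso ((EtCoh.pull g).map (0 : F ⟶ F)) := ⟨0, h₂.eq_of_src _ _, h₂.eq_of_src _ _⟩
  have := isIso_of_pulls hfg (0 : F ⟶ F)
  exact (IsZero.iff_id_eq_zero F).mpr (by rw [← IsIso.hom_inv_id (0 : F ⟶ F), zero_comp])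

theorem eq_zero_of_pulls (hfg : JointlySurjective f g) {F G : EtCoh.Ab X} (a : F ⟶ G)
    (h₁ : (EtCoh.pull f).map a = 0) (h₂ : (EtCoh.pull g).map a = 0) : a = 0 := by
  have key : ∀ {V : Scheme.{u}} (p : V ⟶ X), (EtCoh.pull p).map a = 0 →
      IsIso ((EtCoh.pull p).map (kernel.ι a)) := fun p hp => by
    rw [← kernelComparison_comp_ι a (EtCoh.pull p)]
    have : IsIso (kernel.ι ((EtCoh.pull p).map a)) := isIso_kernel_ι_of_eq_zero hp
    infer_instance
  have := key f h₁
  have := key g h₂
  have := isIso_of_pulls hfg (kernel.ι a)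
  rw [← cancel_epi (kernel.ι a), kernel.condition, comp_zero]

theorem mono_of_pulls (hfg : JointlySurjective f g) {F G : EtCoh.Ab X} (a : F ⟶ G)
    [Mono ((EtCoh.pull f).map a)] [Mono ((EtCoh.pull g).map a)] : Mono a := by
  refine Preadditive.mono_of_isZero_kernel _ (isZero_of_pulls hfg ?_ ?_)
  · exact (IsZero.of_iso (isZero_kernel_of_mono _) (PreservesKernel.iso _ a))
  · exact (IsZero.of_iso (isZero_kernel_of_mono _) (PreservesKernel.iso _ a))

theorem epi_of_pulls (hfg : JointlySurjective f g) {F G : EtCoh.Ab X} (a : F ⟶ G)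
    [Epi ((EtCoh.pull f).map a)] [Epi ((EtCoh.pull g).map a)] : Epi a := by
  refine Preadditive.epi_of_isZero_cokernel _ (isZero_of_pulls hfg ?_ ?_)
  · exact (IsZero.of_iso (isZero_cokernel_of_epi _) (PreservesCokernel.iso _ a))
  · exact (IsZero.of_iso (isZero_cokernel_of_epi _) (PreservesCokernel.iso _ a))

theorem exact_of_pulls (hfg : JointlySurjective f g) (S : ShortComplex (EtCoh.Ab X))
    (h₁ : (S.map (EtCoh.pull f)).Exact) (h₂ : (S.map (EtCoh.pull g)).Exact) : S.Exact := by
  rw [S.exact_iff_isZero_homology]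
  exact isZero_of_pulls hfg
    (IsZero.of_iso ((S.map (EtCoh.pull f)).exact_iff_isZero_homology.mp h₁)
      (S.mapHomologyIso (EtCoh.pull f)).symm)
    (IsZero.of_iso ((S.map (EtCoh.pull g)).exact_iff_isZero_homology.mp h₂)
      (S.mapHomologyIso (EtCoh.pull g)).symm)

end TwoPieces

variable {Z U : Scheme.{u}} {i : Z ⟶ X} [IsClosedImmersion i] {j : U ⟶ X} [IsOpenImmersion j]

lemma jointlySurjective_of_compl (hZU : Set.range j = (Set.range i)ᶜ) : JointlySurjective i j :=
  fun x => by
    rw [hZU]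
    exact em _

instance isIso_pull_map_unit {Y X : Scheme.{u}} (f : Y ⟶ X) [IsImmersion f] (F : EtCoh.Ab X) :
    IsIso ((EtCoh.pull f).map ((EtCoh.pullPushAdj f).unit.app F)) :=
  have : IsIso ((EtCoh.pull f).map ((EtCoh.pullPushAdj f).unit.app F) ≫
      (EtCoh.pullPushAdj f).counit.app ((EtCoh.pull f).obj F)) := by
    erw [(EtCoh.pullPushAdj f).left_triangle_components]
    exact IsIso.id _
  IsIso.of_isIso_comp_right _ ((EtCoh.pullPushAdj f).counit.app _)

/-- `j^* i_* = 0`. -/
theorem isZero_pull_push_compl (hZU : Set.range j = (Set.range i)ᶜ) (G : EtCoh.Ab Z) :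
    IsZero ((EtCoh.pull j).obj ((EtCoh.push i).obj G)) := by
  refine isZero_of_stalks fun y => IsZero.of_iso ?_ ((stalkPullIso j (sepPoint U y)).app _)
  refine isZero_stalk_push_of_disjoint i G _
    ⟨(Set.range i)ᶜ, i.isClosedEmbedding.isClosed_range.isOpen_compl⟩ ?_ disjoint_compl_left
  change j (sepPoint U y default) ∈ (Set.range i)ᶜ
  rw [← hZU]
  exact ⟨_, rfl⟩

/-- `i^* j_! = 0`. -/
theorem isZero_pull_extZero_compl (hZU : Set.range j = (Set.range i)ᶜ) [EtShriek.JCont j]
    (F : EtCoh.Ab U) : IsZero ((EtCoh.pull i).obj ((EtShriek.extZero j).obj F)) := by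
  refine isZero_of_stalks fun z => IsZero.of_iso ?_ ((stalkPullIso i (sepPoint Z z)).app _)
  refine IsZero.of_iso ?_ (extZeroStalkIso j _ F)
  have : IsEmpty (PointLift j (sepPoint Z z ≫ i)) := ⟨fun v => by
    have h : sepPoint Z z ≫ i = v.1 ≫ j := v.2.symm
    have : i (sepPoint Z z default) ∈ Set.range j := ⟨v.1 default, (congrArg (fun t => t default) h).symm⟩
    rw [hZU] at this
    exact this ⟨_, rfl⟩⟩
  exact isZero_sigma_of_isEmpty _

/-- The unit square of a sheaf is cartesian. -/
theorem isPullback_units (hZU : Set.range j = (Set.range i)ᶜ) (F : EtCoh.Ab X) :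
    IsPullback ((EtCoh.pullPushAdj i).unit.app F) ((EtCoh.pullPushAdj j).unit.app F)
      ((EtCoh.push i).map ((EtCoh.pull i).map ((EtCoh.pullPushAdj j).unit.app F)))
      ((EtCoh.pullPushAdj i).unit.app ((EtCoh.push j).obj ((EtCoh.pull j).obj F))) := by
  have w : (EtCoh.pullPushAdj i).unit.app F ≫
      (EtCoh.push i).map ((EtCoh.pull i).map ((EtCoh.pullPushAdj j).unit.app F)) =
      (EtCoh.pullPushAdj j).unit.app F ≫
        (EtCoh.pullPushAdj i).unit.app ((EtCoh.push j).obj ((EtCoh.pull j).obj F)) :=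
    ((EtCoh.pullPushAdj i).unit.naturality ((EtCoh.pullPushAdj j).unit.app F)).symm
  refine IsPullback.of_iso_pullback ⟨w⟩ ?_ ?_ ?_
  · exact @asIso _ _ _ _ (pullback.lift _ _ w) (by
      have : IsIso ((EtCoh.pull i).map (pullback.lift _ _ w)) := by
        have h1 : IsIso ((EtCoh.pull i).map (pullback.fst
            ((EtCoh.push i).map ((EtCoh.pull i).map ((EtCoh.pullPushAdj j).unit.app F)))
            ((EtCoh.pullPushAdj i).unit.app ((EtCoh.push j).obj ((EtCoh.pull j).obj F))))) :=
          ((IsPullback.of_hasPullback _ _).map (EtCoh.pull i)).isIso_fst_of_isIso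
        refine @IsIso.of_isIso_fac_right _ _ _ _ _ _ _ _ h1 inferInstance
          (((EtCoh.pull i).map_comp _ _).symm.trans
            (congrArg (EtCoh.pull i).map (pullback.lift_fst _ _ w)))
      have : IsIso ((EtCoh.pull j).map (pullback.lift _ _ w)) := by
        have h0 : IsIso ((EtCoh.pull j).map ((EtCoh.push i).map
            ((EtCoh.pull i).map ((EtCoh.pullPushAdj j).unit.app F)))) :=
          isIso_of_source_target_iso_zero _ (isZero_pull_push_compl hZU _).isoZero
            (isZero_pull_push_compl hZU _).isoZero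
        have h1 : IsIso ((EtCoh.pull j).map (pullback.snd
            ((EtCoh.push i).map ((EtCoh.pull i).map ((EtCoh.pullPushAdj j).unit.app F)))
            ((EtCoh.pullPushAdj i).unit.app ((EtCoh.push j).obj ((EtCoh.pull j).obj F))))) :=
          ((IsPullback.of_hasPullback _ _).map (EtCoh.pull j)).isIso_snd_of_isIso
        refine @IsIso.of_isIso_fac_right _ _ _ _ _ _ _ _ h1 inferInstance
          (((EtCoh.pull j).map_comp _ _).symm.trans
            (congrArg (EtCoh.pull j).map (pullback.lift_snd _ _ w)))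
      exact isIso_of_pulls (jointlySurjective_of_compl hZU) _)
  · exact pullback.lift_fst _ _ w
  · exact pullback.lift_snd _ _ w

/-- The recollement functor is fully faithful and essentially surjective. -/
theorem recollTriple_isEquivalence (hZU : Set.range j = (Set.range i)ᶜ) :
    (EtCore.recollTriple i j).IsEquivalence := by
  have hs := jointlySurjective_of_compl hZU
  refine { faithful := ⟨fun {F G} a b h => ?_⟩, full := ⟨fun {F G} φ => ?_⟩, essSurj := ⟨fun T => ?_⟩ }
  · refine sub_eq_zero.mp (eq_zero_of_pulls hs (a - b) ?_ ?_)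
    · rw [Functor.map_sub, sub_eq_zero]
      exact congrArg CommaMorphism.left h
    · rw [Functor.map_sub, sub_eq_zero]
      exact congrArg CommaMorphism.right h
  · let u₁ : F ⟶ (EtCoh.push i).obj ((EtCoh.pull i).obj G) :=
      (EtCoh.pullPushAdj i).homEquiv _ _ φ.left
    let u₂ : F ⟶ (EtCoh.push j).obj ((EtCoh.pull j).obj G) :=
      (EtCoh.pullPushAdj j).homEquiv _ _ φ.right
    have hφ : φ.left ≫ (EtCoh.pull i).map ((EtCoh.pullPushAdj j).unit.app G) =
        (EtCoh.pull i).map ((EtCoh.pullPushAdj j).unit.app F) ≫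
          (EtCoh.pull i).map ((EtCoh.push j).map φ.right) := φ.w
    have w : u₁ ≫ (EtCoh.push i).map ((EtCoh.pull i).map ((EtCoh.pullPushAdj j).unit.app G)) =
        u₂ ≫ (EtCoh.pullPushAdj i).unit.app ((EtCoh.push j).obj ((EtCoh.pull j).obj G)) := by
      simp only [u₁, u₂]
      rw [← Adjunction.homEquiv_naturality_right, hφ, ← Functor.map_comp,
        Adjunction.homEquiv_unit, Adjunction.homEquiv_unit]
      exact ((EtCoh.pullPushAdj i).unit.naturality _).symm
    obtain ⟨a, h₁, h₂⟩ := (isPullback_units hZU G).exists_lift u₁ u₂ w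
    refine ⟨a, CommaMorphism.ext ?_ ?_⟩
    · apply ((EtCoh.pullPushAdj i).homEquiv _ _).injective
      refine Eq.trans ?_ h₁
      rw [Adjunction.homEquiv_unit]
      exact ((EtCoh.pullPushAdj i).unit.naturality a).symm
    · apply ((EtCoh.pullPushAdj j).homEquiv _ _).injective
      refine Eq.trans ?_ h₂
      rw [Adjunction.homEquiv_unit]
      exact ((EtCoh.pullPushAdj j).unit.naturality a).symm
  · obtain ⟨G, H, φ⟩ := T
    let P := pullback ((EtCoh.push i).map φ)
      ((EtCoh.pullPushAdj i).unit.app ((EtCoh.push j).obj H))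
    let p₁ : P ⟶ (EtCoh.push i).obj G := pullback.fst _ _
    let p₂ : P ⟶ (EtCoh.push j).obj H := pullback.snd _ _
    have hp : p₁ ≫ (EtCoh.push i).map φ = p₂ ≫ _ := pullback.condition
    have : IsIso ((EtCoh.pull i).map p₁) :=
      ((IsPullback.of_hasPullback _ _).map (EtCoh.pull i)).isIso_fst_of_isIso
    have : IsIso ((EtCoh.pull j).map ((EtCoh.push i).map φ)) :=
      isIso_of_source_target_iso_zero _ (isZero_pull_push_compl hZU _).isoZero
        (isZero_pull_push_compl hZU _).isoZero
    have : IsIso ((EtCoh.pull j).map p₂) :=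
      ((IsPullback.of_hasPullback _ _).map (EtCoh.pull j)).isIso_snd_of_isIso
    refine ⟨P, ⟨Comma.isoMk (asIso ((EtCoh.pull i).map p₁ ≫ (EtCoh.pullPushAdj i).counit.app G))
      (asIso ((EtCoh.pull j).map p₂ ≫ (EtCoh.pullPushAdj j).counit.app H)) ?_⟩⟩
    change ((EtCoh.pull i).map p₁ ≫ (EtCoh.pullPushAdj i).counit.app G) ≫ φ =
      (EtCoh.pull i).map ((EtCoh.pullPushAdj j).unit.app P) ≫ (EtCoh.pull i).map
        ((EtCoh.push j).map ((EtCoh.pull j).map p₂ ≫ (EtCoh.pullPushAdj j).counit.app H))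
    have hu : (EtCoh.pullPushAdj j).unit.app P ≫
        (EtCoh.push j).map ((EtCoh.pull j).map p₂ ≫ (EtCoh.pullPushAdj j).counit.app H) = p₂ := by
      have hn : (EtCoh.pullPushAdj j).unit.app P ≫ (EtCoh.push j).map ((EtCoh.pull j).map p₂) =
          p₂ ≫ (EtCoh.pullPushAdj j).unit.app _ := ((EtCoh.pullPushAdj j).unit.naturality p₂).symm
      rw [Functor.map_comp, ← Category.assoc, hn, Category.assoc]
      erw [(EtCoh.pullPushAdj j).right_triangle_components]
      exact Category.comp_id _
    rw [← Functor.map_comp, hu, Category.assoc]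
    have hn : (EtCoh.pull i).map ((EtCoh.push i).map φ) ≫ (EtCoh.pullPushAdj i).counit.app _ =
        (EtCoh.pullPushAdj i).counit.app G ≫ φ := (EtCoh.pullPushAdj i).counit.naturality φ
    rw [← hn, ← Functor.map_comp_assoc, hp, Functor.map_comp, Category.assoc]
    erw [(EtCoh.pullPushAdj i).left_triangle_components]
    exact Category.comp_id _

/-- A sheaf without stalks on the open piece is a direct image from the closed piece. -/
theorem isIso_unit_of_isZero_pull (hZU : Set.range j = (Set.range i)ᶜ) {F : EtCoh.Ab X}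
    (hF : IsZero ((EtCoh.pull j).obj F)) : IsIso ((EtCoh.pullPushAdj i).unit.app F) :=
  have : IsIso ((EtCoh.pull j).map ((EtCoh.pullPushAdj i).unit.app F)) :=
    isIso_of_source_target_iso_zero _ hF.isoZero (isZero_pull_push_compl hZU _).isoZero
  isIso_of_pulls (jointlySurjective_of_compl hZU) _

theorem essImage_push_iff (F : EtCoh.Ab X) : (EtCoh.push i).essImage F ↔
    ∀ V : X.Etale, Disjoint (Set.range V.hom) (Set.range i) → IsZero (F.obj.obj (op V)) := by
  constructor
  · rintro ⟨G, ⟨e⟩⟩ V hV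
    exact IsZero.of_iso (isZero_push_sections i G V hV)
      ((((sheafToPresheaf _ _).mapIso e).app (op V)).symm)
  · intro h
    let O : X.Opens := ⟨(Set.range i)ᶜ, i.isClosedEmbedding.isClosed_range.isOpen_compl⟩
    have hO : Set.range O.ι = (Set.range i)ᶜ := Scheme.Opens.range_ι O
    have hz : IsZero ((EtCoh.pull O.ι).obj F) := by
      refine isZero_of_stalks fun y => IsZero.of_iso ?_ ((stalkPullIso O.ι (sepPoint _ y)).app _)
      refine isZero_stalk_of_isZero_sections _ F O ?_ fun V hV =>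
        h V (Set.subset_compl_iff_disjoint_right.mp hV)
      exact (sepPoint _ y default).2
    have := isIso_unit_of_isZero_pull hO hz
    exact ⟨_, ⟨(asIso ((EtCoh.pullPushAdj i).unit.app F)).symm⟩⟩

/-- Sections with support of an injective sheaf form an injective sheaf. -/
theorem injective_sectionsWithSupport (hZU : Set.range j = (Set.range i)ᶜ) (I : EtCoh.Ab X)
    [Injective I] :
    Injective ((EtCoh.pull i).obj (kernel ((EtCoh.pullPushAdj j).unit.app I))) := by
  let η : I ⟶ (EtCoh.push j).obj ((EtCoh.pull j).obj I) := (EtCoh.pullPushAdj j).unit.app I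
  have hK : IsZero ((EtCoh.pull j).obj (kernel η)) :=
    IsZero.of_iso (isZero_kernel_of_mono _) (PreservesKernel.iso _ η)
  have := isIso_unit_of_isZero_pull hZU hK
  let e := asIso ((EtCoh.pullPushAdj i).unit.app (kernel η))
  refine ⟨fun {A B} g m _ => ?_⟩
  have : Mono ((EtCoh.push i).map m) := inferInstance
  let k := (EtCoh.push i).map g ≫ e.inv ≫ kernel.ι η
  let l := Injective.factorThru k ((EtCoh.push i).map m)
  have hl : l ≫ η = 0 := by
    apply ((EtCoh.pullPushAdj j).homEquiv _ _).symm.injective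
    exact (isZero_pull_push_compl hZU B).eq_of_src _ _
  refine ⟨(pushFullyFaithful i).preimage (kernel.lift η l hl ≫ e.hom), ?_⟩
  apply (pushFullyFaithful i).map_injective
  rw [Functor.map_comp, (pushFullyFaithful i).map_preimage, ← Category.assoc, ← Iso.eq_comp_inv,
    ← cancel_mono (kernel.ι η), Category.assoc, kernel.lift_ι, Category.assoc]
  exact Injective.comp_factorThru k _

section JCont

variable [EtShriek.JCont j]

/-- The counit `j_! j^* ⟶ 𝟭` is invertible over `j`. -/
theorem isIso_pull_map_counit (F : EtCoh.Ab X) :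
    IsIso ((EtCoh.pull j).map ((EtShriek.extZeroAdj j).counit.app F)) := by
  have : IsIso (EtShriek.extZeroAdj j).unit :=
    (⟨EtShriek.extZeroAdj j, restrPushAdj j⟩ : Adjunction.Triple (EtShriek.extZero j)
      (EtShriek.restrAlong j) (EtCoh.push j)).isIso_unit_iff_isIso_counit.mpr
      (inferInstance : IsIso (restrPushAdj j).counit)
  rw [NatIso.isIso_map_iff (pullRestrIso j)]
  exact IsIso.of_isIso_fac_left ((EtShriek.extZeroAdj j).right_triangle_components F)

/-- `0 ⟶ j_! j^* F ⟶ F ⟶ i_* i^* F ⟶ 0`. -/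
theorem shortExact_recollement (hZU : Set.range j = (Set.range i)ᶜ) (F : EtCoh.Ab X) :
    ∃ w : (EtShriek.extZeroAdj j).counit.app F ≫ (EtCoh.pullPushAdj i).unit.app F = 0,
      (ShortComplex.mk _ _ w).ShortExact := by
  have hs := jointlySurjective_of_compl hZU
  let a := (EtShriek.extZeroAdj j).counit.app F
  let b := (EtCoh.pullPushAdj i).unit.app F
  have z₁ : IsZero ((EtCoh.pull i).obj ((EtShriek.extZero j).obj ((EtShriek.restrAlong j).obj F))) :=
    isZero_pull_extZero_compl hZU _
  have z₂ : IsZero ((EtCoh.pull j).obj ((EtCoh.push i).obj ((EtCoh.pull i).obj F))) :=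
    isZero_pull_push_compl hZU _
  have w : a ≫ b = 0 := eq_zero_of_pulls hs _ (z₁.eq_of_src _ _) (z₂.eq_of_tgt _ _)
  refine ⟨w, ?_⟩
  have := isIso_pull_map_counit (j := j) F
  have : IsIso ((EtCoh.pull i).map b) := isIso_pull_map_unit i F
  have : Mono ((EtCoh.pull i).map a) := ⟨fun _ _ _ => z₁.eq_of_tgt _ _⟩
  have : Epi ((EtCoh.pull j).map b) := ⟨fun _ _ _ => z₂.eq_of_src _ _⟩
  have ha : Mono a := mono_of_pulls hs a
  have hb : Epi b := epi_of_pulls hs b
  refine ⟨exact_of_pulls hs _ ?_ ?_⟩
  · exact (ShortComplex.exact_iff_mono _ (z₁.eq_of_src _ _)).mpr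
      (inferInstanceAs (Mono ((EtCoh.pull i).map b)))
  · exact (ShortComplex.exact_iff_epi _ (z₂.eq_of_tgt _ _)).mpr
      (inferInstanceAs (Epi ((EtCoh.pull j).map a)))

end JCont

/-- A sheaf vanishing outside `U` is extended by zero from `U`. -/
theorem nonempty_iso_extZero {U X : Scheme.{u}} (j : U ⟶ X) [IsOpenImmersion j] [EtShriek.JCont j]
    (F : EtCoh.Ab U) (G : EtCoh.Ab X) (e : (EtShriek.restrAlong j).obj G ≅ F)
    (hzero : ∀ x : X, x ∉ Set.range j → IsZero ((EtCoh.stalk (sepPoint X x)).obj G)) :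
    Nonempty (G ≅ (EtShriek.extZero j).obj F) := by
  let c := (EtShriek.extZeroAdj j).counit.app G
  have : IsIso c := by
    refine isIso_of_stalks c fun x => ?_
    by_cases hx : x ∈ Set.range j
    · obtain ⟨y, hy⟩ := hx
      obtain ⟨v, hv, -⟩ := Scheme.exists_fac_of_etale_of_isSepClosed j (sepPoint X x) y
        (hy.trans (sepPoint_default X x).symm)
      rw [← hv]
      have := isIso_pull_map_counit (j := j) G
      exact isIso_stalk_map_of_pull j v c
    · have z : IsZero ((EtCoh.stalk (sepPoint X x)).obj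
          ((EtShriek.extZero j).obj ((EtShriek.restrAlong j).obj G))) := by
        refine IsZero.of_iso ?_ (extZeroStalkIso j _ _)
        have : IsEmpty (PointLift j (sepPoint X x)) := ⟨fun v => hx ⟨v.1 default, by
          have := congrArg (fun t => t default) v.2
          exact this.trans (sepPoint_default X x)⟩⟩
        exact isZero_sigma_of_isEmpty _
      exact isIso_of_source_target_iso_zero _ z.isoZero (hzero x hx).isoZero
  exact ⟨(asIso c).symm ≪≫ (EtShriek.extZero j).mapIso e⟩

end Groth.Agent.Et18
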