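import Groth.Agent.Et18.IntegralLift
import Groth.Agent.Et18.Recollement
import Mathlib.FieldTheory.IsAlgClosed.AlgebraicClosure
import Mathlib.CategoryTheory.Adjunction.FullyFaithful
import Mathlib.Algebra.Homology.DerivedCategory.Ext.MapBijective

/-!
# Direct image along universally injective integral morphisms
-/

universe u

open CategoryTheory CategoryTheory.Limits AlgebraicGeometry Opposite

set_option backward.isDefEq.respectTransparency.types false
set_option backward.isDefEq.respectTransparency false

namespace Groth.Agent.Et18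

variable {X Y : Scheme.{u}}

/-- The algebraically closed geometric point over `x`. -/
noncomputable abbrev algPoint (X : Scheme.{u}) (x : X) :
    Spec (CommRingCat.of (AlgebraicClosure (X.residueField x))) ⟶ X :=
  (Scheme.SpecToEquivOfField (AlgebraicClosure (X.residueField x)) X).2
    ⟨x, CommRingCat.ofHom (algebraMap (X.residueField x) _)⟩

lemma algPoint_default (X : Scheme.{u}) (x : X) : algPoint X x default = x := by
  simp [algPoint, Scheme.SpecToEquivOfField]

theorem isIso_stalk_map_counit_of_integral (f : X ⟶ Y) [IsIntegralHom f] [UniversallyInjective f]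
    {Ω : Type u} [Field Ω] [IsAlgClosed Ω] (ξ : Spec (CommRingCat.of Ω) ⟶ X) (F : EtCoh.Ab X) :
    IsIso ((EtCoh.stalk ξ).map ((EtCoh.pullPushAdj f).counit.app F)) := by
  have hinj : ∀ V : Y.Etale,
      Function.Injective (pullback.fst V.hom f : ((EtCoh.bc f).obj V).left ⟶ V.left) := fun V =>
    haveI : UniversallyInjective (pullback.fst V.hom f) :=
      MorphismProperty.pullback_fst _ _ inferInstance
    Scheme.Hom.injective (pullback.fst V.hom f)
  refine isIso_sheafFiber_map_counit (Scheme.pointSmallEtale ξ) (EtCoh.bc f)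
    (EtCoh.coverPreserving_bc f) AddCommGrpCat.{u + 1} (fun W w => ?_) ?_ F
  · obtain ⟨V, -, x, h, -, hx⟩ := exists_bc_lift_of_integral ξ (EtCoh.top Y) (hinj _) W
      ((EtCore.bcTopIsTerminal f).from W) w
    exact ⟨V, x, h, hx⟩
  · intro V W g w
    obtain ⟨V', a, x, h, hg, hx⟩ := exists_bc_lift_of_integral ξ V (hinj V) W g w
    refine ⟨V', a, x, h, hg, ?_⟩
    rw [← hg, Functor.map_comp, ConcreteCategory.comp_apply, hx]

/-- The counit along a universally injective integral morphism is invertible. -/
theorem isIso_counit_of_integral (f : X ⟶ Y) [IsIntegralHom f] [UniversallyInjective f] :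
    IsIso (EtCoh.pullPushAdj f).counit := by
  have : ∀ F, IsIso ((EtCoh.pullPushAdj f).counit.app F) := fun F =>
    isIso_of_stalks_family (ι := ULift.{u + 1} X) (fun x => algPoint X x.down)
      (fun x => ⟨⟨x⟩, algPoint_default X x⟩) _
      fun x => isIso_stalk_map_counit_of_integral f _ F
  exact NatIso.isIso_of_isIso_app _

/-- The unit is invertible after pulling back, if the counit is invertible. -/
lemma isIso_pull_map_unit_of_counit (f : X ⟶ Y) [IsIso (EtCoh.pullPushAdj f).counit]
    (G : EtCoh.Ab Y) : IsIso ((EtCoh.pull f).map ((EtCoh.pullPushAdj f).unit.app G)) :=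
  have : IsIso ((EtCoh.pull f).map ((EtCoh.pullPushAdj f).unit.app G) ≫
      (EtCoh.pullPushAdj f).counit.app ((EtCoh.pull f).obj G)) := by
    erw [(EtCoh.pullPushAdj f).left_triangle_components]
    exact IsIso.id _
  IsIso.of_isIso_comp_right _ ((EtCoh.pullPushAdj f).counit.app _)

lemma isClosed_range_of_integral (f : X ⟶ Y) [IsIntegralHom f] : IsClosed (Set.range f) :=
  f.isClosedMap.isClosed_range

/-- A sheaf supported in the image is a direct image. -/
theorem essImage_push_of_supp_subset (f : X ⟶ Y) [IsIntegralHom f] [UniversallyInjective f]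
    (G : EtCoh.Ab Y)
    (hG : ∀ y : Y, y ∉ Set.range f → IsZero ((EtCoh.stalk (sepPoint Y y)).obj G)) :
    (EtCoh.push f).essImage G := by
  classical
  let U : Y.Opens := ⟨(Set.range f)ᶜ, (isClosed_range_of_integral f).isOpen_compl⟩
  have := isIso_counit_of_integral f
  have : IsIso ((EtCoh.pullPushAdj f).unit.app G) := by
    let p : ULift.{u + 1} Y → GeomPt Y := fun y =>
      if h : y.down ∈ Set.range f then ⟨_, algPoint X h.choose ≫ f⟩ else ⟨_, sepPoint Y y.down⟩
    have key : ∀ y, (p y).pt default = y.down ∧
        IsIso ((EtCoh.stalk (p y).pt).map ((EtCoh.pullPushAdj f).unit.app G)) := by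
      rintro ⟨y⟩
      let Q : GeomPt Y → Prop := fun q => q.pt default = y ∧
        IsIso ((EtCoh.stalk q.pt).map ((EtCoh.pullPushAdj f).unit.app G))
      change Q (p ⟨y⟩)
      simp only [p]
      split_ifs with h
      · have := isIso_pull_map_unit_of_counit f G
        exact ⟨(congrArg f (algPoint_default X h.choose)).trans h.choose_spec,
          isIso_stalk_map_of_pull f (algPoint X h.choose) _⟩
      · refine ⟨sepPoint_default Y y, isIso_of_source_target_iso_zero _ (hG y h).isoZero ?_⟩
        refine (isZero_stalk_push_of_disjoint f _ (sepPoint Y y) U ?_ disjoint_compl_left).isoZero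
        rw [sepPoint_default]
        exact h
    exact isIso_of_stalks_family (ι := ULift.{u + 1} Y) (Ω := fun y => (p y).Ω)
      (fun y => (p y).pt) (fun y => ⟨⟨y⟩, (key ⟨y⟩).1⟩) _ fun y => (key y).2
  exact ⟨_, ⟨(asIso ((EtCoh.pullPushAdj f).unit.app G)).symm⟩⟩

/-- Inverse image along a universal homeomorphism is an equivalence. -/
theorem pull_isEquivalence_of_universalHomeomorph (f : X ⟶ Y) [IsIntegralHom f]
    [UniversallyInjective f] [Surjective f] : (EtCoh.pull f).IsEquivalence := by
  have := isIso_counit_of_integral f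
  have hR := (EtCoh.pullPushAdj f).fullyFaithfulROfIsIsoCounit
  have := hR.full
  have := hR.faithful
  have : ∀ G, IsIso ((EtCoh.pullPushAdj f).unit.app G) := fun G =>
    ((EtCoh.pullPushAdj f).isIso_unit_app_iff_mem_essImage).mpr
      (essImage_push_of_supp_subset f G fun y hy => absurd (f.surjective y) hy)
  have : IsIso (EtCoh.pullPushAdj f).unit := NatIso.isIso_of_isIso_app _
  exact (EtCoh.pullPushAdj f).toEquivalence.isEquivalence_functor

end Groth.Agent.Et18
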