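import Groth.Agent.FlatCrit.Inj
import Groth.Agent.FlatMorThick.Affine
import Groth.Agent.Et18.Descent
import Mathlib.AlgebraicGeometry.Morphisms.Flat

/-!
# Morphisms of flat schemes over an Artinian base which are isomorphisms on the closed fibre
-/

set_option autoImplicit false
set_option linter.style.haveILetI false
universe u

open AlgebraicGeometry CategoryTheory Limits IsLocalRing TensorProduct

namespace Groth.Agent.Et18.DefIso

/-- The kernel of restriction to a closed fibre of a flat affine scheme. -/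
theorem ker_appTop {A k : Type u} [CommRing A] [CommRing k] (e : A →+* k) (he : Function.Surjective e)
    {X W : Scheme.{u}} [IsAffine W] (f : W ⟶ Spec (CommRingCat.of A)) [Flat f] {i : X ⟶ W}
    {x : X ⟶ Spec (CommRingCat.of k)} (hsq : IsPullback i x f (Spec.map (CommRingCat.ofHom e))) :
    RingHom.ker i.appTop.hom ≤
      (RingHom.ker e).map (((Scheme.ΓSpecIso (CommRingCat.of A)).inv ≫ f.appTop).hom) := by
  let γA := (Scheme.ΓSpecIso (CommRingCat.of A)).inv
  have hpo := Et18.isPushout_appTop_of_flat hsq.flip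
  let M := (RingHom.ker e).map (γA ≫ f.appTop).hom
  let qM : Γ(W, ⊤) ⟶ CommRingCat.of (Γ(W, ⊤) ⧸ M) := CommRingCat.ofHom (Ideal.Quotient.mk M)
  let ρ : k →+* Γ(W, ⊤) ⧸ M := e.liftOfSurjective he
    ⟨(Ideal.Quotient.mk M).comp (γA ≫ f.appTop).hom, fun a ha => by
      rw [RingHom.mem_ker, RingHom.comp_apply, Ideal.Quotient.eq_zero_iff_mem]
      exact Ideal.mem_map_of_mem _ ha⟩
  have hc : (Spec.map (CommRingCat.ofHom e)).appTop ≫
      ((Scheme.ΓSpecIso (CommRingCat.of k)).hom ≫ CommRingCat.ofHom ρ) = f.appTop ≫ qM := by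
    rw [Scheme.ΓSpecIso_naturality_assoc, ← cancel_epi γA, Iso.inv_hom_id_assoc]
    refine CommRingCat.hom_ext (RingHom.ext fun a => ?_)
    simp [ρ, qM, γA, RingHom.liftOfSurjective_comp_apply]
  intro b hb
  have h1 := congrArg (fun φ => CommRingCat.Hom.hom φ b) (hpo.inr_desc _ _ hc)
  have h2 : qM b = 0 := by
    refine h1.symm.trans ?_
    show hpo.desc _ _ hc (i.appTop b) = 0
    rw [show i.appTop b = 0 from hb, map_zero]
  exact Ideal.Quotient.eq_zero_iff_mem.1 h2

variable {A k : Type u} [CommRing A] [IsLocalRing A] [IsArtinianRing A] [Field k] (e : A →+* k)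
  (he : Function.Surjective e)

theorem surjective_specMap : Surjective (Spec.map (CommRingCat.ofHom e)) := by
  refine ⟨fun p => ⟨IsLocalRing.closedPoint k, ?_⟩⟩
  exact Subsingleton.elim (α := PrimeSpectrum A) _ _

include he in
/-- A morphism of flat `A`-schemes inducing the identity on the closed fibre is an isomorphism. -/
theorem isIso_of_closedFibre {X W W' : Scheme.{u}} {x : X ⟶ Spec (CommRingCat.of k)}
    (f : W ⟶ Spec (CommRingCat.of A)) (f' : W' ⟶ Spec (CommRingCat.of A)) [Flat f] [Flat f']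
    {i : X ⟶ W} {i' : X ⟶ W'} (hsq : IsPullback i x f (Spec.map (CommRingCat.ofHom e)))
    (hsq' : IsPullback i' x f' (Spec.map (CommRingCat.ofHom e))) (φ : W' ⟶ W) (hφ : φ ≫ f = f')
    (hi : i' ≫ φ = i) : IsIso φ := by
  have hse : IsClosedImmersion (Spec.map (CommRingCat.ofHom e)) :=
    IsClosedImmersion.spec_of_surjective _ he
  haveI := surjective_specMap e
  haveI : IsClosedImmersion i := MorphismProperty.of_isPullback hsq.flip hse
  haveI : Surjective i := MorphismProperty.of_isPullback hsq.flip inferInstance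
  haveI : IsClosedImmersion i' := MorphismProperty.of_isPullback hsq'.flip hse
  haveI : Surjective i' := MorphismProperty.of_isPullback hsq'.flip inferInstance
  rw [← MorphismProperty.isomorphisms.iff,
    IsZariskiLocalAtTarget.iff_of_iSup_eq_top (P := MorphismProperty.isomorphisms Scheme.{u})
      (fun U : W.affineOpens => (U : W.Opens)) (iSup_affineOpens_eq_top W)]
  intro U
  rw [MorphismProperty.isomorphisms.iff]
  have hsqU : IsPullback (i ∣_ U) ((i ⁻¹ᵁ (U : W.Opens)).ι ≫ x) (U.1.ι ≫ f)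
      (Spec.map (CommRingCat.ofHom e)) :=
    (isPullback_morphismRestrict i U.1).paste_vert hsq
  have hpre : i' ⁻¹ᵁ (φ ⁻¹ᵁ (U : W.Opens)) = i ⁻¹ᵁ (U : W.Opens) := by
    rw [← Scheme.Hom.comp_preimage, hi]
  let j : (i ⁻¹ᵁ (U : W.Opens)).toScheme ⟶ (φ ⁻¹ᵁ (U : W.Opens)).toScheme :=
    (X.isoOfEq hpre).inv ≫ (i' ∣_ (φ ⁻¹ᵁ (U : W.Opens)))
  have hj : j ≫ (φ ∣_ U.1) = i ∣_ U.1 := by
    rw [← cancel_mono U.1.ι]
    simp [j, morphismRestrict_ι, hi]
  have hjsq : IsPullback j ((i ⁻¹ᵁ (U : W.Opens)).ι ≫ x) ((φ ⁻¹ᵁ (U : W.Opens)).ι ≫ f')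
      (Spec.map (CommRingCat.ofHom e)) := by
    refine ((isPullback_morphismRestrict i' (φ ⁻¹ᵁ (U : W.Opens))).paste_vert hsq').of_iso
      (X.isoOfEq hpre) (Iso.refl _) (Iso.refl _) (Iso.refl _) ?_ ?_ (by simp) (by simp)
    · simp [j]
    · simp
  haveI : IsAffine U.1.toScheme := U.2
  haveI : IsAffine (i ⁻¹ᵁ (U : W.Opens)).toScheme := U.2.preimage i
  haveI : IsClosedImmersion j := MorphismProperty.of_isPullback hjsq.flip hse
  haveI : Surjective j := MorphismProperty.of_isPullback hjsq.flip inferInstance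
  haveI : IsAffine (φ ⁻¹ᵁ (U : W.Opens)).toScheme :=
    Groth.Agent.VarietyLib.isAffine_of_surjective_closedImmersion j j.surjective
  haveI : Flat (U.1.ι ≫ f) := inferInstance
  haveI : Flat ((φ ⁻¹ᵁ (U : W.Opens)).ι ≫ f') := inferInstance
  -- affine case
  suffices IsIso (φ ∣_ U.1).appTop by
    have h := Scheme.toSpecΓ_naturality (φ ∣_ U.1)
    haveI : IsIso ((φ ∣_ U.1) ≫ U.1.toScheme.toSpecΓ) := by rw [h]; infer_instance
    exact IsIso.of_isIso_comp_right _ U.1.toScheme.toSpecΓ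
  set ψ := (φ ∣_ U.1) with hψ
  set g := U.1.ι ≫ f with hg
  set g' := (φ ⁻¹ᵁ (U : W.Opens)).ι ≫ f' with hg'
  have hψg : ψ ≫ g = g' := by
    rw [hψ, hg, hg', ← Category.assoc, morphismRestrict_ι, Category.assoc, hφ]
  let γA := (Scheme.ΓSpecIso (CommRingCat.of A)).inv
  letI : Algebra A Γ(U.1.toScheme, ⊤) := (γA ≫ g.appTop).hom.toAlgebra
  letI : Algebra A Γ((φ ⁻¹ᵁ (U : W.Opens)).toScheme, ⊤) := (γA ≫ g'.appTop).hom.toAlgebra
  haveI : Module.Flat A Γ((φ ⁻¹ᵁ (U : W.Opens)).toScheme, ⊤) := by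
    have h1 := Flat.flat_appLE g' (isAffineOpen_top _)
      (isAffineOpen_top (φ ⁻¹ᵁ (U : W.Opens)).toScheme) (V := ⊤) (U := ⊤) le_top
    have h2 : g'.appLE ⊤ ⊤ le_top = g'.appTop := g'.appLE_eq_app
    rw [h2] at h1
    exact (RingHom.flat_algebraMap_iff (R := A)).1
      ((RingHom.Flat.of_bijective (ConcreteCategory.bijective_of_isIso γA)).comp h1)
  let u : Γ(U.1.toScheme, ⊤) →ₐ[A] Γ((φ ⁻¹ᵁ (U : W.Opens)).toScheme, ⊤) :=
    { ψ.appTop.hom with
      commutes' := fun a => by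
        show (γA ≫ g.appTop ≫ ψ.appTop).hom a = (γA ≫ g'.appTop).hom a
        rw [← Scheme.Hom.comp_appTop, hψg] }
  have hker : RingHom.ker e = maximalIdeal A :=
    IsLocalRing.eq_maximalIdeal (RingHom.ker_isMaximal_of_surjective e he)
  have hm : IsNilpotent (maximalIdeal A) := by
    rw [← IsLocalRing.jacobson_eq_maximalIdeal ⊥ bot_ne_top]
    exact IsArtinianRing.isNilpotent_jacobson_bot (R := A)
  have hju : ∀ r, j.appTop (u r) = (i ∣_ U.1).appTop r := fun r => by
    show (ψ.appTop ≫ j.appTop).hom r = _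
    rw [← Scheme.Hom.comp_appTop, hj]
  have hmem : ∀ r, (i ∣_ U.1).appTop r = 0 → r ∈ maximalIdeal A • (⊤ : Submodule A Γ(U.1.toScheme, ⊤)) := by
    intro r hr
    rw [Ideal.smul_top_eq_map, ← hker]
    exact ker_appTop e he g hsqU hr
  have hmem' : ∀ r, j.appTop r = 0 →
      r ∈ maximalIdeal A • (⊤ : Submodule A Γ((φ ⁻¹ᵁ (U : W.Opens)).toScheme, ⊤)) := by
    intro r hr
    rw [Ideal.smul_top_eq_map, ← hker]
    exact ker_appTop e he g' hjsq hr
  have hvan : ∀ r ∈ maximalIdeal A • (⊤ : Submodule A Γ((φ ⁻¹ᵁ (U : W.Opens)).toScheme, ⊤)),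
      j.appTop r = 0 := by
    intro r hr
    refine Submodule.smul_induction_on hr (fun a ha z _ => ?_) fun a b ha hb => by rw [map_add, ha, hb, add_zero]
    · rw [Algebra.smul_def]
      have : j.appTop.hom (algebraMap A Γ((φ ⁻¹ᵁ (U : W.Opens)).toScheme, ⊤) a) = 0 := by
        show (γA ≫ g'.appTop ≫ j.appTop).hom a = 0
        rw [← Scheme.Hom.comp_appTop, hjsq.w, Scheme.Hom.comp_appTop,
          show γA ≫ (Spec.map (CommRingCat.ofHom e)).appTop ≫ ((i ⁻¹ᵁ (U : W.Opens)).ι ≫ x).appTop = _ from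
            (Scheme.ΓSpecIso_inv_naturality_assoc (CommRingCat.ofHom e) _).symm]
        show ((i ⁻¹ᵁ (U : W.Opens)).ι ≫ x).appTop ((Scheme.ΓSpecIso (CommRingCat.of k)).inv (e a)) = 0
        rw [show e a = 0 from (hker ▸ ha : a ∈ RingHom.ker e), map_zero, map_zero]
      rw [map_mul, this, zero_mul]
  have hinj : Function.Injective (u.toLinearMap.lTensor (ResidueField A)) := by
    rw [injective_iff_map_eq_zero]
    intro z hz
    obtain ⟨r, rfl⟩ := TensorProduct.mk_surjective A _ (ResidueField A) Ideal.Quotient.mk_surjective z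
    rw [TensorProduct.mk_apply, LinearMap.lTensor_tmul] at hz
    have h1 : u r ∈ LinearMap.ker (TensorProduct.mk A (A ⧸ maximalIdeal A) _ 1) := hz
    rw [LinearMap.ker_tensorProductMk] at h1
    have h2 : r ∈ LinearMap.ker (TensorProduct.mk A (A ⧸ maximalIdeal A) Γ(U.1.toScheme, ⊤) 1) := by
      rw [LinearMap.ker_tensorProductMk]
      exact hmem r ((hju r).symm.trans (hvan _ h1))
    exact h2
  have hbij : Function.Bijective u := by
    obtain ⟨N, hN⟩ := hm
    refine ⟨(injective_iff_map_eq_zero u).2 fun r hr => ?_, ?_⟩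
    · have := FlatCrit.mem_smul_of_map_mem_pow u.toLinearMap hinj ⊥ r
        (by rw [Submodule.bot_smul]; exact (Submodule.mem_bot _).2 hr) N
      simp only [hN, Ideal.zero_eq_bot, Submodule.bot_smul, sup_idem] at this
      exact (Submodule.mem_bot _).1 this
    · have h : LinearMap.range u.toLinearMap ⊔ maximalIdeal A • ⊤ = ⊤ := by
        rw [eq_top_iff]
        intro b _
        obtain ⟨r, hr⟩ := (i ∣_ U.1).app_surjective ⊤ (isAffineOpen_top _) (j.appTop b)
        refine Submodule.mem_sup.2 ⟨u r, ⟨r, rfl⟩, b - u r, hmem' _ ?_, add_sub_cancel _ _⟩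
        rw [map_sub, sub_eq_zero, hju]
        exact hr.symm
      exact LinearMap.range_eq_top.1 (FlatCrit.submodule_eq_top_of_nilpotent ⟨N, hN⟩ _ h)
  exact (ConcreteCategory.isIso_iff_bijective _).2 hbij

end Groth.Agent.Et18.DefIso
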