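import Groth.Agent.FlatMorPush.Functorial
import Groth.Agent.FlatMorPush.RingProps
import Groth.Agent.FlatMorPush.Instances
import Mathlib.AlgebraicGeometry.Morphisms.Flat
import Mathlib.AlgebraicGeometry.Morphisms.Integral

/-!
# Gluing flat schemes over a fibre product of rings along a thickening
-/

set_option autoImplicit false
set_option backward.isDefEq.respectTransparency.types false
set_option linter.unusedSectionVars false
universe u

open AlgebraicGeometry CategoryTheory Limits
open Groth.Agent.KerEval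

namespace Groth.Agent.Et18.FlatGlue

open Groth.Agent.FlatMorPush

/-- Let `C = A ×_D B` with `B → D` surjective, inducing a surjection on spectra, and `A → D` integral.
Flat schemes over `A` and `B` with the same restriction to `D` glue to a flat scheme over `C`. -/
theorem exists_flat_gluing {C A B D : Type u} [CommRing C] [CommRing A] [CommRing B] [CommRing D]
    (S : Sq C A B D) (hq : S.q.IsIntegral) (hp : Function.Surjective (sp S.p))
    {X Y Z : Scheme.{u}} (sX : X ⟶ Spec (CommRingCat.of B)) (sY : Y ⟶ Spec (CommRingCat.of A))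
    (sZ : Z ⟶ Spec (CommRingCat.of D)) [Flat sX] [Flat sY] (i : Z ⟶ X) (j : Z ⟶ Y)
    (hX : IsPullback sZ i (sp S.p) sX) (hY : IsPullback sZ j (sp S.q) sY) :
    ∃ (W : Scheme.{u}) (sW : W ⟶ Spec (CommRingCat.of C)) (a : X ⟶ W) (b : Y ⟶ W), Flat sW ∧
      IsPullback a sX sW (sp S.g) ∧ IsPullback b sY sW (sp S.f) ∧ IsPushout i j a b := by
  have : IsClosedImmersion (sp S.p) := IsClosedImmersion.spec_of_surjective _ S.surj
  have : IsIntegralHom (sp S.q) := (IsIntegralHom.SpecMap_iff).2 hq
  have : IsClosedImmersion i := MorphismProperty.of_isPullback (P := @IsClosedImmersion) hX ‹_›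
  have : IsIntegralHom j := MorphismProperty.of_isPullback (P := @IsIntegralHom) hY ‹_›
  have hi : Function.Surjective i := by
    have : Surjective (sp S.p) := ⟨hp⟩
    exact (MorphismProperty.of_isPullback (P := @Surjective) hX ‹_›).surj
  have : HasPairs i j := hasPairs_of_thickening i j hi
  have : HasPairs (sp S.p) (sp S.q) := hasPairs_of_thickening _ _ hp
  -- the base pushout is `Spec C`
  have hsq : sp S.q ≫ sp S.f = sp S.p ≫ sp S.g := by
    rw [← sp_comp, ← sp_comp, show S.q.comp S.f = S.p.comp S.g from RingHom.ext S.comm]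
  obtain ⟨θ, hθX, hθY⟩ := exists_desc (i := sp S.p) (j := sp S.q) (sp S.g) (sp S.f) hsq.symm
  obtain ⟨η, hηY, hηX⟩ := S.exists_hom (inr (sp S.p) (sp S.q)) (inl (sp S.p) (sp S.q))
    (condition (sp S.p) (sp S.q)).symm
  have : IsIso θ := ⟨η, hom_ext (by rw [reassoc_of% hθX, hηX, Category.comp_id])
    (by rw [reassoc_of% hθY, hηY, Category.comp_id]),
    S.hom_ext _ _ (by rw [reassoc_of% hηY, hθY, Category.comp_id])
      (by rw [reassoc_of% hηX, hθX, Category.comp_id])⟩
  let k₀ : Pair (sp S.p) (sp S.q) :=
    ⟨⊤, ⊤, isAffineOpen_top _, isAffineOpen_top _, rfl⟩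
  have ho : ∀ k : Pair i j, Over' sX sY k k₀ := fun k => ⟨le_top, le_top⟩
  let π : Po i j ⟶ Po (sp S.p) (sp S.q) := poMap hX hY
  refine ⟨Po i j, π ≫ θ, inl i j, inr i j, ?_, ?_, ?_, isPushout i j⟩
  · suffices Flat π by infer_instance
    rw [IsZariskiLocalAtSource.iff_of_openCover (P := @Flat) (chartCover i j)]
    intro k
    change Flat (ι k ≫ poMap hX hY)
    rw [ι_poMap hX hY (ho k)]
    have : Flat (sp (mC hX hY (ho k))) := (HasRingHomProperty.Spec_iff (P := @Flat)).mpr
      (flat_map k₀.sq k.sq (f_mC hX hY (ho k)) (g_mC hX hY (ho k)) (isPushout_mA hY (ho k))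
        (isPushout_mB hX hY (ho k))
        (HasRingHomProperty.appLE @Flat sY inferInstance ⟨k₀.V, k₀.hV⟩ ⟨_, k.hV⟩ (ho k).2)
        (HasRingHomProperty.appLE @Flat sX inferInstance ⟨k₀.U, k₀.hU⟩ ⟨_, k.hU⟩ (ho k).1))
    infer_instance
  · suffices IsPullback sX (inl i j) (inl (sp S.p) (sp S.q)) π from
      this.flip.of_iso (Iso.refl _) (Iso.refl _) (Iso.refl _) (asIso θ) (by simp) (by simp) (by simp)
        (by simp [hθX])
    refine (Scheme.isPullback_of_openCover (inl i j) sX π (inl (sp S.p) (sp S.q)) (chartCover i j)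
      fun k => ?_).flip
    have h := (isPullback_chart_g hX hY (ho k)).paste_vert (isPullback_inl k₀)
    rw [← ι_poMap hX hY (ho k), mB_fromSpec] at h
    refine h.of_iso ((isPullback_inl k).flip.isoPullback) (Iso.refl _) (Iso.refl _) (Iso.refl _)
      ?_ ?_ (by simp; rfl) (by simp [π])
    · exact (Category.comp_id _).trans (isPullback_inl k).flip.isoPullback_hom_snd.symm
    · exact (Category.comp_id _).trans ((congrArg (· ≫ sX)
        (isPullback_inl k).flip.isoPullback_hom_fst.symm).trans (Category.assoc _ _ _))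
  · suffices IsPullback sY (inr i j) (inr (sp S.p) (sp S.q)) π from
      this.flip.of_iso (Iso.refl _) (Iso.refl _) (Iso.refl _) (asIso θ) (by simp) (by simp) (by simp)
        (by simp [hθY])
    refine (Scheme.isPullback_of_openCover (inr i j) sY π (inr (sp S.p) (sp S.q)) (chartCover i j)
      fun k => ?_).flip
    have h := (isPullback_chart_f hX hY (ho k)).paste_vert (isPullback_inr k₀)
    rw [← ι_poMap hX hY (ho k), mA_fromSpec] at h
    refine h.of_iso ((isPullback_inr k).flip.isoPullback) (Iso.refl _) (Iso.refl _) (Iso.refl _)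
      ?_ ?_ (by simp; rfl) (by simp [π])
    · exact (Category.comp_id _).trans (isPullback_inr k).flip.isoPullback_hom_snd.symm
    · exact (Category.comp_id _).trans ((congrArg (· ≫ sY)
        (isPullback_inr k).flip.isoPullback_hom_fst.symm).trans (Category.assoc _ _ _))

end Groth.Agent.Et18.FlatGlue
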