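import Groth.Prelude.Def_ArtFun4
import Groth.Agent.Et18.FlatGlue
import Groth.Agent.Et18.DefIso
import Groth.Agent.ArtFunLib.Functor

/-!
# Gluing deformations of a scheme over fibre products of Artinian rings
-/

set_option autoImplicit false
set_option backward.isDefEq.respectTransparency.types false
set_option linter.style.haveILetI false
universe u

open AlgebraicGeometry CategoryTheory Limits ArtFun ArtFun.Art

namespace Groth.Agent.Et18.DefGlue

variable {Λ k : Type u} [CommRing Λ] [Field k] [Algebra Λ k] {X : Scheme.{u}} {x : X ⟶ specPt k}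
variable {A B C : Art Λ k}

/-- A morphism of deformations over a morphism of the base. -/
structure Mor (g : B ⟶ A) (η : DefSch X x A) (ξ : DefSch X x B) where
  /-- the map of total spaces -/
  hom : η.total ⟶ ξ.total
  w : hom ≫ ξ.f = η.f ≫ specMap g
  i_hom : η.i ≫ hom = ξ.i

/-- The morphism of a base change. -/
noncomputable def Mor.fst (ξ : DefSch X x B) (g : B ⟶ A) : Mor g (ξ.baseChange g) ξ where
  hom := pullback.fst ξ.f (specMap g)
  w := pullback.condition
  i_hom := DefSch.baseChange_i_fst ξ g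

/-- Composite morphisms. -/
def Mor.comp {g : B ⟶ A} {g' : C ⟶ B} {η : DefSch X x A} {ξ : DefSch X x B} {ζ : DefSch X x C}
    (m : Mor g η ξ) (n : Mor g' ξ ζ) : Mor (g' ≫ g) η ζ where
  hom := m.hom ≫ n.hom
  w := by rw [Category.assoc, n.w, ← Category.assoc, m.w, Category.assoc, specMap_comp]
  i_hom := by rw [← Category.assoc, m.i_hom, n.i_hom]

/-- A morphism of deformations over a fixed base is an isomorphism. -/
theorem isIso_of_over {η ξ : DefSch X x A} (φ : η.total ⟶ ξ.total) (hf : φ ≫ ξ.f = η.f)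
    (hi : η.i ≫ φ = ξ.i) : IsIso φ :=
  haveI := ξ.flat
  haveI := η.flat
  DefIso.isIso_of_closedFibre (A.res : (A : Type u) →+* k) A.res_surjective ξ.f η.f ξ.isPullback
    η.isPullback φ hf hi

/-- A morphism over the identity gives an isomorphism of deformations. -/
noncomputable def isoOfHom {η ξ : DefSch X x A} (φ : η.total ⟶ ξ.total) (hf : φ ≫ ξ.f = η.f)
    (hi : η.i ≫ φ = ξ.i) : η.Iso ξ :=
  haveI := isIso_of_over φ hf hi
  ⟨asIso φ, hf, hi⟩

/-- Composition of a morphism with an isomorphism at the source. -/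
def Mor.isoComp {g : B ⟶ A} {η η' : DefSch X x A} {ξ : DefSch X x B} (e : η'.Iso η) (m : Mor g η ξ) :
    Mor g η' ξ where
  hom := e.iso.hom ≫ m.hom
  w := by rw [Category.assoc, m.w, ← Category.assoc, e.hom_f]
  i_hom := by rw [← Category.assoc, e.i_hom, m.i_hom]

/-- Composition of a morphism with an isomorphism at the target. -/
def Mor.compIso {g : B ⟶ A} {η : DefSch X x A} {ξ ξ' : DefSch X x B} (m : Mor g η ξ) (e : ξ.Iso ξ') :
    Mor g η ξ' where
  hom := m.hom ≫ e.iso.hom
  w := by rw [Category.assoc, e.hom_f, m.w]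
  i_hom := by rw [← Category.assoc, m.i_hom, e.i_hom]

/-- The map to the base change. -/
noncomputable def Mor.toBaseChange {g : B ⟶ A} {η : DefSch X x A} {ξ : DefSch X x B} (m : Mor g η ξ) :
    η.Iso (ξ.baseChange g) :=
  isoOfHom (pullback.lift m.hom η.f m.w) (pullback.lift_snd _ _ _) (by
    apply pullback.hom_ext
    · rw [Category.assoc, pullback.lift_fst, m.i_hom, DefSch.baseChange_i_fst]
    · rw [Category.assoc, pullback.lift_snd, DefSch.baseChange_i_f, DefSch.i_f])

theorem Mor.toBaseChange_fst {g : B ⟶ A} {η : DefSch X x A} {ξ : DefSch X x B} (m : Mor g η ξ) :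
    m.toBaseChange.iso.hom ≫ pullback.fst ξ.f (specMap g) = m.hom :=
  pullback.lift_fst _ _ _

/-- Morphisms of deformations are cartesian. -/
theorem Mor.isPullback {g : B ⟶ A} {η : DefSch X x A} {ξ : DefSch X x B} (m : Mor g η ξ) :
    IsPullback m.hom η.f ξ.f (specMap g) :=
  (IsPullback.of_hasPullback ξ.f (specMap g)).of_iso m.toBaseChange.iso.symm (Iso.refl _) (Iso.refl _)
    (Iso.refl _) (by simp [← m.toBaseChange_fst])
    (by simp [← m.toBaseChange.hom_f])
    (by simp) (by simp)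

/-- Morphisms with the same source and target lift along the target. -/
theorem Mor.exists_iso {g : B ⟶ A} {η η' : DefSch X x A} {ξ : DefSch X x B} (m : Mor g η ξ)
    (m' : Mor g η' ξ) : ∃ e : η.Iso η', e.iso.hom ≫ m'.hom = m.hom := by
  refine ⟨m.toBaseChange.trans m'.toBaseChange.symm, ?_⟩
  show (m.toBaseChange.iso.hom ≫ m'.toBaseChange.iso.inv) ≫ m'.hom = m.hom
  rw [Category.assoc, ← m'.toBaseChange_fst, Iso.inv_hom_id_assoc, m.toBaseChange_fst]

section Glue

variable {A' A'' : Art Λ k} {p' : B ⟶ A'} {p'' : B ⟶ A''} {f' : A' ⟶ A} {f'' : A'' ⟶ A}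
  (h : IsFibreProd p' p'' f' f'') (hf : Function.Surjective f'')

include h hf in
/-- **Gluing**: compatible deformations over `A'` and `A''` glue to one over `A' ×_A A''`, which is
initial among the deformations over it. -/
theorem exists_glue {η : DefSch X x A} {ξ' : DefSch X x A'} {ξ'' : DefSch X x A''} (m' : Mor f' η ξ')
    (m'' : Mor f'' η ξ'') :
    ∃ (W : DefSch X x B) (n' : Mor p' ξ' W) (n'' : Mor p'' ξ'' W), m'.hom ≫ n'.hom = m''.hom ≫ n''.hom ∧
      ∀ (ζ : DefSch X x B) (o' : Mor p' ξ' ζ) (o'' : Mor p'' ξ'' ζ),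
        m'.hom ≫ o'.hom = m''.hom ≫ o''.hom →
          ∃ e : W.Iso ζ, n'.hom ≫ e.iso.hom = o'.hom ∧ n''.hom ≫ e.iso.hom = o''.hom := by
  let S : KerEval.Sq (B : Type u) A' A'' A :=
    { f := p'.toAlgHom.toRingHom, g := p''.toAlgHom.toRingHom, q := f'.toAlgHom.toRingHom
      p := f''.toAlgHom.toRingHom, surj := hf, comm := h.w_apply
      exist := h.surj, ext := h.inj }
  have hq : S.q.IsIntegral := fun a => by
    obtain ⟨b, hb⟩ := A'.res_surjective (A.res a)
    have hnil : IsNilpotent (a - f' b) := by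
      obtain ⟨N, hN⟩ := ArtFunLib.maximalIdeal_nilpotent A
      have : a - f' b ∈ IsLocalRing.maximalIdeal (A : Type u) := by
        rw [mem_maximalIdeal_iff, map_sub, Art.res_app, hb, sub_self]
      refine ⟨N, ?_⟩
      simpa [hN] using Ideal.pow_mem_pow this N
    letI := S.q.toAlgebra
    have h1 : IsIntegral (A' : Type u) (a - f' b) := by
      obtain ⟨N, hN⟩ := hnil
      exact ⟨Polynomial.X ^ N, Polynomial.monic_X_pow N, by simp [hN]⟩
    show IsIntegral (A' : Type u) a
    have h2 := h1.add (isIntegral_algebraMap (R := (A' : Type u)) (A := (A : Type u)) (x := b))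
    rwa [show algebraMap (A' : Type u) (A : Type u) b = f' b from rfl, sub_add_cancel] at h2
  have hp : Function.Surjective (Spec.map (CommRingCat.ofHom S.p)) := fun z =>
    ⟨IsLocalRing.closedPoint A, @Subsingleton.elim (PrimeSpectrum A'') _ _ _⟩
  haveI := ξ'.flat
  haveI := ξ''.flat
  obtain ⟨W, sW, a, b, hW, ha, hb, hpo⟩ := FlatGlue.exists_flat_gluing S hq hp ξ''.f ξ'.f η.f
    m''.hom m'.hom m''.isPullback.flip m'.isPullback.flip
  have hsq : IsPullback (ξ''.i ≫ a) x sW (specRes B) := by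
    have := ξ''.isPullback.paste_horiz ha
    rwa [show specRes A'' ≫ KerEval.sp S.g = specRes B from specRes_comp p''] at this
  let Wd : DefSch X x B := ⟨W, sW, hW, ξ''.i ≫ a, hsq⟩
  let n'' : Mor p'' ξ'' Wd := ⟨a, ha.w, rfl⟩
  let n' : Mor p' ξ' Wd := ⟨b, hb.w, by
    show ξ'.i ≫ b = ξ''.i ≫ a
    rw [← m'.i_hom, ← m''.i_hom, Category.assoc, Category.assoc, hpo.w]⟩
  refine ⟨Wd, n', n'', hpo.w.symm, fun ζ o' o'' ho => ?_⟩
  have hd : hpo.desc o''.hom o'.hom ho.symm ≫ ζ.f = sW := by
    apply hpo.hom_ext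
    · rw [hpo.inl_desc_assoc, o''.w]
      exact ha.w.symm
    · rw [hpo.inr_desc_assoc, o'.w]
      exact hb.w.symm
  refine ⟨isoOfHom (η := Wd) (hpo.desc o''.hom o'.hom ho.symm) hd ?_, hpo.inr_desc _ _ _, hpo.inl_desc _ _ _⟩
  show (ξ''.i ≫ a) ≫ _ = ζ.i
  rw [Category.assoc, hpo.inl_desc, o''.i_hom]

include h hf in
/-- Deformations over a fibre product with compatible restrictions are isomorphic. -/
theorem nonempty_iso {η : DefSch X x A} {ξ' : DefSch X x A'} {ξ'' : DefSch X x A''} (m' : Mor f' η ξ')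
    (m'' : Mor f'' η ξ'') {ζ ζ₁ : DefSch X x B} (o' : Mor p' ξ' ζ) (o'' : Mor p'' ξ'' ζ)
    (ho : m'.hom ≫ o'.hom = m''.hom ≫ o''.hom) (t' : Mor p' ξ' ζ₁) (t'' : Mor p'' ξ'' ζ₁)
    (ht : m'.hom ≫ t'.hom = m''.hom ≫ t''.hom) : Nonempty (ζ.Iso ζ₁) := by
  obtain ⟨W, n', n'', hn, hW⟩ := exists_glue h hf m' m''
  obtain ⟨e₁, -⟩ := hW ζ o' o'' ho
  obtain ⟨e₂, -⟩ := hW ζ₁ t' t'' ht
  exact ⟨e₁.symm.trans e₂⟩

end Glue

/-- Classes agree along a morphism. -/
theorem map_cl {g : B ⟶ A} {η : DefSch X x A} {ξ : DefSch X x B} (m : Mor g η ξ) :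
    (defFunctor X x).map g ξ.cl = η.cl :=
  Quotient.sound ⟨m.toBaseChange.symm⟩

theorem nonempty_mor {g : B ⟶ A} {η : DefSch X x A} {ξ : DefSch X x B}
    (hc : (defFunctor X x).map g ξ.cl = η.cl) : Nonempty (Mor g η ξ) := by
  obtain ⟨e⟩ := Quotient.exact hc
  exact ⟨(Mor.fst ξ g).isoComp e.symm⟩

theorem flat_x : Flat x := by
  rw [IsZariskiLocalAtSource.iff_of_openCover (P := @Flat) X.affineCover]
  intro i
  obtain ⟨φ, hφ⟩ := Spec.map_surjective (X.affineCover.f i ≫ x)
  suffices Flat (Spec.map φ) from hφ ▸ this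
  rw [HasRingHomProperty.Spec_iff (P := @Flat)]
  algebraize [φ.hom]
  exact RingHom.flat_algebraMap_iff.2 inferInstance

/-- The unique deformation over the residue field. -/
theorem h0_defFunctor : H0 (defFunctor (Λ := Λ) X x) := by
  refine ⟨⟨(DefSch.self (Λ := Λ) X x flat_x).cl⟩, ⟨fun a b => ?_⟩⟩
  have key : ∀ ξ : DefSch X x (base Λ k), Nonempty ((DefSch.self X x flat_x).Iso ξ) := fun ξ =>
    ⟨isoOfHom (η := DefSch.self X x flat_x) ξ.i (ξ.i_f.trans (comp_specRes_base x)) (Category.id_comp _)⟩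
  induction a using Quotient.inductionOn with
  | h ξ =>
    induction b using Quotient.inductionOn with
    | h ξ' =>
      obtain ⟨e⟩ := key ξ
      obtain ⟨e'⟩ := key ξ'
      exact Quotient.sound ⟨e.symm.trans e'⟩

/-- (S1) for the deformation functor. -/
theorem s1_defFunctor : S1 (defFunctor (Λ := Λ) X x) := by
  intro B A A' A'' p' p'' f' f'' h hf
  refine (ArtFunLib.cmp_surjective_iff h).2 fun a' a'' ha => ?_
  induction a' using Quotient.inductionOn with
  | h ξ' =>
    induction a'' using Quotient.inductionOn with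
    | h ξ'' =>
      obtain ⟨m''⟩ := nonempty_mor (η := ξ'.baseChange f') (ξ := ξ'') ha.symm
      obtain ⟨W, n', n'', -, -⟩ := exists_glue h hf (Mor.fst ξ' f') m''
      exact ⟨W.cl, map_cl n', map_cl n''⟩

/-- The morphism from the closed fibre. -/
def closedMor (ξ : DefSch X x A) : Mor (toBase A) (DefSch.self X x flat_x) ξ where
  hom := ξ.i
  w := ξ.i_f
  i_hom := Category.id_comp _

/-- (S2) for the deformation functor. -/
theorem heps_defFunctor : Heps (defFunctor (Λ := Λ) X x) := by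
  intro B A' p' p'' h
  have hs : Function.Surjective (toBase (Art.dual Λ k)) := (Art.dual Λ k).res_surjective
  refine ⟨(ArtFunLib.cmp_injective_iff h).2 fun a b ha hb => ?_, s1_defFunctor _ _ _ _ h hs⟩
  induction a using Quotient.inductionOn with
  | h ζ =>
    induction b using Quotient.inductionOn with
    | h ζ₁ =>
      obtain ⟨t'⟩ := nonempty_mor (η := ζ.baseChange p') (ξ := ζ₁) ha.symm
      obtain ⟨t''⟩ := nonempty_mor (η := ζ.baseChange p'') (ξ := ζ₁) hb.symm
      exact Quotient.sound (nonempty_iso h hs (closedMor _) (closedMor _) (Mor.fst ζ p') (Mor.fst ζ p'')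
        ((Mor.fst ζ p').i_hom.trans (Mor.fst ζ p'').i_hom.symm) t' t''
        (t'.i_hom.trans t''.i_hom.symm))

end Groth.Agent.Et18.DefGlue
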