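import Groth.Agent.Et18.DefGlue

/-!
# Deformations of affine schemes as flat algebras
-/

set_option autoImplicit false
set_option backward.isDefEq.respectTransparency.types false
set_option linter.style.haveILetI false
universe u

open AlgebraicGeometry CategoryTheory Limits ArtFun ArtFun.Art

namespace Groth.Agent.Et18.AffDef

variable {Λ k : Type u} [CommRing Λ] [Field k] [Algebra Λ k]

/-- A flat algebra over `A` with closed fibre `B₀`. -/
structure Data (B₀ : Type u) [CommRing B₀] [Algebra k B₀] (A : Art Λ k) where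
  /-- the algebra -/
  R : Type u
  [commRing : CommRing R]
  [algebra : Algebra (A : Type u) R]
  [flat : Module.Flat (A : Type u) R]
  /-- the reduction -/
  π : R →+* B₀
  surj : Function.Surjective π
  comp_alg : ∀ a : A, π (algebraMap (A : Type u) R a) = algebraMap k B₀ (A.res a)
  ker_le : RingHom.ker π ≤ (IsLocalRing.maximalIdeal (A : Type u)).map (algebraMap (A : Type u) R)

attribute [instance] Data.commRing Data.algebra Data.flat

variable {B₀ : Type u} [CommRing B₀] [Algebra k B₀] {A A' : Art Λ k}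

theorem Data.ker_eq (D : Data B₀ A) :
    RingHom.ker D.π = (IsLocalRing.maximalIdeal (A : Type u)).map (algebraMap (A : Type u) D.R) := by
  refine le_antisymm D.ker_le (Ideal.map_le_iff_le_comap.2 fun a ha => ?_)
  rw [Ideal.mem_comap, RingHom.mem_ker, D.comp_alg, (mem_maximalIdeal_iff A a).1 ha, map_zero]

/-- The reduction is a cocartesian square. -/
theorem Data.isPushout (D : Data B₀ A) :
    IsPushout (CommRingCat.ofHom (algebraMap (A : Type u) D.R)) (CommRingCat.ofHom A.res.toRingHom)
      (CommRingCat.ofHom D.π) (CommRingCat.ofHom (algebraMap k B₀)) := by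
  have hw : D.π.comp (algebraMap (A : Type u) D.R) = (algebraMap k B₀).comp A.res.toRingHom :=
    RingHom.ext D.comp_alg
  refine IsPushout.of_isColimit' ⟨CommRingCat.hom_ext hw⟩ (PushoutCocone.IsColimit.mk _
    (fun s => CommRingCat.ofHom (RingHom.liftOfSurjective D.π D.surj ⟨s.inl.hom, ?_⟩)) ?_ ?_ ?_)
  · refine D.ker_le.trans (Ideal.map_le_iff_le_comap.2 fun a ha => ?_)
    have := congrArg (fun m => m.hom a) s.condition
    simp only [CommRingCat.hom_comp, CommRingCat.hom_ofHom, RingHom.comp_apply] at this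
    rw [Ideal.mem_comap, RingHom.mem_ker, this, show A.res.toRingHom a = 0 from (mem_maximalIdeal_iff A a).1 ha,
      map_zero]
  · intro s
    exact CommRingCat.hom_ext (RingHom.liftOfSurjective_comp _ D.surj _)
  · intro s
    refine CommRingCat.hom_ext (RingHom.ext fun b => ?_)
    obtain ⟨a, rfl⟩ := A.res_surjective b
    have := congrArg (fun m => m.hom a) s.condition
    simp only [CommRingCat.hom_comp, CommRingCat.hom_ofHom, RingHom.comp_apply] at this ⊢
    refine (congrArg (RingHom.liftOfSurjective D.π D.surj ⟨s.inl.hom, _⟩) (D.comp_alg a).symm).trans ?_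
    exact (DFunLike.congr_fun (RingHom.liftOfSurjective_comp D.π D.surj ⟨s.inl.hom, _⟩) _).trans this
  · intro s m h1 h2
    refine CommRingCat.hom_ext (RingHom.ext fun y => ?_)
    obtain ⟨x, rfl⟩ := D.surj y
    refine (congrArg (fun n => n.hom x) h1).trans ?_
    exact (DFunLike.congr_fun (RingHom.liftOfSurjective_comp D.π D.surj ⟨s.inl.hom, _⟩) x).symm

variable (k B₀) in
/-- The structure map of `Spec B₀`. -/
noncomputable abbrev str₀ : Spec (CommRingCat.of B₀) ⟶ specPt k :=
  Spec.map (CommRingCat.ofHom (algebraMap k B₀))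

/-- The deformation of an algebra. -/
noncomputable def Data.toDef (D : Data B₀ A) : DefSch (Spec (CommRingCat.of B₀)) (str₀ k B₀) A where
  total := Spec (CommRingCat.of D.R)
  f := Spec.map (CommRingCat.ofHom (algebraMap (A : Type u) D.R))
  flat := Flat.SpecMap_iff.2 (RingHom.flat_algebraMap_iff.2 D.flat)
  i := Spec.map (CommRingCat.ofHom D.π)
  isPullback := isPullback_SpecMap_of_isPushout _ _ _ _ D.isPushout

/-- Every deformation of an affine scheme is given by an algebra. -/
theorem exists_data (ξ : DefSch (Spec (CommRingCat.of B₀)) (str₀ k B₀) A) :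
    ∃ D : Data B₀ A, Nonempty (D.toDef.Iso ξ) := by
  haveI := ξ.flat
  haveI : IsClosedImmersion (specRes A) := IsClosedImmersion.spec_of_surjective _ A.res_surjective
  haveI := DefIso.surjective_specMap (A := (A : Type u)) (A.res : (A : Type u) →+* k)
  haveI : IsClosedImmersion ξ.i := MorphismProperty.of_isPullback ξ.isPullback.flip inferInstance
  haveI : Surjective (specRes A) := DefIso.surjective_specMap (A := (A : Type u)) (A.res : (A : Type u) →+* k)
  haveI : Surjective ξ.i := MorphismProperty.of_isPullback ξ.isPullback.flip inferInstance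
  haveI : IsAffine ξ.total :=
    Groth.Agent.VarietyLib.isAffine_of_surjective_closedImmersion ξ.i ξ.i.surjective
  let γ := (Scheme.ΓSpecIso (CommRingCat.of (A : Type u))).inv
  letI : Algebra (A : Type u) Γ(ξ.total, ⊤) := (γ ≫ ξ.f.appTop).hom.toAlgebra
  haveI : Module.Flat (A : Type u) Γ(ξ.total, ⊤) := by
    have h1 := Flat.flat_appLE ξ.f (isAffineOpen_top _) (isAffineOpen_top ξ.total) (V := ⊤) (U := ⊤) le_top
    rw [show ξ.f.appLE ⊤ ⊤ le_top = ξ.f.appTop from ξ.f.appLE_eq_app] at h1
    exact (RingHom.flat_algebraMap_iff (R := (A : Type u))).1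
      ((RingHom.Flat.of_bijective (ConcreteCategory.bijective_of_isIso γ)).comp h1)
  let e₀ := Scheme.ΓSpecIso (CommRingCat.of B₀)
  have hfac : γ ≫ ξ.f.appTop ≫ ξ.i.appTop ≫ e₀.hom =
      CommRingCat.ofHom A.res.toRingHom ≫ CommRingCat.ofHom (algebraMap k B₀) := by
    rw [← Scheme.Hom.comp_appTop_assoc, ξ.i_f, ← Spec.map_comp, Scheme.ΓSpecIso_naturality]
    exact Iso.inv_hom_id_assoc _ _
  let D : Data B₀ A :=
    { R := Γ(ξ.total, ⊤)
      π := (ξ.i.appTop ≫ e₀.hom).hom
      surj := fun b => by
        obtain ⟨r, hr⟩ := ξ.i.app_surjective ⊤ (isAffineOpen_top _) (e₀.inv b)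
        exact ⟨r, (congrArg e₀.hom.hom hr).trans (e₀.inv_hom_id_apply b)⟩
      comp_alg := fun a => congrArg (fun φ => φ.hom a) hfac
      ker_le := by
        intro r hr
        have h0 : ξ.i.appTop r = 0 := (ConcreteCategory.bijective_of_isIso e₀.hom).1
          ((show e₀.hom (ξ.i.appTop r) = 0 from hr).trans (map_zero _).symm)
        have := DefIso.ker_appTop (A.res : (A : Type u) →+* k) A.res_surjective ξ.f ξ.isPullback h0
        rwa [IsLocalRing.eq_maximalIdeal (RingHom.ker_isMaximal_of_surjective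
          (A.res : (A : Type u) →+* k) A.res_surjective)] at this }
  refine ⟨D, ⟨DefGlue.isoOfHom (η := D.toDef) (ξ := ξ) ξ.total.isoSpec.inv ?_ ?_⟩⟩
  · show ξ.total.isoSpec.inv ≫ ξ.f = Spec.map (γ ≫ ξ.f.appTop)
    rw [Iso.inv_comp_eq, Spec.map_comp, Scheme.isoSpec_hom, ← Category.assoc, ← Scheme.toSpecΓ_naturality,
      Category.assoc]
    simp [γ]
  · show Spec.map (ξ.i.appTop ≫ e₀.hom) ≫ ξ.total.isoSpec.inv = ξ.i
    rw [Iso.comp_inv_eq, Scheme.isoSpec_hom, Scheme.toSpecΓ_naturality, Spec.map_comp]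
    congr 1
    simp [e₀]

/-- A map of algebras gives a morphism of deformations. -/
noncomputable def Data.mor {g : A' ⟶ A} (D' : Data B₀ A') (D : Data B₀ A) (φ : D'.R →+* D.R)
    (hφ : ∀ a, φ (algebraMap (A' : Type u) D'.R a) = algebraMap (A : Type u) D.R (g a))
    (hπ : D.π.comp φ = D'.π) : DefGlue.Mor g D.toDef D'.toDef where
  hom := Spec.map (CommRingCat.ofHom φ)
  w := by
    show Spec.map _ ≫ Spec.map _ = Spec.map _ ≫ Spec.map _
    rw [← Spec.map_comp, ← Spec.map_comp, ← CommRingCat.ofHom_comp, ← CommRingCat.ofHom_comp]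
    congr 2
    exact RingHom.ext hφ
  i_hom := by
    show Spec.map _ ≫ Spec.map _ = Spec.map _
    rw [← Spec.map_comp, ← CommRingCat.ofHom_comp, hπ]

end Groth.Agent.Et18.AffDef
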