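import Groth.Agent.Et18.DefT1Class
import Groth.Agent.CotTLib.Basic

/-!
# First order deformations of an affine scheme and `T¹`
-/

set_option autoImplicit false
set_option backward.isDefEq.respectTransparency.types false
set_option backward.isDefEq.respectTransparency false
set_option linter.style.haveILetI false
universe u

open AlgebraicGeometry CategoryTheory TensorProduct ArtFun ArtFun.Art CotT

noncomputable section

namespace Groth.Agent.Et18.DefT1T1

/-- Two surjections with the same fibres give a bijection of the targets. -/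
theorem nonempty_equiv_of_fibres {G X Y : Type*} (s : G → X) (t : G → Y) (hs : Function.Surjective s)
    (ht : Function.Surjective t) (h : ∀ a b, s a = s b ↔ t a = t b) : Nonempty (X ≃ Y) := by
  refine ⟨Equiv.ofBijective (fun x => t (Function.surjInv hs x)) ⟨fun a b hab => ?_, fun y => ?_⟩⟩
  · have := (h _ _).2 hab
    rwa [Function.surjInv_eq hs, Function.surjInv_eq hs] at this
  · obtain ⟨g, rfl⟩ := ht y
    exact ⟨s g, (h _ _).1 (Function.surjInv_eq hs _)⟩

variable {Λ k B : Type u} [CommRing Λ] [Field k] [Algebra Λ k] [CommRing B] [Algebra k B] {ι σ : Type u}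

/-- The classes of deformations over `k[ε]` are `T¹`. -/
theorem nonempty_equiv (Q : Algebra.Presentation k B ι σ) :
    Nonempty ((defFunctor (Λ := Λ) (Spec (CommRingCat.of B)) (AffDef.str₀ k B)).obj (dual Λ k) ≃ T1 Q B) := by
  letI : Algebra (MvPolynomial ι k) B := inferInstanceAs (Algebra Q.toExtension.Ring B)
  haveI : IsScalarTower k (MvPolynomial ι k) B := inferInstanceAs (IsScalarTower k Q.toExtension.Ring B)
  have hsurj : Function.Surjective (algebraMap (MvPolynomial ι k) B) := Q.toExtension.algebraMap_surjective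
  let ρ := AlgebraTensorModule.rid k (MvPolynomial ι k) B
  let hom : (Q.toExtension.Cotangent →ₗ[B] B) →
      (RingHom.ker (algebraMap (MvPolynomial ι k) B) →ₗ[MvPolynomial ι k] B ⊗[k] k) := fun g =>
    { toFun := fun f => ρ.symm (g (Algebra.Extension.Cotangent.mk (P := Q.toExtension) f))
      map_add' := fun f f' => by
        rw [← map_add, ← map_add]
        exact congrArg (fun z => ρ.symm (g z)) (map_add (Algebra.Extension.Cotangent.mk (P := Q.toExtension)) f f')
      map_smul' := fun p f => by
        refine (congrArg (fun z => ρ.symm (g z))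
          (map_smul (Algebra.Extension.Cotangent.mk (P := Q.toExtension)) (p : Q.toExtension.Ring) f)).trans ?_
        refine (congrArg (fun z => ρ.symm (g z)) (algebraMap_smul B (p : Q.toExtension.Ring) _).symm).trans ?_
        rw [map_smul]
        refine (congrArg ρ.symm (algebraMap_smul B (p : MvPolynomial ι k) _)).trans ?_
        exact ρ.symm.map_smul p _ }
  let γ := fun g : Q.toExtension.Cotangent →ₗ[B] B => DefT1.cls₁ (Λ := Λ) hsurj (hom g)
  refine nonempty_equiv_of_fibres γ (homToT1 Q B) (fun ξ => ?_) (fun t => ?_) (fun g g' => ?_)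
  · obtain ⟨h, rfl⟩ := DefT1.exists_cls₁ (Λ := Λ) hsurj ξ
    let h' : Q.toExtension.ker →ₗ[Q.toExtension.Ring] B :=
      { toFun := fun f => ρ (h f)
        map_add' := fun f f' =>
          (congrArg ρ (h.map_add (f : RingHom.ker (algebraMap (MvPolynomial ι k) B)) f')).trans (map_add ρ _ _)
        map_smul' := fun p f =>
          (congrArg ρ (h.map_smul (p : MvPolynomial ι k) f)).trans (ρ.map_smul p _) }
    have hker : LinearMap.ker (Algebra.Extension.Cotangent.mk (P := Q.toExtension)) ≤ LinearMap.ker h' := by
      intro x hx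
      rw [LinearMap.mem_ker, Algebra.Extension.Cotangent.mk_eq_zero_iff, pow_two] at hx
      suffices ∀ z (hz : z ∈ Q.toExtension.ker * Q.toExtension.ker), h' ⟨z, Ideal.mul_le_left hz⟩ = 0 from
        LinearMap.mem_ker.2 (this x.1 hx)
      intro z hz
      induction hz using Submodule.mul_induction_on' with
      | mem_mul_mem a ha b hb =>
        have e : (⟨a * b, Ideal.mul_mem_left _ a hb⟩ : Q.toExtension.ker) = a • ⟨b, hb⟩ := rfl
        rw [e, map_smul, ← algebraMap_smul B a, RingHom.mem_ker.1 ha, zero_smul]
      | add x hx y hy ihx ihy =>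
        have e : (⟨x + y, Ideal.add_mem _ (Ideal.mul_le_left hx) (Ideal.mul_le_left hy)⟩ : Q.toExtension.ker) =
          ⟨x, Ideal.mul_le_left hx⟩ + ⟨y, Ideal.mul_le_left hy⟩ := rfl
        rw [e, map_add, ihx, ihy, add_zero]
    have hmk := Algebra.Extension.Cotangent.mk_surjective (P := Q.toExtension)
    let g₀ : Q.toExtension.Cotangent →ₗ[Q.toExtension.Ring] B :=
      (Submodule.liftQ _ h' hker).comp
        (LinearMap.quotKerEquivOfSurjective _ hmk).symm.toLinearMap
    refine ⟨g₀.extendScalarsOfSurjective Q.toExtension.algebraMap_surjective, ?_⟩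
    show DefT1.cls₁ hsurj _ = _
    congr 1
    refine LinearMap.ext fun f => ?_
    show ρ.symm (g₀ (Algebra.Extension.Cotangent.mk f)) = h f
    show ρ.symm (Submodule.liftQ _ h' hker ((LinearMap.quotKerEquivOfSurjective _ hmk).symm _)) = _
    rw [show (LinearMap.quotKerEquivOfSurjective (Algebra.Extension.Cotangent.mk (P := Q.toExtension)) hmk).symm
      (Algebra.Extension.Cotangent.mk f) = Submodule.Quotient.mk f from (LinearEquiv.symm_apply_eq _).2 rfl,
      Submodule.liftQ_apply]
    exact ρ.symm_apply_apply _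
  · obtain ⟨c, rfl⟩ := Submodule.Quotient.mk_surjective _ t
    obtain ⟨g, hg⟩ := CotTLib.exists_comp_toCot (φ := (c : L1 Q →ₗ[B] B)) c.2
    exact ⟨g, congrArg Submodule.Quotient.mk (Subtype.ext hg)⟩
  · have h1 : homToT1 Q B g = homToT1 Q B g' ↔ ∃ ψ : L0 Q →ₗ[B] B, ψ ∘ₗ Q.toExtension.cotangentComplex = g - g' := by
      rw [← sub_eq_zero, ← map_sub]
      constructor
      · intro h
        obtain ⟨ψ, hψ⟩ := (Submodule.Quotient.mk_eq_zero _).1 h
        exact ⟨ψ, CotTLib.comp_toCot_injective (hψ : _)⟩
      · rintro ⟨ψ, hψ⟩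
        refine (Submodule.Quotient.mk_eq_zero _).2 ⟨ψ, ?_⟩
        show ψ ∘ₗ Q.toExtension.cotangentComplex ∘ₗ toCot Q = (g - g') ∘ₗ toCot Q
        rw [← LinearMap.comp_assoc, hψ]
    rw [h1]
    constructor
    · intro he
      obtain ⟨D, hD⟩ := DefT1.exists_derivation_of_cls_eq hsurj (dual Λ k) (RingEquiv.refl (DualNumber k))
        (fun _ => rfl) _ _ he.symm
      let D' : Derivation k Q.toExtension.Ring B := ρ.toLinearMap.compDer D
      refine ⟨D'.liftKaehlerDifferential.liftBaseChange B, LinearMap.ext fun z => ?_⟩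
      obtain ⟨f, rfl⟩ := Algebra.Extension.Cotangent.mk_surjective (P := Q.toExtension) z
      rw [LinearMap.comp_apply, Algebra.Extension.cotangentComplex_mk, LinearMap.liftBaseChange_tmul, one_smul,
        Derivation.liftKaehlerDifferential_comp_D, LinearMap.sub_apply]
      have := congrArg ρ (hD f)
      rw [map_add] at this
      change ρ (ρ.symm (g _)) = ρ (ρ.symm (g' _)) + D' f at this
      rw [ρ.apply_symm_apply, ρ.apply_symm_apply] at this
      exact eq_sub_of_add_eq' this.symm
    · rintro ⟨ψ, hψ⟩
      let D' : Derivation k Q.toExtension.Ring B :=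
        (((ψ.restrictScalars Q.toExtension.Ring).comp (TensorProduct.mk Q.toExtension.Ring B _ 1))).compDer
          (KaehlerDifferential.D k Q.toExtension.Ring)
      refine DefT1.cls_twist hsurj (dual Λ k) (RingEquiv.refl (DualNumber k)) (fun _ => rfl)
        (ρ.symm.toLinearMap.compDer D') _ _ fun f => ?_
      show ρ.symm (g _) = ρ.symm (g' _) + ρ.symm (D' (f : MvPolynomial ι k))
      rw [← map_add]
      congr 1
      have := LinearMap.congr_fun hψ (Algebra.Extension.Cotangent.mk (P := Q.toExtension) f)
      rw [LinearMap.comp_apply, Algebra.Extension.cotangentComplex_mk, LinearMap.sub_apply] at this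
      exact eq_add_of_sub_eq' this.symm

end Groth.Agent.Et18.DefT1T1
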