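import Groth.Agent.Et18.StrictHenselCover
import Groth.Agent.Et18.Support
import Mathlib.AlgebraicGeometry.Morphisms.Integral
import Mathlib.AlgebraicGeometry.Morphisms.UniversallyInjective

/-!
# Étale neighbourhoods lift along integral morphisms with one point in the fibre
-/

universe u

open CategoryTheory CategoryTheory.Limits AlgebraicGeometry Opposite TensorProduct

set_option backward.isDefEq.respectTransparency.types false
set_option backward.isDefEq.respectTransparency false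

namespace Groth.Agent.Et18

/-- Sections of étale schemes over affine schemes integral over an affine base. -/
theorem exists_affine_lift {A Z O : Scheme.{u}} [IsAffine A] [IsAffine Z] [IsAffine O]
    (φ : Z ⟶ A) [IsIntegralHom φ] (q : O ⟶ Z) [Etale q] {Ω : Type u} [Field Ω] [IsAlgClosed Ω]
    (w : Spec (CommRingCat.of Ω) ⟶ O)
    (hfib : ∀ t : Z, φ t = φ (q (w default)) → t ∈ Set.range q) :
    ∃ (V' : Scheme.{u}) (p : V' ⟶ A) (_ : Etale p) (P : Scheme.{u}) (r : P ⟶ Z) (l : P ⟶ V')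
      (_ : IsPullback r l φ p) (h : P ⟶ O) (x : Spec (CommRingCat.of Ω) ⟶ P),
      h ≫ q = r ∧ x ≫ h = w := by
  let R : Type u := Γ(A, ⊤)
  let S : Type u := Γ(Z, ⊤)
  let C : Type u := Γ(O, ⊤)
  algebraize [φ.appTop.hom, q.appTop.hom]
  let ξ₀ : CommRingCat.of S ⟶ CommRingCat.of Ω := Spec.preimage (w ≫ q ≫ Z.isoSpec.hom)
  let ω : CommRingCat.of C ⟶ CommRingCat.of Ω := Spec.preimage (w ≫ O.isoSpec.hom)
  have hξω : q.appTop ≫ ω = ξ₀ := Spec.map_injective (by
    rw [Spec.map_comp, Spec.map_preimage, Spec.map_preimage, Category.assoc, Scheme.isoSpec_hom_naturality])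
  algebraize [(φ.appTop ≫ ξ₀).hom]
  have : Algebra.IsIntegral R S := ⟨(IsIntegralHom.SpecMap_iff (φ := φ.appTop)).mp (by
    rw [show Spec.map φ.appTop = Z.isoSpec.inv ≫ φ ≫ A.isoSpec.hom by
      rw [← Scheme.isoSpec_inv_naturality_assoc, Iso.inv_hom_id, Category.comp_id]]
    infer_instance)⟩
  have : Algebra.Etale S C := by
    have : Etale (Spec.map q.appTop) := by
      rw [show Spec.map q.appTop = O.isoSpec.inv ≫ q ≫ Z.isoSpec.hom by
        rw [← Scheme.isoSpec_inv_naturality_assoc, Iso.inv_hom_id, Category.comp_id]]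
      infer_instance
    exact (HasRingHomProperty.Spec_iff (P := @Etale)).mp this
  let ξ : S →ₐ[R] Ω := { ξ₀.hom with commutes' := fun _ => rfl }
  obtain ⟨N, g, hg, hgw⟩ := SHensel.exists_section_of_forall_lift (R := R) (S := S) C ξ ω.hom
    (congrArg CommRingCat.Hom.hom hξω) fun ζ => by
      let z : Spec (CommRingCat.of Ω) ⟶ Z := Spec.map (CommRingCat.ofHom ζ.toRingHom) ≫ Z.isoSpec.inv
      have hz : z ≫ φ = w ≫ q ≫ φ := by
        have h1 : z ≫ φ = Spec.map (φ.appTop ≫ CommRingCat.ofHom ζ.toRingHom) ≫ A.isoSpec.inv := by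
          refine (Category.assoc _ _ _).trans ?_
          rw [Spec.map_comp, Category.assoc]
          exact congrArg (fun k => Spec.map (CommRingCat.ofHom ζ.toRingHom) ≫ k)
            (Scheme.isoSpec_inv_naturality φ).symm
        have h2 : φ.appTop ≫ CommRingCat.ofHom ζ.toRingHom = φ.appTop ≫ ξ₀ :=
          CommRingCat.hom_ext ζ.comp_algebraMap
        rw [h1, h2, Spec.map_comp, Category.assoc, Scheme.isoSpec_inv_naturality,
          Spec.map_preimage, Category.assoc, Category.assoc, Iso.hom_inv_id_assoc]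
      obtain ⟨y, hy⟩ := hfib (z default) (congrArg (fun t => t default) hz)
      obtain ⟨l, hl, -⟩ := Scheme.exists_fac_of_etale_of_isSepClosed q z y hy
      refine ⟨(Spec.preimage (l ≫ O.isoSpec.hom)).hom, ?_⟩
      refine congrArg CommRingCat.Hom.hom (Spec.map_injective ?_ :
        q.appTop ≫ Spec.preimage (l ≫ O.isoSpec.hom) = CommRingCat.ofHom ζ.toRingHom)
      rw [Spec.map_comp, Spec.map_preimage, Category.assoc, Scheme.isoSpec_hom_naturality,
        reassoc_of% hl, Category.assoc, Iso.inv_hom_id, Category.comp_id]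
  let a : CommRingCat.of R ⟶ CommRingCat.of N.A := CommRingCat.ofHom (algebraMap R N.A)
  have : Etale (Spec.map a) := by
    rw [HasRingHomProperty.Spec_iff (P := @Etale)]
    exact RingHom.etale_algebraMap.mpr inferInstance
  let il : CommRingCat.of N.A ⟶ CommRingCat.of (N.A ⊗[R] S) :=
    CommRingCat.ofHom Algebra.TensorProduct.includeLeftRingHom
  let ir : CommRingCat.of S ⟶ CommRingCat.of (N.A ⊗[R] S) :=
    CommRingCat.ofHom (Algebra.TensorProduct.includeRight : S →ₐ[R] N.A ⊗[R] S).toRingHom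
  have sqS : IsPullback (Spec.map ir) (Spec.map il) (Spec.map φ.appTop) (Spec.map a) :=
    isPullback_SpecMap_of_isPushout _ _ _ _ (CommRingCat.isPushout_tensorProduct R N.A S).flip
  refine ⟨_, Spec.map a ≫ A.isoSpec.inv, inferInstance, _, Spec.map ir ≫ Z.isoSpec.inv, Spec.map il,
    sqS.paste_horiz (IsPullback.of_horiz_isIso ⟨(Scheme.isoSpec_inv_naturality φ).symm⟩),
    Spec.map (CommRingCat.ofHom g) ≫ O.isoSpec.inv,
    Spec.map (CommRingCat.ofHom (N.eval ξ).toRingHom), ?_, ?_⟩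
  · rw [Category.assoc, ← Scheme.isoSpec_inv_naturality, ← Category.assoc, ← Spec.map_comp]
    congr 2
    exact CommRingCat.hom_ext hg
  · rw [← Category.assoc, ← Spec.map_comp,
      show CommRingCat.ofHom g ≫ CommRingCat.ofHom (N.eval ξ).toRingHom = ω from
        CommRingCat.hom_ext hgw, Spec.map_preimage, Category.assoc, Iso.hom_inv_id, Category.comp_id]

variable {X Y : Scheme.{u}} {f : X ⟶ Y} {Ω : Type u} [Field Ω] [IsAlgClosed Ω]

/-- For an integral morphism with one point in the fibre, étale neighbourhoods of the point come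
from the target. -/
theorem exists_bc_lift_of_integral [IsIntegralHom f] (ξ : Spec (CommRingCat.of Ω) ⟶ X)
    (V : Y.Etale) (hinj : Function.Injective (pullback.fst V.hom f : ((EtCoh.bc f).obj V).left ⟶ V.left))
    (W : X.Etale) (g : W ⟶ (EtCoh.bc f).obj V) (w : (Scheme.pointSmallEtale ξ).fiber.obj W) :
    ∃ (V' : Y.Etale) (a : V' ⟶ V) (x : (Scheme.pointSmallEtale ξ).fiber.obj ((EtCoh.bc f).obj V'))
      (h : (EtCoh.bc f).obj V' ⟶ W),
        h ≫ g = (EtCoh.bc f).map a ∧ (Scheme.pointSmallEtale ξ).fiber.map h x = w := by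
  let B := (EtCoh.bc f).obj V
  let wl : Spec (CommRingCat.of Ω) ⟶ W.left := w.left
  let φ₀ : B.left ⟶ V.left := pullback.fst V.hom f
  have : Etale W.hom := W.prop
  have : Etale V.hom := V.prop
  have hg : g.left ≫ B.hom = W.hom := Over.w g.hom
  have : Etale B.hom := B.prop
  have : Etale g.left := by
    have : Etale (g.left ≫ B.hom) := hg.symm ▸ ‹Etale W.hom›
    exact Etale.of_comp g.left B.hom
  -- shrink to an affine piece of `V`
  obtain ⟨U, hU, hvU, -⟩ := exists_isAffineOpen_mem_and_subset (X := V.left)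
    (x := φ₀ (g.left (wl default))) (U := ⊤) trivial
  let V₁ : Y.Etale := Scheme.Etale.mk (U.ι ≫ V.hom)
  let a₁ : V₁ ⟶ V := MorphismProperty.Over.homMk U.ι rfl
  have : IsAffine V₁.left := hU
  let φ₁ : ((EtCoh.bc f).obj V₁).left ⟶ V₁.left := pullback.fst V₁.hom f
  let j₁ : ((EtCoh.bc f).obj V₁).left ⟶ B.left := ((EtCoh.bc f).map a₁).left
  have sq₁ : IsPullback j₁ φ₁ φ₀ U.ι := EtCoh.isPullback_bc_map f a₁
  have : IsOpenImmersion j₁ :=
    MorphismProperty.of_isPullback (P := @IsOpenImmersion) sq₁.flip inferInstance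
  have : IsIntegralHom φ₁ := inferInstanceAs (IsIntegralHom (pullback.fst V₁.hom f))
  have : IsAffine ((EtCoh.bc f).obj V₁).left := isAffine_of_isAffineHom φ₁
  have hrange : g.left (wl default) ∈ Set.range j₁ := by
    obtain ⟨t, ht, -⟩ := Scheme.Pullback.exists_preimage_pullback (f := φ₀) (g := U.ι)
      (g.left (wl default)) ⟨_, hvU⟩ rfl
    exact ⟨sq₁.isoPullback.inv t,
      (congrArg (fun k => k t) sq₁.isoPullback_inv_fst).trans ht⟩
  let z : Spec (CommRingCat.of Ω) ⟶ ((EtCoh.bc f).obj V₁).left :=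
    IsOpenImmersion.lift j₁ (wl ≫ g.left) (by
      rintro _ ⟨t, rfl⟩
      rwa [Subsingleton.elim t default])
  let w₁ : Spec (CommRingCat.of Ω) ⟶ pullback g.left j₁ :=
    pullback.lift wl z (IsOpenImmersion.lift_fac _ _ _).symm
  obtain ⟨O, hO, hwO, -⟩ := exists_isAffineOpen_mem_and_subset (X := pullback g.left j₁)
    (x := w₁ default) (U := ⊤) trivial
  have : IsAffine O.toScheme := hO
  let w₂ : Spec (CommRingCat.of Ω) ⟶ O.toScheme := IsOpenImmersion.lift O.ι w₁ (by
    rw [Scheme.Opens.range_ι]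
    rintro _ ⟨t, rfl⟩
    rwa [Subsingleton.elim t default])
  have hw₂ : w₂ ≫ O.ι = w₁ := IsOpenImmersion.lift_fac _ _ _
  obtain ⟨A', p, _, P, r, l, sq, h, x, hh, hx⟩ :=
    exists_affine_lift φ₁ (O.ι ≫ pullback.snd g.left j₁) w₂ fun t ht => ⟨w₂ default, by
      have h1 : φ₀ (j₁ t) = φ₀ (j₁ ((O.ι ≫ pullback.snd g.left j₁) (w₂ default))) := by
        rw [← Scheme.Hom.comp_apply j₁ φ₀, ← Scheme.Hom.comp_apply j₁ φ₀, sq₁.w,
          Scheme.Hom.comp_apply, Scheme.Hom.comp_apply, ht]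
      exact j₁.isOpenEmbedding.injective (hinj h1).symm⟩
  let V₂ : Y.Etale := Scheme.Etale.mk (p ≫ V₁.hom)
  let a₂ : V₂ ⟶ V₁ := MorphismProperty.Over.homMk p rfl
  have sq₂ : IsPullback ((EtCoh.bc f).map a₂).left
      (pullback.fst V₂.hom f : ((EtCoh.bc f).obj V₂).left ⟶ V₂.left) φ₁ p :=
    EtCoh.isPullback_bc_map f a₂
  let e : ((EtCoh.bc f).obj V₂).left ≅ P := sq₂.isoIsPullback _ _ sq
  have he : e.hom ≫ r = ((EtCoh.bc f).map a₂).left := sq₂.isoIsPullback_hom_fst _ _ sq
  let hl : ((EtCoh.bc f).obj V₂).left ⟶ W.left := e.hom ≫ h ≫ O.ι ≫ pullback.fst g.left j₁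
  have hlg : hl ≫ g.left = ((EtCoh.bc f).map (a₂ ≫ a₁)).left := by
    simp only [hl, Category.assoc, pullback.condition, reassoc_of% hh, reassoc_of% he]
    rw [Functor.map_comp]
    rfl
  have ha : ((EtCoh.bc f).map (a₂ ≫ a₁)).left ≫ B.hom = ((EtCoh.bc f).obj V₂).hom :=
    Over.w ((EtCoh.bc f).map (a₂ ≫ a₁)).hom
  let h' : (EtCoh.bc f).obj V₂ ⟶ W := MorphismProperty.Over.homMk hl
    ((congrArg (fun k => hl ≫ k) hg.symm).trans ((Category.assoc _ _ _).symm.trans
      ((congrArg (fun k => k ≫ B.hom) hlg).trans ha)))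
  have hwl : (x ≫ e.inv) ≫ hl = wl := by
    simp only [hl, Category.assoc, Iso.inv_hom_id_assoc, reassoc_of% hx, reassoc_of% hw₂]
    exact pullback.lift_fst _ _ _
  refine ⟨V₂, a₂ ≫ a₁, Over.homMk (x ≫ e.inv) ?_, h', ?_, Over.OverMorphism.ext hwl⟩
  · change (x ≫ e.inv) ≫ ((EtCoh.bc f).obj V₂).hom = ξ
    rw [← ha, ← hlg, Category.assoc hl, hg, ← Category.assoc, hwl]
    exact Over.w w
  · exact (Scheme.Etale.forget X).map_injective (Over.OverMorphism.ext hlg)

end Groth.Agent.Et18
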