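import Groth.Agent.Et18.PropBEpi
import Mathlib.CategoryTheory.Abelian.RightDerived

/-!
# Direct images along integral morphisms are exact
-/

universe u v w

open CategoryTheory CategoryTheory.Limits AlgebraicGeometry Opposite

set_option backward.isDefEq.respectTransparency.types false
set_option backward.isDefEq.respectTransparency false

namespace Groth.Agent.Et18

/-- Right derived functors of an exact functor vanish in positive degrees. -/
theorem isZero_rightDerived_of_preservesHomology {C : Type*} [Category C] {D : Type*} [Category D]
    [Abelian C] [Abelian D] [HasInjectiveResolutions C] (F : C ⥤ D) [F.Additive] [F.PreservesHomology]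
    (n : ℕ) (X : C) : IsZero ((F.rightDerived (n + 1)).obj X) := by
  let I := injectiveResolution X
  refine IsZero.of_iso ?_ (I.isoRightDerivedObj F (n + 1))
  rw [HomologicalComplex.homologyFunctor_obj, ← HomologicalComplex.exactAt_iff_isZero_homology,
    HomologicalComplex.exactAt_iff]
  exact ((HomologicalComplex.exactAt_iff _ _).mp (I.cocomplex_exactAt_succ n)).map F

variable {X Y : Scheme.{u}}

/-- Direct image along an integral morphism is exact on abelian étale sheaves. -/
theorem push_preservesHomology_of_integral (f : X ⟶ Y) [IsIntegralHom f] :
    (EtCoh.push f).PreservesHomology :=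
  haveI := push_preservesEpimorphisms_of_propB f (propB_of_integral f)
  haveI : (EtCoh.push f).IsRightAdjoint := ⟨_, ⟨EtCoh.pullPushAdj f⟩⟩
  Functor.preservesHomology_of_preservesEpis_and_kernels _

/-- Higher direct images along integral morphisms vanish. -/
theorem Rpush_isZero_of_integral (f : X ⟶ Y) [IsIntegralHom f] (F : EtCoh.Ab X) (q : ℕ) (hq : 1 ≤ q) :
    IsZero ((EtCoh.Rpush f q).obj F) := by
  obtain ⟨n, rfl⟩ := Nat.exists_eq_succ_of_ne_zero (by omega : q ≠ 0)
  haveI := push_preservesHomology_of_integral f
  exact isZero_rightDerived_of_preservesHomology _ n F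

end Groth.Agent.Et18
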