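import Mathlib.AlgebraicGeometry.Morphisms.Etale
import Mathlib.AlgebraicGeometry.Morphisms.ClosedImmersion
import Mathlib.RingTheory.Etale.StandardEtale
import Mathlib.RingTheory.Unramified.LocalStructure
import Mathlib.Algebra.Polynomial.Lifts

/-!
# Étale neighbourhoods lift along closed immersions

Locally, an étale scheme over a closed subscheme is the restriction of an étale scheme over the
ambient scheme.
-/

universe u

open CategoryTheory CategoryTheory.Limits AlgebraicGeometry Polynomial

namespace Groth.Agent.Et18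

variable {A B C : Type u} [CommRing A] [CommRing B] [CommRing C]

/-- A standard étale algebra over a quotient lifts. -/
theorem exists_isPushout_of_standardEtale (π : A →+* B) (hπ : Function.Surjective π) [Algebra B C]
    [Algebra.IsStandardEtale B C] :
    ∃ (A' : Type u) (_ : CommRing A') (_ : Algebra A A') (_ : Algebra.Etale A A') (l : A' →+* C),
      IsPushout (CommRingCat.ofHom (algebraMap A A')) (CommRingCat.ofHom π)
        (CommRingCat.ofHom l) (CommRingCat.ofHom (algebraMap B C)) := by
  let P₀ : StandardEtalePresentation B C :=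
    Algebra.IsStandardEtale.nonempty_standardEtalePresentation.some
  obtain ⟨f, hf, hfm⟩ : ∃ f : A[X], f.map π = P₀.f ∧ f.Monic := by
    rcases subsingleton_or_nontrivial B with hB | hB
    · exact ⟨1, Subsingleton.elim _ _, monic_one⟩
    · obtain ⟨f, hf, -, hfm⟩ := lifts_and_degree_eq_and_monic
        (Polynomial.map_surjective π hπ P₀.f : P₀.f ∈ lifts π) P₀.monic_f
      exact ⟨f, hf, hfm⟩
  obtain ⟨g, hg⟩ := Polynomial.map_surjective π hπ P₀.g
  let P : StandardEtalePair A := ⟨f, hfm, g * derivative f, ⟨g, 0, 1, by ring⟩⟩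
  let : Algebra A C := ((algebraMap B C).comp π).toAlgebra
  have hev : ∀ p : A[X], aeval P₀.x p = aeval P₀.x (p.map π) := fun p => by
    rw [aeval_def, aeval_def, eval₂_map]
    rfl
  have hx : P.HasMap P₀.x := by
    refine ⟨by rw [hev, hf]; exact P₀.hasMap.1, ?_⟩
    change IsUnit (aeval P₀.x (g * derivative f))
    rw [map_mul, hev, hg, hev, ← derivative_map, hf]
    exact P₀.hasMap.2.mul P₀.hasMap.isUnit_derivative_f
  refine ⟨P.Ring, inferInstance, inferInstance, inferInstance, (P.lift P₀.x hx).toRingHom,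
    ⟨⟨?_⟩, ⟨?_⟩⟩⟩
  · ext a
    exact (P.lift P₀.x hx).commutes a
  · have key : ∀ s : PushoutCocone (CommRingCat.ofHom (algebraMap A P.Ring)) (CommRingCat.ofHom π),
        ∃ ψ : C →+* s.pt, ψ.comp (P.lift P₀.x hx).toRingHom = s.inl.hom ∧
          ψ.comp (algebraMap B C) = s.inr.hom ∧ ∀ ψ' : C →+* s.pt,
          ψ'.comp (P.lift P₀.x hx).toRingHom = s.inl.hom →
          ψ'.comp (algebraMap B C) = s.inr.hom → ψ' = ψ := by
      intro s
      let : Algebra B s.pt := s.inr.hom.toAlgebra
      let : Algebra A s.pt := (s.inl.hom.comp (algebraMap A P.Ring)).toAlgebra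
      have hcond : s.inl.hom.comp (algebraMap A P.Ring) = s.inr.hom.comp π :=
        congrArg CommRingCat.Hom.hom s.condition
      let α : P.Ring →ₐ[A] s.pt := { s.inl.hom with commutes' := fun a => rfl }
      have hev' : ∀ p : A[X], aeval (α P.X) p = aeval (α P.X) (p.map π) := fun p => by
        rw [aeval_def, aeval_def, eval₂_map]
        exact congrArg (fun r => eval₂ r (α P.X) p) hcond
      have hy : P₀.HasMap (α P.X) := by
        have h := P.hasMap_X.map α
        refine ⟨?_, ?_⟩
        · rw [← hf, ← hev']; exact h.1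
        · rw [← hg, ← hev']
          have h2 : IsUnit (aeval (α P.X) (g * derivative f)) := h.2
          rw [map_mul] at h2
          exact isUnit_of_mul_isUnit_left h2
      let ψ : C →ₐ[B] s.pt := (P₀.P.lift (α P.X) hy).comp P₀.equivRing.toAlgHom
      have hψx : ψ P₀.x = α P.X := by simp [ψ]
      refine ⟨ψ.toRingHom, ?_, ψ.comp_algebraMap, ?_⟩
      · let β : P.Ring →ₐ[A] s.pt :=
          { ψ.toRingHom.comp (P.lift P₀.x hx).toRingHom with
            commutes' := fun a => by
              change ψ ((P.lift P₀.x hx) (algebraMap A P.Ring a)) = _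
              rw [AlgHom.commutes]
              change ψ (algebraMap B C (π a)) = _
              rw [AlgHom.commutes]
              exact (RingHom.congr_fun hcond a).symm }
        have : β = α := P.hom_ext (by simp [β, hψx])
        exact congrArg (fun φ : P.Ring →ₐ[A] s.pt => φ.toRingHom) this
      · intro ψ' h₁ h₂
        let χ : C →ₐ[B] s.pt := { ψ' with commutes' := RingHom.congr_fun h₂ }
        have : χ = ψ := P₀.hom_ext (by
          rw [hψx]
          have := RingHom.congr_fun h₁ P.X
          simpa [χ, α] using this)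
        exact congrArg (fun φ : C →ₐ[B] s.pt => φ.toRingHom) this
    choose ψ h₁ h₂ h₃ using key
    exact PushoutCocone.IsColimit.mk _ (fun s => CommRingCat.ofHom (ψ s))
      (fun s => CommRingCat.hom_ext (h₁ s)) (fun s => CommRingCat.hom_ext (h₂ s))
      (fun s m e₁ e₂ => CommRingCat.hom_ext (h₃ s m.hom (congrArg CommRingCat.Hom.hom e₁)
        (congrArg CommRingCat.Hom.hom e₂)))

set_option backward.isDefEq.respectTransparency.types false in
/-- Zariski locally, an étale scheme over a closed subscheme is cut out of an étale scheme over the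
ambient scheme. -/
theorem exists_etale_lift {Z V W : Scheme.{u}} (i : Z ⟶ V) [IsClosedImmersion i] (q : W ⟶ Z)
    [Etale q] (w : W) :
    ∃ (W₁ : Scheme.{u}) (j : W₁ ⟶ W) (_ : IsOpenImmersion j) (_ : w ∈ Set.range j)
      (V' : Scheme.{u}) (p : V' ⟶ V) (_ : Etale p) (l : W₁ ⟶ V'), IsPullback l (j ≫ q) p i := by
  obtain ⟨U, hU, hwU, -⟩ := exists_isAffineOpen_mem_and_subset (X := V) (x := i (q w)) (U := ⊤) trivial
  have hUz : IsAffineOpen (i ⁻¹ᵁ U) := hU.preimage i
  obtain ⟨W₀, hW₀, hwW₀, hle⟩ := exists_isAffineOpen_mem_and_subset (X := W) (x := w)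
    (U := q ⁻¹ᵁ (i ⁻¹ᵁ U)) hwU
  replace hle : W₀ ≤ q ⁻¹ᵁ (i ⁻¹ᵁ U) := hle
  algebraize [(q.appLE (i ⁻¹ᵁ U) W₀ hle).hom]
  have : Algebra.Etale Γ(Z, i ⁻¹ᵁ U) Γ(W, W₀) := by
    have h := HasRingHomProperty.appLE @Etale q inferInstance ⟨_, hUz⟩ ⟨_, hW₀⟩ hle
    exact h
  obtain ⟨g, hg, hse⟩ := Algebra.IsEtaleAt.exists_isStandardEtale (R := Γ(Z, i ⁻¹ᵁ U))
    (hW₀.primeIdealOf ⟨w, hwW₀⟩).asIdeal
  have hπ : Function.Surjective (i.app U).hom := (isClosedImmersion_iff_isAffineHom.mp ‹_›).2 U hU
  obtain ⟨A', _, _, _, l, hl⟩ := exists_isPushout_of_standardEtale (i.app U).hom hπ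
    (C := Localization.Away g)
  let a : Spec (CommRingCat.of A') ⟶ Spec Γ(V, U) :=
    Spec.map (CommRingCat.ofHom (algebraMap Γ(V, U) A'))
  have : Etale a := by
    rw [HasRingHomProperty.Spec_iff (P := @Etale)]
    exact RingHom.etale_algebraMap.mpr inferInstance
  let loc : Spec (CommRingCat.of (Localization.Away g)) ⟶ Spec Γ(W, W₀) :=
    Spec.map (CommRingCat.ofHom (algebraMap Γ(W, W₀) (Localization.Away g)))
  have : IsOpenImmersion loc := IsOpenImmersion.of_isLocalization g
  refine ⟨_, loc ≫ hW₀.fromSpec, inferInstance, ?_, _, a ≫ hU.fromSpec, inferInstance,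
    Spec.map (CommRingCat.ofHom l), ?_⟩
  · obtain ⟨x, hx⟩ : hW₀.primeIdealOf ⟨w, hwW₀⟩ ∈ Set.range loc := by
      have := PrimeSpectrum.localization_away_comap_range (Localization.Away g) g
      rw [show Set.range loc = Set.range (PrimeSpectrum.comap (algebraMap Γ(W, W₀)
        (Localization.Away g))) from rfl, this]
      exact hg
    exact ⟨x, (congrArg hW₀.fromSpec hx).trans (hW₀.fromSpec_primeIdealOf ⟨w, hwW₀⟩)⟩
  · have e : loc ≫ hW₀.fromSpec ≫ q = Spec.map (CommRingCat.ofHom
        (algebraMap Γ(Z, i ⁻¹ᵁ U) (Localization.Away g))) ≫ hUz.fromSpec := by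
      rw [← IsAffineOpen.SpecMap_appLE_fromSpec q hUz hW₀ hle, ← Category.assoc, ← Spec.map_comp]
      rfl
    rw [Category.assoc, e]
    refine (isPullback_SpecMap_of_isPushout _ _ _ _ hl).paste_vert ?_
    refine IsOpenImmersion.isPullback _ _ _ _ ?_ ?_
    · rw [← IsAffineOpen.SpecMap_appLE_fromSpec i hU hUz le_rfl, Scheme.Hom.app_eq_appLE]
      rfl
    · rw [hU.opensRange_fromSpec, hUz.opensRange_fromSpec]

end Groth.Agent.Et18
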