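import Groth.Agent.Et18.TopInvEquiv
import Groth.Agent.Et18.EtaleLift

/-!
# Thickenings do not change the small étale site
-/

universe u

open CategoryTheory CategoryTheory.Limits AlgebraicGeometry

set_option backward.isDefEq.respectTransparency.types false
set_option backward.isDefEq.respectTransparency false

namespace Groth.Agent.Et18

/-- Base change to a closed subscheme with the same points is an equivalence on étale schemes. -/
theorem bc_isEquivalence_of_thickening {S S₀ : Scheme.{u}} (i : S₀ ⟶ S) [IsClosedImmersion i]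
    [Surjective i] : (EtCoh.bc i).IsEquivalence := by
  refine bc_isEquivalence_of_local_lift i fun W w => ?_
  have : Etale W.hom := W.prop
  obtain ⟨W₁, j, _, hw, V', p, _, l, sq⟩ := exists_etale_lift i W.hom w
  let V : S.Etale := Scheme.Etale.mk p
  let e : ((EtCoh.bc i).obj V).left ≅ W₁ := sq.isoPullback.symm
  have he : e.hom ≫ j ≫ W.hom = ((EtCoh.bc i).obj V).hom := sq.isoPullback_inv_snd
  let a : (EtCoh.bc i).obj V ⟶ W :=
    MorphismProperty.Over.homMk (e.hom ≫ j) ((Category.assoc _ _ _).trans he)
  have : IsOpenImmersion a.left := inferInstanceAs (IsOpenImmersion (e.hom ≫ j))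
  let O : W.left.Opens := j.opensRange
  have hr : Set.range a.left = (O : Set W.left) := by
    change Set.range (e.hom ≫ j) = Set.range j
    ext z
    constructor
    · rintro ⟨t, rfl⟩; exact ⟨e.hom t, rfl⟩
    · rintro ⟨t, rfl⟩
      exact ⟨e.inv t, congrArg (fun k : W₁ ⟶ W.left => k t) (e.inv_hom_id_assoc j)⟩
  obtain ⟨f⟩ := nonempty_iso_etalePiece a O hr
  exact ⟨O, hw, V, ⟨f⟩⟩

end Groth.Agent.Et18
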