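import Mathlib.Algebra.Homology.DerivedCategory.ExactFunctor
import Mathlib.CategoryTheory.Localization.Adjunction
import Mathlib.Algebra.Homology.DerivedCategory.HomologySequence

/-!
# An adjunction of exact functors on derived categories

If `G ⊣ F` are exact and the counit is an isomorphism, then `F` induces a fully faithful functor
on derived categories, and a complex on whose cohomology the unit is an isomorphism lies in its
essential image.
-/

set_option autoImplicit false
set_option backward.isDefEq.respectTransparency false
set_option backward.defeqAttrib.useBackward true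

universe w w' v v' u u'

open CategoryTheory CategoryTheory.Limits HomologicalComplex

namespace Groth.Agent.Et18.DerivedExactAdj

variable {A : Type u} [Category.{v} A] [Abelian A] [HasDerivedCategory.{w} A]
  {B : Type u'} [Category.{v'} B] [Abelian B] [HasDerivedCategory.{w'} B]
  {G : A ⥤ B} {F : B ⥤ A} [G.Additive] [F.Additive] (adj : G ⊣ F)

/-- An adjunction, on cochain complexes. -/
noncomputable def adjCx :
    G.mapHomologicalComplex (ComplexShape.up ℤ) ⊣ F.mapHomologicalComplex (ComplexShape.up ℤ) where
  unit :=
    { app := fun K => { f := fun n => adj.unit.app (K.X n), comm' := fun i j _ => (adj.unit.naturality (K.d i j)).symm }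
      naturality := fun K L g => by ext n; exact adj.unit.naturality (g.f n) }
  counit :=
    { app := fun K => { f := fun n => adj.counit.app (K.X n), comm' := fun i j _ => (adj.counit.naturality (K.d i j)).symm }
      naturality := fun K L g => by ext n; exact adj.counit.naturality (g.f n) }
  left_triangle_components K := by ext n; exact adj.left_triangle_components (K.X n)
  right_triangle_components K := by ext n; exact adj.right_triangle_components (K.X n)

variable [PreservesFiniteLimits G] [PreservesFiniteColimits G]
  [PreservesFiniteLimits F] [PreservesFiniteColimits F]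

/-- The functor induced on derived categories by an exact right adjoint with invertible counit is
fully faithful. -/
theorem full_faithful (hc : IsIso adj.counit) :
    F.mapDerivedCategory.Full ∧ F.mapDerivedCategory.Faithful := by
  let : CatCommSq (G.mapHomologicalComplex (ComplexShape.up ℤ)) DerivedCategory.Q DerivedCategory.Q
      G.mapDerivedCategory := ⟨G.mapDerivedCategoryFactors.symm⟩
  let : CatCommSq (F.mapHomologicalComplex (ComplexShape.up ℤ)) DerivedCategory.Q DerivedCategory.Q
      F.mapDerivedCategory := ⟨F.mapDerivedCategoryFactors.symm⟩
  let adjD := (adjCx adj).localization DerivedCategory.Q (HomologicalComplex.quasiIso _ _)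
    DerivedCategory.Q (HomologicalComplex.quasiIso _ _) G.mapDerivedCategory F.mapDerivedCategory
  have h : ∀ K : CochainComplex B ℤ, IsIso (adjD.counit.app (DerivedCategory.Q.obj K)) := fun K => by
    have : ∀ n, IsIso (((adjCx adj).counit.app K).f n) := fun n => by
      change IsIso (adj.counit.app (K.X n)); infer_instance
    have : IsIso ((adjCx adj).counit.app K) := HomologicalComplex.Hom.isIso_of_components _
    rw [Adjunction.localization_counit_app]
    infer_instance
  have : ∀ X : DerivedCategory B, IsIso (adjD.counit.app X) := fun X =>
    have := h (DerivedCategory.Q.objPreimage X)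
    (NatTrans.isIso_app_iff_of_iso adjD.counit (DerivedCategory.Q.objObjPreimageIso X)).1 this
  have : IsIso adjD.counit := NatIso.isIso_of_isIso_app _
  exact ⟨adjD.fullyFaithfulROfIsIsoCounit.full, adjD.fullyFaithfulROfIsIsoCounit.faithful⟩

/-- Cohomology of the image of a complex. -/
theorem nonempty_homology_obj (M : DerivedCategory B) (n : ℤ) :
    Nonempty ((DerivedCategory.homologyFunctor A n).obj (F.mapDerivedCategory.obj M) ≅
      F.obj ((DerivedCategory.homologyFunctor B n).obj M)) := by
  let K := DerivedCategory.Q.objPreimage M
  let e : DerivedCategory.Q.obj K ≅ M := DerivedCategory.Q.objObjPreimageIso M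
  exact ⟨(DerivedCategory.homologyFunctor A n).mapIso
      (F.mapDerivedCategory.mapIso e.symm ≪≫ F.mapDerivedCategoryFactors.app K) ≪≫
    (DerivedCategory.homologyFunctorFactors A n).app _ ≪≫
    (K.sc n).mapHomologyIso F ≪≫
    F.mapIso (((DerivedCategory.homologyFunctorFactors B n).app K).symm ≪≫
      (DerivedCategory.homologyFunctor B n).mapIso e)⟩

/-- A complex on whose cohomology the unit is invertible comes from the other category. -/
theorem mem_essImage (K : DerivedCategory A)
    (hK : ∀ n : ℤ, IsIso (adj.unit.app ((DerivedCategory.homologyFunctor A n).obj K))) :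
    F.mapDerivedCategory.essImage K := by
  let C := DerivedCategory.Q.objPreimage K
  let e : DerivedCategory.Q.obj C ≅ K := DerivedCategory.Q.objObjPreimageIso K
  have hC : ∀ n : ℤ, IsIso (adj.unit.app (C.sc n).homology) := fun n =>
    (NatTrans.isIso_app_iff_of_iso adj.unit ((DerivedCategory.homologyFunctor A n).mapIso e.symm ≪≫
      (DerivedCategory.homologyFunctorFactors A n).app C)).1 (hK n)
  have := comp_preservesFiniteLimits G F
  have := comp_preservesFiniteColimits G F
  have hq : QuasiIso ((adjCx adj).unit.app C) := ⟨fun n => by
    rw [quasiIsoAt_iff_isIso_homologyMap]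
    have := hC n
    change IsIso (ShortComplex.homologyMap (ShortComplex.mapNatTrans (C.sc n) adj.unit))
    rw [ShortComplex.homologyMap_mapNatTrans]
    infer_instance⟩
  exact ⟨DerivedCategory.Q.obj ((G.mapHomologicalComplex _).obj C),
    ⟨F.mapDerivedCategoryFactors.app _ ≪≫
      (asIso (DerivedCategory.Q.map ((adjCx adj).unit.app C))).symm ≪≫ e⟩⟩

end Groth.Agent.Et18.DerivedExactAdj
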