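import Groth.Prelude.Def_EtShriek2

/-!
# Extension by zero commutes with inverse image
-/

universe u

open CategoryTheory CategoryTheory.Limits AlgebraicGeometry Opposite

set_option backward.isDefEq.respectTransparency.types false
set_option backward.isDefEq.respectTransparency false

namespace Groth.Agent.Et18

variable {V' V Y X : Scheme.{u}} (j : V ⟶ X) [Etale j] (f : Y ⟶ X) (j' : V' ⟶ Y) [Etale j']
  (f' : V' ⟶ V) (h : IsPullback j' f' f j)

include h in
lemma isPullback_compBc (W : V.Etale) :
    IsPullback (pullback.fst W.hom f') (pullback.snd W.hom f' ≫ j') (W.hom ≫ j) f :=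
  (IsPullback.of_hasPullback W.hom f').paste_vert h.flip

/-- The two functors between the small étale sites. -/
noncomputable def compBcIso :
    EtCoh.bc f' ⋙ EtShriek.compEtale j' ≅ EtShriek.compEtale j ⋙ EtCoh.bc f :=
  NatIso.ofComponents
    (fun W => MorphismProperty.Over.isoMk (isPullback_compBc j f j' f' h W).isoPullback
      ((isPullback_compBc j f j' f' h W).isoPullback_hom_snd))
    (fun {W W'} g => (Scheme.Etale.forget Y).map_injective (Over.OverMorphism.ext (by
      change ((EtCoh.bc f').map g).left ≫ (isPullback_compBc j f j' f' h W').isoPullback.hom =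
        (isPullback_compBc j f j' f' h W).isoPullback.hom ≫
          ((EtCoh.bc f).map ((EtShriek.compEtale j).map g)).left
      refine pullback.hom_ext ?_ ?_
      · rw [Category.assoc, Category.assoc, IsPullback.isoPullback_hom_fst]
        refine (EtCoh.isPullback_bc_map f' g).w.trans ?_
        refine Eq.trans ?_ (congrArg (fun t => (isPullback_compBc j f j' f' h W).isoPullback.hom ≫ t)
          (EtCoh.isPullback_bc_map f ((EtShriek.compEtale j).map g)).w).symm
        exact (reassoc_of% (isPullback_compBc j f j' f' h W).isoPullback_hom_fst) _ |>.symm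
      · rw [Category.assoc, Category.assoc, IsPullback.isoPullback_hom_snd]
        refine Eq.trans (congrArg (fun t => t ≫ j') (MorphismProperty.Over.w ((EtCoh.bc f').map g))) ?_
        refine Eq.trans ?_ (congrArg (fun t => (isPullback_compBc j f j' f' h W).isoPullback.hom ≫ t)
          (MorphismProperty.Over.w ((EtCoh.bc f).map ((EtShriek.compEtale j).map g)))).symm
        exact (isPullback_compBc j f j' f' h W).isoPullback_hom_snd.symm)))

variable [EtShriek.JCont j] [EtShriek.JCont j']

/-- `j'_! f'^* ≅ f^* j_!`. -/
noncomputable def extZeroBaseChangeIso :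
    EtCoh.pull f' ⋙ EtShriek.extZero j' ≅ EtShriek.extZero j ⋙ EtCoh.pull f :=
  haveI := Functor.isContinuous_comp (EtCoh.bc f') (EtShriek.compEtale j') V.smallEtaleTopology
    V'.smallEtaleTopology Y.smallEtaleTopology
  haveI := Functor.isContinuous_comp (EtShriek.compEtale j) (EtCoh.bc f) V.smallEtaleTopology
    X.smallEtaleTopology Y.smallEtaleTopology
  ((EtCoh.pullPushAdj f').comp (EtShriek.extZeroAdj j')).leftAdjointUniq
    (((EtShriek.extZeroAdj j).comp (EtCoh.pullPushAdj f)).ofNatIsoRight
      (Functor.sheafPushforwardContinuousComp _ _ _ _ _ _ ≪≫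
        Functor.sheafPushforwardContinuousIso (compBcIso j f j' f' h).symm
          AddCommGrpCat.{u + 1} V.smallEtaleTopology Y.smallEtaleTopology ≪≫
        (Functor.sheafPushforwardContinuousComp _ _ _ _ _ _).symm))

end Groth.Agent.Et18
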