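import Groth.Prelude.Def_EtShriek2

/-!
# Composition with an étale morphism is continuous on small étale sites
-/

universe u w

open CategoryTheory CategoryTheory.Limits AlgebraicGeometry Opposite

set_option backward.isDefEq.respectTransparency.types false
set_option backward.isDefEq.respectTransparency false

namespace Groth.Agent.Et18

variable {U X : Scheme.{u}} (j : U ⟶ X) [Etale j]

theorem compatiblePreserving_compEtale :
    CompatiblePreserving.{w} X.smallEtaleTopology (EtShriek.compEtale j) := by
  refine ⟨fun ℱ Z T x hx Y₁ Y₂ W f₁ f₂ g₁ g₂ hg₁ hg₂ e => ?_⟩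
  let L := EtShriek.compEtaleLift j f₁
  let V' := L.1
  let i := L.2
  let h₁ : V' ⟶ Y₁ := MorphismProperty.Over.homMk f₁.left rfl
  have e' : f₁.left ≫ g₁.left = f₂.left ≫ g₂.left := congrArg (fun k => k.left) e
  have w₂ : f₂.left ≫ Y₂.hom = V'.hom := by
    change f₂.left ≫ Y₂.hom = f₁.left ≫ Y₁.hom
    rw [← MorphismProperty.Over.w g₁, ← MorphismProperty.Over.w g₂]
    exact (Category.assoc _ _ _).symm.trans ((congrArg (fun t => t ≫ Z.hom) e'.symm).trans
      (Category.assoc _ _ _))
  let h₂ : V' ⟶ Y₂ := MorphismProperty.Over.homMk f₂.left w₂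
  have hh : h₁ ≫ g₁ = h₂ ≫ g₂ := MorphismProperty.Over.Hom.ext e'
  have hc := hx h₁ h₂ hg₁ hg₂ hh
  have e₁ : i.inv ≫ (EtShriek.compEtale j).map h₁ = f₁ :=
    MorphismProperty.Over.Hom.ext (Category.id_comp _)
  have e₂ : i.inv ≫ (EtShriek.compEtale j).map h₂ = f₂ :=
    MorphismProperty.Over.Hom.ext (Category.id_comp _)
  rw [← e₁, ← e₂, op_comp, op_comp, Functor.map_comp, Functor.map_comp]
  exact congrArg (ℱ.obj.map i.inv.op) hc

/-- Composition with an étale morphism is continuous. -/
theorem jCont : EtShriek.JCont j :=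
  Functor.isContinuous_of_coverPreserving (compatiblePreserving_compEtale j)
    (EtShriek.coverPreserving_compEtale j)

end Groth.Agent.Et18
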