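import Mathlib.CategoryTheory.Sites.Point.Conservative
import Mathlib.CategoryTheory.Limits.Final

/-!
# Points of a site, lifted one universe up
-/

universe w' w v u v' u'

open CategoryTheory CategoryTheory.Limits Opposite

namespace Groth.Agent.Et18

variable {C : Type u} [Category.{v} C] {J : GrothendieckTopology C}
  (Φ : GrothendieckTopology.Point.{w} J)

/-- Lift elements. -/
def liftElements : Φ.fiber.Elements ⥤ (Φ.fiber ⋙ uliftFunctor.{w'}).Elements where
  obj p := ⟨p.1, ULift.up p.2⟩
  map {p q} f := ⟨f.1, ULift.ext _ _ f.2⟩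

instance : (liftElements.{w'} Φ).Faithful where
  map_injective h := by
    have h' := congrArg Subtype.val h
    exact Subtype.ext h'

instance : (liftElements.{w'} Φ).Full where
  map_surjective f := ⟨⟨f.1, congrArg ULift.down f.2⟩, Subtype.ext rfl⟩

instance : (liftElements.{w'} Φ).EssSurj where
  mem_essImage p := ⟨⟨p.1, p.2.down⟩, ⟨Iso.refl _⟩⟩

instance : (liftElements.{w'} Φ).IsEquivalence where

/-- A point, lifted one universe up. -/
noncomputable def liftPoint [InitiallySmall.{max w w'} (Φ.fiber ⋙ uliftFunctor.{w'}).Elements] :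
    GrothendieckTopology.Point.{max w w'} J where
  fiber := Φ.fiber ⋙ uliftFunctor.{w'}
  isCofiltered := IsCofiltered.of_equivalence (liftElements.{w'} Φ).asEquivalence
  jointly_surjective R hR x := by
    obtain ⟨Y, f, hf, y, hy⟩ := Φ.jointly_surjective R hR x.down
    exact ⟨Y, f, hf, ULift.up y, ULift.ext _ _ hy⟩

variable [InitiallySmall.{max w w'} (Φ.fiber ⋙ uliftFunctor.{w'}).Elements]
  (A : Type u') [Category.{v'} A] [HasColimitsOfSize.{w, w} A]
  [HasColimitsOfSize.{max w w', max w w'} A]

/-- Lifting a point does not change the fibres of presheaves. -/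
noncomputable def liftPresheafFiberIso :
    ((liftPoint.{w'} Φ).presheafFiber : (Cᵒᵖ ⥤ A) ⥤ A) ≅ Φ.presheafFiber :=
  haveI : HasColimitsOfShape (Φ.fiber ⋙ uliftFunctor.{w'}).Elementsᵒᵖ A :=
    inferInstanceAs (HasColimitsOfShape (liftPoint.{w'} Φ).fiber.Elementsᵒᵖ A)
  Functor.isoWhiskerLeft ((Functor.whiskeringLeft _ _ A).obj
      (CategoryOfElements.π (Φ.fiber ⋙ uliftFunctor.{w'})).op)
    (Functor.Final.colimIso (liftElements.{w'} Φ).op).symm

/-- Lifting a point does not change the fibres of sheaves. -/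
noncomputable def liftSheafFiberIso :
    ((liftPoint.{w'} Φ).sheafFiber : Sheaf J A ⥤ A) ≅ Φ.sheafFiber :=
  Functor.isoWhiskerLeft (sheafToPresheaf J A) (liftPresheafFiberIso.{w'} Φ A)

end Groth.Agent.Et18
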