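import Groth.Prelude.Def_EtCore
import Mathlib.CategoryTheory.Sites.Point.Comap
import Mathlib.CategoryTheory.Sites.Point.Conservative
import Mathlib.CategoryTheory.Sites.Point.Category
import Mathlib.CategoryTheory.Functor.ReflectsIso.Jointly
import Mathlib.CategoryTheory.Limits.FinallySmall
import Groth.Agent.Et18.LiftPoint
import Mathlib.Algebra.Category.Grp.AB
import Mathlib.Algebra.Category.Grp.FilteredColimits
import Mathlib.Algebra.Homology.ShortComplex.ConcreteCategory

/-!
# Stalks of abelian sheaves on the small étale site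

* the fibre functors at geometric points are conservative;
* the stalk of an inverse image is the stalk at the composite point.
-/

universe u

open CategoryTheory CategoryTheory.Limits AlgebraicGeometry Opposite

set_option backward.isDefEq.respectTransparency.types false
set_option backward.isDefEq.respectTransparency false

namespace Groth.Agent.Et18

variable {X Y : Scheme.{u}}

/-- The canonical geometric point over `x`. -/
noncomputable abbrev sepPoint (X : Scheme.{u}) (x : X) :
    Spec (CommRingCat.of (SeparableClosure (X.residueField x))) ⟶ X :=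
  (Scheme.SpecToEquivOfField (SeparableClosure (X.residueField x)) X).2
    ⟨x, CommRingCat.ofHom (algebraMap (X.residueField x) _)⟩

lemma sepPoint_default (X : Scheme.{u}) (x : X) : sepPoint X x default = x := by
  simp [sepPoint, Scheme.SpecToEquivOfField]

instance (Φ : GrothendieckTopology.Point.{u} X.smallEtaleTopology) :
    InitiallySmall.{u + 1} (Φ.fiber ⋙ uliftFunctor.{u + 1}).Elements :=
  have : EssentiallySmall.{u + 1} (Φ.fiber ⋙ uliftFunctor.{u + 1}).Elements :=
    essentiallySmall_of_small_of_locallySmall _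
  initiallySmall_of_essentiallySmall _

/-- The stalk as the fibre at the lifted point. -/
noncomputable def bigStalkIso {Ω : Type u} [Field Ω] [IsSepClosed Ω]
    (ξ : Spec (CommRingCat.of Ω) ⟶ X) :
    ((liftPoint.{u + 1} (Scheme.pointSmallEtale ξ)).sheafFiber : EtCoh.Ab X ⥤ AddCommGrpCat.{u + 1}) ≅
      EtCoh.stalk ξ :=
  liftSheafFiberIso.{u + 1} _ _

instance stalk_preservesFiniteLimits {Ω : Type u} [Field Ω] [IsSepClosed Ω]
    (ξ : Spec (CommRingCat.of Ω) ⟶ X) : PreservesFiniteLimits (EtCoh.stalk ξ) :=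
  preservesFiniteLimits_of_natIso (bigStalkIso ξ)

section Family

variable {ι : Type (u + 1)} {Ω : ι → Type u} [∀ i, Field (Ω i)] [∀ i, IsSepClosed (Ω i)]
  (s : ∀ i, Spec (CommRingCat.of (Ω i)) ⟶ X) (hs : ∀ x : X, ∃ i, s i default = x)

/-- A family of geometric points, lifted one universe up. -/
abbrev bigPoints : ObjectProperty (GrothendieckTopology.Point.{u + 1} X.smallEtaleTopology) :=
  ObjectProperty.ofObj fun i : ι => liftPoint.{u + 1} (Scheme.pointSmallEtale (s i))

include hs in
/-- A jointly surjective family of geometric points is conservative. -/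
lemma bigPoints_isConservative : (bigPoints s).IsConservativeFamilyOfPoints :=
  .mk' fun U R hR => by
    obtain ⟨α, T, f, rfl⟩ := R.exists_eq_ofArrows
    rw [Scheme.ofArrows_mem_smallEtaleTopology_iff]
    ext x
    simp only [Set.mem_iUnion, Set.mem_range, Set.mem_univ, iff_true]
    obtain ⟨i, hi⟩ := hs (U.hom x)
    obtain ⟨x', hx'⟩ := Scheme.pointSmallEtaleFiberObjToPreimage_surjective (s i) hi U ⟨x, rfl⟩
    rw [Subtype.ext_iff] at hx'
    change x'.left _ = x at hx'
    obtain ⟨W, g, ⟨Z, p, _, ⟨a⟩, rfl⟩, y, hy⟩ :=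
      hR ⟨liftPoint.{u + 1} (Scheme.pointSmallEtale (s i)), ⟨i⟩⟩ (ULift.up x')
    refine ⟨a, (y.down ≫ (Scheme.Etale.forget X).map p).left (default : Spec (CommRingCat.of _)), ?_⟩
    refine Eq.trans ?_ hx'
    exact congrArg (fun t => t.left (default : Spec (CommRingCat.of _))) (congrArg ULift.down hy)

include hs in
lemma jointlyReflectIsomorphisms_of_family :
    JointlyReflectIsomorphisms (fun Φ : (bigPoints s).FullSubcategory =>
        (Φ.obj.sheafFiber : EtCoh.Ab X ⥤ AddCommGrpCat.{u + 1})) :=
  (bigPoints_isConservative s hs).jointlyReflectIsomorphisms _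

include hs in
/-- A morphism is an isomorphism if it is so on the stalks at a surjective family of points. -/
theorem isIso_of_stalks_family {F G : EtCoh.Ab X} (a : F ⟶ G)
    (h : ∀ i, IsIso ((EtCoh.stalk (s i)).map a)) : IsIso a := by
  have : ∀ Φ : (bigPoints s).FullSubcategory, IsIso (Φ.obj.sheafFiber.map a) := by
    rintro ⟨_, ⟨i⟩⟩
    exact (NatIso.isIso_map_iff (bigStalkIso (s i)) a).mpr (h i)
  exact (jointlyReflectIsomorphisms_of_family s hs).isIso a

include hs in
/-- A morphism is a monomorphism if it is injective on the stalks at a surjective family. -/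
theorem mono_of_stalks_family {F G : EtCoh.Ab X} (a : F ⟶ G)
    (h : ∀ i, Function.Injective ((EtCoh.stalk (s i)).map a)) : Mono a := by
  have : ∀ Φ : (bigPoints s).FullSubcategory, Mono (Φ.obj.sheafFiber.map a) := by
    rintro ⟨_, ⟨i⟩⟩
    exact ((MorphismProperty.monomorphisms _).arrow_mk_iso_iff
      ((Functor.mapArrowFunctor _ _).mapIso (bigStalkIso (s i)) |>.app (Arrow.mk a))).mpr
        (ConcreteCategory.mono_of_injective _ (h i))
  exact (jointlyReflectIsomorphisms_of_family s hs).jointlyReflectMonomorphisms.mono a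

include hs in
/-- A morphism is an epimorphism if it is surjective on the stalks at a surjective family. -/
theorem epi_of_stalks_family {F G : EtCoh.Ab X} (a : F ⟶ G)
    (h : ∀ i, Function.Surjective ((EtCoh.stalk (s i)).map a)) : Epi a := by
  have : ∀ Φ : (bigPoints s).FullSubcategory, Epi (Φ.obj.sheafFiber.map a) := by
    rintro ⟨_, ⟨i⟩⟩
    exact ((MorphismProperty.epimorphisms _).arrow_mk_iso_iff
      ((Functor.mapArrowFunctor _ _).mapIso (bigStalkIso (s i)) |>.app (Arrow.mk a))).mpr
        (ConcreteCategory.epi_of_surjective _ (h i))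
  exact (jointlyReflectIsomorphisms_of_family s hs).jointlyReflectEpimorphisms.epi a

end Family

lemma exists_sepPoint (X : Scheme.{u}) (x : X) :
    ∃ i : ULift.{u + 1} X, sepPoint X i.down default = x :=
  ⟨⟨x⟩, sepPoint_default X x⟩

/-- A morphism is an isomorphism if it is so on all stalks. -/
theorem isIso_of_stalks {F G : EtCoh.Ab X} (a : F ⟶ G)
    (h : ∀ x : X, IsIso ((EtCoh.stalk (sepPoint X x)).map a)) : IsIso a :=
  isIso_of_stalks_family _ (exists_sepPoint X) a fun i => h i.down

/-- A morphism is a monomorphism if it is injective on all stalks. -/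
theorem mono_of_stalks {F G : EtCoh.Ab X} (a : F ⟶ G)
    (h : ∀ x : X, Function.Injective ((EtCoh.stalk (sepPoint X x)).map a)) : Mono a :=
  mono_of_stalks_family _ (exists_sepPoint X) a fun i => h i.down

/-- A morphism is an epimorphism if it is surjective on all stalks. -/
theorem epi_of_stalks {F G : EtCoh.Ab X} (a : F ⟶ G)
    (h : ∀ x : X, Function.Surjective ((EtCoh.stalk (sepPoint X x)).map a)) : Epi a :=
  epi_of_stalks_family _ (exists_sepPoint X) a fun i => h i.down

/-- An object is zero if all its stalks are. -/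
theorem isZero_of_stalks {F : EtCoh.Ab X}
    (h : ∀ x : X, IsZero ((EtCoh.stalk (sepPoint X x)).obj F)) : IsZero F := by
  rw [IsZero.iff_id_eq_zero]
  have : Mono (0 : F ⟶ F) := mono_of_stalks _ fun x => by
    have : Subsingleton ((EtCoh.stalk (sepPoint X x)).obj F) :=
      AddCommGrpCat.subsingleton_of_isZero (h x)
    exact Function.injective_of_subsingleton _
  rw [← cancel_mono (0 : F ⟶ F)]
  simp

/-- Exactness can be checked on stalks. -/
theorem exact_of_stalks (S : ShortComplex (EtCoh.Ab X))
    (h : ∀ x : X, (S.map (EtCoh.stalk (sepPoint X x))).Exact) : S.Exact := by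
  rw [S.exact_iff_isZero_homology]
  refine isZero_of_stalks fun x => ?_
  exact IsZero.of_iso ((S.map (EtCoh.stalk (sepPoint X x))).exact_iff_isZero_homology.mp (h x))
    (S.mapHomologyIso (EtCoh.stalk (sepPoint X x))).symm

/-! ### Stalks of inverse images -/

variable (f : X ⟶ Y) {Ω : Type u} [Field Ω] [IsSepClosed Ω] (ξ : Spec (CommRingCat.of Ω) ⟶ X)

/-- Fibres of base changes. -/
noncomputable def bcFiberIso :
    EtCoh.bc f ⋙ (Scheme.pointSmallEtale ξ).fiber ≅ (Scheme.pointSmallEtale (ξ ≫ f)).fiber :=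
  (Functor.associator _ _ _).symm ≪≫
    Functor.isoWhiskerRight
      (MorphismProperty.Over.pullbackCompForgetIso (P := EtCoh.etaleMP.{u}) (Q := ⊤) f :
        EtCoh.bc f ⋙ Scheme.Etale.forget X ≅ Scheme.Etale.forget Y ⋙ Over.pullback f) _ ≪≫
    Functor.associator _ _ _ ≪≫
    Functor.isoWhiskerLeft (Scheme.Etale.forget Y)
      ((Over.mapPullbackAdj f).compCoyonedaIso.app (op (Over.mk ξ))).symm

instance initiallySmall_bc : InitiallySmall.{u} (EtCoh.bc f ⋙ (Scheme.pointSmallEtale ξ).fiber).Elements := by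
  obtain ⟨S, hS, F, hF⟩ := (Scheme.pointSmallEtale (ξ ≫ f)).initiallySmall
  let e := Cat.equivOfIso (Functor.elementsFunctor.mapIso (bcFiberIso f ξ).symm)
  exact InitiallySmall.mk' (F ⋙ e.functor)

/-- The comap point is the composite point. -/
noncomputable def comapPointIso :
    (Scheme.pointSmallEtale ξ).comap (EtCoh.bc f) (EtCoh.coverPreserving_bc f) ≅
      Scheme.pointSmallEtale (ξ ≫ f) where
  hom := ⟨(bcFiberIso f ξ).inv⟩
  inv := ⟨(bcFiberIso f ξ).hom⟩
  hom_inv_id := by ext : 1; exact (bcFiberIso f ξ).hom_inv_id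
  inv_hom_id := by ext : 1; exact (bcFiberIso f ξ).inv_hom_id

/-- An isomorphism of points gives an isomorphism of fibre functors. -/
noncomputable def sheafFiberIsoOfIso {C : Type*} [Category C] {J : GrothendieckTopology C}
    {A : Type*} [Category A] {Φ₁ Φ₂ : GrothendieckTopology.Point.{u} J}
    [HasColimitsOfSize.{u, u} A] (e : Φ₁ ≅ Φ₂) :
    (Φ₁.sheafFiber : Sheaf J A ⥤ A) ≅ Φ₂.sheafFiber where
  hom := e.inv.sheafFiber
  inv := e.hom.sheafFiber
  hom_inv_id := by
    rw [← GrothendieckTopology.Point.Hom.sheafFiber_comp, e.hom_inv_id,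
      GrothendieckTopology.Point.Hom.sheafFiber_id]
  inv_hom_id := by
    rw [← GrothendieckTopology.Point.Hom.sheafFiber_comp, e.inv_hom_id,
      GrothendieckTopology.Point.Hom.sheafFiber_id]

/-- The stalk of an inverse image. -/
noncomputable def stalkPullIso : EtCoh.pull f ⋙ EtCoh.stalk ξ ≅ EtCoh.stalk (ξ ≫ f) :=
  ((Scheme.pointSmallEtale ξ).sheafFiberComapIso (EtCoh.bc f) (EtCoh.coverPreserving_bc f)
    AddCommGrpCat.{u + 1}).symm ≪≫ sheafFiberIsoOfIso (comapPointIso f ξ)

/-- Inverse images are exact. -/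
instance pull_preservesFiniteLimits : PreservesFiniteLimits (EtCoh.pull f) := by
  refine ⟨fun Sh _ _ => ⟨fun {K} => ⟨fun {c} hc => ⟨?_⟩⟩⟩⟩
  let d := limit.isLimit (K ⋙ EtCoh.pull f)
  let φ := d.lift ((EtCoh.pull f).mapCone c)
  suffices IsIso φ from d.ofIsoLimit (Cone.ext (asIso φ) (fun j => (d.fac _ j).symm)).symm
  refine isIso_of_stalks φ fun x => ?_
  let ξ := sepPoint X x
  have : PreservesFiniteLimits (EtCoh.pull f ⋙ EtCoh.stalk ξ) :=
    preservesFiniteLimits_of_natIso (stalkPullIso f ξ).symm
  have hc' : IsLimit ((EtCoh.stalk ξ).mapCone ((EtCoh.pull f).mapCone c)) :=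
    isLimitOfPreserves (EtCoh.pull f ⋙ EtCoh.stalk ξ) hc
  have hd' := isLimitOfPreserves (EtCoh.stalk ξ) d
  have : (EtCoh.stalk ξ).map φ = (hc'.conePointUniqueUpToIso hd').hom := by
    refine hd'.hom_ext fun j => ?_
    rw [IsLimit.conePointUniqueUpToIso_hom_comp, Functor.mapCone_π_app, ← Functor.map_comp, d.fac]
    rfl
  rw [this]
  infer_instance

end Groth.Agent.Et18
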