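import Groth.Agent.Et18.Stalk
import Groth.Agent.DCat.RFBasic
import Groth.Agent.DCat.DerivedLimits
import Groth.Prelude.Def_SixF1

/-!
# Composition of unbounded derived direct images
-/

set_option autoImplicit false
set_option backward.isDefEq.respectTransparency false
set_option backward.defeqAttrib.useBackward true
set_option linter.style.haveILetI false

universe u

open CategoryTheory CategoryTheory.Limits AlgebraicGeometry
open Groth.Agent.DCat

attribute [local instance] HasDerivedCategory.standard

namespace Groth.Agent.Et18.RDCompD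

theorem enoughKInj_ab (X : Scheme.{u}) : EnoughKInj (EtCoh.Ab X) := by
  haveI : IsGrothendieckAbelian.{u + 1} (EtCoh.Ab X) := inferInstance
  exact enoughKInj_of_isGrothendieckAbelian

variable {X Y Z : Scheme.{u}}

theorem kInj_push (f : X ⟶ Y) {K : HomotopyCategory (EtCoh.Ab X) (ComplexShape.up ℤ)}
    (hK : kInj (EtCoh.Ab X) K) :
    kInj (EtCoh.Ab Y) (((EtCoh.push f).mapHomotopyCategory (ComplexShape.up ℤ)).obj K) := by
  haveI : CochainComplex.IsKInjective K.as := hK
  exact isKInjective_map_of_adj (EtCoh.pullPushAdj f) K.as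

theorem isIso_compMap (f : X ⟶ Y) (g : Y ⟶ Z)
    [DCoh.HasRpushEt X f] [DCoh.HasRpushEt Y g] [DCoh.HasRpushEt X (f ≫ g)] :
    IsIso (EtSix.compMap f g) := by
  let res := kInj_resolution (enoughKInj_ab X)
  let res' := kInj_resolution (enoughKInj_ab Y)
  haveI h0 : IsIso (NatTrans.mapHomotopyCategory (EtCoh.pushComp g f).inv (ComplexShape.up ℤ)) := by
    have : ∀ K, IsIso ((NatTrans.mapHomotopyCategory (EtCoh.pushComp g f).inv (ComplexShape.up ℤ)).app K) := fun K => by
      have hi : IsIso ((NatTrans.mapHomologicalComplex (EtCoh.pushComp g f).inv (ComplexShape.up ℤ)).app K.as) := by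
        have : ∀ n, IsIso (((NatTrans.mapHomologicalComplex (EtCoh.pushComp g f).inv (ComplexShape.up ℤ)).app K.as).f n) :=
          fun n => by
            dsimp
            infer_instance
        exact HomologicalComplex.Hom.isIso_of_components _
      show IsIso ((HomotopyCategory.quotient _ (ComplexShape.up ℤ)).map _)
      infer_instance
    exact NatIso.isIso_of_isIso_app _
  haveI : (DCoh.RpushEt X f ⋙ DCoh.RpushEt Y g).IsRightDerivedFunctor (EtSix.compUnit f g)
      (HomotopyCategory.quasiIso (EtCoh.Ab X) (ComplexShape.up ℤ)) :=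
    isRightDerived_of_isIso res (kInj_isIso_map _) _ fun K hK => by
      haveI : IsIso (((DCoh.pushEtKh X f).totalRightDerivedUnit DerivedCategory.Qh
          (HomotopyCategory.quasiIso (EtCoh.Ab X) (ComplexShape.up ℤ))).app K) :=
        isIso_unit_of_mem res (kInj_isIso_map _) _ hK
      haveI : IsIso (((DCoh.pushEtKh Y g).totalRightDerivedUnit DerivedCategory.Qh
          (HomotopyCategory.quasiIso (EtCoh.Ab Y) (ComplexShape.up ℤ))).app
            (((EtCoh.push f).mapHomotopyCategory (ComplexShape.up ℤ)).obj K)) :=
        isIso_unit_of_mem res' (kInj_isIso_map _) _ (kInj_push f hK)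
      dsimp only [EtSix.compUnit, NatTrans.comp_app, Functor.whiskerRight_app, Functor.whiskerLeft_app]
      infer_instance
  exact (Functor.isRightDerivedFunctor_iff_isIso_rightDerivedDesc (DCoh.RpushEt X (f ≫ g)) _
    (HomotopyCategory.quasiIso (EtCoh.Ab X) (ComplexShape.up ℤ)) _ (EtSix.compUnit f g)).1 inferInstance

end Groth.Agent.Et18.RDCompD
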