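import Groth.Agent.Et18.StalkSh
import Mathlib.CategoryTheory.Adhesive.Basic
import Mathlib.CategoryTheory.Sites.Adjunction
import Mathlib.CategoryTheory.Sites.LeftExact

/-!
# Pulling back global sections of sheaves of sets
-/

universe u

open CategoryTheory CategoryTheory.Limits AlgebraicGeometry Opposite

set_option backward.isDefEq.respectTransparency.types false
set_option backward.isDefEq.respectTransparency false

namespace Groth.Agent.Et18

variable {X Y : Scheme.{u}} (h : Y ⟶ X)

lemma secPull_naturality {F G : EtDesc.Sh X} (u : F ⟶ G) (s : EtDesc.sect F (EtCoh.top X)) :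
    ((EtDesc.pullSh h).map u).hom.app (op (EtCoh.top Y)) (EtDesc.secPull h F s) =
      EtDesc.secPull h G (u.hom.app _ s) := by
  unfold EtDesc.secPull
  have h1 := congrArg (fun t => t.hom.app (op (EtCoh.top X))) ((EtDesc.adjSh h).unit.naturality u)
  have h2 := ConcreteCategory.congr_hom h1 s
  refine (ConcreteCategory.congr_hom
    (((EtDesc.pullSh h).map u).hom.naturality (EtCore.bcTopIso h).inv.op) _).trans ?_
  exact congrArg (((EtDesc.pullSh h).obj G).obj.map (EtCore.bcTopIso h).inv.op) h2.symm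

/-- Inverse images of sheaves of sets are left exact. -/
instance pullSh_preservesFiniteLimits : PreservesFiniteLimits (EtDesc.pullSh h) := by
  refine ⟨fun Sh _ _ => ⟨fun {K} => ⟨fun {c} hc => ⟨?_⟩⟩⟩⟩
  let d := limit.isLimit (K ⋙ EtDesc.pullSh h)
  let φ := d.lift ((EtDesc.pullSh h).mapCone c)
  suffices IsIso φ from d.ofIsoLimit (Cone.ext (asIso φ) (fun j => (d.fac _ j).symm)).symm
  refine isIso_of_stalksSh_family _ (exists_sepPoint Y) φ fun y => ?_
  let ξ := sepPoint Y y.down
  have : PreservesFiniteLimits (EtDesc.pullSh h ⋙ stalkSh ξ) :=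
    preservesFiniteLimits_of_natIso (stalkShPullIso h ξ).symm
  have hc' : IsLimit ((stalkSh ξ).mapCone ((EtDesc.pullSh h).mapCone c)) :=
    isLimitOfPreserves (EtDesc.pullSh h ⋙ stalkSh ξ) hc
  have hd' := isLimitOfPreserves (stalkSh ξ) d
  have : (stalkSh ξ).map φ = (hc'.conePointUniqueUpToIso hd').hom := by
    refine hd'.hom_ext fun j => ?_
    rw [IsLimit.conePointUniqueUpToIso_hom_comp, Functor.mapCone_π_app, ← Functor.map_comp, d.fac]
    rfl
  rw [this]
  infer_instance

/-- Descending membership in a subsheaf. -/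
theorem mem_range_secPull_of_mono
    (hinj : ∀ F : EtDesc.Sh X, Function.Injective (EtDesc.secPull h F))
    {F G : EtDesc.Sh X} (u : F ⟶ G) [Mono u]
    (ξ : EtDesc.sect ((EtDesc.pullSh h).obj F) (EtCoh.top Y))
    (hξ : ((EtDesc.pullSh h).map u).hom.app (op (EtCoh.top Y)) ξ ∈ Set.range (EtDesc.secPull h G)) :
    ξ ∈ Set.range (EtDesc.secPull h F) := by
  obtain ⟨s, hs⟩ := hξ
  obtain ⟨P, a, b, w, hl⟩ : ∃ (P : EtDesc.Sh X) (a b : G ⟶ P) (w : u ≫ a = u ≫ b),
      Nonempty (IsLimit (Fork.ofι u w)) :=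
    ⟨_, _, _, (regularMonoOfMono u).w, ⟨(regularMonoOfMono u).isLimit⟩⟩
  obtain ⟨hl⟩ := hl
  let ev : EtDesc.Sh X ⥤ Type (u + 1) :=
    sheafToPresheaf _ _ ⋙ (evaluation _ _).obj (op (EtCoh.top X))
  have hab : a.hom.app _ s = b.hom.app _ s := by
    apply hinj P
    rw [← secPull_naturality h a s, ← secPull_naturality h b s, hs]
    have e := congrArg (fun k => (k.hom.app (op (EtCoh.top Y))) ξ)
      (((EtDesc.pullSh h).map_comp u a).symm.trans ((congrArg (EtDesc.pullSh h).map w).trans
        ((EtDesc.pullSh h).map_comp u b)))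
    exact e
  obtain ⟨k, hk, -⟩ := Fork.IsLimit.existsUnique
    (isLimitForkMapOfIsLimit ev w hl) (↾fun _ : PUnit.{u + 2} => s) (by ext; exact hab)
  refine ⟨k PUnit.unit, ?_⟩
  haveI : Mono ((EtDesc.pullSh h).map u) := Functor.map_mono _ _
  have hi : Mono (((EtDesc.pullSh h).map u).hom.app (op (EtCoh.top Y))) :=
    inferInstanceAs (Mono ((sheafToPresheaf _ _ ⋙ (evaluation _ _).obj (op (EtCoh.top Y))).map
      ((EtDesc.pullSh h).map u)))
  refine (mono_iff_injective _).mp hi ?_
  rw [secPull_naturality h u, ← hs]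
  exact congrArg _ (ConcreteCategory.congr_hom hk PUnit.unit)

end Groth.Agent.Et18
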