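import Groth.Agent.Et18.BaseChange0Stalk
import Groth.Agent.Et18.SecPull
import Groth.Prelude.Def_EtBCD

/-!
# Pulling back sections and base change
-/

universe u

open CategoryTheory CategoryTheory.Limits AlgebraicGeometry Opposite

set_option backward.isDefEq.respectTransparency.types false
set_option backward.isDefEq.respectTransparency false

namespace Groth.Agent.Et18

variable {X Y X' Y' : Scheme.{u}} (f : X ⟶ Y) (g : Y' ⟶ Y) (f' : X' ⟶ Y') (g' : X' ⟶ X)
  (w : g' ≫ f = f' ≫ g)

lemma unit_baseChange0Sh (F : EtDesc.Sh X) (V : Y.Etale) :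
    ((EtDesc.adjSh g).unit.app ((EtDesc.pushSh f).obj F)).hom.app (op V) ≫
        (EtBC.baseChange0Sh f g f' g' w F).hom.app (op ((EtCoh.bc g).obj V)) =
      ((EtDesc.adjSh g').unit.app F).hom.app (op ((EtCoh.bc f).obj V)) ≫
        ((EtDesc.pullSh g').obj F).obj.map (bcSquareHom f g f' g' w V).op := by
  have h := ((EtDesc.adjSh g).homEquiv _ _).apply_symm_apply
    ((EtDesc.pushSh f).map ((EtDesc.adjSh g').unit.app F) ≫ (EtDesc.pushCompSh f g').hom.app _ ≫
      (EtBC.pushCongrSh w).hom.app _ ≫ (EtDesc.pushCompSh g f').inv.app _)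
  rw [Adjunction.homEquiv_unit] at h
  have h2 := congrArg (fun t => t.hom.app (op V)) h
  refine Eq.trans h2 ?_
  unfold bcSquareHom
  simp [EtDesc.pushCompSh, EtBC.pushCongrSh, Functor.map_comp, Category.assoc]

/-- Pulling sections back commutes with base change. -/
theorem baseChange0Sh_secPull (F : EtDesc.Sh X) (s : EtDesc.sect F (EtCoh.top X)) :
    (EtBC.baseChange0Sh f g f' g' w F).hom.app (op (EtCoh.top Y'))
        (EtDesc.secPull g ((EtDesc.pushSh f).obj F) (F.obj.map (EtCore.bcTopIso f).hom.op s)) =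
      ((EtDesc.pullSh g').obj F).obj.map (EtCore.bcTopIso f').hom.op (EtDesc.secPull g' F s) := by
  unfold EtDesc.secPull
  refine (ConcreteCategory.congr_hom
    ((EtBC.baseChange0Sh f g f' g' w F).hom.naturality (EtCore.bcTopIso g).inv.op) _).trans ?_
  let s' : EtDesc.sect ((EtDesc.pushSh f).obj F) (EtCoh.top Y) :=
    F.obj.map (EtCore.bcTopIso f).hom.op s
  have h1 := ConcreteCategory.congr_hom (unit_baseChange0Sh f g f' g' w F (EtCoh.top Y)) s'
  refine (congrArg (((EtDesc.pushSh f').obj ((EtDesc.pullSh g').obj F)).obj.map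
    (EtCore.bcTopIso g).inv.op) h1).trans ?_
  let G := (EtDesc.pullSh g').obj F
  have h2 : ((EtDesc.adjSh g').unit.app F).hom.app (op ((EtCoh.bc f).obj (EtCoh.top Y))) s' =
      G.obj.map ((EtCoh.bc g').map (EtCore.bcTopIso f).hom).op
        (((EtDesc.adjSh g').unit.app F).hom.app (op (EtCoh.top X)) s) :=
    ConcreteCategory.congr_hom (((EtDesc.adjSh g').unit.app F).hom.naturality (EtCore.bcTopIso f).hom.op) s
  refine (congrArg (fun z => ((EtDesc.pushSh f').obj G).obj.map (EtCore.bcTopIso g).inv.op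
    (G.obj.map (bcSquareHom f g f' g' w (EtCoh.top Y)).op z)) h2).trans ?_
  change G.obj.map ((EtCoh.bc f').map (EtCore.bcTopIso g).inv).op (G.obj.map _ (G.obj.map _ _)) = _
  rw [← Functor.map_comp_apply, ← Functor.map_comp_apply, ← Functor.map_comp_apply, ← op_comp,
    ← op_comp, ← op_comp]
  exact congrArg (fun t : (EtCoh.bc f').obj (EtCoh.top Y') ⟶ (EtCoh.bc g').obj (EtCoh.top X) =>
    G.obj.map t.op (((EtDesc.adjSh g').unit.app F).hom.app (op (EtCoh.top X)) s))
    ((EtCore.bcTopIsTerminal g').hom_ext _ _)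

end Groth.Agent.Et18
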