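import Groth.Agent.Et18.H0Lift.SetGerms
import Groth.Agent.Et18.H0Lift.BaseChangeSets
import Groth.Agent.Et18.SecPullBaseChange

/-!
# Pasting of base change morphisms for sheaves of sets
-/

set_option autoImplicit false
set_option linter.all false
set_option backward.isDefEq.respectTransparency.types false
set_option backward.isDefEq.respectTransparency false
set_option maxHeartbeats 1000000

universe u

open CategoryTheory CategoryTheory.Limits AlgebraicGeometry Opposite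
open Groth.Agent.Et18.H0Lift

namespace Groth.Agent.Et18.BCPaste

theorem hom_ext_bc {A B : Scheme.{u}} (a : A ⟶ B) {Z : A.Etale} (W : B.Etale) (j k : Z ⟶ (EtCoh.bc a).obj W)
    (h : j.left ≫ EtShriek.prV a W = k.left ≫ EtShriek.prV a W) : j = k :=
  (Scheme.Etale.forget A ⋙ CategoryTheory.Over.forget A).map_injective
    (pullback.hom_ext h ((MorphismProperty.Over.w j).trans (MorphismProperty.Over.w k).symm))

theorem map_prV {A B : Scheme.{u}} (a : A ⟶ B) {U V : B.Etale} (g : V ⟶ U) :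
    ((EtCoh.bc a).map g).left ≫ EtShriek.prV a U = EtShriek.prV a V ≫ g.left :=
  (EtCoh.isPullback_bc_map a g).w

variable {X Y X' Y' X'' Y'' : Scheme.{u}}

/-- A map into the base change of a base change. -/
theorem hom_ext_bc₂ (p : X ⟶ Y) (q' : X' ⟶ X) (V : Y.Etale) {Z : X'.Etale}
    (j k : Z ⟶ (EtCoh.bc q').obj ((EtCoh.bc p).obj V))
    (h : j.left ≫ EtShriek.prV q' _ ≫ EtShriek.prV p V = k.left ≫ EtShriek.prV q' _ ≫ EtShriek.prV p V) :
    j = k := by
  refine hom_ext_bc q' _ j k (pullback.hom_ext ((Category.assoc _ _ _).trans (h.trans (Category.assoc _ _ _).symm)) ?_)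
  have e : ∀ (l : Z ⟶ (EtCoh.bc q').obj ((EtCoh.bc p).obj V)),
      (l.left ≫ EtShriek.prV q' ((EtCoh.bc p).obj V)) ≫ pullback.snd V.hom p = Z.hom ≫ q' := fun l => by
    rw [Category.assoc]
    refine (congrArg (l.left ≫ ·) (pullback.condition (f := ((EtCoh.bc p).obj V).hom) (g := q'))).trans ?_
    exact (Category.assoc _ _ _).symm.trans (congrArg (· ≫ q') (MorphismProperty.Over.w l))
  exact (e j).trans (e k).symm

/-- A map into a triple base change. -/
theorem hom_ext_bc₃ (p : X ⟶ Y) (q' : X' ⟶ X) (r' : X'' ⟶ X') (V : Y.Etale) {Z : X''.Etale}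
    (j k : Z ⟶ (EtCoh.bc r').obj ((EtCoh.bc q').obj ((EtCoh.bc p).obj V)))
    (h : j.left ≫ EtShriek.prV r' _ ≫ EtShriek.prV q' _ ≫ EtShriek.prV p V =
      k.left ≫ EtShriek.prV r' _ ≫ EtShriek.prV q' _ ≫ EtShriek.prV p V) : j = k := by
  let Wp := (EtCoh.bc p).obj V
  refine hom_ext_bc r' _ j k ?_
  let W := (EtCoh.bc q').obj Wp
  have e : ∀ (l : Z ⟶ (EtCoh.bc r').obj W),
      (l.left ≫ EtShriek.prV r' W) ≫ pullback.snd Wp.hom q' = Z.hom ≫ r' := fun l => by
    rw [Category.assoc]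
    refine (congrArg (l.left ≫ ·) (pullback.condition (f := W.hom) (g := r'))).trans ?_
    exact (Category.assoc _ _ _).symm.trans (congrArg (· ≫ r') (MorphismProperty.Over.w l))
  refine pullback.hom_ext (pullback.hom_ext ?_ ?_) ((e j).trans (e k).symm)
  · simp only [Category.assoc]; exact h
  · have e' : ∀ (l : Z ⟶ (EtCoh.bc r').obj W),
        ((l.left ≫ EtShriek.prV r' W) ≫ pullback.fst Wp.hom q') ≫ pullback.snd V.hom p = (Z.hom ≫ r') ≫ q' :=
      fun l => by
        rw [Category.assoc]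
        refine (congrArg (_ ≫ ·) (pullback.condition (f := Wp.hom) (g := q'))).trans ?_
        exact (Category.assoc _ _ _).symm.trans (congrArg (· ≫ q') (e l))
    exact (e' j).trans (e' k).symm

variable (p : X ⟶ Y) (q : Y' ⟶ Y) (p' : X' ⟶ Y') (q' : X' ⟶ X) (w : q' ≫ p = p' ≫ q)
  (r : Y'' ⟶ Y') (p'' : X'' ⟶ Y'') (r' : X'' ⟶ X') (w₂ : r' ≫ p' = p'' ≫ r)
  (w₁₂ : (r' ≫ q') ≫ p = p'' ≫ (r ≫ q))

/-- The composite base change morphism. -/
theorem paste (F : EtDesc.Sh X) :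
    (EtDesc.pullCompSh r q).hom.app ((EtDesc.pushSh p).obj F) ≫
        (EtDesc.pullSh r).map (EtBC.baseChange0Sh p q p' q' w F) ≫
          EtBC.baseChange0Sh p' r p'' r' w₂ ((EtDesc.pullSh q').obj F) =
      EtBC.baseChange0Sh p (r ≫ q) p'' (r' ≫ q') w₁₂ F ≫
        (EtDesc.pushSh p'').map ((EtDesc.pullCompSh r' q').hom.app F) := by
  apply ((EtDesc.adjSh (r ≫ q)).homEquiv _ _).injective
  refine ((EtDesc.adjSh (r ≫ q)).homEquiv_unit _ _ _).trans
    (Eq.trans ?_ ((EtDesc.adjSh (r ≫ q)).homEquiv_unit _ _ _).symm)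
  refine Sheaf.hom_ext (NatTrans.ext (funext fun V => ConcreteCategory.hom_ext _ _ fun s => ?_))
  obtain ⟨V⟩ := V
  let Wp := (EtCoh.bc p).obj V
  let Wq := (EtCoh.bc q).obj V
  let b1 := EtBC.baseChange0Sh p q p' q' w F
  let b2 := EtBC.baseChange0Sh p' r p'' r' w₂ ((EtDesc.pullSh q').obj F)
  let b12 := EtBC.baseChange0Sh p (r ≫ q) p'' (r' ≫ q') w₁₂ F
  let A := (EtDesc.pushSh p'').obj ((EtDesc.pullSh r').obj ((EtDesc.pullSh q').obj F))
  let G := (EtDesc.pullSh r').obj ((EtDesc.pullSh q').obj F)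
  let u' := ((EtDesc.adjSh q').unit.app F).hom.app (op Wp) s
  let u'' := ((EtDesc.adjSh r').unit.app ((EtDesc.pullSh q').obj F)).hom.app
    (op ((EtCoh.bc q').obj Wp)) u'
  change b2.hom.app (op ((EtCoh.bc (r ≫ q)).obj V))
      (((EtDesc.pullSh r).map b1).hom.app (op ((EtCoh.bc (r ≫ q)).obj V))
        (((EtDesc.pullCompSh r q).hom.app ((EtDesc.pushSh p).obj F)).hom.app (op ((EtCoh.bc (r ≫ q)).obj V))
          (((EtDesc.adjSh (r ≫ q)).unit.app ((EtDesc.pushSh p).obj F)).hom.app (op V) s))) =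
    ((EtDesc.pullCompSh r' q').hom.app F).hom.app (op ((EtCoh.bc p'').obj ((EtCoh.bc (r ≫ q)).obj V)))
      (b12.hom.app (op ((EtCoh.bc (r ≫ q)).obj V))
        (((EtDesc.adjSh (r ≫ q)).unit.app ((EtDesc.pushSh p).obj F)).hom.app (op V) s))
  have L1 : b2.hom.app (op ((EtCoh.bc r).obj Wq))
      (((EtDesc.pullSh r).map b1).hom.app (op ((EtCoh.bc r).obj Wq))
        (((EtDesc.adjSh r).unit.app ((EtDesc.pullSh q).obj ((EtDesc.pushSh p).obj F))).hom.app (op Wq)
          (((EtDesc.adjSh q).unit.app ((EtDesc.pushSh p).obj F)).hom.app (op V) s))) =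
      G.obj.map (bcSquareHom p' r p'' r' w₂ Wq).op (G.obj.map ((EtCoh.bc r').map (bcSquareHom p q p' q' w V)).op u'') := by
    let z := ((EtDesc.adjSh q).unit.app ((EtDesc.pushSh p).obj F)).hom.app (op V) s
    refine (congrArg (b2.hom.app (op ((EtCoh.bc r).obj Wq)))
      (congrArg (fun k : _ ⟶ (EtDesc.pushSh r).obj ((EtDesc.pullSh r).obj _) => k.hom.app (op Wq) z)
        ((EtDesc.adjSh r).unit.naturality b1)).symm).trans ?_
    refine (ConcreteCategory.congr_hom (unit_baseChange0Sh p' r p'' r' w₂ ((EtDesc.pullSh q').obj F) Wq)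
      (b1.hom.app (op Wq) z)).trans ?_
    refine congrArg (G.obj.map (bcSquareHom p' r p'' r' w₂ Wq).op) ?_
    refine (congrArg (((EtDesc.adjSh r').unit.app ((EtDesc.pullSh q').obj F)).hom.app (op ((EtCoh.bc p').obj Wq)))
      (ConcreteCategory.congr_hom (unit_baseChange0Sh p q p' q' w F V) s)).trans ?_
    exact NatTrans.naturality_apply ((EtDesc.adjSh r').unit.app ((EtDesc.pullSh q').obj F)).hom
      (bcSquareHom p q p' q' w V).op u'
  refine (congrArg (fun z => b2.hom.app (op ((EtCoh.bc (r ≫ q)).obj V))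
    (((EtDesc.pullSh r).map b1).hom.app (op ((EtCoh.bc (r ≫ q)).obj V)) z))
      (unit_pullCompSh r q ((EtDesc.pushSh p).obj F) V s)).trans ?_
  refine (congrArg (b2.hom.app (op ((EtCoh.bc (r ≫ q)).obj V)))
    (NatTrans.naturality_apply ((EtDesc.pullSh r).map b1).hom (bcPair r q V).op _)).trans ?_
  refine (NatTrans.naturality_apply b2.hom (bcPair r q V).op _).trans ?_
  refine (congrArg (A.obj.map (bcPair r q V).op) L1).trans (Eq.symm ?_)
  refine (congrArg (((EtDesc.pullCompSh r' q').hom.app F).hom.app (op ((EtCoh.bc p'').obj ((EtCoh.bc (r ≫ q)).obj V))))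
    (ConcreteCategory.congr_hom (unit_baseChange0Sh p (r ≫ q) p'' (r' ≫ q') w₁₂ F V) s)).trans ?_
  refine (NatTrans.naturality_apply ((EtDesc.pullCompSh r' q').hom.app F).hom
    (bcSquareHom p (r ≫ q) p'' (r' ≫ q') w₁₂ V).op _).trans ?_
  refine (congrArg (G.obj.map (bcSquareHom p (r ≫ q) p'' (r' ≫ q') w₁₂ V).op) (unit_pullCompSh r' q' F Wp s)).trans ?_
  change G.obj.map _ (G.obj.map _ u'') = G.obj.map ((EtCoh.bc p'').map (bcPair r q V)).op (G.obj.map _ (G.obj.map _ u''))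
  rw [← Functor.map_comp_apply, ← Functor.map_comp_apply, ← Functor.map_comp_apply, ← op_comp, ← op_comp, ← op_comp]
  refine congrArg (fun k => G.obj.map k u'') (congrArg Quiver.Hom.op (hom_ext_bc₃ p q' r' V _ _ ?_))
  let α := bcPair r q V
  let S2 := bcSquareHom p' r p'' r' w₂ Wq
  let S1 := bcSquareHom p q p' q' w V
  let S12 := bcSquareHom p (r ≫ q) p'' (r' ≫ q') w₁₂ V
  have hS1 := bcSquareHom_fst p q p' q' w V
  have hS2 := bcSquareHom_fst p' r p'' r' w₂ Wq
  have hS12 := bcSquareHom_fst p (r ≫ q) p'' (r' ≫ q') w₁₂ V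
  change (S12.left ≫ (bcPair r' q' Wp).left) ≫ EtShriek.prV r' _ ≫ EtShriek.prV q' _ ≫ EtShriek.prV p V =
    ((((EtCoh.bc p'').map α).left ≫ S2.left) ≫ ((EtCoh.bc r').map S1).left) ≫
      EtShriek.prV r' _ ≫ EtShriek.prV q' _ ≫ EtShriek.prV p V
  have a1 : (bcPair r' q' Wp).left ≫ EtShriek.prV r' _ ≫ EtShriek.prV q' _ = EtShriek.prV (r' ≫ q') Wp :=
    bcPair_fst_fst r' q' Wp
  have lhs : (S12.left ≫ (bcPair r' q' Wp).left) ≫ EtShriek.prV r' _ ≫ EtShriek.prV q' _ ≫ EtShriek.prV p V =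
      EtShriek.prV p'' _ ≫ EtShriek.prV (r ≫ q) V := by
    refine Eq.trans ?_ hS12
    rw [Category.assoc]
    refine congrArg (S12.left ≫ ·) ?_
    rw [← Category.assoc (EtShriek.prV r' _), ← Category.assoc]
    exact congrArg (· ≫ EtShriek.prV p V) a1
  refine lhs.trans (Eq.symm ?_)
  rw [Category.assoc _ ((EtCoh.bc r').map S1).left, reassoc_of% (map_prV r' S1), Category.assoc]
  refine (congrArg (fun z => ((EtCoh.bc p'').map α).left ≫ S2.left ≫ EtShriek.prV r' _ ≫ z) hS1).trans ?_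
  have hS2' : S2.left ≫ EtShriek.prV r' _ ≫ EtShriek.prV p' Wq ≫ EtShriek.prV q V =
      EtShriek.prV p'' _ ≫ EtShriek.prV r Wq ≫ EtShriek.prV q V :=
    (congrArg (S2.left ≫ ·) (Category.assoc _ _ _).symm).trans ((Category.assoc _ _ _).symm.trans
      ((congrArg (· ≫ EtShriek.prV q V) hS2).trans (Category.assoc _ _ _)))
  refine (congrArg (((EtCoh.bc p'').map α).left ≫ ·) hS2').trans ?_
  rw [reassoc_of% (map_prV p'' α)]
  exact congrArg (EtShriek.prV p'' _ ≫ ·) (bcPair_fst_fst r q V)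

/-- Base change along a composite is invertible iff the composite of the two base changes is. -/
theorem isIso_paste_iff {q₁₂ : Y'' ⟶ Y} {r₁₂ : X'' ⟶ X} (hq : r ≫ q = q₁₂) (hr : r' ≫ q' = r₁₂)
    (w₁₂ : r₁₂ ≫ p = p'' ≫ q₁₂) (F : EtDesc.Sh X) :
    IsIso (EtBC.baseChange0Sh p q₁₂ p'' r₁₂ w₁₂ F) ↔
      IsIso ((EtDesc.pullSh r).map (EtBC.baseChange0Sh p q p' q' w F) ≫
          EtBC.baseChange0Sh p' r p'' r' w₂ ((EtDesc.pullSh q').obj F)) := by
  subst hq hr
  have h := paste p q p' q' w r p'' r' w₂ w₁₂ F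
  constructor
  · intro hi
    have : IsIso ((EtDesc.pullCompSh r q).hom.app ((EtDesc.pushSh p).obj F) ≫
        (EtDesc.pullSh r).map (EtBC.baseChange0Sh p q p' q' w F) ≫
          EtBC.baseChange0Sh p' r p'' r' w₂ ((EtDesc.pullSh q').obj F)) := by rw [h]; infer_instance
    exact IsIso.of_isIso_comp_left ((EtDesc.pullCompSh r q).hom.app _) _
  · intro hi
    have : IsIso (EtBC.baseChange0Sh p (r ≫ q) p'' (r' ≫ q') w₁₂ F ≫
        (EtDesc.pushSh p'').map ((EtDesc.pullCompSh r' q').hom.app F)) := by rw [← h]; infer_instance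
    exact IsIso.of_isIso_comp_right _ ((EtDesc.pushSh p'').map ((EtDesc.pullCompSh r' q').hom.app F))

end Groth.Agent.Et18.BCPaste

namespace Groth.Agent.Et18.BCPaste

variable {S T U X : Scheme.{u}}

/-- Isomorphisms of sheaves of sets are local for étale covers. -/
theorem isIso_of_etale_cover {ι : Type u} (U : ι → X.Etale) (hU : EtCoh.Covers U) {A B : EtDesc.Sh X}
    (φ : A ⟶ B) (h : ∀ i, IsIso ((EtDesc.pullSh (U i).hom).map φ)) : IsIso φ := by
  choose i y hy using hU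
  let s := fun x : ULift.{u + 1} X => sepPoint ((U (i x.down)).left) (y x.down) ≫ (U (i x.down)).hom
  have hs : ∀ x : X, ∃ j, s j default = x := fun x => ⟨⟨x⟩, by
    refine (congrArg (U (i x)).hom (sepPoint_default _ _)).trans (hy x)⟩
  refine isIso_of_stalksSh_family s hs φ fun x => ?_
  have := h (i x.down)
  exact (NatIso.isIso_map_iff (stalkShPullIso (U (i x.down)).hom (sepPoint _ (y x.down))) φ).mp
    (inferInstanceAs (IsIso ((stalkSh (sepPoint _ (y x.down))).map ((EtDesc.pullSh (U (i x.down)).hom).map φ))))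

end Groth.Agent.Et18.BCPaste

theorem Groth.Agent.Et18.BCPaste.geometricallyConnected_id (X : Scheme.{u}) : GeometricallyConnected (𝟙 X) := by
  refine ⟨fun K _ y Z fst snd hpb => ?_⟩
  haveI := hpb.isIso_snd_of_isIso
  exact (asIso snd).hom.homeomorph.symm.surjective.connectedSpace (asIso snd).hom.homeomorph.symm.continuous
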