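import Mathlib.CategoryTheory.Sites.Point.Comap
import Mathlib.CategoryTheory.Sites.Point.Category

/-!
# Fibres of direct images

If objects over the image of a continuous functor `F` lift near a point `Φ`, then the fibre of a
direct image at the comap point is the fibre of the sheaf at `Φ`.
-/

universe w w' v' u'

open CategoryTheory CategoryTheory.Limits Opposite

set_option backward.isDefEq.respectTransparency.types false
set_option backward.isDefEq.respectTransparency false

namespace Groth.Agent.Et18

variable {C D : Type*} [Category* C] [Category* D]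
  {K : GrothendieckTopology D} (Φ : GrothendieckTopology.Point.{w} K) (F : C ⥤ D)
  [RepresentablyFlat F] {J : GrothendieckTopology C} (hF : CoverPreserving J K F)
  [InitiallySmall.{w} (F ⋙ Φ.fiber).Elements]
  (A : Type u') [Category.{v'} A] [HasProducts.{w} A] [HasColimitsOfSize.{w, w} A]
  [Functor.IsContinuous F J K] [(F.sheafPushforwardContinuous A J K).IsRightAdjoint]

/-- The comparison of the fibre of a direct image with the fibre. -/
noncomputable def pushFiberMap (G : Sheaf K A) :
    (Φ.comap F hF).sheafFiber.obj ((F.sheafPushforwardContinuous A J K).obj G) ⟶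
      Φ.sheafFiber.obj G :=
  (Φ.sheafFiberComapIso F hF A).hom.app _ ≫
    Φ.sheafFiber.map ((F.sheafAdjunctionContinuous A J K).counit.app G)

lemma toPresheafFiber_pushFiberMap (G : Sheaf K A) (V : C) (x : Φ.fiber.obj (F.obj V)) :
    (Φ.comap F hF).toPresheafFiber V x ((F.sheafPushforwardContinuous A J K).obj G).obj ≫
      pushFiberMap Φ F hF A G = Φ.toPresheafFiber (F.obj V) x G.obj := by
  let adj := F.sheafAdjunctionContinuous A J K
  let adj₁ := adj.comp (Φ.skyscraperSheafAdjunction (A := A))
  let adj₂ := (Φ.comap F hF).skyscraperSheafAdjunction (A := A)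
  let β := (Φ.skyscraperSheafFunctorCompSheafPushforwardContinuous (J := J) F hF A).hom
  have h0 : (Φ.sheafFiberComapIso F hF A).hom = (conjugateEquiv adj₁ adj₂).symm β := rfl
  let G' := (F.sheafPushforwardContinuous A J K).obj G
  have h1 := unit_conjugateEquiv_symm adj₁ adj₂ β G'
  let h := Φ.sheafFiber.map (adj.counit.app G)
  have h2 : adj₂.homEquiv G' (Φ.sheafFiber.obj G) (pushFiberMap Φ F hF A G) =
      adj₁.homEquiv G' (Φ.sheafFiber.obj G) h ≫ β.app _ := by
    rw [Adjunction.homEquiv_unit, Adjunction.homEquiv_unit]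
    simp only [pushFiberMap, h0, Functor.map_comp, ← Category.assoc]
    rw [← h1]
    simp only [Category.assoc]
    congr 1
    exact (β.naturality h).symm
  have h3 : adj₁.homEquiv G' (Φ.sheafFiber.obj G) h =
      (F.sheafPushforwardContinuous A J K).map
        ((Φ.skyscraperSheafAdjunction (A := A)).unit.app G) := by
    have hn : adj.counit.app G ≫ (Φ.skyscraperSheafAdjunction (A := A)).unit.app G =
        (Φ.skyscraperSheafAdjunction (A := A)).unit.app _ ≫
          Φ.skyscraperSheafFunctor.map (Φ.sheafFiber.map (adj.counit.app G)) :=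
      (Φ.skyscraperSheafAdjunction (A := A)).unit.naturality (adj.counit.app G)
    have hu : adj₁.unit.app G' = adj.unit.app G' ≫ (F.sheafPushforwardContinuous A J K).map
        ((Φ.skyscraperSheafAdjunction (A := A)).unit.app ((F.sheafPullback A J K).obj G')) :=
      Adjunction.comp_unit_app _ _ _
    rw [Adjunction.homEquiv_unit, hu]
    change (adj.unit.app G' ≫ _) ≫ (F.sheafPushforwardContinuous A J K).map
      (Φ.skyscraperSheafFunctor.map (Φ.sheafFiber.map (adj.counit.app G))) = _
    refine (Category.assoc _ _ _).trans ?_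
    refine (congrArg (fun t => adj.unit.app G' ≫ t)
      ((Functor.map_comp (F.sheafPushforwardContinuous A J K) _ _).symm.trans
        (congrArg (F.sheafPushforwardContinuous A J K).map hn.symm))).trans ?_
    rw [Functor.map_comp, ← Category.assoc, adj.right_triangle_components]
    exact Category.id_comp _
  have h4 := congrArg (fun t : G' ⟶ (Φ.comap F hF).skyscraperSheaf (Φ.sheafFiber.obj G) =>
    t.hom.app (op V) ≫ Pi.π (fun _ : Φ.fiber.obj (F.obj V) => Φ.sheafFiber.obj G) x) h2
  rw [h3] at h4
  have h5 : ∀ {P : Sheaf J A} {M : A} (k : (Φ.comap F hF).sheafFiber.obj P ⟶ M),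
      (adj₂.homEquiv P M k).hom.app (op V) ≫ Pi.π (fun _ : Φ.fiber.obj (F.obj V) => M) x =
        (Φ.comap F hF).toPresheafFiber V x P.obj ≫ k := fun {P M} k => by
    have e : (adj₂.homEquiv P M k).hom = (Φ.comap F hF).skyscraperPresheafHomEquiv k :=
      (Φ.comap F hF).skyscraperSheafAdjunction_homEquiv_apply_hom k
    rw [e]
    exact (Φ.comap F hF).skyscraperPresheafHomEquiv_app_π k V x
  have h6 : ((Φ.skyscraperSheafAdjunction (A := A)).unit.app G).hom.app (op (F.obj V)) ≫
      Pi.π (fun _ : Φ.fiber.obj (F.obj V) => Φ.sheafFiber.obj G) x =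
        Φ.toPresheafFiber (F.obj V) x G.obj :=
    (Φ.skyscraperPresheafHomEquiv_app_π (𝟙 (Φ.sheafFiber.obj G)) (F.obj V) x).trans
      (Category.comp_id _)
  refine (h5 _).symm.trans (h4.trans ?_)
  refine Eq.trans ?_ h6
  simp [β, GrothendieckTopology.Point.skyscraperSheafFunctorCompSheafPushforwardContinuous]

section

variable {FA : A → A → Type*} {CA : A → Type w'} [∀ X Y, FunLike (FA X Y) (CA X) (CA Y)]
  [ConcreteCategory A FA] [PreservesFilteredColimitsOfSize.{w, w} (forget A)]
  [LocallySmall.{w} C] [LocallySmall.{w} D]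

/-- If objects over the image of `F` lift near `Φ`, fibres of direct images are fibres. -/
theorem pushFiberMap_bijective
    (h₁ : ∀ (W : D) (w : Φ.fiber.obj W), ∃ (V : C) (x : Φ.fiber.obj (F.obj V))
      (h : F.obj V ⟶ W), Φ.fiber.map h x = w)
    (h₂ : ∀ (V : C) (W : D) (g : W ⟶ F.obj V) (w : Φ.fiber.obj W), ∃ (V' : C) (a : V' ⟶ V)
      (x : Φ.fiber.obj (F.obj V')) (h : F.obj V' ⟶ W),
        h ≫ g = F.map a ∧ Φ.fiber.map (F.map a) x = Φ.fiber.map g w)
    (G : Sheaf K A) : Function.Bijective (pushFiberMap Φ F hF A G) := by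
  have key : ∀ (V : C) (x : Φ.fiber.obj (F.obj V))
      (s : ToType (((sheafToPresheaf J A).obj ((F.sheafPushforwardContinuous A J K).obj G)).obj (op V))),
      pushFiberMap Φ F hF A G ((Φ.comap F hF).toPresheafFiber V x
        ((sheafToPresheaf J A).obj ((F.sheafPushforwardContinuous A J K).obj G)) s :
          ToType ((Φ.comap F hF).sheafFiber.obj ((F.sheafPushforwardContinuous A J K).obj G))) =
        Φ.toPresheafFiber (F.obj V) x G.obj s := fun V x s => by
    refine (ConcreteCategory.comp_apply _ _ s).symm.trans ?_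
    exact congrArg (fun t => t s) (toPresheafFiber_pushFiberMap Φ F hF A G V x)
  constructor
  · intro p q hpq
    obtain ⟨V, x, s, t, rfl, rfl⟩ := (Φ.comap F hF).toPresheafFiber_jointly_surjective₂ p q
    replace hpq := ((key V x s).symm.trans (hpq.trans (key V x t)))
    rw [Φ.toPresheafFiber_eq_iff'] at hpq
    obtain ⟨W, g, w, hw, hst⟩ := hpq
    obtain ⟨V', a, x', h, hg, hx⟩ := h₂ V W g w
    rw [(Φ.comap F hF).toPresheafFiber_eq_iff']
    refine ⟨V', a, x', hx.trans hw, ?_⟩
    change G.obj.map (F.map a).op s = G.obj.map (F.map a).op t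
    rw [← hg, op_comp, Functor.map_comp, ConcreteCategory.comp_apply, ConcreteCategory.comp_apply,
      hst]
  · intro p
    obtain ⟨W, w, s, rfl⟩ := Φ.toPresheafFiber_jointly_surjective p
    obtain ⟨V, x, h, hx⟩ := h₁ W w
    refine ⟨(Φ.comap F hF).toPresheafFiber V x
      ((F.sheafPushforwardContinuous A J K).obj G).obj (G.obj.map h.op s), ?_⟩
    refine (key V x _).trans ?_
    rw [GrothendieckTopology.Point.toPresheafFiber_w_apply, hx]
    rfl

include hF in
/-- If objects over the image of `F` lift near `Φ`, the counit is an isomorphism at `Φ`. -/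
theorem isIso_sheafFiber_map_counit [(forget A).ReflectsIsomorphisms]
    (h₁ : ∀ (W : D) (w : Φ.fiber.obj W), ∃ (V : C) (x : Φ.fiber.obj (F.obj V))
      (h : F.obj V ⟶ W), Φ.fiber.map h x = w)
    (h₂ : ∀ (V : C) (W : D) (g : W ⟶ F.obj V) (w : Φ.fiber.obj W), ∃ (V' : C) (a : V' ⟶ V)
      (x : Φ.fiber.obj (F.obj V')) (h : F.obj V' ⟶ W),
        h ≫ g = F.map a ∧ Φ.fiber.map (F.map a) x = Φ.fiber.map g w)
    (G : Sheaf K A) :
    IsIso (Φ.sheafFiber.map ((F.sheafAdjunctionContinuous A J K).counit.app G)) := by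
  have : IsIso ((Φ.sheafFiberComapIso F hF A).hom.app ((F.sheafPushforwardContinuous A J K).obj G) ≫
      Φ.sheafFiber.map ((F.sheafAdjunctionContinuous A J K).counit.app G)) := (ConcreteCategory.isIso_iff_bijective _).mpr
    (pushFiberMap_bijective Φ F hF A h₁ h₂ G)
  exact IsIso.of_isIso_comp_left ((Φ.sheafFiberComapIso F hF A).hom.app _) _

end

end Groth.Agent.Et18
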