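import Groth.Agent.Et18.EtaleLift
import Groth.Agent.Et18.PointComap
import Groth.Agent.Et18.Stalk
import Mathlib.AlgebraicGeometry.Morphisms.Immersion
import Mathlib.CategoryTheory.Adjunction.FullyFaithful

/-!
# Stalks of direct images along immersions

Étale neighbourhoods lift along immersions, so `pull i ⋙ push i` has invertible counit and `push i`
is fully faithful.
-/

universe u

open CategoryTheory CategoryTheory.Limits AlgebraicGeometry Opposite

set_option backward.isDefEq.respectTransparency.types false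
set_option backward.isDefEq.respectTransparency false

namespace Groth.Agent.Et18

/-- Étale schemes over `Z` come, Zariski locally, from étale schemes over `V`. -/
def LiftsEtale {Z V : Scheme.{u}} (i : Z ⟶ V) : Prop :=
  ∀ {W : Scheme.{u}} (q : W ⟶ Z) [Etale q] (w : W),
    ∃ (W₁ : Scheme.{u}) (j : W₁ ⟶ W) (_ : IsOpenImmersion j) (_ : w ∈ Set.range j)
      (V' : Scheme.{u}) (p : V' ⟶ V) (_ : Etale p) (l : W₁ ⟶ V'), IsPullback l (j ≫ q) p i

lemma liftsEtale_of_isClosedImmersion {Z V : Scheme.{u}} (i : Z ⟶ V) [IsClosedImmersion i] :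
    LiftsEtale i := fun q _ w => exists_etale_lift i q w

lemma liftsEtale_of_isOpenImmersion {Z V : Scheme.{u}} (i : Z ⟶ V) [IsOpenImmersion i] :
    LiftsEtale i := fun {W} q _ w =>
  ⟨W, 𝟙 W, inferInstance, ⟨w, rfl⟩, W, q ≫ i, inferInstance, 𝟙 W,
    IsPullback.of_horiz_isIso_mono ⟨by simp⟩⟩

lemma LiftsEtale.comp {Z V U : Scheme.{u}} {i : Z ⟶ V} {k : V ⟶ U} (hi : LiftsEtale i)
    (hk : LiftsEtale k) : LiftsEtale (i ≫ k) := by
  intro W q _ w
  obtain ⟨W₁, j, _, ⟨w₁, hw₁⟩, V', p, _, l, hl⟩ := hi q w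
  obtain ⟨V₁, j', _, ⟨v₁, hv₁⟩, U', p', _, l', hl'⟩ := hk p (l w₁)
  refine ⟨_, pullback.fst l j' ≫ j, inferInstance, ?_, U', p', inferInstance,
    pullback.snd l j' ≫ l', ?_⟩
  · obtain ⟨t, ht, -⟩ := Scheme.Pullback.exists_preimage_pullback (f := l) (g := j') w₁ v₁ hv₁.symm
    exact ⟨t, (congrArg j ht).trans hw₁⟩
  · rw [Category.assoc]
    exact ((IsPullback.of_hasPullback l j').flip.paste_vert hl).paste_horiz hl'

lemma liftsEtale_of_isImmersion {Z V : Scheme.{u}} (i : Z ⟶ V) [IsImmersion i] : LiftsEtale i := by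
  rw [← i.liftCoborder_ι]
  exact LiftsEtale.comp (liftsEtale_of_isClosedImmersion i.liftCoborder)
    (liftsEtale_of_isOpenImmersion i.coborderRange.ι)

variable {X Y : Scheme.{u}} (f : X ⟶ Y)

/-- All base changes of `f` to étale schemes lift étale schemes. -/
def BCLiftsEtale : Prop :=
  ∀ V : Y.Etale, LiftsEtale (pullback.fst V.hom f : ((EtCoh.bc f).obj V).left ⟶ V.left)

lemma bcLiftsEtale_of_isImmersion [IsImmersion f] : BCLiftsEtale f := fun V =>
  have : IsImmersion (pullback.fst V.hom f) := MorphismProperty.pullback_fst _ _ inferInstance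
  liftsEtale_of_isImmersion _

variable {f} {Ω : Type u} [Field Ω] [IsSepClosed Ω]

theorem exists_bc_lift (hf : BCLiftsEtale f) (ξ : Spec (CommRingCat.of Ω) ⟶ X) (V : Y.Etale)
    (W : X.Etale) (g : W ⟶ (EtCoh.bc f).obj V) (w : (Scheme.pointSmallEtale ξ).fiber.obj W) :
    ∃ (V' : Y.Etale) (a : V' ⟶ V) (x : (Scheme.pointSmallEtale ξ).fiber.obj ((EtCoh.bc f).obj V'))
      (h : (EtCoh.bc f).obj V' ⟶ W),
        h ≫ g = (EtCoh.bc f).map a ∧ (Scheme.pointSmallEtale ξ).fiber.map h x = w := by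
  have : Etale W.hom := W.prop
  have : Etale V.hom := V.prop
  have : Etale ((EtCoh.bc f).obj V).hom := ((EtCoh.bc f).obj V).prop
  have hg : g.left ≫ ((EtCoh.bc f).obj V).hom = W.hom := Over.w g.hom
  have : Etale g.left := by
    have : Etale (g.left ≫ ((EtCoh.bc f).obj V).hom) := hg.symm ▸ ‹Etale W.hom›
    exact Etale.of_comp g.left ((EtCoh.bc f).obj V).hom
  obtain ⟨W₁, j, _, hj, V', p, _, l, hl⟩ := hf V g.left (w.left (default : Spec (CommRingCat.of Ω)))
  let V'' : Y.Etale := Scheme.Etale.mk (p ≫ V.hom)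
  let a : V'' ⟶ V := MorphismProperty.Over.homMk p rfl
  have sq := EtCoh.isPullback_bc_map f a
  let e : ((EtCoh.bc f).obj V'').left ≅ W₁ := sq.flip.isoIsPullback _ _ hl
  have he : e.hom ≫ j ≫ g.left = ((EtCoh.bc f).map a).left :=
    sq.flip.isoIsPullback_hom_snd _ _ hl
  have ha : ((EtCoh.bc f).map a).left ≫ ((EtCoh.bc f).obj V).hom = ((EtCoh.bc f).obj V'').hom :=
    Over.w ((EtCoh.bc f).map a).hom
  let h : (EtCoh.bc f).obj V'' ⟶ W := MorphismProperty.Over.homMk (e.hom ≫ j)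
    (by rw [← hg, Category.assoc, reassoc_of% he, ha])
  have hhg : h ≫ g = (EtCoh.bc f).map a := by
    refine (Scheme.Etale.forget X).map_injective (Over.OverMorphism.ext ?_)
    exact (Category.assoc _ _ _).trans he
  let w₁ : Spec (CommRingCat.of Ω) ⟶ W₁ := IsOpenImmersion.lift j w.left (by
    rintro _ ⟨t, rfl⟩
    rwa [Subsingleton.elim t default])
  have hw₁ : w₁ ≫ j = w.left := IsOpenImmersion.lift_fac _ _ _
  refine ⟨V'', a, Over.homMk (w₁ ≫ e.inv) ?_, h, hhg, ?_⟩
  · change (w₁ ≫ e.inv) ≫ ((EtCoh.bc f).obj V'').hom = ξ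
    rw [← ha, ← he]
    simp only [Category.assoc, Iso.inv_hom_id_assoc]
    rw [hg, reassoc_of% hw₁]
    exact Over.w w
  · refine Over.OverMorphism.ext ?_
    change (w₁ ≫ e.inv) ≫ e.hom ≫ j = w.left
    rw [Category.assoc, Iso.inv_hom_id_assoc, hw₁]

theorem exists_bc_cover (hf : BCLiftsEtale f) (ξ : Spec (CommRingCat.of Ω) ⟶ X)
    (W : X.Etale) (w : (Scheme.pointSmallEtale ξ).fiber.obj W) :
    ∃ (V : Y.Etale) (x : (Scheme.pointSmallEtale ξ).fiber.obj ((EtCoh.bc f).obj V))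
      (h : (EtCoh.bc f).obj V ⟶ W), (Scheme.pointSmallEtale ξ).fiber.map h x = w := by
  obtain ⟨V, -, x, h, -, hx⟩ :=
    exists_bc_lift hf ξ (EtCoh.top Y) W ((EtCore.bcTopIsTerminal f).from W) w
  exact ⟨V, x, h, hx⟩

instance preservesFilteredColimits_forget :
    PreservesFilteredColimitsOfSize.{u, u} (forget AddCommGrpCat.{u + 1}) :=
  preservesFilteredColimitsOfSize_shrink.{u, u + 1, u, u + 1} _

/-- The counit `pull f ⋙ push f ⟶ 𝟭` is invertible on stalks. -/
theorem isIso_stalk_map_counit (hf : BCLiftsEtale f) (ξ : Spec (CommRingCat.of Ω) ⟶ X)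
    (F : EtCoh.Ab X) : IsIso ((EtCoh.stalk ξ).map ((EtCoh.pullPushAdj f).counit.app F)) := by
  refine isIso_sheafFiber_map_counit (Scheme.pointSmallEtale ξ) (EtCoh.bc f)
    (EtCoh.coverPreserving_bc f) AddCommGrpCat.{u + 1} (exists_bc_cover hf ξ) ?_ F
  intro V W g w
  obtain ⟨V', a, x, h, hg, hx⟩ := exists_bc_lift hf ξ V W g w
  refine ⟨V', a, x, h, hg, ?_⟩
  rw [← hg, Functor.map_comp, ConcreteCategory.comp_apply, hx]

theorem isIso_counit (hf : BCLiftsEtale f) : IsIso (EtCoh.pullPushAdj f).counit := by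
  have : ∀ F, IsIso ((EtCoh.pullPushAdj f).counit.app F) := fun F =>
    isIso_of_stalks _ fun x => isIso_stalk_map_counit hf _ F
  exact NatIso.isIso_of_isIso_app _

/-- Direct image along an immersion is fully faithful. -/
noncomputable def pushFullyFaithful (f : X ⟶ Y) [IsImmersion f] : (EtCoh.push f).FullyFaithful :=
  haveI := isIso_counit (bcLiftsEtale_of_isImmersion f)
  (EtCoh.pullPushAdj f).fullyFaithfulROfIsIsoCounit

instance isIso_counit_of_isImmersion (f : X ⟶ Y) [IsImmersion f] :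
    IsIso (EtCoh.pullPushAdj f).counit :=
  isIso_counit (bcLiftsEtale_of_isImmersion f)

instance push_full (f : X ⟶ Y) [IsImmersion f] : (EtCoh.push f).Full :=
  (pushFullyFaithful f).full

instance push_faithful (f : X ⟶ Y) [IsImmersion f] : (EtCoh.push f).Faithful :=
  (pushFullyFaithful f).faithful

/-- Stalks of direct images along an immersion, at points of the source. -/
noncomputable def stalkPushIso (f : X ⟶ Y) [IsImmersion f] (ξ : Spec (CommRingCat.of Ω) ⟶ X) :
    EtCoh.push f ⋙ EtCoh.stalk (ξ ≫ f) ≅ EtCoh.stalk ξ :=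
  Functor.isoWhiskerLeft (EtCoh.push f) (stalkPullIso f ξ).symm ≪≫
    (Functor.associator _ _ _).symm ≪≫
    Functor.isoWhiskerRight (asIso (EtCoh.pullPushAdj f).counit) _ ≪≫ Functor.leftUnitor _

end Groth.Agent.Et18
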