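import Groth.Agent.Et18.Restr
import Groth.Agent.Et18.StalkPush
import Mathlib.CategoryTheory.Limits.Preserves.FunctorCategory
import Mathlib.CategoryTheory.Abelian.GrothendieckAxioms.Basic

/-!
# Stalks of extensions by zero along étale morphisms

The stalk of `j_! F` at `ξ` is the direct sum of the stalks of `F` at the lifts of `ξ`.
-/

universe u

open CategoryTheory CategoryTheory.Limits AlgebraicGeometry Opposite

set_option backward.isDefEq.respectTransparency.types false
set_option backward.isDefEq.respectTransparency false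

namespace Groth.Agent.Et18

variable {U X : Scheme.{u}} (j : U ⟶ X) [Etale j] {Ω : Type u} [Field Ω] [IsSepClosed Ω]
  (ξ : Spec (CommRingCat.of Ω) ⟶ X)

/-- The lifts of a geometric point. -/
abbrev PointLift := {u : Spec (CommRingCat.of Ω) ⟶ U // u ≫ j = ξ}

variable {j ξ}

/-- A point over a lift gives a point over the base. -/
noncomputable def fiberIncl (u : PointLift j ξ) {V : U.Etale}
    (w : (Scheme.pointSmallEtale u.1).fiber.obj V) :
    (Scheme.pointSmallEtale ξ).fiber.obj ((EtShriek.compEtale j).obj V) :=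
  Over.homMk w.left (by
    have e : (w.left : Spec (CommRingCat.of Ω) ⟶ V.left) ≫ V.hom = u.1 := Over.w w
    exact (Category.assoc _ _ _).symm.trans ((congrArg (· ≫ j) e).trans u.2))

/-- The lift under a point of `V`. -/
noncomputable def liftUnder {V : U.Etale}
    (x : (Scheme.pointSmallEtale ξ).fiber.obj ((EtShriek.compEtale j).obj V)) : PointLift j ξ :=
  ⟨(x.left : Spec (CommRingCat.of Ω) ⟶ V.left) ≫ V.hom,
    (Category.assoc _ _ _).trans (Over.w x)⟩

/-- A point over the base gives a point over the lift under it. -/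
noncomputable def fiberOut {V : U.Etale}
    (x : (Scheme.pointSmallEtale ξ).fiber.obj ((EtShriek.compEtale j).obj V)) :
    (Scheme.pointSmallEtale (liftUnder x).1).fiber.obj V :=
  Over.homMk x.left rfl

lemma fiberIncl_fiberOut {V : U.Etale}
    (x : (Scheme.pointSmallEtale ξ).fiber.obj ((EtShriek.compEtale j).obj V)) :
    fiberIncl (liftUnder x) (fiberOut x) = x :=
  Over.OverMorphism.ext rfl

lemma map_fiberIncl (u : PointLift j ξ) {V V' : U.Etale} (g : V' ⟶ V)
    (w : (Scheme.pointSmallEtale u.1).fiber.obj V') :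
    (Scheme.pointSmallEtale ξ).fiber.map ((EtShriek.compEtale j).map g) (fiberIncl u w) =
      fiberIncl u ((Scheme.pointSmallEtale u.1).fiber.map g w) :=
  Over.OverMorphism.ext rfl

variable [EtShriek.JCont j] {F G : EtCoh.Ab U} {M N : AddCommGrpCat.{u + 1}}

variable (j ξ) in
/-- Restriction of a skyscraper sheaf. -/
noncomputable abbrev restrSky : AddCommGrpCat.{u + 1} ⥤ EtCoh.Ab U :=
  (Scheme.pointSmallEtale ξ).skyscraperSheafFunctor ⋙ EtShriek.restrAlong j

lemma sky_map_π {A : Type*} [Category* A] [HasProducts.{u} A] (M : A) {Y : Scheme.{u}}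
    (Φ : GrothendieckTopology.Point.{u} Y.smallEtaleTopology) {V V' : Y.Etale} (f : V ⟶ V')
    (x : Φ.fiber.obj V) :
    (Φ.skyscraperPresheaf M).map f.op ≫ Pi.π (fun _ : Φ.fiber.obj V => M) x =
      Pi.π (fun _ : Φ.fiber.obj V' => M) (Φ.fiber.map f x) := by
  simp [GrothendieckTopology.Point.skyscraperPresheaf,
    GrothendieckTopology.Point.skyscraperPresheafFunctor]

/-- The component at a lift of a morphism to a restricted skyscraper sheaf. -/
noncomputable def component (g : F ⟶ (restrSky j ξ).obj M) (u : PointLift j ξ) :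
    (EtCoh.stalk u.1).obj F ⟶ M :=
  (Scheme.pointSmallEtale u.1).presheafFiberDesc
    (fun V w => g.hom.app (op V) ≫
      Pi.π (fun _ : (Scheme.pointSmallEtale ξ).fiber.obj ((EtShriek.compEtale j).obj V) => M)
        (fiberIncl u w))
    (fun V V' f w => by
      rw [← Category.assoc]
      change (F.obj.map f.op ≫ g.hom.app (op V)) ≫ _ = _
      rw [g.hom.naturality, Category.assoc]
      congr 1
      refine (sky_map_π M _ _ _).trans ?_
      rw [map_fiberIncl]
      rfl)

@[reassoc]
lemma germ_component (g : F ⟶ (restrSky j ξ).obj M) (u : PointLift j ξ) (V : U.Etale)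
    (w : (Scheme.pointSmallEtale u.1).fiber.obj V) :
    (Scheme.pointSmallEtale u.1).toPresheafFiber V w F.obj ≫ component g u = g.hom.app (op V) ≫
      Pi.π (fun _ : (Scheme.pointSmallEtale ξ).fiber.obj ((EtShriek.compEtale j).obj V) => M)
        (fiberIncl u w) :=
  GrothendieckTopology.Point.toPresheafFiber_presheafFiberDesc _ _ _ _ _

lemma component_map (g : F ⟶ (restrSky j ξ).obj M) (k : M ⟶ N) (u : PointLift j ξ) :
    component (g ≫ (restrSky j ξ).map k) u = component g u ≫ k := by
  refine (Scheme.pointSmallEtale u.1).presheafFiber_hom_ext fun V w => ?_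
  refine (germ_component _ u V w).trans ?_
  refine Eq.trans ?_ (germ_component_assoc g u V w k).symm
  refine (Category.assoc _ _ _).trans ?_
  congr 1
  exact Pi.map_π (fun _ : (Scheme.pointSmallEtale ξ).fiber.obj ((EtShriek.compEtale j).obj V) => k)
    (fiberIncl u w)

lemma component_comp (a : F ⟶ G) (g : G ⟶ (restrSky j ξ).obj M) (u : PointLift j ξ) :
    component (a ≫ g) u = (EtCoh.stalk u.1).map a ≫ component g u := by
  refine (Scheme.pointSmallEtale u.1).presheafFiber_hom_ext fun V w => ?_
  refine (germ_component _ u V w).trans ?_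
  refine Eq.trans ?_
    ((Scheme.pointSmallEtale u.1).toPresheafFiber_naturality_assoc a.hom V w (component g u)).symm
  rw [germ_component]
  exact Category.assoc _ _ _

lemma component_injective {g g' : F ⟶ (restrSky j ξ).obj M}
    (h : ∀ u, component g u = component g' u) : g = g' := by
  ext V : 3
  refine Pi.hom_ext _ _ fun x => ?_
  have := congrArg (fun k => (Scheme.pointSmallEtale (liftUnder x).1).toPresheafFiber V.unop
    (fiberOut x) F.obj ≫ k) (h (liftUnder x))
  simp only [germ_component, fiberIncl_fiberOut] at this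
  exact this

lemma germ_congr (ψ : ∀ u : PointLift j ξ, (EtCoh.stalk u.1).obj F ⟶ M) {V : U.Etale}
    {u u' : PointLift j ξ} (h : u = u') (a : (Scheme.pointSmallEtale u.1).fiber.obj V)
    (b : (Scheme.pointSmallEtale u'.1).fiber.obj V) (hab : a.left = b.left) :
    (Scheme.pointSmallEtale u.1).toPresheafFiber V a F.obj ≫ ψ u =
      (Scheme.pointSmallEtale u'.1).toPresheafFiber V b F.obj ≫ ψ u' := by
  subst h
  rw [Over.OverMorphism.ext hab]

/-- A morphism to a restricted skyscraper sheaf from its components. -/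
noncomputable def ofComponents (ψ : ∀ u : PointLift j ξ, (EtCoh.stalk u.1).obj F ⟶ M) :
    F ⟶ (restrSky j ξ).obj M :=
  ⟨{ app V := Pi.lift fun x =>
        (Scheme.pointSmallEtale (liftUnder x).1).toPresheafFiber V.unop (fiberOut x) F.obj ≫
          ψ (liftUnder x)
     naturality {V W} f := by
      refine Pi.hom_ext _ _ fun x => ?_
      simp only [Category.assoc, Pi.lift_π]
      refine Eq.trans ?_ (congrArg (fun t => Pi.lift _ ≫ t)
        (sky_map_π M (Scheme.pointSmallEtale ξ) ((EtShriek.compEtale j).map f.unop) x).symm)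
      refine Eq.trans ?_ (Pi.lift_π (fun x => (Scheme.pointSmallEtale (liftUnder x).1).toPresheafFiber
        V.unop (fiberOut x) F.obj ≫ ψ (liftUnder x)) _).symm
      rw [← Category.assoc]
      refine (congrArg (fun t => t ≫ _) ((Scheme.pointSmallEtale _).toPresheafFiber_w f.unop
        (fiberOut x) F.obj)).trans (germ_congr ψ ?_ _ _ rfl)
      apply Subtype.ext
      change _ = ((x.left : Spec (CommRingCat.of Ω) ⟶ _) ≫ f.unop.left) ≫ _
      rw [Category.assoc]
      exact congrArg (fun t => (x.left : Spec (CommRingCat.of Ω) ⟶ _) ≫ t)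
        (MorphismProperty.Over.w f.unop).symm }⟩

lemma component_ofComponents (ψ : ∀ u : PointLift j ξ, (EtCoh.stalk u.1).obj F ⟶ M)
    (u : PointLift j ξ) : component (ofComponents ψ) u = ψ u := by
  refine (Scheme.pointSmallEtale u.1).presheafFiber_hom_ext fun V w => ?_
  refine (germ_component _ u V w).trans ?_
  change Pi.lift (fun x : (Scheme.pointSmallEtale ξ).fiber.obj ((EtShriek.compEtale j).obj V) =>
        (Scheme.pointSmallEtale (liftUnder x).1).toPresheafFiber V (fiberOut x) F.obj ≫
          ψ (liftUnder x)) ≫ _ = _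
  rw [Pi.lift_π]
  exact germ_congr ψ (Subtype.ext (Over.w w)) _ _ rfl

variable (j ξ)

/-- `stalk ξ ∘ j_! ⊣` restriction of skyscrapers. -/
noncomputable def extZeroStalkAdj : EtShriek.extZero j ⋙ EtCoh.stalk ξ ⊣ restrSky j ξ :=
  (EtShriek.extZeroAdj j).comp (Scheme.pointSmallEtale ξ).skyscraperSheafAdjunction

/-- The inclusion of the stalk at a lift. -/
noncomputable def extZeroInj (F : EtCoh.Ab U) (u : PointLift j ξ) :
    (EtCoh.stalk u.1).obj F ⟶ (EtCoh.stalk ξ).obj ((EtShriek.extZero j).obj F) :=
  component ((extZeroStalkAdj j ξ).unit.app F) u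

lemma extZeroInj_comp {F : EtCoh.Ab U} {M : AddCommGrpCat.{u + 1}} (u : PointLift j ξ)
    (k : (EtCoh.stalk ξ).obj ((EtShriek.extZero j).obj F) ⟶ M) :
    extZeroInj j ξ F u ≫ k = component ((extZeroStalkAdj j ξ).homEquiv F M k) u := by
  rw [Adjunction.homEquiv_unit, component_map]
  rfl

lemma extZeroInj_naturality {F G : EtCoh.Ab U} (a : F ⟶ G) (u : PointLift j ξ) :
    (EtCoh.stalk u.1).map a ≫ extZeroInj j ξ G u =
      extZeroInj j ξ F u ≫ (EtCoh.stalk ξ).map ((EtShriek.extZero j).map a) := by
  rw [extZeroInj, extZeroInj, ← component_comp, ← component_map]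
  exact congrArg (component · u) ((extZeroStalkAdj j ξ).unit.naturality a)

/-- The stalk of `j_! F` is the sum of the stalks of `F` at the lifts. -/
noncomputable def extZeroIsColimit (F : EtCoh.Ab U) :
    IsColimit (Cofan.mk _ (extZeroInj j ξ F)) :=
  mkCofanColimit _
    (fun s => ((extZeroStalkAdj j ξ).homEquiv F s.pt).symm (ofComponents s.inj))
    (fun s u => by
      refine (extZeroInj_comp j ξ u _).trans ?_
      rw [Equiv.apply_symm_apply]
      exact component_ofComponents s.inj u)
    (fun s m hm => by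
      apply ((extZeroStalkAdj j ξ).homEquiv F s.pt).injective
      rw [Equiv.apply_symm_apply]
      refine component_injective fun u => ?_
      rw [component_ofComponents, ← extZeroInj_comp]
      exact hm u)

/-- The stalk of `j_! F`. -/
noncomputable def extZeroStalkIso (F : EtCoh.Ab U) :
    (EtCoh.stalk ξ).obj ((EtShriek.extZero j).obj F) ≅
      ∐ fun u : PointLift j ξ => (EtCoh.stalk u.1).obj F :=
  (extZeroIsColimit j ξ F).coconePointUniqueUpToIso (coproductIsCoproduct _)

/-- The family of stalks at the lifts. -/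
noncomputable def liftStalks : EtCoh.Ab U ⥤ (Discrete (PointLift j ξ) ⥤ AddCommGrpCat.{u + 1}) where
  obj F := Discrete.functor fun u => (EtCoh.stalk u.1).obj F
  map a := Discrete.natTrans fun u => (EtCoh.stalk u.as.1).map a

/-- The stalk of `j_!` as a functor. -/
noncomputable def extZeroStalkNatIso :
    liftStalks j ξ ⋙ colim ≅ EtShriek.extZero j ⋙ EtCoh.stalk ξ :=
  NatIso.ofComponents
    (fun F => (colimit.isColimit _).coconePointUniqueUpToIso (extZeroIsColimit j ξ F))
    (fun {F G} a => colimit.hom_ext fun u => by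
      simp only [Functor.comp_map, colim_map, ι_colimMap_assoc]
      refine (congrArg (fun t => _ ≫ t)
        ((colimit.isColimit _).comp_coconePointUniqueUpToIso_hom (extZeroIsColimit j ξ G) u)).trans ?_
      refine (extZeroInj_naturality j ξ a u.as).trans ?_
      refine Eq.trans ?_ (Category.assoc _ _ _)
      exact congrArg (fun t => t ≫ _)
        ((colimit.isColimit _).comp_coconePointUniqueUpToIso_hom (extZeroIsColimit j ξ F) u).symm)

instance hasExactColimitsOfShape_discrete (ι : Type u) :
    HasExactColimitsOfShape (Discrete ι) AddCommGrpCat.{u + 1} :=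
  have : HasExactColimitsOfShape (Discrete (ULift.{u + 1} ι)) AddCommGrpCat.{u + 1} :=
    AB4OfSize.ofShape _
  HasExactColimitsOfShape.of_domain_equivalence _ (Discrete.equivalence Equiv.ulift)

instance extZero_stalk_preservesFiniteLimits :
    PreservesFiniteLimits (EtShriek.extZero j ⋙ EtCoh.stalk ξ) := by
  have : PreservesFiniteLimits (liftStalks j ξ) :=
    preservesFiniteLimits_of_evaluation _ fun u =>
      preservesFiniteLimits_of_natIso (Iso.refl (EtCoh.stalk u.as.1))
  exact preservesFiniteLimits_of_natIso (extZeroStalkNatIso j ξ)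

/-- A functor to sheaves is left exact if its composites with all stalks are. -/
lemma preservesFiniteLimits_of_stalks {C : Type*} [Category* C] (G : C ⥤ EtCoh.Ab X)
    (h : ∀ x : X, PreservesFiniteLimits (G ⋙ EtCoh.stalk (sepPoint X x))) :
    PreservesFiniteLimits G := by
  refine ⟨fun Sh _ _ => ⟨fun {K} => ⟨fun {c} hc => ⟨?_⟩⟩⟩⟩
  let d := limit.isLimit (K ⋙ G)
  let φ := d.lift (G.mapCone c)
  suffices IsIso φ from d.ofIsoLimit (Cone.ext (asIso φ) (fun j => (d.fac _ j).symm)).symm
  refine isIso_of_stalks φ fun x => ?_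
  let ξ := sepPoint X x
  have := h x
  have hc' : IsLimit ((EtCoh.stalk ξ).mapCone (G.mapCone c)) :=
    isLimitOfPreserves (G ⋙ EtCoh.stalk ξ) hc
  have hd' := isLimitOfPreserves (EtCoh.stalk ξ) d
  have : (EtCoh.stalk ξ).map φ = (hc'.conePointUniqueUpToIso hd').hom := by
    refine hd'.hom_ext fun j => ?_
    rw [IsLimit.conePointUniqueUpToIso_hom_comp, Functor.mapCone_π_app, ← Functor.map_comp, d.fac]
    rfl
  rw [this]
  infer_instance

instance extZero_preservesFiniteLimits : PreservesFiniteLimits (EtShriek.extZero j) :=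
  preservesFiniteLimits_of_stalks (EtShriek.extZero j) fun x =>
    extZero_stalk_preservesFiniteLimits j (sepPoint X x)

/-- The counit on stalks, restricted to the lift `u`. -/
noncomputable def restrStalkMap (u : PointLift j ξ) (H : EtCoh.Ab X) :
    (EtCoh.stalk u.1).obj ((EtShriek.restrAlong j).obj H) ⟶ (EtCoh.stalk ξ).obj H :=
  extZeroInj j ξ _ u ≫ (EtCoh.stalk ξ).map ((EtShriek.extZeroAdj j).counit.app H)

lemma germ_restrStalkMap (u : PointLift j ξ) (H : EtCoh.Ab X) (V : U.Etale)
    (w : (Scheme.pointSmallEtale u.1).fiber.obj V) :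
    (Scheme.pointSmallEtale u.1).toPresheafFiber V w ((EtShriek.restrAlong j).obj H).obj ≫
        restrStalkMap j ξ u H =
      (Scheme.pointSmallEtale ξ).toPresheafFiber ((EtShriek.compEtale j).obj V) (fiberIncl u w)
        H.obj := by
  have e : (extZeroStalkAdj j ξ).homEquiv ((EtShriek.restrAlong j).obj H) ((EtCoh.stalk ξ).obj H)
      ((EtCoh.stalk ξ).map ((EtShriek.extZeroAdj j).counit.app H)) =
      (EtShriek.restrAlong j).map
        ((Scheme.pointSmallEtale ξ).skyscraperSheafAdjunction.unit.app H) := by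
    let adj := EtShriek.extZeroAdj j
    let sk := (Scheme.pointSmallEtale ξ).skyscraperSheafAdjunction (A := AddCommGrpCat.{u + 1})
    let G' := (EtShriek.restrAlong j).obj H
    have hn : adj.counit.app H ≫ sk.unit.app H = sk.unit.app _ ≫
        (Scheme.pointSmallEtale ξ).skyscraperSheafFunctor.map
          ((EtCoh.stalk ξ).map (adj.counit.app H)) :=
      sk.unit.naturality (adj.counit.app H)
    have hu : (extZeroStalkAdj j ξ).unit.app G' = adj.unit.app G' ≫
        (EtShriek.restrAlong j).map (sk.unit.app ((EtShriek.extZero j).obj G')) :=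
      Adjunction.comp_unit_app _ _ _
    rw [Adjunction.homEquiv_unit]
    refine (congrArg (fun t => t ≫ _) hu).trans ?_
    refine (Category.assoc _ _ _).trans ?_
    refine (congrArg (fun t => adj.unit.app G' ≫ t)
      ((Functor.map_comp (EtShriek.restrAlong j) _ _).symm.trans
        (congrArg (EtShriek.restrAlong j).map hn.symm))).trans ?_
    rw [Functor.map_comp, ← Category.assoc, adj.right_triangle_components]
    exact Category.id_comp _
  rw [restrStalkMap, extZeroInj_comp, e]
  refine (germ_component _ u V w).trans ?_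
  exact ((Scheme.pointSmallEtale ξ).skyscraperPresheafHomEquiv_app_π
    (𝟙 ((EtCoh.stalk ξ).obj H)) _ _).trans (Category.comp_id _)

/-- The counit at a lift is bijective on stalks. -/
theorem restrStalkMap_bijective (u : PointLift j ξ) (H : EtCoh.Ab X) :
    Function.Bijective (restrStalkMap j ξ u H) := by
  have key : ∀ (V : U.Etale) (w : (Scheme.pointSmallEtale u.1).fiber.obj V)
      (s : ((EtShriek.restrAlong j).obj H).obj.obj (op V)),
      restrStalkMap j ξ u H
        ((Scheme.pointSmallEtale u.1).toPresheafFiber V w ((EtShriek.restrAlong j).obj H).obj s) =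
      (Scheme.pointSmallEtale ξ).toPresheafFiber ((EtShriek.compEtale j).obj V) (fiberIncl u w)
        H.obj s := fun V w s => congrArg (fun t => t s) (germ_restrStalkMap j ξ u H V w)
  constructor
  · intro p q hpq
    obtain ⟨V, w, s, t, rfl, rfl⟩ :=
      (Scheme.pointSmallEtale u.1).toPresheafFiber_jointly_surjective₂ p q
    replace hpq := (key V w s).symm.trans (hpq.trans (key V w t))
    rw [(Scheme.pointSmallEtale ξ).toPresheafFiber_eq_iff'] at hpq
    obtain ⟨W, g, y, hy, hst⟩ := hpq
    rw [(Scheme.pointSmallEtale u.1).toPresheafFiber_eq_iff']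
    let g₀ : (EtShriek.compEtaleLift j g).1 ⟶ V := MorphismProperty.Over.homMk g.left rfl
    have hy' : (y.left : Spec (CommRingCat.of Ω) ⟶ W.left) ≫ g.left = w.left :=
      congrArg CommaMorphism.left hy
    have hw : (w.left : Spec (CommRingCat.of Ω) ⟶ V.left) ≫ V.hom = u.1 := Over.w w
    refine ⟨_, g₀, Over.homMk y.left ?_, Over.OverMorphism.ext hy', ?_⟩
    · refine (Category.assoc _ _ _).symm.trans ?_
      exact (congrArg (fun t => t ≫ V.hom) hy').trans hw
    · change H.obj.map ((EtShriek.compEtale j).map g₀).op s =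
        H.obj.map ((EtShriek.compEtale j).map g₀).op t
      have hg : (EtShriek.compEtale j).map g₀ = (EtShriek.compEtaleLift j g).2.hom ≫ g :=
        (Scheme.Etale.forget X).map_injective (Over.OverMorphism.ext (Category.id_comp _).symm)
      rw [hg, op_comp, Functor.map_comp, ConcreteCategory.comp_apply, ConcreteCategory.comp_apply,
        hst]
  · intro p
    obtain ⟨W, x, s, rfl⟩ := (Scheme.pointSmallEtale ξ).toPresheafFiber_jointly_surjective p
    let h := (compBcAdj j).counit.app W
    let w : (Scheme.pointSmallEtale u.1).fiber.obj ((EtCoh.bc j).obj W) :=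
      Over.homMk (pullback.lift x.left u.1 ((Over.w x).trans u.2.symm)) (pullback.lift_snd _ _ _)
    refine ⟨(Scheme.pointSmallEtale u.1).toPresheafFiber _ w
      ((EtShriek.restrAlong j).obj H).obj (H.obj.map h.op s), ?_⟩
    refine (key _ w _).trans ?_
    refine ((Scheme.pointSmallEtale ξ).toPresheafFiber_w_apply h (fiberIncl u w) H.obj s).trans ?_
    have e : (Scheme.pointSmallEtale ξ).fiber.map h (fiberIncl u w) = x :=
      Over.OverMorphism.ext (pullback.lift_fst _ _ _)
    rw [e]
    rfl

/-- If `j` is surjective, `j_! j^* ⟶ 𝟭` is epi. -/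
theorem epi_extZero_counit [Surjective j] (H : EtCoh.Ab X) :
    Epi ((EtShriek.extZeroAdj j).counit.app H) := by
  refine epi_of_stalks _ fun x => ?_
  obtain ⟨y, hy⟩ := j.surjective (sepPoint X x default)
  obtain ⟨v, hv, -⟩ := Scheme.exists_fac_of_etale_of_isSepClosed j (sepPoint X x) y hy
  intro p
  obtain ⟨q, rfl⟩ := (restrStalkMap_bijective j (sepPoint X x) ⟨v, hv⟩ H).2 p
  exact ⟨extZeroInj j (sepPoint X x) _ ⟨v, hv⟩ q, rfl⟩

end Groth.Agent.Et18
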