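import Groth.Agent.Et18.IntegralPush
import Mathlib.AlgebraicGeometry.Fiber
import Mathlib.AlgebraicGeometry.Morphisms.FlatDescent
import Mathlib.AlgebraicGeometry.Morphisms.UniversallyOpen

/-!
# Étale covers of a scheme integral over the base split over an étale cover of the base
-/

universe u

open CategoryTheory CategoryTheory.Limits AlgebraicGeometry Opposite

set_option backward.isDefEq.respectTransparency.types false
set_option backward.isDefEq.respectTransparency false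

namespace Groth.Agent.Et18

variable {Z V : Scheme.{u}} (φ : Z ⟶ V) [IsIntegralHom φ]

/-- An étale cover of `Z` splits near any point of the base. -/
theorem exists_cover_lift {ι : Type*} (U : ι → Scheme.{u}) (g : ∀ i, U i ⟶ Z) [∀ i, Etale (g i)]
    (hg : ∀ t, ∃ i, t ∈ Set.range (g i)) (v : V) :
    ∃ (V' : Scheme.{u}) (p : V' ⟶ V) (_ : Etale p) (_ : v ∈ Set.range p),
      ∀ {P : Scheme.{u}} (r : P ⟶ Z) (l : P ⟶ V'), IsPullback r l φ p →
        ∃ (μ : Type u) (W : μ → P.Opens), (∀ a b, a ≠ b → Disjoint (W a) (W b)) ∧ (⨆ a, W a) = ⊤ ∧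
          ∀ a, ∃ (i : ι) (h : ((W a : P.Opens) : Scheme.{u}) ⟶ U i), h ≫ g i = (W a).ι ≫ r := by
  classical
  by_cases hF : v ∈ Set.range φ
  swap
  · let N : V.Opens := ⟨(Set.range φ)ᶜ, φ.isClosedMap.isClosed_range.isOpen_compl⟩
    refine ⟨N, N.ι, inferInstance, ⟨⟨v, hF⟩, rfl⟩, fun {P} r l sq => ⟨PEmpty, PEmpty.elim,
      fun a => a.elim, ?_, fun a => a.elim⟩⟩
    refine le_antisymm le_top fun t _ => False.elim ?_
    exact (l t).2 ⟨r t, congrArg (fun k => k t) sq.w⟩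
  obtain ⟨U₀, hU₀, hv, -⟩ := exists_isAffineOpen_mem_and_subset (X := V) (x := v) (U := ⊤) trivial
  let Z₀ : Z.Opens := φ ⁻¹ᵁ U₀
  let φ₀ : (Z₀ : Scheme.{u}) ⟶ U₀ := φ ∣_ U₀
  have : IsAffine (U₀ : Scheme.{u}) := hU₀
  have : IsAffine (Z₀ : Scheme.{u}) := hU₀.preimage φ
  -- finitely many affine opens of the covering reach every point over `v`
  have hex : ∀ t : φ ⁻¹' {v}, ∃ (i : ι) (O : (U i).Opens) (_ : IsAffineOpen O),
      O ≤ g i ⁻¹ᵁ Z₀ ∧ t.1 ∈ g i '' O := by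
    rintro ⟨t, ht⟩
    obtain ⟨i, o, rfl⟩ := hg t
    obtain ⟨O, hO, hoO, hle⟩ := exists_isAffineOpen_mem_and_subset (X := U i) (x := o)
      (U := g i ⁻¹ᵁ Z₀) (by
        change φ (g i o) ∈ U₀
        rw [show φ (g i o) = v from ht]
        exact hv)
    exact ⟨i, O, hO, hle, o, hoO, rfl⟩
  choose i O hO hle hmem using hex
  obtain ⟨s, hs⟩ := (φ.isCompact_preimage_singleton v).elim_finite_subcover
    (fun t : φ ⁻¹' {v} => g (i t) '' (O t : Set (U (i t))))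
    (fun t => (g (i t)).isOpenMap _ (O t).2)
    (fun t ht => Set.mem_iUnion.mpr ⟨⟨t, ht⟩, hmem ⟨t, ht⟩⟩)
  let A : s → Scheme.{u} := fun k => (O k.1).toScheme
  have : ∀ k, IsAffine (A k) := fun k => hO k.1
  let qk : ∀ k, A k ⟶ Z₀ := fun k => IsOpenImmersion.lift Z₀.ι ((O k.1).ι ≫ g (i k.1)) (by
    rw [Scheme.Opens.range_ι]
    rintro _ ⟨o, rfl⟩
    exact hle k.1 o.2)
  have hqk : ∀ k, qk k ≫ Z₀.ι = (O k.1).ι ≫ g (i k.1) := fun k => IsOpenImmersion.lift_fac _ _ _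
  have : ∀ k, Etale (qk k) := fun k => by
    have : Etale (qk k ≫ Z₀.ι) := by rw [hqk]; infer_instance
    exact Etale.of_comp (qk k) Z₀.ι
  let q : ∐ A ⟶ Z₀ := Sigma.desc qk
  have : Etale q := by
    rw [IsZariskiLocalAtSource.iff_of_openCover (P := @Etale) (sigmaOpenCover A)]
    intro k
    simp only [sigmaOpenCover_f, q, Sigma.ι_desc]
    infer_instance
  have hq : ∀ t : Z₀, φ t.1 = v → t ∈ Set.range q := by
    intro t ht
    obtain ⟨k, hk, hk'⟩ : ∃ k : φ ⁻¹' {v}, k ∈ s ∧ t.1 ∈ g (i k) '' (O k : Set (U (i k))) := by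
      obtain ⟨k, hk⟩ := Set.mem_iUnion.mp (hs ht)
      obtain ⟨hk₁, hk₂⟩ := Set.mem_iUnion.mp hk
      exact ⟨k, hk₁, hk₂⟩
    obtain ⟨o, ho, hot⟩ := hk'
    refine ⟨Sigma.ι A ⟨k, hk⟩ ⟨o, ho⟩, Z₀.ι.isOpenEmbedding.injective ?_⟩
    rw [← Scheme.Hom.comp_apply, ← Scheme.Hom.comp_apply, Sigma.ι_desc_assoc, hqk]
    exact hot
  obtain ⟨z, hz⟩ := hF
  obtain ⟨o, ho⟩ := hq ⟨z, by change φ z ∈ U₀; rw [hz]; exact hv⟩ hz
  let w := algPoint (∐ A) o
  obtain ⟨V', p, _, P, r, l, sq, h, x, hh, hx⟩ := exists_affine_lift φ₀ q w fun t ht => hq t (by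
    have h1 := congrArg U₀.ι ht
    rw [algPoint_default, ho] at h1
    refine Eq.trans ?_ hz
    refine Eq.trans ?_ (h1.trans ?_)
    · exact (congrArg (fun k : (Z₀ : Scheme.{u}) ⟶ V => k t) (morphismRestrict_ι φ U₀)).symm
    · exact congrArg (fun k : (Z₀ : Scheme.{u}) ⟶ V => k _) (morphismRestrict_ι φ U₀))
  refine ⟨V', p ≫ U₀.ι, inferInstance, ⟨l (x default), ?_⟩, fun {P'} r' l' sq' => ?_⟩
  · have h1 : (l ≫ p ≫ U₀.ι) (x default) = (h ≫ q ≫ Z₀.ι ≫ φ) (x default) := by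
      rw [reassoc_of% hh, reassoc_of% sq.w.symm, morphismRestrict_ι]
    have h2 : h (x default) = o := by
      rw [← Scheme.Hom.comp_apply, hx]
      exact algPoint_default _ o
    refine h1.trans ?_
    change φ (Z₀.ι (q (h (x default)))) = v
    rw [h2, ho]
    exact hz
  have sq₀ : IsPullback (r ≫ Z₀.ι) l φ (p ≫ U₀.ι) :=
    sq.paste_horiz (isPullback_morphismRestrict φ U₀).flip
  let e : P' ≅ P := sq'.isoIsPullback _ _ sq₀
  have he : e.hom ≫ r ≫ Z₀.ι = r' := sq'.isoIsPullback_hom_fst _ _ sq₀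
  let H := e.hom ≫ h
  refine ⟨ULift.{u} s, fun a => H ⁻¹ᵁ (Sigma.ι A a.down).opensRange, fun a b hab => ?_, ?_,
    fun a => ⟨i a.down.1, ?_⟩⟩
  · have hd := disjoint_opensRange_sigmaι A a.down b.down fun he => hab (ULift.down_injective he)
    rw [disjoint_iff, eq_bot_iff]
    rintro t ⟨ha, hb⟩
    exact False.elim ((disjoint_iff.mp hd).le
      (show H t ∈ (Sigma.ι A a.down).opensRange ⊓ (Sigma.ι A b.down).opensRange from ⟨ha, hb⟩))
  · refine eq_top_iff.mpr fun t _ => ?_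
    obtain ⟨k, y, hy⟩ := (sigmaOpenCover A).exists_eq (H t)
    exact TopologicalSpace.Opens.mem_iSup.mpr ⟨⟨k⟩, ⟨y, hy⟩⟩
  · let Wa : P'.Opens := H ⁻¹ᵁ (Sigma.ι A a.down).opensRange
    refine ⟨IsOpenImmersion.lift (Sigma.ι A a.down) (Wa.ι ≫ H) ?_ ≫ (O a.down.1).ι, ?_⟩
    · rintro _ ⟨t, rfl⟩
      exact t.2
    · have hq' : Sigma.ι A a.down ≫ q = qk a.down := Sigma.ι_desc qk a.down
      have hrange : Set.range (Wa.ι ≫ H) ⊆ Set.range (Sigma.ι A a.down) := by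
        rintro _ ⟨t, rfl⟩
        exact t.2
      have hl := IsOpenImmersion.lift_fac (Sigma.ι A a.down) (Wa.ι ≫ H) hrange
      have key : ∀ L : (Wa : Scheme.{u}) ⟶ A a.down, L ≫ Sigma.ι A a.down = Wa.ι ≫ H →
          (L ≫ (O a.down.1).ι) ≫ g (i a.down.1) = Wa.ι ≫ r' := fun L hL => by
        calc (L ≫ (O a.down.1).ι) ≫ g (i a.down.1) = L ≫ qk a.down ≫ Z₀.ι := by
              rw [Category.assoc, hqk]
          _ = (L ≫ Sigma.ι A a.down) ≫ q ≫ Z₀.ι := by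
              rw [← hq']; simp only [Category.assoc]
          _ = Wa.ι ≫ e.hom ≫ (h ≫ q) ≫ Z₀.ι := by
              rw [hL]; simp only [H, Category.assoc]
          _ = Wa.ι ≫ r' := by rw [hh, he]
      exact key _ hl

end Groth.Agent.Et18
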