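import Groth.Agent.Et18.ExtZero
import Mathlib.AlgebraicGeometry.Morphisms.FlatRank
import Mathlib.RingTheory.Etale.Finite

/-!
# The number of geometric lifts along a finite étale morphism is its rank
-/

set_option autoImplicit false
set_option linter.all false
set_option backward.isDefEq.respectTransparency.types false
set_option backward.isDefEq.respectTransparency false

universe u

open CategoryTheory CategoryTheory.Limits AlgebraicGeometry Opposite

namespace Groth.Agent.Et18

variable {X' X : Scheme.{u}} (π : X' ⟶ X) [IsFinite π] [Etale π] [Flat π]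

theorem card_pointLift {Ω : Type u} [Field Ω] [IsSepClosed Ω] (η : Spec (CommRingCat.of Ω) ⟶ X) :
    Finite (PointLift π η) ∧ Nat.card (PointLift π η) = π.finrank (η default) ∧
      Nat.card ↥(pullback π η) = π.finrank (η default) := by
  let g : pullback π η ⟶ Spec (CommRingCat.of Ω) := pullback.snd π η
  haveI : IsFinite g := MorphismProperty.pullback_snd _ _ inferInstance
  haveI : Etale g := MorphismProperty.pullback_snd _ _ inferInstance
  haveI : IsAffine (pullback π η) := isAffine_of_isAffineHom g
  let A : CommRingCat.{u} := Γ(pullback π η, ⊤)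
  let φ : CommRingCat.of Ω ⟶ A := Spec.preimage ((pullback π η).isoSpec.inv ≫ g)
  have hg : (pullback π η).isoSpec.hom ≫ Spec.map φ = g := by
    rw [Spec.map_preimage, Iso.hom_inv_id_assoc]
  have hS : Spec.map φ = (pullback π η).isoSpec.inv ≫ g := Spec.map_preimage _
  algebraize [φ.hom]
  have hfin : φ.hom.Finite := (IsFinite.SpecMap_iff φ).1 (hS ▸ inferInstance)
  have het : φ.hom.Etale := (HasRingHomProperty.Spec_iff (P := @Etale)).1 (hS ▸ inferInstance)
  haveI : Module.Finite Ω A := hfin
  haveI : Algebra.Etale Ω A := het
  have h1 : π.finrank (η default) = Module.finrank Ω A := by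
    rw [← Scheme.Hom.finrank_pullback_snd π η default]
    show g.finrank default = _
    haveI : IsFinite (Spec.map φ) := hS ▸ inferInstance
    haveI : Flat (Spec.map φ) := hS ▸ inferInstance
    rw [← hg, Scheme.Hom.finrank_comp_left_of_isIso]
    refine (Scheme.Hom.finrank_SpecMap_algebraMap Ω A _).trans ?_
    rw [Module.rankAtStalk_eq_finrank_of_free]
    rfl
  let e : PointLift π η ≃ (A →ₐ[Ω] Ω) :=
    { toFun := fun v =>
        { toRingHom := (Spec.preimage (pullback.lift v.1 (𝟙 _) (v.2.trans (Category.id_comp η).symm) ≫
            (pullback π η).isoSpec.hom)).hom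
          commutes' := fun r => by
            have h : φ ≫ Spec.preimage (pullback.lift v.1 (𝟙 _) (v.2.trans (Category.id_comp η).symm) ≫
                (pullback π η).isoSpec.hom) = 𝟙 _ := by
              apply Spec.map_injective
              rw [Spec.map_comp, Spec.map_preimage, Category.assoc, hg, pullback.lift_snd, Spec.map_id]
            exact ConcreteCategory.congr_hom h r }
      invFun := fun a => ⟨(Spec.map (CommRingCat.ofHom a.toRingHom) ≫ (pullback π η).isoSpec.inv) ≫
        pullback.fst π η, by
          have h : φ ≫ CommRingCat.ofHom a.toRingHom = 𝟙 (CommRingCat.of Ω) := by ext r; exact a.commutes r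
          rw [Category.assoc, pullback.condition, ← Category.assoc, Category.assoc (Spec.map _)]
          show (Spec.map _ ≫ (pullback π η).isoSpec.inv ≫ g) ≫ η = η
          rw [← hS, ← Spec.map_comp, h, Spec.map_id, Category.id_comp]⟩
      left_inv := fun v => by
        refine Subtype.ext ?_
        show (Spec.map (Spec.preimage _) ≫ (pullback π η).isoSpec.inv) ≫ pullback.fst π η = v.1
        rw [Spec.map_preimage, Category.assoc, Category.assoc, Iso.hom_inv_id_assoc, pullback.lift_fst]
      right_inv := fun a => by
        refine AlgHom.coe_ringHom_injective ?_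
        refine congrArg CommRingCat.Hom.hom (Spec.map_injective (?_ : Spec.map (Spec.preimage _) =
          Spec.map (CommRingCat.ofHom a.toRingHom)))
        rw [Spec.map_preimage, ← Iso.eq_comp_inv]
        refine pullback.hom_ext (pullback.lift_fst _ _ _) ((pullback.lift_snd _ _ _).trans ?_)
        have h : φ ≫ CommRingCat.ofHom a.toRingHom = 𝟙 (CommRingCat.of Ω) := by ext r; exact a.commutes r
        show 𝟙 _ = (Spec.map _ ≫ (pullback π η).isoSpec.inv) ≫ g
        rw [Category.assoc, ← hS, ← Spec.map_comp, h, Spec.map_id] }
  haveI := Algebra.FormallyUnramified.finite_of_free Ω A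
  haveI : IsArtinianRing A := isArtinian_of_tower Ω inferInstance
  let e' := e.trans (Algebra.IsFiniteSplit.algHomEquivPrimeSpectrum Ω A)
  suffices h : Nat.card (PrimeSpectrum A) = π.finrank (η default) from
    ⟨Finite.of_equiv _ e'.symm, (Nat.card_congr e').trans h,
      (Nat.card_congr (pullback π η).isoSpec.hom.homeomorph.toEquiv).trans h⟩
  rw [h1, LinearEquiv.finrank_eq (Algebra.FormallyEtale.equivPiOfIsSepClosed Ω A).toLinearEquiv]
  haveI : Fintype (PrimeSpectrum A) := Fintype.ofFinite _
  rw [Module.finrank_pi, Nat.card_eq_fintype_card]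

end Groth.Agent.Et18
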