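import Groth.Agent.HenselLib.LocalHens
import Groth.Agent.HenselLib.HullFlat
import Groth.Prelude.Def_Hensel

/-!
# The strict henselization of a localization as a hull over the ring being localized

If `O` is a localization of `A` which is local, and `R` a strict henselization of `O`, then `R` is the
colimit of the etale `A`-algebras pointed in the residue field of `R`.
-/

set_option autoImplicit false

universe u

open CategoryTheory

namespace Groth.Agent.Et18.SHull

open HenselLib IsLocalRing Polynomial

variable {A : Type u} [CommRing A]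

/-- The point of a hull is surjective if every element is a simple root of a monic polynomial over the hull. -/
theorem surjective_hullPt {K : Type u} [Field K] [Algebra A K]
    (H : ∀ z : K, ∃ f : Polynomial (Hull A K), f.Monic ∧ f.eval₂ (hullPt A K).toRingHom z = 0 ∧
      (derivative f).eval₂ (hullPt A K).toRingHom z ≠ 0) : Function.Surjective (hullPt A K) := by
  intro z
  obtain ⟨f, hf, h0, h1⟩ := H z
  obtain ⟨P, g, hg, rfl⟩ := exists_monic_rep f hf
  let : Algebra P.Ring K := P.pt.toRingHom.toAlgebra
  have : IsScalarTower A P.Ring K := IsScalarTower.of_algebraMap_eq (R := A) (S := P.Ring) (A := K) fun a => (P.pt.commutes a).symm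
  have hpt : (hullPt A K).toRingHom.comp (ι P).toRingHom = algebraMap P.Ring K :=
    RingHom.ext fun x => hullPt_ι P x
  rw [eval₂_map, hpt] at h0
  rw [derivative_map, eval₂_map, hpt] at h1
  let E : StandardEtalePair P.Ring :=
    { f := g, monic_f := hg, g := derivative g, cond := ⟨1, 0, 1, by ring⟩ }
  have hE : E.HasMap z := ⟨h0, Ne.isUnit h1⟩
  let : Algebra A E.Ring := ((algebraMap P.Ring E.Ring).comp (algebraMap A P.Ring)).toAlgebra
  have : IsScalarTower A P.Ring E.Ring :=
    IsScalarTower.of_algebraMap_eq (R := A) (S := P.Ring) (A := E.Ring) fun _ => rfl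
  have : Algebra.Etale A E.Ring := Algebra.Etale.comp A P.Ring E.Ring
  obtain ⟨φ, hφ⟩ := exists_map_of_etale ((E.lift z hE).restrictScalars A)
  exact ⟨φ E.X, (congr($hφ E.X)).trans (E.lift_X z hE)⟩

variable {R : Type u} [CommRing R] [IsLocalRing R]

theorem ext_of_mod {K : Type u} [CommRing K] [Algebra A K] {C : Type u} [CommRing C] [Algebra A C]
    (J : Ideal C) [HenselianRing C J] {f g : Hull A K →ₐ[A] C}
    (h : ∀ x, f x - g x ∈ J) : f = g :=
  hull_algHom_ext fun P => (existsUnique_lift J ((Ideal.Quotient.mkₐ A J).comp (f.comp (ι P)))).unique rfl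
    (AlgHom.ext fun x => (Ideal.Quotient.eq.mpr (h (ι P x))).symm)

variable [Algebra A R]

/-- A strict henselization of a local ring which is a localization of `A` is a hull over `A`. -/
theorem exists_equiv (O : Type u) [CommRing O] [IsLocalRing O] [Algebra A O] (M : Submonoid A)
    [IsLocalization M O] [Algebra O R] [IsScalarTower A O R] [IsLocalHom (algebraMap O R)]
    [hS : Hensel.IsStrictHenselization O R] :
    ∃ e : Hull A (ResidueField R) ≃ₐ[A] R, ∀ h, residue R (e h) = hullPt A (ResidueField R) h := by
  let K := ResidueField R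
  let H := Hull A K
  have := hS.henselian
  have hK : ∀ a : A, algebraMap A K a = residue R (algebraMap O R (algebraMap A O a)) := fun a => by
    rw [← IsScalarTower.algebraMap_apply A O R]; rfl
  have hM : ∀ s : M, IsUnit (algebraMap A H s) := fun s => isUnit_of_isUnit_hullPt (by
    rw [AlgHom.commutes, hK]
    exact ((IsLocalization.map_units O s).map (algebraMap O R)).map (residue R))
  let g₀ : O →+* H := IsLocalization.lift (g := algebraMap A H) hM
  have hg₀ : (hullPt A K).toRingHom.comp g₀ = (residue R).comp (algebraMap O R) :=
    IsLocalization.ringHom_ext M (RingHom.ext fun a => by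
      show hullPt A K (g₀ (algebraMap A O a)) = residue R (algebraMap O R (algebraMap A O a))
      rw [show g₀ (algebraMap A O a) = algebraMap A H a from IsLocalization.lift_eq hM a,
        AlgHom.commutes, hK])
  have hsurj : Function.Surjective (hullPt A K) := by
    refine surjective_hullPt fun z => ?_
    have := hS.isSepClosure
    have hint : IsIntegral (ResidueField O) z := Algebra.IsIntegral.isIntegral z
    obtain ⟨f, hfm, -, hf⟩ := Polynomial.lifts_and_natDegree_eq_and_monic
      (f := residue O) (p := minpoly (ResidueField O) z)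
      (Polynomial.mem_lifts_of_surjective IsLocalRing.residue_surjective _) (minpoly.monic hint)
    have hk : (hullPt A K).toRingHom.comp g₀ = (algebraMap (ResidueField O) K).comp (residue O) := by
      rw [hg₀]; exact (IsLocalRing.ResidueField.map_comp_residue _).symm
    refine ⟨f.map g₀, hf.map _, ?_, ?_⟩
    · rw [eval₂_map, hk, ← eval₂_map, hfm]
      exact minpoly.aeval _ _
    · rw [derivative_map, eval₂_map, hk, ← eval₂_map, ← derivative_map, hfm]
      exact (Algebra.IsSeparable.isSeparable (ResidueField O) z).aeval_derivative_ne_zero (minpoly.aeval _ _)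
  have := henselianLocalRing_hull (R := A) (K := K)
  have hloc : IsLocalHom g₀ := ⟨fun o ho => IsUnit.of_map (algebraMap O R) o (IsUnit.of_map (residue R) _
    (by
      rw [← RingHom.comp_apply, ← hg₀]
      exact ho.map (hullPt A K).toRingHom))⟩
  -- the residue field of the hull
  have : IsLocalHom (hullPt A K).toRingHom := isLocalHom_hullPt
  let ε : ResidueField H →+* K := IsLocalRing.ResidueField.lift (hullPt A K).toRingHom
  have hεr : ∀ h : H, ε (residue H h) = hullPt A K h := fun h =>
    IsLocalRing.ResidueField.lift_residue_apply _ _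
  have hεs : Function.Surjective ε := fun z => by
    obtain ⟨h, rfl⟩ := hsurj z
    exact ⟨residue H h, hεr h⟩
  let ε' : ResidueField H ≃+* K := RingEquiv.ofBijective ε ⟨ε.injective, hεs⟩
  have hcompat : ε'.symm.toRingHom.comp (ResidueField.map (algebraMap O R)) = ResidueField.map g₀ :=
    Ideal.Quotient.ringHom_ext (RingHom.ext fun o => ε'.injective (by
      show ε' (ε'.symm (residue R (algebraMap O R o))) = ε (residue H (g₀ o))
      rw [RingEquiv.apply_symm_apply, hεr]
      exact congr($hg₀.symm o)))
  obtain ⟨g, ⟨hg, hgres⟩, -⟩ := hS.universal H g₀ ε'.symm.toRingHom hcompat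
  have hgpt : ∀ x, hullPt A K (g x) = residue R x := fun x => by
    rw [← hεr, hgres]
    exact ε'.apply_symm_apply _
  have : HenselianRing R (maximalIdeal R) := inferInstance
  let τ : K →ₐ[A] R ⧸ maximalIdeal R :=
    { RingHom.id K with commutes' := fun _ => rfl }
  obtain ⟨φ, hφ, -⟩ := hull_universal (R := A) (K := K) (maximalIdeal R) τ
  have hφres : ∀ h, residue R (φ h) = hullPt A K h := fun h => congr($hφ h)
  have h1 : φ.toRingHom.comp g = RingHom.id R := by
    refine (hS.universal R (algebraMap O R) (RingHom.id K) (RingHom.id_comp _)).unique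
      ⟨?_, fun x => ?_⟩ ⟨RingHom.id_comp _, fun x => rfl⟩
    · rw [RingHom.comp_assoc, hg]
      exact IsLocalization.ringHom_ext M (RingHom.ext fun a => by
        show φ (g₀ (algebraMap A O a)) = algebraMap O R (algebraMap A O a)
        rw [show g₀ (algebraMap A O a) = algebraMap A H a from IsLocalization.lift_eq hM a,
          AlgHom.commutes, ← IsScalarTower.algebraMap_apply A O R])
    · exact (hφres (g x)).trans (hgpt x)
  let g' : R →ₐ[A] H :=
    { g with
      commutes' := fun a => by
        rw [IsScalarTower.algebraMap_apply A O R]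
        exact (congr($hg (algebraMap A O a))).trans (IsLocalization.lift_eq hM a) }
  have h2 : g'.comp φ = AlgHom.id A H := ext_of_mod (RingHom.ker (hullPt A K)) fun x => by
    rw [RingHom.mem_ker, map_sub, sub_eq_zero]
    exact (hgpt (φ x)).trans (hφres x)
  exact ⟨AlgEquiv.ofAlgHom φ g' (AlgHom.ext fun x => congr($h1 x)) h2, hφres⟩

end Groth.Agent.Et18.SHull
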