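import Groth.Agent.Et18.PropBEpi
import Groth.Agent.FEtLib.EqLocus
import Mathlib.AlgebraicGeometry.Morphisms.UniversallyInjective

/-!
# Open pieces and monomorphisms in the small étale site
-/

universe u

open CategoryTheory CategoryTheory.Limits AlgebraicGeometry

set_option backward.isDefEq.respectTransparency.types false
set_option backward.isDefEq.respectTransparency false

namespace Groth.Agent.Et18

variable {X : Scheme.{u}}

/-- The morphism between two pieces. -/
noncomputable def etalePieceLE (W : X.Etale) {O O' : W.left.Opens} (h : O ≤ O') :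
    etalePiece W O ⟶ etalePiece W O' :=
  MorphismProperty.Over.homMk (W.left.homOfLE h) (by
    change W.left.homOfLE h ≫ O'.ι ≫ W.hom = O.ι ≫ W.hom
    rw [Scheme.homOfLE_ι_assoc])

lemma etalePieceLE_left (W : X.Etale) {O O' : W.left.Opens} (h : O ≤ O') :
    (etalePieceLE W h).left = W.left.homOfLE h := rfl

lemma etaleHom_ext {A B : X.Etale} {a b : A ⟶ B} (h : a.left = b.left) : a = b :=
  (Scheme.Etale.forget X).map_injective (Over.OverMorphism.ext h)

lemma etale_left {A B : X.Etale} (a : A ⟶ B) : Etale a.left := by
  have : Etale B.hom := B.prop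
  have hw : a.left ≫ B.hom = A.hom := Over.w a.hom
  have : Etale (a.left ≫ B.hom) := hw.symm ▸ A.prop
  exact Etale.of_comp a.left B.hom

/-- Two objects of the small étale site mapping isomorphically onto the same open agree. -/
theorem nonempty_iso_etalePiece {A W : X.Etale} (a : A ⟶ W) [IsOpenImmersion a.left]
    (O : W.left.Opens) (h : Set.range a.left = O) : Nonempty (A ≅ etalePiece W O) := by
  refine ⟨MorphismProperty.Over.isoMk
    (IsOpenImmersion.isoOfRangeEq a.left O.ι (h.trans (Scheme.Opens.range_ι O).symm)) ?_⟩
  have hw : a.left ≫ W.hom = A.hom := Over.w a.hom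
  change (IsOpenImmersion.isoOfRangeEq a.left O.ι _).hom ≫ O.ι ≫ W.hom = A.hom
  rw [IsOpenImmersion.isoOfRangeEq_hom_fac_assoc, hw]

/-- Monomorphisms of the small étale site are open immersions. -/
theorem isOpenImmersion_left_of_mono {A B : X.Etale} (a : A ⟶ B) [Mono a] : IsOpenImmersion a.left := by
  have : Etale a.left := etale_left a
  have : Etale A.hom := A.prop
  let P : X.Etale := Scheme.Etale.mk (pullback.fst a.left a.left ≫ A.hom)
  have hw : a.left ≫ B.hom = A.hom := Over.w a.hom
  let p₁ : P ⟶ A := MorphismProperty.Over.homMk (pullback.fst a.left a.left) rfl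
  let p₂ : P ⟶ A := MorphismProperty.Over.homMk (pullback.snd a.left a.left) (by
    change _ = pullback.fst a.left a.left ≫ A.hom
    rw [← hw, ← pullback.condition_assoc])
  have h : pullback.fst a.left a.left = pullback.snd a.left a.left :=
    congrArg (fun k : P ⟶ A => k.left)
      ((cancel_mono a).mp (etaleHom_ext (a := p₁ ≫ a) (b := p₂ ≫ a) pullback.condition))
  have : Mono a.left := ⟨fun g₁ g₂ e => by
    rw [← pullback.lift_fst g₁ g₂ e, h, pullback.lift_snd]⟩
  exact FEtLib.isOpenImmersion_of_etale_universallyInjective a.left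

end Groth.Agent.Et18
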