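import Groth.Agent.Et18.Restr
import Groth.Agent.Et18.JCont
import Groth.Agent.Et18.ExtZero
import Groth.Agent.Et18.GermBasics
import Groth.Agent.Et18.EtalePieces
import Groth.Prelude.Def_EtCore
import Mathlib.CategoryTheory.Sites.ConstantSheaf

/-!
# Constant sheaves near a geometric point

Stalks of constant sheaves, spreading out of equalities of morphisms out of a finite constant
sheaf, and spreading out of finitely many germs to a morphism from a finite constant sheaf.
-/

universe u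

open CategoryTheory CategoryTheory.Limits AlgebraicGeometry Opposite

set_option backward.isDefEq.respectTransparency.types false
set_option backward.isDefEq.respectTransparency false

namespace Groth.Agent.Et18

variable {X : Scheme.{u}}

/-- The constant sheaf functor of the small étale site. -/
noncomputable abbrev cst (X : Scheme.{u}) : AddCommGrpCat.{u + 1} ⥤ EtCoh.Ab X :=
  constantSheaf X.smallEtaleTopology AddCommGrpCat.{u + 1}

/-- The constant sections. -/
noncomputable def cstSec (A : AddCommGrpCat.{u + 1}) (W : X.Etale) :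
    A ⟶ ((cst X).obj A).obj.obj (op W) :=
  (toSheafify X.smallEtaleTopology ((Functor.const X.Etaleᵒᵖ).obj A)).app (op W)

@[reassoc]
lemma cstSec_res (A : AddCommGrpCat.{u + 1}) {W W' : X.Etale} (g : W' ⟶ W) :
    cstSec A W ≫ ((cst X).obj A).obj.map g.op = cstSec A W' :=
  ((toSheafify X.smallEtaleTopology ((Functor.const X.Etaleᵒᵖ).obj A)).naturality g.op).symm.trans
    (Category.id_comp _)

@[reassoc]
lemma cstSec_map {A B : AddCommGrpCat.{u + 1}} (h : A ⟶ B) (W : X.Etale) :
    cstSec A W ≫ ((cst X).map h).hom.app (op W) = h ≫ cstSec B W :=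
  (congrArg (fun t => t.app (op W))
    (toSheafify_naturality X.smallEtaleTopology ((Functor.const X.Etaleᵒᵖ).map h))).symm

section Germ

variable {Ω : Type u} [Field Ω] [IsSepClosed Ω] (ξ : Spec (CommRingCat.of Ω) ⟶ X)

/-- The point of `X` in its fibre. -/
noncomputable def topPt : (Scheme.pointSmallEtale ξ).fiber.obj (EtCoh.top X) :=
  Over.homMk ξ (Category.comp_id _)

lemma fiber_top_eq (v v' : (Scheme.pointSmallEtale ξ).fiber.obj (EtCoh.top X)) : v = v' := by
  have e : ∀ v : (Scheme.pointSmallEtale ξ).fiber.obj (EtCoh.top X),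
      (v.left : Spec (CommRingCat.of Ω) ⟶ X) = ξ := fun v =>
    (Category.comp_id _).symm.trans (Over.w v)
  exact Over.OverMorphism.ext ((e v).trans (e v').symm)

/-- The germ of the constant sections. -/
noncomputable def cstGerm (A : AddCommGrpCat.{u + 1}) : A ⟶ (EtCoh.stalk ξ).obj ((cst X).obj A) :=
  cstSec A (EtCoh.top X) ≫
    (Scheme.pointSmallEtale ξ).toPresheafFiber (EtCoh.top X) (topPt ξ) ((cst X).obj A).obj

@[reassoc]
lemma cstSec_germ (A : AddCommGrpCat.{u + 1}) (W : X.Etale)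
    (w : (Scheme.pointSmallEtale ξ).fiber.obj W) :
    cstSec A W ≫ (Scheme.pointSmallEtale ξ).toPresheafFiber W w ((cst X).obj A).obj =
      cstGerm ξ A := by
  let g : W ⟶ EtCoh.top X := (EtCore.topIsTerminal X).from W
  rw [cstGerm, ← cstSec_res A g, Category.assoc, GrothendieckTopology.Point.toPresheafFiber_w,
    fiber_top_eq ξ ((Scheme.pointSmallEtale ξ).fiber.map g w) (topPt ξ)]

@[reassoc]
lemma cstGerm_naturality {A B : AddCommGrpCat.{u + 1}} (h : A ⟶ B) :
    cstGerm ξ A ≫ (EtCoh.stalk ξ).map ((cst X).map h) = h ≫ cstGerm ξ B := by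
  refine (Category.assoc _ _ _).trans ?_
  refine (congrArg (fun t => cstSec A (EtCoh.top X) ≫ t)
    ((Scheme.pointSmallEtale ξ).toPresheafFiber_naturality ((cst X).map h).hom _ (topPt ξ))).trans ?_
  exact cstSec_map_assoc h _ _

theorem cstGerm_bijective (A : AddCommGrpCat.{u + 1}) : Function.Bijective (cstGerm ξ A) := by
  let Φ := Scheme.pointSmallEtale ξ
  let P : X.Etaleᵒᵖ ⥤ AddCommGrpCat.{u + 1} := (Functor.const _).obj A
  let η : P ⟶ ((cst X).obj A).obj := toSheafify X.smallEtaleTopology P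
  have e : cstGerm ξ A =
      Φ.toPresheafFiber (EtCoh.top X) (topPt ξ) P ≫ Φ.presheafFiber.map η :=
    (Φ.toPresheafFiber_naturality η _ (topPt ξ)).symm
  have hη : Function.Bijective (Φ.presheafFiber.map η) := Φ.toPresheafFiber_map_bijective η
  rw [e]
  refine hη.comp (f := Φ.toPresheafFiber (EtCoh.top X) (topPt ξ) P) ⟨fun a b hab => ?_, fun p => ?_⟩
  · obtain ⟨W, g, w, -, h⟩ := (Φ.toPresheafFiber_eq_iff' (P := P) _ _ a b).mp hab
    exact h
  · obtain ⟨W, w, a, rfl⟩ := Φ.toPresheafFiber_jointly_surjective (P := P) p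
    let g : W ⟶ EtCoh.top X := (EtCore.topIsTerminal X).from W
    refine ⟨a, ?_⟩
    rw [← fiber_top_eq ξ (Φ.fiber.map g w) (topPt ξ)]
    exact (Φ.toPresheafFiber_w_apply g w P a).symm

instance isIso_cstGerm (A : AddCommGrpCat.{u + 1}) : IsIso (cstGerm ξ A) :=
  (ConcreteCategory.isIso_iff_bijective _).mpr (cstGerm_bijective ξ A)

end Germ

/-- Equality of morphisms can be checked on stalks. -/
theorem hom_eq_of_stalks {F G : EtCoh.Ab X} (φ ψ : F ⟶ G)
    (h : ∀ x : X, (EtCoh.stalk (sepPoint X x)).map φ = (EtCoh.stalk (sepPoint X x)).map ψ) :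
    φ = ψ := by
  have : IsIso (equalizer.ι φ ψ) := isIso_of_stalks _ fun x => by
    rw [← equalizerComparison_comp_π φ ψ (EtCoh.stalk (sepPoint X x))]
    have := equalizer.ι_of_eq (h x)
    infer_instance
  exact (cancel_epi (equalizer.ι φ ψ)).mp (equalizer.condition φ ψ)

/-- Common refinement of finitely many neighbourhoods of a geometric point. -/
theorem exists_common_nhd {Ω : Type u} [Field Ω] [IsSepClosed Ω]
    {ξ : Spec (CommRingCat.of Ω) ⟶ X} {ι : Type*} [Finite ι] (W : ι → X.Etale)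
    (w : ∀ i, (Scheme.pointSmallEtale ξ).fiber.obj (W i)) :
    ∃ (W' : X.Etale) (w' : (Scheme.pointSmallEtale ξ).fiber.obj W') (g : ∀ i, W' ⟶ W i),
      ∀ i, (Scheme.pointSmallEtale ξ).fiber.map (g i) w' = w i := by
  classical
  cases nonempty_fintype ι
  obtain ⟨S, hS⟩ := IsCofiltered.inf_objs_exists
    (Finset.univ.image fun i => (Scheme.pointSmallEtale ξ).fiber.elementsMk (W i) (w i))
  exact ⟨S.1, S.2, fun i => (hS (Finset.mem_image_of_mem _ (Finset.mem_univ i))).some.val,
    fun i => (hS (Finset.mem_image_of_mem _ (Finset.mem_univ i))).some.property⟩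

/-- Two morphisms out of a constant sheaf which agree on the constant sections over `W` become
equal on `W`. -/
theorem pull_map_eq_of_agree {A : AddCommGrpCat.{u + 1}} {G : EtCoh.Ab X}
    (φ ψ : (cst X).obj A ⟶ G) (W : X.Etale)
    (h : cstSec A W ≫ φ.hom.app (op W) = cstSec A W ≫ ψ.hom.app (op W)) :
    (EtCoh.pull W.hom).map φ = (EtCoh.pull W.hom).map ψ := by
  refine hom_eq_of_stalks _ _ fun x => ?_
  let η := sepPoint W.left x
  let e := stalkPullIso W.hom η
  let v : (Scheme.pointSmallEtale (η ≫ W.hom)).fiber.obj W := Over.homMk η rfl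
  have key : (EtCoh.stalk (η ≫ W.hom)).map φ = (EtCoh.stalk (η ≫ W.hom)).map ψ := by
    rw [← cancel_epi (cstGerm (η ≫ W.hom) A)]
    have aux : ∀ θ : (cst X).obj A ⟶ G, cstGerm (η ≫ W.hom) A ≫ (EtCoh.stalk (η ≫ W.hom)).map θ =
        (cstSec A W ≫ θ.hom.app (op W)) ≫
          (Scheme.pointSmallEtale (η ≫ W.hom)).toPresheafFiber W v G.obj := fun θ => by
      rw [← cstSec_germ (η ≫ W.hom) A W v, Category.assoc, Category.assoc]
      exact congrArg (fun t => cstSec A W ≫ t)
        ((Scheme.pointSmallEtale (η ≫ W.hom)).toPresheafFiber_naturality θ.hom W v)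
    rw [aux, aux, h]
  rw [← cancel_mono (e.hom.app G)]
  exact (e.hom.naturality φ).trans ((congrArg _ key).trans (e.hom.naturality ψ).symm)

/-- **Spreading out equalities**: two morphisms out of a finite constant sheaf which agree on the
stalk at a geometric point agree on an étale neighbourhood of it. -/
theorem exists_nhd_pull_map_eq {A : AddCommGrpCat.{u + 1}} [Finite A] {G : EtCoh.Ab X}
    (φ ψ : (cst X).obj A ⟶ G) {Ω : Type u} [Field Ω] [IsSepClosed Ω]
    (ξ : Spec (CommRingCat.of Ω) ⟶ X)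
    (h : (EtCoh.stalk ξ).map φ = (EtCoh.stalk ξ).map ψ) :
    ∃ (W : X.Etale) (_ : (Scheme.pointSmallEtale ξ).fiber.obj W),
      (EtCoh.pull W.hom).map φ = (EtCoh.pull W.hom).map ψ := by
  let Φ := Scheme.pointSmallEtale ξ
  have key : ∀ (θ : (cst X).obj A ⟶ G) (W : X.Etale) (w : Φ.fiber.obj W) (a : A),
      Φ.toPresheafFiber W w G.obj (θ.hom.app (op W) (cstSec A W a)) =
        (EtCoh.stalk ξ).map θ (cstGerm ξ A a) := fun θ W w a => by
    rw [← cstSec_germ ξ A W w]
    exact (Φ.toPresheafFiber_naturality_apply θ.hom W w (cstSec A W a)).symm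
  have : ∀ a : A, ∃ (W : X.Etale) (w : Φ.fiber.obj W),
      φ.hom.app (op W) (cstSec A W a) = ψ.hom.app (op W) (cstSec A W a) := fun a => by
    have hab := (key φ (EtCoh.top X) (topPt ξ) a).trans
      ((congrArg (fun t => t (cstGerm ξ A a)) h).trans (key ψ (EtCoh.top X) (topPt ξ) a).symm)
    obtain ⟨W, g, w, -, hW⟩ := (Φ.toPresheafFiber_eq_iff' (P := G.obj) _ _ _ _).mp hab
    refine ⟨W, w, ?_⟩
    rw [← cstSec_res A g]
    exact ((NatTrans.naturality_apply φ.hom g.op _).trans hW).trans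
      (NatTrans.naturality_apply ψ.hom g.op _).symm
  choose W w hW using this
  obtain ⟨W', w', g, -⟩ := exists_common_nhd W w
  refine ⟨W', w', pull_map_eq_of_agree φ ψ W' (ConcreteCategory.hom_ext _ _ fun a => ?_)⟩
  rw [← cstSec_res A (g a)]
  exact (NatTrans.naturality_apply φ.hom (g a).op _).trans
    ((congrArg _ (hW a)).trans (NatTrans.naturality_apply ψ.hom (g a).op _).symm)

/-- The unit of the constant sheaf adjunction is the constant section. -/
lemma constantSheafAdj_unit_top (A : AddCommGrpCat.{u + 1}) :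
    (constantSheafAdj X.smallEtaleTopology AddCommGrpCat.{u + 1} (EtCore.topIsTerminal X)).unit.app A
      = cstSec A (EtCoh.top X) := by
  refine (Adjunction.comp_unit_app _ _ _).trans ?_
  exact (congrArg (fun z => z ≫ _) rfl).trans (Category.id_comp _)

/-- A homomorphism from a finite group to a fibre lifts to sections over one neighbourhood. -/
theorem exists_hom_germ_lift {C : Type*} [Category* C] [LocallySmall.{u} C] {J : GrothendieckTopology C}
    (Φ : GrothendieckTopology.Point.{u} J) (P : Cᵒᵖ ⥤ AddCommGrpCat.{u + 1})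
    {M : AddCommGrpCat.{u + 1}} [Finite M] (h : M ⟶ Φ.presheafFiber.obj P) :
    ∃ (W : C) (w : Φ.fiber.obj W) (σ : M ⟶ P.obj (op W)), σ ≫ Φ.toPresheafFiber W w P = h := by
  classical
  cases nonempty_fintype M
  choose W₀ w₀ s₀ hs₀ using fun m : M => Φ.toPresheafFiber_jointly_surjective (P := P) (h m)
  have common : ∀ t : Finset M, ∃ (W : C) (w : Φ.fiber.obj W), ∀ m ∈ t, ∃ g : W ⟶ W₀ m,
      Φ.fiber.map g w = w₀ m := fun t => by
    obtain ⟨S, hS⟩ := IsCofiltered.inf_objs_exists
      (t.image fun m => Φ.fiber.elementsMk (W₀ m) (w₀ m))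
    exact ⟨S.1, S.2, fun m hm =>
      ⟨(hS (Finset.mem_image_of_mem _ hm)).some.val, (hS (Finset.mem_image_of_mem _ hm)).some.property⟩⟩
  obtain ⟨W₁, w₁, hW₁⟩ := common Finset.univ
  choose g hg using fun m => hW₁ m (Finset.mem_univ _)
  let s₁ : M → P.obj (op W₁) := fun m => P.map (g m).op (s₀ m)
  have hs₁ : ∀ m, Φ.toPresheafFiber W₁ w₁ P (s₁ m) = h m := fun m => by
    rw [← hs₀ m, ← hg m]
    exact Φ.toPresheafFiber_w_apply (g m) w₁ P (s₀ m)
  have key : ∀ t : Finset (M × M), ∃ (W : C) (w : Φ.fiber.obj W) (k : W ⟶ W₁),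
      Φ.fiber.map k w = w₁ ∧ ∀ p ∈ t,
        P.map k.op (s₁ (p.1 + p.2)) = P.map k.op (s₁ p.1 + s₁ p.2) := fun t => by
    induction t using Finset.induction with
    | empty => exact ⟨W₁, w₁, 𝟙 _, by simp, by simp⟩
    | insert p t _ ih =>
      obtain ⟨W, w, k, hw, hk⟩ := ih
      have e : Φ.toPresheafFiber W w P (P.map k.op (s₁ (p.1 + p.2))) =
          Φ.toPresheafFiber W w P (P.map k.op (s₁ p.1 + s₁ p.2)) := by
        rw [Φ.toPresheafFiber_w_apply k w P, Φ.toPresheafFiber_w_apply k w P, hw, map_add,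
          hs₁, hs₁, hs₁, map_add]
      obtain ⟨W', f, w', hw', he⟩ := (Φ.toPresheafFiber_eq_iff' (P := P) _ _ _ _).mp e
      refine ⟨W', w', f ≫ k, (Functor.map_comp_apply Φ.fiber f k w').trans ((congrArg _ hw').trans hw),
        fun q hq => ?_⟩
      simp only [op_comp, Functor.map_comp, ConcreteCategory.comp_apply]
      rcases Finset.mem_insert.mp hq with rfl | hq
      · exact he
      · exact congrArg _ (hk q hq)
  obtain ⟨W, w, k, hk₁, hk⟩ := key Finset.univ
  refine ⟨W, w, AddCommGrpCat.ofHom (AddMonoidHom.mk' (fun m => P.map k.op (s₁ m))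
    fun a b => (hk (a, b) (Finset.mem_univ _)).trans (map_add (P.map k.op).hom _ _)), ?_⟩
  ext m
  refine Eq.trans ?_ (hs₁ m)
  rw [← hk₁]
  exact Φ.toPresheafFiber_w_apply k w P (s₁ m)

/-- **Spreading out germs**: a homomorphism from a finite group to a stalk is induced, on an étale
neighbourhood, by a morphism from the constant sheaf. -/
theorem exists_nhd_lift {M : AddCommGrpCat.{u + 1}} [Finite M] {G : EtCoh.Ab X}
    {Ω : Type u} [Field Ω] [IsSepClosed Ω] (ξ : Spec (CommRingCat.of Ω) ⟶ X)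
    (h : M ⟶ (EtCoh.stalk ξ).obj G) :
    ∃ (W : X.Etale) (u : { u : Spec (CommRingCat.of Ω) ⟶ W.left // u ≫ W.hom = ξ }),
      haveI : Etale W.hom := W.prop
      haveI : EtShriek.JCont W.hom := jCont W.hom
      ∃ ψ : (cst W.left).obj M ⟶ (EtShriek.restrAlong W.hom).obj G,
        cstGerm u.1 M ≫ (EtCoh.stalk u.1).map ψ ≫ restrStalkMap W.hom ξ u G = h := by
  let Φ := Scheme.pointSmallEtale ξ
  obtain ⟨W₄, w₄, σ₀, hσ₀⟩ := exists_hom_germ_lift Φ G.obj h
  haveI : Etale W₄.hom := W₄.prop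
  haveI : EtShriek.JCont W₄.hom := jCont W₄.hom
  let u : PointLift W₄.hom ξ := ⟨w₄.left, Over.w w₄⟩
  let i : (EtShriek.compEtale W₄.hom).obj (EtCoh.top W₄.left) ⟶ W₄ :=
    MorphismProperty.Over.homMk (𝟙 W₄.left) rfl
  let σ : M ⟶ ((EtShriek.restrAlong W₄.hom).obj G).obj.obj (op (EtCoh.top W₄.left)) :=
    σ₀ ≫ G.obj.map i.op
  let adj := constantSheafAdj W₄.left.smallEtaleTopology AddCommGrpCat.{u + 1}
    (EtCore.topIsTerminal W₄.left)
  let G' : EtCoh.Ab W₄.left := (EtShriek.restrAlong W₄.hom).obj G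
  let ψ : (cst W₄.left).obj M ⟶ G' := (adj.homEquiv M G').symm σ
  have hψ : cstSec M (EtCoh.top W₄.left) ≫ ψ.hom.app (op (EtCoh.top W₄.left)) = σ := by
    have h1 : adj.unit.app M ≫
        ((sheafSections W₄.left.smallEtaleTopology AddCommGrpCat.{u + 1}).obj
          (op (EtCoh.top W₄.left))).map ψ = σ := by
      exact (adj.homEquiv_unit M G' ψ).symm.trans ((adj.homEquiv M G').apply_symm_apply σ)
    refine Eq.trans ?_ h1
    exact congrArg (fun z => z ≫ ψ.hom.app _) (constantSheafAdj_unit_top M).symm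
  refine ⟨W₄, u, ψ, ?_⟩
  let t := topPt (X := W₄.left) u.1
  have e₁ : (Scheme.pointSmallEtale u.1).toPresheafFiber (EtCoh.top W₄.left) t _ ≫
      (EtCoh.stalk u.1).map ψ = ψ.hom.app _ ≫
        (Scheme.pointSmallEtale u.1).toPresheafFiber (EtCoh.top W₄.left) t G'.obj :=
    (Scheme.pointSmallEtale u.1).toPresheafFiber_naturality ψ.hom _ t
  have e₂ : cstGerm u.1 M ≫ (EtCoh.stalk u.1).map ψ ≫ restrStalkMap W₄.hom ξ u G =
      σ ≫ Φ.toPresheafFiber _ (fiberIncl u t) G.obj := by
    rw [← hψ, cstGerm]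
    refine (Category.assoc _ _ _).trans ((congrArg (fun z => cstSec M _ ≫ z)
      ((reassoc_of% e₁) (restrStalkMap W₄.hom ξ u G))).trans ?_)
    rw [Category.assoc]
    exact congrArg (fun z => cstSec M _ ≫ ψ.hom.app _ ≫ z)
      (germ_restrStalkMap W₄.hom ξ u G (EtCoh.top W₄.left) t)
  rw [e₂, ← hσ₀]
  have : Φ.fiber.map i (fiberIncl u t) = w₄ := Over.OverMorphism.ext (Category.comp_id _)
  rw [← this]
  refine (Category.assoc σ₀ (G.obj.map i.op) _).trans ?_
  exact congrArg (fun z => σ₀ ≫ z) (Φ.toPresheafFiber_w i (fiberIncl u t) G.obj)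

/-- A finite stalk is the stalk of a finite constant sheaf mapping to the sheaf on a neighbourhood. -/
theorem exists_nhd_isIso_stalk {G : EtCoh.Ab X} {Ω : Type u} [Field Ω] [IsSepClosed Ω]
    (ξ : Spec (CommRingCat.of Ω) ⟶ X) [Finite ((EtCoh.stalk ξ).obj G)] :
    ∃ (W : X.Etale) (v : Spec (CommRingCat.of Ω) ⟶ W.left) (_ : v ≫ W.hom = ξ)
      (ψ : (cst W.left).obj ((EtCoh.stalk ξ).obj G) ⟶ (EtCoh.pull W.hom).obj G),
      IsIso ((EtCoh.stalk v).map ψ) := by
  obtain ⟨W, u, ψ, hψ⟩ := exists_nhd_lift ξ (𝟙 ((EtCoh.stalk ξ).obj G))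
  haveI : Etale W.hom := W.prop
  haveI : EtShriek.JCont W.hom := jCont W.hom
  haveI : IsIso (restrStalkMap W.hom ξ u G) :=
    (ConcreteCategory.isIso_iff_bijective _).mpr (restrStalkMap_bijective W.hom ξ u G)
  refine ⟨W, u.1, u.2, ψ ≫ (pullRestrIso W.hom).inv.app G, ?_⟩
  have : IsIso ((EtCoh.stalk u.1).map ψ ≫ restrStalkMap W.hom ξ u G) :=
    IsIso.of_isIso_fac_left hψ
  have : IsIso ((EtCoh.stalk u.1).map ψ) :=
    IsIso.of_isIso_comp_right _ (restrStalkMap W.hom ξ u G)
  rw [Functor.map_comp]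
  infer_instance

end Groth.Agent.Et18
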