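import Groth.Agent.Et18.OverSite
import Groth.Agent.Et18.ConstNhd
import Groth.Prelude.Def_EtRestW
import Mathlib.Algebra.Homology.ShortComplex.ShortExact
import Mathlib.CategoryTheory.ObjectProperty.Extensions

/-!
# Finite locally constant sheaves on the small étale site
-/

universe u

open CategoryTheory CategoryTheory.Limits AlgebraicGeometry Opposite

set_option backward.isDefEq.respectTransparency.types false
set_option backward.isDefEq.respectTransparency false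

namespace Groth.Agent.Et18

variable {X Y : Scheme.{u}}

instance cst_preservesFiniteLimits (X : Scheme.{u}) : PreservesFiniteLimits (cst X) := by
  delta cst constantSheaf
  exact comp_preservesFiniteLimits _ _

instance cst_preservesColimits (X : Scheme.{u}) : PreservesColimitsOfSize.{0, 0} (cst X) :=
  (constantSheafAdj X.smallEtaleTopology AddCommGrpCat.{u + 1}
    (EtCore.topIsTerminal X)).leftAdjoint_preservesColimits

instance cst_preservesFiniteColimits (X : Scheme.{u}) : PreservesFiniteColimits (cst X) :=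
  PreservesColimitsOfSize.preservesFiniteColimits _

instance cst_additive (X : Scheme.{u}) : (cst X).Additive :=
  letI : HasFiniteBiproducts AddCommGrpCat.{u + 1} := HasFiniteBiproducts.of_hasFiniteProducts
  haveI : PreservesBinaryBiproducts (cst X) := preservesBinaryBiproducts_of_preservesBinaryProducts _
  Functor.additive_of_preservesBinaryBiproducts _

/-- `f^{-1} F` is constant with value `A`. -/
def Triv {U : Scheme.{u}} (f : U ⟶ X) (F : EtCoh.Ab X) (A : AddCommGrpCat.{u + 1}) : Prop :=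
  Nonempty ((EtCoh.pull f).obj F ≅ (cst U).obj A)

lemma Triv.comp {U V : Scheme.{u}} {f : U ⟶ X} {F : EtCoh.Ab X} {A : AddCommGrpCat.{u + 1}}
    (h : Triv f F A) (g : V ⟶ U) {k : V ⟶ X} (e : g ≫ f = k) : Triv k F A := by
  obtain ⟨i⟩ := h
  exact ⟨(EtCore.pullCongr e.symm ≪≫ EtCore.pullComp g f).app F ≪≫ (EtCoh.pull g).mapIso i ≪≫
    (EtCore.pullConstIso g).app A⟩

lemma triv_pull_iff {U W : Scheme.{u}} (f : W ⟶ X) (h : U ⟶ W) (F : EtCoh.Ab X)
    (A : AddCommGrpCat.{u + 1}) : Triv h ((EtCoh.pull f).obj F) A ↔ Triv (h ≫ f) F A :=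
  ⟨fun ⟨i⟩ => ⟨(EtCore.pullComp h f).app F ≪≫ i⟩, fun ⟨i⟩ => ⟨((EtCore.pullComp h f).app F).symm ≪≫ i⟩⟩

lemma Triv.of_iso {U : Scheme.{u}} {f : U ⟶ X} {F G : EtCoh.Ab X} {A : AddCommGrpCat.{u + 1}}
    (h : Triv f F A) (e : F ≅ G) : Triv f G A :=
  ⟨(EtCoh.pull f).mapIso e.symm ≪≫ h.some⟩

/-- Near every point, `F` is constant with a value satisfying `P`. -/
def LocTriv (P : AddCommGrpCat.{u + 1} → Prop) (F : EtCoh.Ab X) : Prop :=
  ∀ x : X, ∃ (U : X.Etale) (y : U.left) (A : AddCommGrpCat.{u + 1}),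
    U.hom y = x ∧ P A ∧ Triv U.hom F A

lemma LocTriv.pull {P : AddCommGrpCat.{u + 1} → Prop} {G : EtCoh.Ab Y} (h : LocTriv P G)
    (f : X ⟶ Y) : LocTriv P ((EtCoh.pull f).obj G) := fun x => by
  obtain ⟨U, v, A, hv, hA, hU⟩ := h (f x)
  obtain ⟨z, hz₁, hz₂⟩ := Scheme.Pullback.exists_preimage_pullback (f := U.hom) (g := f) v x hv
  refine ⟨(EtCoh.bc f).obj U, z, A, hz₂, hA, (triv_pull_iff f _ G A).mpr ?_⟩
  exact hU.comp (pullback.fst U.hom f : ((EtCoh.bc f).obj U).left ⟶ U.left) pullback.condition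

lemma LocTriv.of_iso {P : AddCommGrpCat.{u + 1} → Prop} {F G : EtCoh.Ab X} (h : LocTriv P F)
    (e : F ≅ G) : LocTriv P G := fun x => by
  obtain ⟨U, y, A, hy, hA, hU⟩ := h x
  exact ⟨U, y, A, hy, hA, hU.of_iso e⟩

/-- The composite of two étale morphisms as an object of the small étale site. -/
noncomputable abbrev etaleComp {U : X.Etale} (V : U.left.Etale) : X.Etale :=
  haveI : Etale U.hom := U.prop
  haveI : Etale V.hom := V.prop
  Scheme.Etale.mk (V.hom ≫ U.hom)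

lemma LocTriv.of_nhds {P : AddCommGrpCat.{u + 1} → Prop} {F : EtCoh.Ab X}
    (h : ∀ x : X, ∃ (U : X.Etale) (y : U.left), U.hom y = x ∧
      LocTriv P ((EtCoh.pull U.hom).obj F)) : LocTriv P F := fun x => by
  obtain ⟨U, y, rfl, hU⟩ := h x
  obtain ⟨V, z, A, rfl, hA, hV⟩ := hU y
  exact ⟨etaleComp V, z, A, rfl, hA, (triv_pull_iff _ _ F A).mp hV⟩

lemma addCommGrp_exists_small (A : AddCommGrpCat.{u + 1}) [Finite A] :
    ∃ (M : Type) (_ : AddCommGroup M) (_ : Finite M),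
      Nonempty (A ≅ AddCommGrpCat.of (ULift.{u + 1} M)) := by
  haveI : Small.{0} A := Countable.toSmall.{0} A
  refine ⟨Shrink.{0} A, inferInstance, Finite.of_equiv A (equivShrink A), ⟨?_⟩⟩
  exact AddEquiv.toAddCommGrpIso ((Shrink.addEquiv (α := A)).symm.trans AddEquiv.ulift.symm)

/-- Finite locally constant sheaves are the sheaves which are, near every point, constant with
finite value. -/
theorem isFLC_iff {F : EtCoh.Ab X} :
    EtCoh.IsFiniteLocallyConstant F ↔ LocTriv (fun A => Finite A) F := by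
  rw [isFiniteLocallyConstant_iff]
  constructor
  · rintro ⟨ι, U, hU, h⟩ x
    obtain ⟨i, y, hy⟩ := hU x
    obtain ⟨M, _, _, e⟩ := h i
    exact ⟨U i, y, _, hy, (inferInstance : Finite (ULift.{u + 1} M)), e⟩
  · intro h
    choose U y A hy hA e using h
    refine ⟨X, U, fun x => ⟨x, y x, hy x⟩, fun x => ?_⟩
    haveI := hA x
    obtain ⟨M, _, _, ⟨i⟩⟩ := addCommGrp_exists_small (A x)
    exact ⟨M, _, ‹_›, ⟨(e x).some ≪≫ (cst _).mapIso i⟩⟩

/-- Locally constant sheaves are the sheaves which are constant near every point. -/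
theorem isLocallyConstant_iff {F : EtCoh.Ab X} :
    EtRest.IsLocallyConstant F ↔ LocTriv (fun _ => True) F := by
  constructor
  · rintro ⟨ι, U, hU, h⟩ x
    obtain ⟨i, y, hy⟩ := hU x
    obtain ⟨M, _, e⟩ := h i
    exact ⟨U i, y, _, hy, trivial, (nonempty_restr_iso_const_iff _ F _).mp e⟩
  · intro h
    choose U y A hy _ e using h
    exact ⟨X, U, fun x => ⟨x, y x, hy x⟩, fun x => ⟨(A x : Type (u + 1)), inferInstance,
      (nonempty_restr_iso_const_iff _ F _).mpr (e x)⟩⟩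

lemma isFLC_cst (A : AddCommGrpCat.{u + 1}) [Finite A] :
    EtCoh.IsFiniteLocallyConstant ((cst X).obj A) :=
  isFLC_iff.mpr fun x => ⟨EtCoh.top X, x, A, rfl, ‹_›, ⟨(EtCore.pullConstIso _).app A⟩⟩

lemma isFLC_pull {G : EtCoh.Ab Y} (h : EtCoh.IsFiniteLocallyConstant G) (f : X ⟶ Y) :
    EtCoh.IsFiniteLocallyConstant ((EtCoh.pull f).obj G) :=
  isFLC_iff.mpr ((isFLC_iff.mp h).pull f)

lemma isFLC_of_iso {F G : EtCoh.Ab X} (h : EtCoh.IsFiniteLocallyConstant F) (e : F ≅ G) :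
    EtCoh.IsFiniteLocallyConstant G :=
  isFLC_iff.mpr ((isFLC_iff.mp h).of_iso e)

/-- Transport of an equality of pulled back morphisms to a finer neighbourhood. -/
lemma pull_map_eq_comp {U V : Scheme.{u}} {f : U ⟶ X} (g : V ⟶ U) {k : V ⟶ X} (e : g ≫ f = k)
    {F G : EtCoh.Ab X} {φ ψ : F ⟶ G} (h : (EtCoh.pull f).map φ = (EtCoh.pull f).map ψ) :
    (EtCoh.pull k).map φ = (EtCoh.pull k).map ψ := by
  subst e
  let c := EtCore.pullComp g f
  rw [← cancel_mono (c.hom.app G)]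
  exact (c.hom.naturality φ).trans
    ((congrArg (fun z => c.hom.app F ≫ (EtCoh.pull g).map z) h).trans (c.hom.naturality ψ).symm)

/-- Two pointed neighbourhoods have a common refinement. -/
lemma exists_common_etale (U U' : X.Etale) (y : U.left) (y' : U'.left) (h : U.hom y = U'.hom y') :
    ∃ (V : X.Etale) (z : V.left) (g : V.left ⟶ U.left) (g' : V.left ⟶ U'.left),
      g ≫ U.hom = V.hom ∧ g' ≫ U'.hom = V.hom ∧ g z = y ∧ g' z = y' := by
  obtain ⟨z, hz₁, hz₂⟩ := Scheme.Pullback.exists_preimage_pullback (f := U'.hom) (g := U.hom) y' y h.symm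
  exact ⟨etaleComp ((EtCoh.bc U.hom).obj U'), z, pullback.snd U'.hom U.hom, pullback.fst U'.hom U.hom,
    rfl, pullback.condition, hz₂, hz₁⟩

/-- The stalk of a sheaf at a point of a neighbourhood on which it is constant. -/
lemma nonempty_stalk_iso {U : Scheme.{u}} {f : U ⟶ X} {F : EtCoh.Ab X} {A : AddCommGrpCat.{u + 1}}
    (h : Triv f F A) {Ω : Type u} [Field Ω] [IsSepClosed Ω] (η : Spec (CommRingCat.of Ω) ⟶ U) :
    Nonempty ((EtCoh.stalk (η ≫ f)).obj F ≅ A) :=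
  ⟨((stalkPullIso f η).app F).symm ≪≫ (EtCoh.stalk η).mapIso h.some ≪≫ (asIso (cstGerm η A)).symm⟩

lemma nonempty_stalk_iso' {U : X.Etale} {F : EtCoh.Ab X} {A : AddCommGrpCat.{u + 1}}
    (h : Triv U.hom F A) {Ω : Type u} [Field Ω] [IsSepClosed Ω] (ξ : Spec (CommRingCat.of Ω) ⟶ X)
    (y : U.left) (hy : U.hom y = ξ default) :
    Nonempty ((EtCoh.stalk ξ).obj F ≅ A) := by
  obtain ⟨v, -⟩ := exists_fiber_point ξ U y hy
  let η : Spec (CommRingCat.of Ω) ⟶ U.left := v.left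
  have e : η ≫ U.hom = ξ := Over.w v
  exact e ▸ nonempty_stalk_iso h η

lemma finite_stalk {F : EtCoh.Ab X} (h : EtCoh.IsFiniteLocallyConstant F) {Ω : Type u} [Field Ω]
    [IsSepClosed Ω] (ξ : Spec (CommRingCat.of Ω) ⟶ X) : Finite ((EtCoh.stalk ξ).obj F) := by
  obtain ⟨U, y, A, hy, hA, hU⟩ := isFLC_iff.mp h (ξ default)
  obtain ⟨e⟩ := nonempty_stalk_iso' hU ξ y hy
  exact Finite.of_equiv A e.symm.addCommGroupIsoToAddEquiv.toEquiv

/-- A morphism from a finite locally constant sheaf to a locally constant sheaf is, near every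
point, induced by a homomorphism of groups. -/
theorem exists_nhd_hom {F G : EtCoh.Ab X} (φ : F ⟶ G) (hF : EtCoh.IsFiniteLocallyConstant F)
    {P : AddCommGrpCat.{u + 1} → Prop} (hG : LocTriv P G) (x : X) :
    ∃ (W : X.Etale) (w : W.left) (A B : AddCommGrpCat.{u + 1}) (h : A ⟶ B)
      (α : (EtCoh.pull W.hom).obj F ≅ (cst W.left).obj A)
      (β : (EtCoh.pull W.hom).obj G ≅ (cst W.left).obj B),
      W.hom w = x ∧ Finite A ∧ P B ∧ (EtCoh.pull W.hom).map φ ≫ β.hom = α.hom ≫ (cst W.left).map h := by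
  obtain ⟨U, y, A, hy, hA, hUA⟩ := isFLC_iff.mp hF x
  obtain ⟨U', y', B, hy', hB, hUB⟩ := hG x
  obtain ⟨V, z, g, g', hg, hg', hz, -⟩ := exists_common_etale U U' y y' (hy.trans hy'.symm)
  obtain ⟨α⟩ := hUA.comp g hg
  obtain ⟨β⟩ := hUB.comp g' hg'
  let φ' : (cst V.left).obj A ⟶ (cst V.left).obj B := α.inv ≫ (EtCoh.pull V.hom).map φ ≫ β.hom
  let ξ := sepPoint V.left z
  let h : A ⟶ B := cstGerm ξ A ≫ (EtCoh.stalk ξ).map φ' ≫ inv (cstGerm ξ B)
  obtain ⟨W, v, hW⟩ := exists_nhd_pull_map_eq φ' ((cst V.left).map h) ξ (by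
    rw [← cancel_epi (cstGerm ξ A), cstGerm_naturality]
    simp [h])
  let c := EtCore.pullComp W.hom V.hom
  refine ⟨etaleComp W, fiberPt (U := W) v, A, B, h,
    c.app F ≪≫ (EtCoh.pull W.hom).mapIso α ≪≫ (EtCore.pullConstIso W.hom).app A,
    c.app G ≪≫ (EtCoh.pull W.hom).mapIso β ≪≫ (EtCore.pullConstIso W.hom).app B, ?_, hA, hB, ?_⟩
  · show V.hom (W.hom (fiberPt v)) = x
    rw [hom_fiberPt v, sepPoint_default, ← hy, ← hz, ← hg]
    rfl
  · have h1 : (EtCoh.pull W.hom).map ((EtCoh.pull V.hom).map φ) ≫ (EtCoh.pull W.hom).map β.hom =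
        (EtCoh.pull W.hom).map α.hom ≫ (EtCoh.pull W.hom).map ((cst V.left).map h) := by
      rw [← hW, ← Functor.map_comp, ← Functor.map_comp]
      exact congrArg _ (α.hom_inv_id_assoc _).symm
    have h2 := (EtCore.pullConstIso W.hom).hom.naturality h
    dsimp only [Iso.trans_hom, Functor.mapIso_hom, Iso.app_hom, etaleComp]
    refine (reassoc_of% (c.hom.naturality φ)) _ |>.trans ?_
    refine Eq.trans ?_ (Category.assoc _ _ _).symm
    refine congrArg (fun t => c.hom.app F ≫ t) ?_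
    refine ((reassoc_of% h1) _).trans ?_
    refine Eq.trans ?_ (Category.assoc _ _ _).symm
    exact congrArg (fun t => (EtCoh.pull W.hom).map α.hom ≫ t) h2

/-- Kernels and cokernels of maps of finite locally constant sheaves. -/
theorem isFLC_kernel_cokernel {F G : EtCoh.Ab X} (φ : F ⟶ G) (hF : EtCoh.IsFiniteLocallyConstant F)
    (hG : EtCoh.IsFiniteLocallyConstant G) :
    EtCoh.IsFiniteLocallyConstant (kernel φ) ∧ EtCoh.IsFiniteLocallyConstant (cokernel φ) := by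
  have key := exists_nhd_hom φ hF (isFLC_iff.mp hG)
  refine ⟨isFLC_iff.mpr fun x => ?_, isFLC_iff.mpr fun x => ?_⟩
  · obtain ⟨W, w, A, B, h, α, β, hw, hA, hB, e⟩ := key x
    refine ⟨W, w, kernel h, hw, Finite.of_injective _ ((AddCommGrpCat.mono_iff_injective (kernel.ι h)).mp inferInstance), ⟨?_⟩⟩
    exact PreservesKernel.iso (EtCoh.pull W.hom) φ ≪≫ kernel.mapIso _ _ α β e ≪≫
      (PreservesKernel.iso (cst W.left) h).symm
  · obtain ⟨W, w, A, B, h, α, β, hw, hA, hB, e⟩ := key x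
    refine ⟨W, w, cokernel h, hw, Finite.of_surjective _ ((AddCommGrpCat.epi_iff_surjective (cokernel.π h)).mp inferInstance), ⟨?_⟩⟩
    exact PreservesCokernel.iso (EtCoh.pull W.hom) φ ≪≫ cokernel.mapIso _ _ α β e ≪≫
      (PreservesCokernel.iso (cst W.left) h).symm

/-- A constant-valued extension is constant near every point. -/
theorem exists_nhd_triv_of_extension {S : ShortComplex (EtCoh.Ab X)} (hS : S.ShortExact)
    {A C : AddCommGrpCat.{u + 1}} [Finite A] [Finite C] (a : S.X₁ ≅ (cst X).obj A)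
    (c : S.X₃ ≅ (cst X).obj C) (x : X) :
    ∃ (U : X.Etale) (y : U.left) (M : AddCommGrpCat.{u + 1}),
      U.hom y = x ∧ Finite M ∧ Triv U.hom S.X₂ M := by
  let ξ := sepPoint X x
  have hst := hS.map_of_exact (EtCoh.stalk ξ)
  let aG : (EtCoh.stalk ξ).obj S.X₁ ≅ A := (EtCoh.stalk ξ).mapIso a ≪≫ (asIso (cstGerm ξ A)).symm
  let cG : (EtCoh.stalk ξ).obj S.X₃ ≅ C := (EtCoh.stalk ξ).mapIso c ≪≫ (asIso (cstGerm ξ C)).symm
  haveI : Finite ((EtCoh.stalk ξ).obj S.X₂) := by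
    haveI : Finite ((EtCoh.stalk ξ).obj S.X₁) :=
      Finite.of_equiv A aG.symm.addCommGroupIsoToAddEquiv.toEquiv
    haveI : Finite ((EtCoh.stalk ξ).obj S.X₃) :=
      Finite.of_equiv C cG.symm.addCommGroupIsoToAddEquiv.toEquiv
    refine AddMonoidHom.finite_iff_finite_ker_range (((EtCoh.stalk ξ).map S.g).hom) |>.mpr ⟨?_, inferInstance⟩
    have hex := ((S.map (EtCoh.stalk ξ)).ab_exact_iff_range_eq_ker).mp hst.exact
    refine Finite.of_surjective (fun t : (EtCoh.stalk ξ).obj S.X₁ => ⟨(EtCoh.stalk ξ).map S.f t, ?_⟩) ?_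
    · exact hex ▸ ⟨t, rfl⟩
    · rintro ⟨t, ht⟩
      obtain ⟨s, hs⟩ := hex ▸ ht
      exact ⟨s, Subtype.ext hs⟩
  let M := (EtCoh.stalk ξ).obj S.X₂
  obtain ⟨W, v, hv, ψ, hψ⟩ := exists_nhd_isIso_stalk ξ (G := S.X₂)
  let PW := EtCoh.pull W.hom
  let pc := EtCore.pullConstIso W.hom
  let ι : (cst W.left).obj A ⟶ PW.obj S.X₂ := pc.inv.app A ≫ PW.map (a.inv ≫ S.f)
  let π : PW.obj S.X₂ ⟶ (cst W.left).obj C := PW.map (S.g ≫ c.hom) ≫ pc.hom.app C
  let T := EtCoh.stalk v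
  let σ : A ⟶ M := cstGerm v A ≫ T.map ι ≫ inv (T.map ψ) ≫ inv (cstGerm v M)
  let τ : M ⟶ C := cstGerm v M ≫ T.map (ψ ≫ π) ≫ inv (cstGerm v C)
  obtain ⟨W₁, w₁, hW₁⟩ := exists_nhd_pull_map_eq ι ((cst W.left).map σ ≫ ψ) v (by
    rw [← cancel_epi (cstGerm v A)]
    refine Eq.trans ?_ ((congrArg (fun z => cstGerm v A ≫ z) (T.map_comp ((cst W.left).map σ) ψ)).trans (cstGerm_naturality_assoc v σ (T.map ψ))).symm
    simp [σ, T])
  obtain ⟨W₂, w₂, hW₂⟩ := exists_nhd_pull_map_eq (ψ ≫ π) ((cst W.left).map τ) v (by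
    rw [← cancel_epi (cstGerm v M), cstGerm_naturality]
    simp [τ, T])
  obtain ⟨V, z, g₁, g₂, hg₁, hg₂, hz, -⟩ := exists_common_etale W₁ W₂ (fiberPt w₁) (fiberPt w₂)
    ((hom_fiberPt w₁).trans (hom_fiberPt w₂).symm)
  replace hW₁ := pull_map_eq_comp g₁ hg₁ hW₁
  replace hW₂ := pull_map_eq_comp g₂ hg₂ hW₂
  have hSW := hS.map_of_exact PW
  have hιπ : ι ≫ π = 0 := by
    simp only [ι, π, Category.assoc]
    rw [← Functor.map_comp_assoc, show (a.inv ≫ S.f) ≫ S.g ≫ c.hom = 0 by simp [S.zero_assoc]]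
    simp
  have hA : (ShortComplex.mk ι π hιπ).ShortExact := by
    refine ShortComplex.shortExact_of_iso ?_ hSW
    refine ShortComplex.isoMk (PW.mapIso a ≪≫ pc.app A) (Iso.refl _) (PW.mapIso c ≪≫ pc.app C) ?_ ?_
    · simp [ι]
    · simp [π]
  have hστ : σ ≫ τ = 0 := by
    have h0 := congrArg T.map hιπ
    rw [Functor.map_comp, Functor.map_zero] at h0
    simp only [σ, τ, Functor.map_comp, Category.assoc, IsIso.inv_hom_id_assoc]
    rw [reassoc_of% h0]
    simp
  have hMse : (ShortComplex.mk σ τ hστ).ShortExact := by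
    refine ShortComplex.shortExact_of_iso ?_ (hA.map_of_exact T)
    refine ShortComplex.isoMk (asIso (cstGerm v A)).symm ((asIso (T.map ψ)).symm ≪≫ (asIso (cstGerm v M)).symm)
      (asIso (cstGerm v C)).symm ?_ ?_
    · simp [σ]
    · simp [τ, T]
  let PV := EtCoh.pull V.hom
  let TV := (ShortComplex.mk σ τ hστ).map (cst W.left ⋙ PV)
  let Θ : TV ⟶ (ShortComplex.mk ι π hιπ).map PV :=
    { τ₁ := 𝟙 _
      τ₂ := PV.map ψ
      τ₃ := 𝟙 _
      comm₁₂ := by
        refine (Category.id_comp _).trans (hW₁.trans ?_)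
        exact PV.map_comp _ _
      comm₂₃ := by
        refine Eq.trans ?_ (Category.comp_id _).symm
        exact ((PV.map_comp _ _).symm.trans hW₂) }
  haveI : IsIso Θ.τ₁ := inferInstanceAs (IsIso (𝟙 _))
  haveI : IsIso Θ.τ₃ := inferInstanceAs (IsIso (𝟙 _))
  haveI : IsIso Θ.τ₂ := ShortComplex.isIso₂_of_shortExact_of_isIso₁₃ Θ
    ((hMse.map_of_exact (cst W.left)).map_of_exact PV) (hA.map_of_exact PV)
  refine ⟨etaleComp V, z, M, ?_, inferInstanceAs (Finite ((EtCoh.stalk ξ).obj S.X₂)), ?_⟩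
  · show W.hom (V.hom z) = x
    rw [← hg₁]
    show W.hom (W₁.hom (g₁ z)) = x
    rw [hz, hom_fiberPt w₁]
    show (v ≫ W.hom) default = x
    rw [hv]
    exact sepPoint_default X x
  · exact (triv_pull_iff W.hom V.hom S.X₂ M).mp
      ⟨(asIso Θ.τ₂).symm ≪≫ (EtCore.pullConstIso V.hom).app M⟩

/-- Finite locally constant sheaves are closed under extensions. -/
theorem isFLC_extension {S : ShortComplex (EtCoh.Ab X)} (hS : S.ShortExact)
    (h₁ : EtCoh.IsFiniteLocallyConstant S.X₁) (h₃ : EtCoh.IsFiniteLocallyConstant S.X₃) :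
    EtCoh.IsFiniteLocallyConstant S.X₂ := by
  refine isFLC_iff.mpr (LocTriv.of_nhds fun x => ?_)
  obtain ⟨U, y, A, hy, hA, hUA⟩ := isFLC_iff.mp h₁ x
  obtain ⟨U', y', C, hy', hC, hUC⟩ := isFLC_iff.mp h₃ x
  obtain ⟨V, z, g, g', hg, hg', hz, -⟩ := exists_common_etale U U' y y' (hy.trans hy'.symm)
  refine ⟨V, z, ?_, fun t => ?_⟩
  · rw [← hg, ← hy, ← hz]; rfl
  · haveI : Finite A := hA
    haveI : Finite C := hC
    exact exists_nhd_triv_of_extension (hS.map_of_exact (EtCoh.pull V.hom))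
      (hUA.comp g hg).some (hUC.comp g' hg').some t

/-- `F|_U` on the localised site is the inverse image. -/
noncomputable def overPullIso (U : X.Etale) :
    X.smallEtaleTopology.overPullback AddCommGrpCat.{u + 1} U ⋙ overRestr U ≅ EtCoh.pull U.hom :=
  overRestrRestrIso U ≪≫ (@pullRestrIso _ _ U.hom (etale_structureHom U) (jCont_structureHom U)).symm

/-- The group-homomorphism description on the localised sites. -/
theorem exists_over_hom {F G : EtCoh.Ab X} (φ : F ⟶ G) (hF : EtCoh.IsFiniteLocallyConstant F)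
    (hG : EtRest.IsLocallyConstant G) :
    ∃ (ι : Type u) (U : ι → X.Etale), EtCoh.Covers U ∧ ∀ i, ∃ (A B : AddCommGrpCat.{u + 1}) (h : A ⟶ B)
      (α : EtCoh.restr F (U i) ≅ (constantSheaf (X.smallEtaleTopology.over (U i)) AddCommGrpCat.{u + 1}).obj A)
      (β : EtCoh.restr G (U i) ≅ (constantSheaf (X.smallEtaleTopology.over (U i)) AddCommGrpCat.{u + 1}).obj B),
      (X.smallEtaleTopology.overPullback AddCommGrpCat.{u + 1} (U i)).map φ ≫ β.hom =
        α.hom ≫ (constantSheaf (X.smallEtaleTopology.over (U i)) AddCommGrpCat.{u + 1}).map h := by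
  choose W w A B h α β hw _ _ e using exists_nhd_hom φ hF (isLocallyConstant_iff.mp hG)
  refine ⟨X, W, fun x => ⟨x, w x, hw x⟩, fun x => ?_⟩
  let a := overPullIso (W x)
  let b := overRestrConstIso (W x)
  let R := overRestr (W x)
  refine ⟨A x, B x, h x, R.preimageIso (a.app F ≪≫ α x ≪≫ (b.app (A x)).symm),
    R.preimageIso (a.app G ≪≫ β x ≪≫ (b.app (B x)).symm), R.map_injective ?_⟩
  have ha : R.map ((X.smallEtaleTopology.overPullback AddCommGrpCat.{u + 1} (W x)).map φ) ≫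
      a.hom.app G = a.hom.app F ≫ (EtCoh.pull (W x).hom).map φ := a.hom.naturality φ
  have hb : (cst (W x).left).map (h x) ≫ b.inv.app (B x) = b.inv.app (A x) ≫
      R.map ((constantSheaf (X.smallEtaleTopology.over (W x)) AddCommGrpCat.{u + 1}).map (h x)) :=
    b.inv.naturality (h x)
  simp only [Functor.map_comp, Functor.preimageIso_hom, Functor.map_preimage, Iso.trans_hom,
    Iso.app_hom, Iso.symm_hom, Iso.app_inv]
  rw [reassoc_of% ha, reassoc_of% (e x), Category.assoc, Category.assoc]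
  exact congrArg _ (congrArg _ hb)

/-- The same finite group everywhere on a connected scheme. -/
theorem exists_single_group [ConnectedSpace X] {F : EtCoh.Ab X}
    (hF : EtCoh.IsFiniteLocallyConstant F) :
    ∃ A : AddCommGrpCat.{u + 1}, Finite A ∧ ∀ x : X, ∃ (U : X.Etale) (y : U.left),
      U.hom y = x ∧ Triv U.hom F A := by
  obtain ⟨x₀⟩ := (inferInstance : Nonempty X)
  let A₀ := (EtCoh.stalk (sepPoint X x₀)).obj F
  let s : Set X := {x | Nonempty ((EtCoh.stalk (sepPoint X x)).obj F ≅ A₀)}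
  have hloc : ∀ x : X, ∃ O : Set X, IsOpen O ∧ x ∈ O ∧ ∀ x' ∈ O,
      Nonempty ((EtCoh.stalk (sepPoint X x')).obj F ≅ (EtCoh.stalk (sepPoint X x)).obj F) := fun x => by
    obtain ⟨U, y, A, hy, -, hU⟩ := isFLC_iff.mp hF x
    haveI : Etale U.hom := U.prop
    refine ⟨Set.range U.hom, U.hom.isOpenMap.isOpen_range, ⟨y, hy⟩, ?_⟩
    rintro x' ⟨y', hy'⟩
    obtain ⟨e'⟩ := nonempty_stalk_iso' hU (sepPoint X x') y' (hy'.trans (sepPoint_default X x').symm)
    obtain ⟨e⟩ := nonempty_stalk_iso' hU (sepPoint X x) y (hy.trans (sepPoint_default X x).symm)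
    exact ⟨e' ≪≫ e.symm⟩
  have hs : IsClopen s := by
    refine ⟨⟨isOpen_iff_forall_mem_open.mpr fun x hx => ?_⟩, isOpen_iff_forall_mem_open.mpr fun x hx => ?_⟩
    all_goals obtain ⟨O, hO, hxO, h⟩ := hloc x
    · exact ⟨O, fun x' hx' hs' => hx ⟨(h x' hx').some.symm ≪≫ hs'.some⟩, hO, hxO⟩
    · exact ⟨O, fun x' hx' => ⟨(h x' hx').some ≪≫ hx.some⟩, hO, hxO⟩
  have huniv := hs.eq_univ ⟨x₀, ⟨Iso.refl _⟩⟩
  refine ⟨A₀, finite_stalk hF _, fun x => ?_⟩
  obtain ⟨U, y, A, hy, -, hU⟩ := isFLC_iff.mp hF x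
  obtain ⟨e⟩ := nonempty_stalk_iso' hU (sepPoint X x) y (hy.trans (sepPoint_default X x).symm)
  have hx : x ∈ s := huniv ▸ Set.mem_univ x
  exact ⟨U, y, hy, ⟨hU.some ≪≫ (cst _).mapIso (e.symm ≪≫ hx.some)⟩⟩

end Groth.Agent.Et18
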