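import Groth.Agent.Et18.FibreCount
import Groth.Agent.Et18.FLC
import Mathlib.AlgebraicGeometry.Morphisms.FlatDescent
import Mathlib.FieldTheory.IsSepClosed

/-!
# Stalks only depend on the underlying point
-/

universe u

open CategoryTheory CategoryTheory.Limits AlgebraicGeometry Opposite

set_option backward.isDefEq.respectTransparency.types false
set_option backward.isDefEq.respectTransparency false

namespace Groth.Agent.Et18

variable {X : Scheme.{u}}

section

variable {K L : Type u} [Field K] [IsSepClosed K] [Field L] [IsSepClosed L]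
  (σ : Spec (CommRingCat.of L) ⟶ Spec (CommRingCat.of K)) (s : Spec (CommRingCat.of K) ⟶ X)

/-- Composition of fibre points with an extension of separably closed fields. -/
noncomputable def extendFiber :
    (Scheme.pointSmallEtale s).fiber ⟶ (Scheme.pointSmallEtale (σ ≫ s)).fiber where
  app U := TypeCat.ofHom fun v => Over.homMk (σ ≫ v.left)
    ((Category.assoc _ _ _).trans (congrArg (fun t => σ ≫ t) (Over.w v)))
  naturality U V g := by
    ext v
    exact Over.OverMorphism.ext (Category.assoc _ _ _).symm

lemma extendFiber_bijective (U : X.Etale) : Function.Bijective ((extendFiber σ s).app U) := by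
  have : Etale U.hom := U.prop
  have : Surjective σ := ⟨fun _ => ⟨default, Subsingleton.elim _ _⟩⟩
  have hepi : Epi σ := by
    haveI : Flat σ := by
      rw [← Spec.map_preimage σ, HasRingHomProperty.Spec_iff (P := @Flat)]
      letI := (Spec.preimage σ).hom.toAlgebra
      exact (inferInstance : Module.Flat K L)
    exact Flat.epi_of_flat_of_surjective σ
  refine ⟨fun a b h => Over.OverMorphism.ext (hepi.left_cancellation _ _ (congrArg CommaMorphism.left h)),
    fun m => ?_⟩
  let m' : Spec (CommRingCat.of L) ⟶ U.left := m.left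
  have hm : m' ≫ U.hom = σ ≫ s := Over.w m
  let p : Spec (CommRingCat.of L) ⟶ pullback U.hom s := pullback.lift m' σ hm
  obtain ⟨t, ht, htd⟩ := Scheme.exists_fac_of_etale_of_isSepClosed (pullback.snd U.hom s) (𝟙 _)
    (p default) (Subsingleton.elim _ _)
  haveI : IsOpenImmersion t := by
    haveI : IsOpenImmersion (t ≫ pullback.snd U.hom s) := by rw [ht]; infer_instance
    haveI : Etale (t ≫ pullback.snd U.hom s) := inferInstance
    haveI : Mono t := mono_of_mono_fac ht
    haveI : Etale t := Etale.of_comp t (pullback.snd U.hom s)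
    exact IsOpenImmersion.of_flat_of_mono t
  obtain ⟨r, hr⟩ := exists_lift_of_mem p t ⟨default, htd⟩
  have hrσ : r = σ := by
    calc r = r ≫ (t ≫ pullback.snd U.hom s) := by rw [ht, Category.comp_id]
      _ = σ := by rw [← Category.assoc, hr, pullback.lift_snd]
  refine ⟨Over.homMk (t ≫ pullback.fst U.hom s)
    ((Category.assoc _ _ _).trans ((congrArg (fun z => t ≫ z) pullback.condition).trans
      ((Category.assoc _ _ _).symm.trans ((congrArg (fun z => z ≫ s) ht).trans (Category.id_comp _))))),
    Over.OverMorphism.ext ?_⟩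
  show σ ≫ t ≫ pullback.fst U.hom s = m'
  rw [← Category.assoc, ← hrσ, hr, pullback.lift_fst]

/-- The points of the étale site given by a geometric point and an extension of it agree. -/
noncomputable def extendPointIso :
    Scheme.pointSmallEtale (σ ≫ s) ≅ Scheme.pointSmallEtale s :=
  haveI : ∀ U, IsIso ((extendFiber σ s).app U) := fun U =>
    (isIso_iff_bijective _).mpr (extendFiber_bijective σ s U)
  haveI : IsIso (extendFiber σ s) := NatIso.isIso_of_isIso_app _
  { hom := ⟨extendFiber σ s⟩
    inv := ⟨inv (extendFiber σ s)⟩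
    hom_inv_id := GrothendieckTopology.Point.hom_ext (IsIso.inv_hom_id (extendFiber σ s))
    inv_hom_id := GrothendieckTopology.Point.hom_ext (IsIso.hom_inv_id (extendFiber σ s)) }

end

/-- A geometric point factors through the standard one. -/
lemma exists_fac_sepPoint {Ω : Type u} [Field Ω] [IsSepClosed Ω] (ξ : Spec (CommRingCat.of Ω) ⟶ X)
    (x : X) (h : ξ default = x) :
    ∃ σ : Spec (CommRingCat.of Ω) ⟶ Spec (CommRingCat.of (SeparableClosure (X.residueField x))),
      σ ≫ sepPoint X x = ξ := by
  obtain ⟨⟨y, φ⟩, hy⟩ := (Scheme.SpecToEquivOfField Ω X).symm.surjective ξ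
  obtain rfl : y = x := by
    have := congrArg (fun t : Spec (CommRingCat.of Ω) ⟶ X => t default) hy
    simpa [Scheme.SpecToEquivOfField, h] using this
  letI := φ.hom.toAlgebra
  let l : SeparableClosure (X.residueField y) →ₐ[X.residueField y] Ω := IsSepClosed.lift
  refine ⟨Spec.map (CommRingCat.ofHom l.toRingHom), Eq.trans ?_ hy⟩
  simp only [sepPoint, Scheme.SpecToEquivOfField, Equiv.coe_fn_symm_mk]
  rw [← Category.assoc, ← Spec.map_comp]
  congr 2
  exact CommRingCat.hom_ext l.comp_algebraMap

/-- Stalks at two geometric points over the same point are isomorphic. -/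
theorem nonempty_stalk_iso_of_eq {Ω Ω' : Type u} [Field Ω] [IsSepClosed Ω] [Field Ω'] [IsSepClosed Ω']
    (ξ : Spec (CommRingCat.of Ω) ⟶ X) (ξ' : Spec (CommRingCat.of Ω') ⟶ X)
    (h : ξ default = ξ' default) (F : EtCoh.Ab X) :
    Nonempty ((EtCoh.stalk ξ).obj F ≅ (EtCoh.stalk ξ').obj F) := by
  generalize hx : ξ default = x at h
  obtain ⟨σ, rfl⟩ := exists_fac_sepPoint ξ x hx
  obtain ⟨σ', rfl⟩ := exists_fac_sepPoint ξ' x h.symm
  exact ⟨(sheafFiberIsoOfIso (extendPointIso σ _)).app F ≪≫
    ((sheafFiberIsoOfIso (extendPointIso σ' _)).app F).symm⟩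

end Groth.Agent.Et18
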