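import Groth.Agent.Et18.ExtZeroGeneral

/-!
# Loci attached to morphisms of constructible sheaves
-/

universe u

open CategoryTheory CategoryTheory.Limits AlgebraicGeometry Opposite Topology

set_option backward.isDefEq.respectTransparency.types false
set_option backward.isDefEq.respectTransparency false

namespace Groth.Agent.Et18

variable {X : Scheme.{u}}

/-- Surjectivity on a stalk is vanishing of the stalk of the cokernel. -/
lemma surjective_stalk_iff {F G : EtCoh.Ab X} (φ : F ⟶ G) {Ω : Type u} [Field Ω] [IsSepClosed Ω]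
    (ξ : Spec (CommRingCat.of Ω) ⟶ X) :
    Function.Surjective ((EtCoh.stalk ξ).map φ) ↔ IsZero ((EtCoh.stalk ξ).obj (cokernel φ)) := by
  have hex : (ShortComplex.mk φ (cokernel.π φ) (cokernel.condition φ)).Exact :=
    ShortComplex.exact_cokernel φ
  have hz : PreservesColimitsOfSize.{0, 0} (EtCoh.stalk ξ) := inferInstance
  have h := ((PreservesCokernel.iso (EtCoh.stalk ξ) φ)).isZero_iff
  rw [h, ← AddCommGrpCat.epi_iff_surjective]
  exact ⟨fun _ => isZero_cokernel_of_epi _, fun h0 => Preadditive.epi_of_isZero_cokernel _ h0⟩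

/-- The surjectivity locus of a morphism of constructible sheaves. -/
theorem isLocallyConstructible_surjective_locus {F G : EtCoh.Ab X} (φ : F ⟶ G)
    (hF : EtPBC.IsConstructible F) (hG : EtPBC.IsConstructible G) :
    IsLocallyConstructible {x : X | ∀ (Ω : Type u) [Field Ω] [IsSepClosed Ω]
      (ξ : Spec (CommRingCat.of Ω) ⟶ X), Set.range ξ = {x} →
        Function.Surjective ((EtCoh.stalk ξ).map φ)} := by
  convert H8Lim.isLocallyConstructible_compl
    (isLocallyConstructible_supp (isConstructible_kernel_cokernel φ hF hG).2) using 1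
  ext x
  constructor
  · intro h hx
    obtain ⟨Ω, _, _, ξ, hξ, hne⟩ := hx
    exact hne ((surjective_stalk_iff φ ξ).mp (h Ω ξ hξ))
  · intro h Ω _ _ ξ hξ
    exact (surjective_stalk_iff φ ξ).mpr (by_contra fun hne => h ⟨Ω, inferInstance, inferInstance, ξ, hξ, hne⟩)

/-- A finite family of functions whose vanishing patterns refine a constructible partition. -/
theorem exists_finset_refines {A : Type u} [CommRing A] {ι : Type u} [Finite ι]
    (T : ι → Set (PrimeSpectrum A)) (hT : ∀ i, IsConstructible (T i)) :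
    ∃ E : Finset A, ∀ i (x y : PrimeSpectrum A), (∀ f ∈ E, f ∈ x.asIdeal ↔ f ∈ y.asIdeal) →
      (x ∈ T i ↔ y ∈ T i) := by
  classical
  choose P hPf hPo hPp using fun i => H8Top.exists_pattern (hT i)
  have key : ∀ i, ∀ U ∈ P i, ∃ t : Finset A, (PrimeSpectrum.zeroLocus (t : Set A))ᶜ = U :=
    fun i U hU => PrimeSpectrum.isCompact_isOpen_iff.mp ⟨(hPo i U hU).2.isCompact, (hPo i U hU).1⟩
  choose t ht using key
  haveI : ∀ i, Finite (P i) := fun i => (hPf i).to_subtype
  cases nonempty_fintype (Σ i, P i)
  refine ⟨Finset.univ.biUnion fun p : Σ i, P i => t p.1 p.2.1 p.2.2,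
    fun i x y h => hPp i x y fun U hU => ?_⟩
  rw [← ht i U hU]
  simp only [Set.mem_compl_iff, PrimeSpectrum.mem_zeroLocus, Set.subset_def, Finset.mem_coe]
  exact not_congr (forall_congr' fun f => imp_congr_right fun hf =>
    h f (Finset.mem_biUnion.mpr ⟨⟨i, U, hU⟩, Finset.mem_univ _, hf⟩))

end Groth.Agent.Et18
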