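import Groth.Agent.Et18.ExtZeroGeneral
import Groth.Agent.Et18.StrataLoci
import Groth.Agent.Et18.StalkIndep
import Groth.Agent.H8ProCons.ConsTopology
import Mathlib.Data.ZMod.Basic

/-!
# Presentations of constructible sheaves
-/

universe u

open CategoryTheory CategoryTheory.Limits AlgebraicGeometry Opposite Topology

set_option backward.isDefEq.respectTransparency.types false
set_option backward.isDefEq.respectTransparency false

namespace Groth.Agent.Et18

variable {X : Scheme.{u}}

/-- The adjunction between `Z/n`-valued extensions by zero and sections. -/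
noncomputable def constOverAdj (W : X.Etale) :
    constantSheaf (X.smallEtaleTopology.over W) AddCommGrpCat.{u + 1} ⋙ EtPBC.extZero W ⊣
      X.smallEtaleTopology.overPullback AddCommGrpCat.{u + 1} W ⋙
        (sheafSections (X.smallEtaleTopology.over W) AddCommGrpCat.{u + 1}).obj (op (Over.mk (𝟙 W))) :=
  (constantSheafAdj (X.smallEtaleTopology.over W) AddCommGrpCat.{u + 1} Over.mkIdTerminal).comp
    (EtPBC.extZeroAdj W)

instance overSect_additive (W : X.Etale) :
    (X.smallEtaleTopology.overPullback AddCommGrpCat.{u + 1} W ⋙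
      (sheafSections (X.smallEtaleTopology.over W) AddCommGrpCat.{u + 1}).obj
        (op (Over.mk (𝟙 W)))).Additive where
  map_add := rfl

/-- A section killed by `n` as a morphism out of `j_! Z/n`. -/
noncomputable def sectHom {F : EtCoh.Ab X} (W : X.Etale) (n : ℕ) (s : EtCoh.sect F W) (h : n • s = 0) :
    EtPBC.extZeroConst W (ZMod n) ⟶ F :=
  ((constOverAdj W).homEquiv (AddCommGrpCat.of (ULift.{u + 1} (ZMod n))) F).symm
    (AddCommGrpCat.ofHom ((ZMod.lift n ⟨zmultiplesHom _ s, by
      rw [zmultiplesHom_apply, natCast_zsmul]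
      exact h⟩).comp AddEquiv.ulift.toAddMonoidHom))

/-- If the composite kills the morphism, it kills the section. -/
theorem app_eq_zero_of_sectHom_comp {F C : EtCoh.Ab X} (π : F ⟶ C) (W : X.Etale) (n : ℕ)
    (s : EtCoh.sect F W) (h : n • s = 0) (hz : sectHom W n s h ≫ π = 0) : π.hom.app (op W) s = 0 := by
  have e := (constOverAdj W).homEquiv_naturality_right (sectHom W n s h) π
  rw [hz] at e
  have h0 : ((constOverAdj W).homEquiv (AddCommGrpCat.of (ULift.{u + 1} (ZMod n))) C) 0 = 0 := by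
    rw [Adjunction.homEquiv_unit]
    exact (congrArg (fun t => _ ≫ t) ((X.smallEtaleTopology.overPullback AddCommGrpCat.{u + 1} W ⋙
      (sheafSections (X.smallEtaleTopology.over W) AddCommGrpCat.{u + 1}).obj
        (op (Over.mk (𝟙 W)))).map_zero _ _)).trans comp_zero
  have e1 := e.trans (congrArg (fun t => t ≫ _) (((constOverAdj W).homEquiv _ F).apply_symm_apply _))
  have := ConcreteCategory.congr_hom (h0.symm.trans e1) (ULift.up (1 : ZMod n))
  have h1 : π.hom.app (op W) (ZMod.lift n ⟨zmultiplesHom (EtCoh.sect F W) s, by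
      rw [zmultiplesHom_apply, natCast_zsmul]
      exact h⟩ (1 : ZMod n)) = 0 := this.symm
  rwa [← Int.cast_one, ZMod.lift_coe, zmultiplesHom_apply, one_zsmul] at h1

/-- The data of a finite family of sections killed by integers. -/
structure SectData (P : ℕ → Prop) (F : EtCoh.Ab X) where
  /-- The étale scheme. -/
  W : X.Etale
  isAffine : IsAffine W.left
  /-- The integer. -/
  n : ℕ
  pos : 0 < n
  prop : P n
  /-- The section. -/
  s : EtCoh.sect F W
  killed : n • s = 0

/-- The morphism of a family. -/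
noncomputable def SectData.hom {P : ℕ → Prop} {F : EtCoh.Ab X} (d : SectData P F) :
    EtPBC.extZeroConst d.W (ZMod d.n) ⟶ F := sectHom d.W d.n d.s d.killed

/-- Any germ killed by `n` comes from a section killed by `n` on an affine. -/
theorem exists_sectData {P : ℕ → Prop} {F : EtCoh.Ab X} {Ω : Type u} [Field Ω] [IsSepClosed Ω]
    (ξ : Spec (CommRingCat.of Ω) ⟶ X) (a : (EtCoh.stalk ξ).obj F) (n : ℕ) (hn : 0 < n) (hP : P n)
    (ha : n • a = 0) :
    ∃ (d : SectData P F) (w : (Scheme.pointSmallEtale ξ).fiber.obj d.W),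
      (Scheme.pointSmallEtale ξ).toPresheafFiber d.W w F.obj d.s = a := by
  let Φ := Scheme.pointSmallEtale ξ
  obtain ⟨W, w, s, rfl⟩ := Φ.toPresheafFiber_jointly_surjective (P := F.obj) a
  have h0 : Φ.toPresheafFiber W w F.obj (n • s) = Φ.toPresheafFiber W w F.obj 0 := by
    rw [map_nsmul, map_zero]; exact ha
  obtain ⟨W', g, w', hw', hg⟩ := (Φ.toPresheafFiber_eq_iff' (P := F.obj) _ _ _ _).mp h0
  obtain ⟨O, hO, hy, -⟩ := exists_isAffineOpen_mem_and_subset (X := W'.left) (x := fiberPt w') (U := ⊤) trivial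
  haveI : Etale W'.hom := W'.prop
  let W'' : X.Etale := Scheme.Etale.mk (O.ι ≫ W'.hom)
  let k : W'' ⟶ W' := MorphismProperty.Over.homMk O.ι rfl
  obtain ⟨t, ht⟩ := exists_lift_of_mem (w'.left : Spec (CommRingCat.of Ω) ⟶ W'.left) O.ι
    (by rw [Scheme.Opens.range_ι]; exact hy)
  let w'' : Φ.fiber.obj W'' := Over.homMk t (by
    show t ≫ O.ι ≫ W'.hom = ξ
    rw [← Category.assoc, ht]
    exact Over.w w')
  refine ⟨⟨W'', hO, n, hn, hP, F.obj.map k.op (F.obj.map g.op s), ?_⟩, w'', ?_⟩
  · rw [← map_nsmul, ← map_nsmul, hg, map_zero, map_zero]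
  · have hk : Φ.fiber.map k w'' = w' := Over.OverMorphism.ext ht
    refine (Φ.toPresheafFiber_w_apply k w'' F.obj _).trans ?_
    rw [hk, Φ.toPresheafFiber_w_apply g w' F.obj, hw']

lemma isConstructible_of_isZero {F : EtCoh.Ab X} (h : IsZero F) : EtPBC.IsConstructible F :=
  isConstructible_of_isFLC (isFLC_of_isZero h)

lemma isConstructible_of_iso {F G : EtCoh.Ab X} (h : EtPBC.IsConstructible F) (e : F ≅ G) :
    EtPBC.IsConstructible G := by
  rw [isConstructible_iff_affine] at h ⊢
  exact fun U hU => (h U hU).of_iso ((EtCoh.pull U.ι).mapIso e)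

lemma isConstructible_biprod {F G : EtCoh.Ab X} (hF : EtPBC.IsConstructible F)
    (hG : EtPBC.IsConstructible G) : EtPBC.IsConstructible (F ⊞ G) :=
  isConstructible_extension (S := ShortComplex.mk (biprod.inl : F ⟶ F ⊞ G) biprod.snd biprod.inl_snd)
    (ShortComplex.Splitting.shortExact
      { r := biprod.fst
        s := biprod.inr }) hF hG

theorem isConstructible_biproduct : ∀ {n : ℕ} (F : Fin n → EtCoh.Ab X),
    (∀ i, EtPBC.IsConstructible (F i)) → EtPBC.IsConstructible (⨁ F)
  | 0, F, _ => isConstructible_of_isZero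
      ((IsZero.iff_id_eq_zero _).mpr (biproduct.hom_ext' _ _ fun i => i.elim0))
  | _ + 1, F, h => isConstructible_of_iso
      (isConstructible_biprod (h 0) (isConstructible_biproduct _ fun i => h i.succ)) (biproductFinSuccIso F)

/-- `j_! Z/n` is constructible for affine `U`. -/
theorem isConstructible_extZeroConst [QuasiSeparatedSpace X] (U : X.Etale) (hU : IsAffine U.left)
    (M : Type) [AddCommGroup M] [Finite M] : EtPBC.IsConstructible (EtPBC.extZeroConst U M) := by
  haveI : Etale U.hom := U.prop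
  haveI : EtShriek.JCont U.hom := jCont U.hom
  haveI := hU
  obtain ⟨e⟩ := nonempty_extZeroConst_iso U M
  have hc : CompactSpace U.left := inferInstance
  have hq : QuasiSeparatedSpace U.left := inferInstance
  exact isConstructible_of_iso (@isConstructible_extZero U.left X U.hom _ _ hc hq _ _
    (isConstructible_of_isFLC (isFLC_cst (X := U.left) (AddCommGrpCat.of (ULift.{u + 1} M))))) e.symm

lemma isZero_stalk_of_not_mem_supp {F : EtCoh.Ab X} {Ω : Type u} [Field Ω] [IsSepClosed Ω]
    (ξ : Spec (CommRingCat.of Ω) ⟶ X) (h : ξ default ∉ EtPBC.supp F) :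
    IsZero ((EtCoh.stalk ξ).obj F) :=
  by_contra fun hne => h ((mem_supp_iff F ξ rfl).mpr hne)

/-- A constructible sheaf is a quotient of a finite sum of `j_! Z/n`. -/
theorem exists_epi_extZeroConst [CompactSpace X] [QuasiSeparatedSpace X] (P : ℕ → Prop)
    {F : EtCoh.Ab X} (hF : EtPBC.IsConstructible F)
    (hfin : ∀ x : X, Finite ((EtCoh.stalk (sepPoint X x)).obj F))
    (hP : ∀ (x : X) (a : (EtCoh.stalk (sepPoint X x)).obj F), ∃ n, 0 < n ∧ P n ∧ n • a = 0) :
    ∃ (a : ℕ) (d : Fin a → SectData P F), Epi (biproduct.desc fun i => (d i).hom) := by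
  classical
  choose n hn0 hnP hnk using hP
  choose d w hd using fun (x : X) (a : (EtCoh.stalk (sepPoint X x)).obj F) =>
    exists_sectData (P := P) (sepPoint X x) a (n x a) (hn0 x a) (hnP x a) (hnk x a)
  haveI := hfin
  choose m em using fun x : X => Finite.exists_equiv_fin ((EtCoh.stalk (sepPoint X x)).obj F)
  let fam : ∀ x, Fin (m x) → SectData P F := fun x i => d x ((em x).some.symm i)
  let φ : ∀ x, (⨁ fun i => EtPBC.extZeroConst (fam x i).W (ZMod (fam x i).n)) ⟶ F :=
    fun x => biproduct.desc fun i => (fam x i).hom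
  have hcons : ∀ x, EtPBC.IsConstructible (⨁ fun i => EtPBC.extZeroConst (fam x i).W (ZMod (fam x i).n)) :=
    fun x => isConstructible_biproduct _ fun i =>
      haveI : NeZero (fam x i).n := ⟨(fam x i).pos.ne'⟩
      isConstructible_extZeroConst _ (fam x i).isAffine _
  have hcomp : ∀ (x : X) {C : EtCoh.Ab X} (π : F ⟶ C), (∀ i, (fam x i).hom ≫ π = 0) →
      ∀ a, (EtCoh.stalk (sepPoint X x)).map π a = 0 := fun x C π hπ a => by
    have h0 := hπ ((em x).some a)
    have hfa : fam x ((em x).some a) = d x a := congrArg (d x) ((em x).some.symm_apply_apply a)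
    rw [hfa] at h0
    have := app_eq_zero_of_sectHom_comp π (d x a).W (d x a).n (d x a).s (d x a).killed h0
    rw [← hd x a]
    refine ((Scheme.pointSmallEtale (sepPoint X x)).toPresheafFiber_naturality_apply π.hom _ _ _).trans ?_
    exact (congrArg _ this).trans (map_zero _)
  have hE : ∀ x, x ∉ EtPBC.supp (cokernel (φ x)) := fun x hx => by
    rw [mem_supp_iff _ (sepPoint X x) (sepPoint_default X x)] at hx
    refine hx ((surjective_stalk_iff _ _).mp fun a => ?_)
    have hπ := hcomp x (cokernel.π (φ x)) (fun i => by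
      exact ((congrArg (fun t => t ≫ cokernel.π (φ x)) (biproduct.ι_desc (fun i => (fam x i).hom) i)).symm.trans
        ((Category.assoc _ _ _).trans ((congrArg (fun t => _ ≫ t) (cokernel.condition (φ x))).trans comp_zero)))) a
    have hex := ((ShortComplex.exact_cokernel (φ x)).map (EtCoh.stalk (sepPoint X x)))
    rw [ShortComplex.ab_exact_iff] at hex
    exact hex a hπ
  have hEo : ∀ x, IsOpen[constructibleTopology X] (EtPBC.supp (cokernel (φ x)))ᶜ := fun x =>
    H8ProCons.isOpen_cons_of_isLocallyConstructible (H8Lim.isLocallyConstructible_compl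
      (isLocallyConstructible_supp (isConstructible_kernel_cokernel (φ x) (hcons x) hF).2))
  obtain ⟨t, ht⟩ := @IsCompact.elim_finite_subcover X (constructibleTopology X) Set.univ X
    (H8ProCons.isCompact_cons (@isClosed_univ X (constructibleTopology X)))
    (fun x => (EtPBC.supp (cokernel (φ x)))ᶜ) hEo fun x _ => Set.mem_iUnion.mpr ⟨x, hE x⟩
  obtain ⟨a, ⟨e⟩⟩ := Finite.exists_equiv_fin (Σ x : t, Fin (m x.1))
  let D : Fin a → SectData P F := fun j => fam (e.symm j).1.1 (e.symm j).2
  let Φ := biproduct.desc fun j => (D j).hom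
  refine ⟨a, D, Preadditive.epi_of_isZero_cokernel _ (isZero_of_stalks fun y => ?_)⟩
  obtain ⟨x, hx, hy⟩ := Set.mem_iUnion₂.mp (ht (Set.mem_univ y))
  have hz : IsZero ((EtCoh.stalk (sepPoint X y)).obj (cokernel (φ x))) :=
    isZero_stalk_of_not_mem_supp _ (by rw [sepPoint_default]; exact hy)
  let r : cokernel (φ x) ⟶ cokernel Φ := cokernel.desc _ (cokernel.π Φ) (biproduct.hom_ext' _ _ fun i => by
    rw [comp_zero, biproduct.ι_desc_assoc]
    have hj : ∀ j, (D j).hom ≫ cokernel.π Φ = 0 := fun j =>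
      (congrArg (fun t => t ≫ cokernel.π Φ) (biproduct.ι_desc (fun j => (D j).hom) j)).symm.trans
        ((Category.assoc _ _ _).trans ((congrArg (fun t => _ ≫ t) (cokernel.condition Φ)).trans comp_zero))
    have hq : ∀ q : Σ x : t, Fin (m x.1), (fam q.1.1 q.2).hom ≫ cokernel.π Φ = 0 := fun q =>
      e.symm_apply_apply q ▸ hj (e q)
    exact hq ⟨⟨x, hx⟩, i⟩)
  haveI : Epi r := by
    haveI : Epi (cokernel.π (φ x) ≫ r) := by rw [cokernel.π_desc]; infer_instance
    exact epi_of_epi (cokernel.π (φ x)) r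
  exact IsZero.of_epi ((EtCoh.stalk (sepPoint X y)).map r) hz

/-- Multiplication by `n` kills `j_! Z/n`. -/
lemma nsmul_id_extZeroConst (U : X.Etale) (n : ℕ) :
    n • 𝟙 (EtPBC.extZeroConst U (ZMod n)) = 0 := by
  have h0 : n • 𝟙 (AddCommGrpCat.of (ULift.{u + 1} (ZMod n))) = 0 := by
    ext a
    exact ZModModule.char_nsmul_eq_zero n a.down
  let L := constantSheaf (X.smallEtaleTopology.over U) AddCommGrpCat.{u + 1} ⋙ EtPBC.extZero U
  haveI : L.Additive := (constOverAdj U).left_adjoint_additive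
  have h1 := congrArg L.map h0
  rw [Functor.map_nsmul, L.map_id, L.map_zero] at h1
  exact h1

lemma nsmul_stalk_eq_zero {F : EtCoh.Ab X} {n : ℕ} (h : n • 𝟙 F = 0) {Ω : Type u} [Field Ω]
    [IsSepClosed Ω] (ξ : Spec (CommRingCat.of Ω) ⟶ X) (a : (EtCoh.stalk ξ).obj F) : n • a = 0 := by
  haveI : (EtCoh.stalk ξ).Additive :=
    haveI : PreservesBinaryBiproducts (EtCoh.stalk ξ) := preservesBinaryBiproducts_of_preservesBinaryProducts _
    Functor.additive_of_preservesBinaryBiproducts _
  have h1 := congrArg (EtCoh.stalk ξ).map h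
  rw [Functor.map_nsmul, CategoryTheory.Functor.map_id, Functor.map_zero] at h1
  exact ConcreteCategory.congr_hom h1 a

lemma nsmul_id_of_killedBy {F : EtCoh.Ab X} {n : ℕ} (h : EtCoh.KilledBy n F) : n • 𝟙 F = 0 := by
  refine Sheaf.hom_ext (NatTrans.ext (funext fun U => ?_))
  ext s
  exact h U.unop s

/-- The stalks of a constructible sheaf are finite. -/
theorem finite_stalk_of_isConstructible {F : EtCoh.Ab X} (hF : EtPBC.IsConstructible F) {Ω : Type u}
    [Field Ω] [IsSepClosed Ω] (ξ : Spec (CommRingCat.of Ω) ⟶ X) : Finite ((EtCoh.stalk ξ).obj F) := by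
  obtain ⟨U, hU, hxU, -⟩ := exists_isAffineOpen_mem_and_subset (X := X) (x := ξ default) (U := ⊤) trivial
  obtain ⟨ι, hι, T, g, hg, hc, hd, hu, hFi⟩ := (isConstructible_iff_affine F).mp hF U hU
  obtain ⟨i, t, ht⟩ := Set.mem_iUnion.mp (hu.symm ▸ Set.mem_univ (⟨ξ default, hxU⟩ : U.toScheme) :
    (⟨ξ default, hxU⟩ : U.toScheme) ∈ ⋃ i, Set.range (g i))
  haveI := finite_stalk (hFi i) (sepPoint (T i) t)
  obtain ⟨e⟩ := nonempty_stalk_iso_of_eq ((sepPoint (T i) t ≫ g i) ≫ U.ι) ξ
    ((congrArg (fun q => U.ι (g i q)) (sepPoint_default (T i) t)).trans (congrArg U.ι ht)) F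
  exact Finite.of_equiv ((EtCoh.stalk (sepPoint (T i) t)).obj ((EtCoh.pull (g i)).obj ((EtCoh.pull U.ι).obj F)))
    (((stalkPullIso (g i) _).app _ ≪≫ (stalkPullIso U.ι _).app F ≪≫ e).addCommGroupIsoToAddEquiv.toEquiv)

/-- Presentations by `j_! Z/n`. -/
theorem exists_presentation [CompactSpace X] [QuasiSeparatedSpace X] (P : ℕ → Prop) {F : EtCoh.Ab X}
    (hF : EtPBC.IsConstructible F)
    (hP : ∀ (x : X) (a : (EtCoh.stalk (sepPoint X x)).obj F), ∃ n, 0 < n ∧ P n ∧ n • a = 0)
    (hP' : ∀ (a : ℕ) (d : Fin a → SectData P F) (x : X)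
      (t : (EtCoh.stalk (sepPoint X x)).obj (kernel (biproduct.desc fun i => (d i).hom))),
        ∃ n, 0 < n ∧ P n ∧ n • t = 0) :
    ∃ (a : ℕ) (d : Fin a → SectData P F) (b : ℕ) (e : Fin b → SectData P (kernel (biproduct.desc fun i => (d i).hom))),
      Nonempty (F ≅ cokernel (biproduct.desc (fun j => (e j).hom) ≫ kernel.ι (biproduct.desc fun i => (d i).hom))) := by
  obtain ⟨a, d, hd⟩ := exists_epi_extZeroConst P hF (fun x => finite_stalk_of_isConstructible hF _) hP
  let φ := biproduct.desc fun i => (d i).hom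
  have hK : EtPBC.IsConstructible (kernel φ) := (isConstructible_kernel_cokernel φ
    (isConstructible_biproduct _ fun i =>
      haveI : NeZero (d i).n := ⟨(d i).pos.ne'⟩
      isConstructible_extZeroConst _ (d i).isAffine _) hF).1
  obtain ⟨b, e, he⟩ := exists_epi_extZeroConst P hK (fun x => finite_stalk_of_isConstructible hK _) (hP' a d)
  haveI : Epi φ := hd
  haveI := he
  exact ⟨a, d, b, e, ⟨((cokernelEpiComp _ (kernel.ι φ)) ≪≫
    (cokernelIsCokernel (kernel.ι φ)).coconePointUniqueUpToIso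
      (Abelian.epiIsCokernelOfKernel _ (limit.isLimit _))).symm⟩⟩

end Groth.Agent.Et18
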