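import Groth.Agent.Et18.StrataNoetherian
import Groth.Agent.Et18.Presentation

/-!
# Subsheaves of constructible sheaves on noetherian schemes
-/

universe u

open CategoryTheory CategoryTheory.Limits AlgebraicGeometry Opposite Topology

set_option backward.isDefEq.respectTransparency.types false
set_option backward.isDefEq.respectTransparency false

namespace Groth.Agent.Et18

variable {X : Scheme.{u}}

/-- The values whose germ at `x` lies in a subsheaf of a constant sheaf. -/
def subVals {A : AddCommGrpCat.{u + 1}} {G : EtCoh.Ab X} (ι : G ⟶ (cst X).obj A) (x : X) : Set A :=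
  {a | cstGerm (sepPoint X x) A a ∈ Set.range ((EtCoh.stalk (sepPoint X x)).map ι)}

/-- `{x | a ∈ subVals ι x}` is open. -/
theorem isOpen_mem_subVals {A : AddCommGrpCat.{u + 1}} {G : EtCoh.Ab X} (ι : G ⟶ (cst X).obj A) (a : A) :
    IsOpen {x : X | a ∈ subVals ι x} := by
  refine isOpen_iff_forall_mem_open.mpr fun x hx => ?_
  obtain ⟨b, hb⟩ := hx
  let Φ := Scheme.pointSmallEtale (sepPoint X x)
  obtain ⟨W, w, s, rfl⟩ := Φ.toPresheafFiber_jointly_surjective (P := G.obj) b
  have hb' : Φ.toPresheafFiber W w ((cst X).obj A).obj (ι.hom.app (op W) s) =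
      Φ.toPresheafFiber W w ((cst X).obj A).obj (cstSec A W a) :=
    ((Φ.toPresheafFiber_naturality_apply ι.hom W w s).symm.trans hb).trans
      (ConcreteCategory.congr_hom (cstSec_germ (sepPoint X x) A W w) a).symm
  obtain ⟨W', g, w', -, hW⟩ := (Φ.toPresheafFiber_eq_iff' (P := ((cst X).obj A).obj) _ _ _ _).mp hb'
  haveI : Etale W'.hom := W'.prop
  refine ⟨Set.range W'.hom, ?_, W'.hom.isOpenMap.isOpen_range,
    ⟨fiberPt w', (hom_fiberPt w').trans (sepPoint_default X x)⟩⟩
  rintro _ ⟨y, rfl⟩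
  obtain ⟨v, -⟩ := exists_fiber_point (sepPoint X (W'.hom y)) W' y (sepPoint_default X _).symm
  refine ⟨(Scheme.pointSmallEtale (sepPoint X (W'.hom y))).toPresheafFiber W' v G.obj (G.obj.map g.op s), ?_⟩
  refine ((Scheme.pointSmallEtale (sepPoint X (W'.hom y))).toPresheafFiber_naturality_apply ι.hom W' v _).trans ?_
  rw [← cstSec_germ (sepPoint X (W'.hom y)) A W' v]
  refine congrArg _ ((NatTrans.naturality_apply ι.hom g.op _).trans (hW.trans ?_))
  exact ConcreteCategory.congr_hom (cstSec_res A g) a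

lemma card_stalk_eq_subVals {A : AddCommGrpCat.{u + 1}} {G : EtCoh.Ab X} (ι : G ⟶ (cst X).obj A) [Mono ι]
    (x : X) : Nat.card ((EtCoh.stalk (sepPoint X x)).obj G) = Nat.card (subVals ι x) := by
  haveI : Mono ((EtCoh.stalk (sepPoint X x)).map ι) := inferInstance
  have hinj := (AddCommGrpCat.mono_iff_injective ((EtCoh.stalk (sepPoint X x)).map ι)).mp inferInstance
  let e : A ≃ (EtCoh.stalk (sepPoint X x)).obj ((cst X).obj A) :=
    Equiv.ofBijective _ (cstGerm_bijective (sepPoint X x) A)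
  refine (Nat.card_congr (Equiv.ofInjective _ hinj)).trans (Nat.card_congr ?_)
  exact (e.subtypeEquiv (fun a => Iff.rfl)).symm

lemma card_stalk_pull {T : Scheme.{u}} (g : T ⟶ X) (G : EtCoh.Ab X) (t : T) :
    Nat.card ((EtCoh.stalk (sepPoint T t)).obj ((EtCoh.pull g).obj G)) =
      Nat.card ((EtCoh.stalk (sepPoint X (g t))).obj G) := by
  have : t ∈ cardLocus ((EtCoh.pull g).obj G) (Nat.card ((EtCoh.stalk (sepPoint X (g t))).obj G)) := by
    rw [cardLocus_pull]; rfl
  exact this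

lemma finite_stalk_of_mono {F G : EtCoh.Ab X} (ι : G ⟶ F) [Mono ι] {Ω : Type u} [Field Ω] [IsSepClosed Ω]
    (ξ : Spec (CommRingCat.of Ω) ⟶ X) [Finite ((EtCoh.stalk ξ).obj F)] :
    Finite ((EtCoh.stalk ξ).obj G) :=
  haveI : Mono ((EtCoh.stalk ξ).map ι) := inferInstance
  Finite.of_injective _ ((AddCommGrpCat.mono_iff_injective ((EtCoh.stalk ξ).map ι)).mp inferInstance)

/-- Near a generic point, the stalks of every subsheaf of a finite locally constant sheaf are no
bigger than the generic stalk, and those of a given one are no smaller. -/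
theorem exists_open_sub [IsLocallyNoetherian X] (η : X) (hη : ∀ x, η ⤳ x) {F : EtCoh.Ab X}
    (hF : EtCoh.IsFiniteLocallyConstant F) :
    ∃ O : X.Opens, η ∈ O ∧
      (∀ (G : EtCoh.Ab X) (ι : G ⟶ F) [Mono ι] (x : X), x ∈ O →
        Nat.card ((EtCoh.stalk (sepPoint X x)).obj G) ≤ Nat.card ((EtCoh.stalk (sepPoint X η)).obj G)) ∧
      (∀ (G : EtCoh.Ab X) (ι : G ⟶ F) [Mono ι], ∃ O' : X.Opens, η ∈ O' ∧ ∀ x ∈ O',
        Nat.card ((EtCoh.stalk (sepPoint X η)).obj G) ≤ Nat.card ((EtCoh.stalk (sepPoint X x)).obj G)) := by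
  obtain ⟨W, w, A, hw, hA, ⟨e⟩⟩ := isFLC_iff.mp hF η
  haveI : Etale W.hom := W.prop
  haveI := hA
  obtain ⟨O₁, hwO, hspec⟩ := exists_generic_nhd η hη W w hw
  let sub : ∀ {G : EtCoh.Ab X} (ι : G ⟶ F), (EtCoh.pull W.hom).obj G ⟶ (cst W.left).obj A :=
    fun ι => (EtCoh.pull W.hom).map ι ≫ e.hom
  have hsub : ∀ {G : EtCoh.Ab X} (ι : G ⟶ F) [Mono ι] (z : W.left),
      Nat.card ((EtCoh.stalk (sepPoint X (W.hom z))).obj G) = Nat.card (subVals (sub ι) z) := fun {G} ι _ z => by
    haveI : Mono (sub ι) := mono_comp _ _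
    exact (card_stalk_pull W.hom G z).symm.trans (card_stalk_eq_subVals (sub ι) z)
  refine ⟨⟨W.hom '' (O₁ : Set W.left), W.hom.isOpenMap _ O₁.2⟩, ⟨w, hwO, hw⟩, ?_, ?_⟩
  · rintro G ι _ _ ⟨z, hz, rfl⟩
    rw [hsub ι z, ← hw, hsub ι w]
    exact Nat.card_mono (Set.toFinite _) fun a ha =>
      (hspec z hz).mem_open (isOpen_mem_subVals (sub ι) a) ha
  · intro G ι _
    let O₂ : Set W.left := (O₁ : Set W.left) ∩ ⋂ a : subVals (sub ι) w, {z | a.1 ∈ subVals (sub ι) z}
    have hO₂ : IsOpen O₂ := O₁.2.inter (isOpen_iInter_of_finite fun a => isOpen_mem_subVals (sub ι) a.1)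
    refine ⟨⟨W.hom '' O₂, W.hom.isOpenMap _ hO₂⟩, ⟨w, ⟨hwO, Set.mem_iInter.mpr fun a => a.2⟩, hw⟩, ?_⟩
    rintro _ ⟨z, hz, rfl⟩
    rw [hsub ι z, ← hw, hsub ι w]
    exact Nat.card_mono (Set.toFinite _) fun a ha => Set.mem_iInter.mp hz.2 ⟨a, ha⟩

/-- A stratum through `x` with generic point `x`, along which `F` is finite locally constant. -/
theorem exists_generic_stratum [IsLocallyNoetherian X] {F : EtCoh.Ab X} (hF : EtPBC.IsConstructible F)
    (x : X) : ∃ (T : Scheme.{u}) (g : T ⟶ X) (η : T), IsImmersion g ∧ IsLocallyNoetherian T ∧ g η = x ∧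
      (∀ t, η ⤳ t) ∧ EtCoh.IsFiniteLocallyConstant ((EtCoh.pull g).obj F) := by
  obtain ⟨V, T, g, hg, hxV, hr, hFT⟩ := (isConstructible_iff_closures F).mp hF x
  obtain ⟨η, hη⟩ : x ∈ Set.range g := hr ▸ ⟨hxV, subset_closure rfl⟩
  refine ⟨T, g, η, hg, LocallyOfFiniteType.isLocallyNoetherian g, hη, fun t => ?_, hFT⟩
  refine g.isEmbedding.isInducing.specializes_iff.mp ?_
  rw [hη]
  exact specializes_iff_mem_closure.mpr ((hr ▸ Set.mem_range_self t :
    g t ∈ (V : Set X) ∩ closure {x}).2)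

/-- Subsheaves of constructible sheaves on locally noetherian schemes are constructible. -/
theorem isConstructible_of_mono [IsLocallyNoetherian X] {F G : EtCoh.Ab X} (ι : G ⟶ F) [Mono ι]
    (hF : EtPBC.IsConstructible F) : EtPBC.IsConstructible G := by
  refine isConstructible_of_forall_point fun x => ?_
  obtain ⟨T, g, η, hg, hT, hη, hgen, hFT⟩ := exists_generic_stratum hF x
  haveI := hT
  obtain ⟨O, hηO, hle, hge⟩ := exists_open_sub η hgen hFT
  obtain ⟨O', hηO', hge'⟩ := hge _ ((EtCoh.pull g).map ι)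
  let GT := (EtCoh.pull g).obj G
  let n := Nat.card ((EtCoh.stalk (sepPoint T η)).obj GT)
  haveI := finite_stalk hFT (sepPoint T η)
  haveI := finite_stalk_of_mono ((EtCoh.pull g).map ι) (sepPoint T η)
  let P : T.Opens := O ⊓ O'
  haveI : IsLocallyNoetherian P.toScheme := LocallyOfFiniteType.isLocallyNoetherian P.ι
  obtain ⟨Q, hηQ, hQ⟩ := exists_open_isFLC_of_card (X := P.toScheme) ⟨η, hηO, hηO'⟩
    (fun t => (subtype_specializes_iff _ _).mpr (hgen t.1)) ((EtCoh.pull P.ι).obj GT) n Nat.card_pos.ne'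
    (fun t => (card_stalk_pull P.ι GT t).trans
      ((hle GT ((EtCoh.pull g).map ι) t.1 t.2.1).antisymm (hge' t.1 t.2.2)))
  refine ⟨Q.toScheme, Q.ι ≫ P.ι ≫ g, inferInstance, ⟨⟨⟨η, hηO, hηO'⟩, hηQ⟩, hη⟩, ?_⟩
  exact isFLC_of_iso hQ ((EtCoh.pull Q.ι).mapIso ((EtCore.pullComp P.ι g).app G).symm ≪≫
    ((EtCore.pullComp _ _).app G).symm)

/-- Quotients of constructible sheaves on locally noetherian schemes are constructible. -/
theorem isConstructible_of_epi [IsLocallyNoetherian X] {F Q : EtCoh.Ab X} (π : F ⟶ Q) [Epi π]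
    (hF : EtPBC.IsConstructible F) : EtPBC.IsConstructible Q :=
  isConstructible_of_iso
    (isConstructible_kernel_cokernel (kernel.ι π) (isConstructible_of_mono (kernel.ι π) hF) hF).2
    ((cokernelIsCokernel (kernel.ι π)).coconePointUniqueUpToIso
      (Abelian.epiIsCokernelOfKernel _ (limit.isLimit _)))

/-- Ascending chains of subsheaves of a constructible sheaf on a noetherian scheme stop. -/
theorem chain_stabilizes [IsNoetherian X] {F : EtCoh.Ab X} (hF : EtPBC.IsConstructible F)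
    (c : ℕ →o Subobject F) : ∃ N, ∀ m, N ≤ m → c m = c N := by
  classical
  let G : ℕ → EtCoh.Ab X := fun k => (c k : EtCoh.Ab X)
  let cd : ℕ → X → ℕ := fun k x => Nat.card ((EtCoh.stalk (sepPoint X x)).obj (G k))
  haveI hfin : ∀ k x, Finite ((EtCoh.stalk (sepPoint X x)).obj (G k)) := fun k x =>
    haveI := finite_stalk_of_isConstructible hF (sepPoint X x)
    finite_stalk_of_mono (c k).arrow _
  have hmono : ∀ {k l} (h : k ≤ l) (x : X), cd k x ≤ cd l x := fun {k l} h x =>
    Nat.card_le_card_of_injective _ ((AddCommGrpCat.mono_iff_injective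
      ((EtCoh.stalk (sepPoint X x)).map (Subobject.ofLE _ _ (c.monotone h)))).mp inferInstance)
  have key : ∀ x : X, ∃ (N : ℕ) (L : Set X), x ∈ L ∧ IsConstructible L ∧
      ∀ y ∈ L, ∀ m, N ≤ m → cd m y = cd N y := fun x => by
    haveI := finite_stalk_of_isConstructible hF (sepPoint X x)
    have hb : BddAbove (Set.range fun k => cd k x) := ⟨Nat.card ((EtCoh.stalk (sepPoint X x)).obj F), by
      rintro _ ⟨k, rfl⟩
      exact Nat.card_le_card_of_injective _ ((AddCommGrpCat.mono_iff_injective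
        ((EtCoh.stalk (sepPoint X x)).map (c k).arrow)).mp inferInstance)⟩
    obtain ⟨N, hN⟩ : sSup (Set.range fun k => cd k x) ∈ Set.range fun k => cd k x :=
      Nat.sSup_mem (Set.range_nonempty _) hb
    have hx : ∀ m, cd m x ≤ cd N x := fun m =>
      (le_csSup hb ⟨m, rfl⟩ : cd m x ≤ sSup (Set.range fun k => cd k x)).trans hN.ge
    obtain ⟨T, g, η, hg, hT, hη, hgen, hFT⟩ := exists_generic_stratum hF x
    haveI := hT
    obtain ⟨O, hηO, hle, hge⟩ := exists_open_sub η hgen hFT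
    obtain ⟨O', hηO', hge'⟩ := hge _ ((EtCoh.pull g).map (c N).arrow)
    refine ⟨N, Set.range ((O ⊓ O').ι ≫ g), ⟨⟨η, hηO, hηO'⟩, hη⟩,
      isConstructible_of_isLocallyClosed (Scheme.Hom.isLocallyClosed_range _), ?_⟩
    rintro _ ⟨t, rfl⟩ m hm
    refine le_antisymm ?_ (hmono hm _)
    have hcard : ∀ k (s : T), cd k (g s) =
        Nat.card ((EtCoh.stalk (sepPoint T s)).obj ((EtCoh.pull g).obj (G k))) := fun k s =>
      (card_stalk_pull g (G k) s).symm
    show cd m (g t.1) ≤ cd N (g t.1)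
    calc cd m (g t.1) ≤ cd m (g η) := by
          rw [hcard, hcard]; exact hle _ ((EtCoh.pull g).map (c m).arrow) t.1 t.2.1
      _ ≤ cd N (g η) := by rw [hη]; exact hx m
      _ ≤ cd N (g t.1) := by rw [hcard, hcard]; exact hge' t.1 t.2.2
  choose N L hxL hL hst using key
  obtain ⟨t, ht⟩ := @IsCompact.elim_finite_subcover X (constructibleTopology X) Set.univ X
    (H8ProCons.isCompact_cons (@isClosed_univ X (constructibleTopology X))) L
    (fun x => H8ProCons.isOpen_cons_of_isConstructible (hL x))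
    fun x _ => Set.mem_iUnion.mpr ⟨x, hxL x⟩
  refine ⟨t.sup N, fun m hm => (le_antisymm (c.monotone hm) ?_).symm⟩
  let i := Subobject.ofLE _ _ (c.monotone hm)
  haveI : IsIso i := isIso_of_stalks i fun y => by
    obtain ⟨x, hx, hyL⟩ := Set.mem_iUnion₂.mp (ht (Set.mem_univ y))
    have h1 := hst x y hyL m ((Finset.le_sup (f := N) hx).trans hm)
    have h2 := hst x y hyL (t.sup N) (Finset.le_sup (f := N) hx)
    exact (ConcreteCategory.isIso_iff_bijective _).mpr ((Nat.bijective_iff_injective_and_card _).mpr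
      ⟨(AddCommGrpCat.mono_iff_injective _).mp inferInstance, h2.trans h1.symm⟩)
  exact Subobject.le_of_comm (inv i) (by rw [IsIso.inv_comp_eq]; exact (Subobject.ofLE_arrow _).symm)

end Groth.Agent.Et18
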