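import Groth.Agent.Et18.ShriekStalk
import Groth.Agent.Et18.ExtZero
import Mathlib.CategoryTheory.Adjunction.AdjointFunctorTheorems
import Mathlib.CategoryTheory.Abelian.GrothendieckCategory.EnoughInjectives

/-!
# `f_!` of a separated locally quasi-finite morphism commutes with colimits
-/

universe u

open CategoryTheory CategoryTheory.Limits AlgebraicGeometry Opposite DirectSum

set_option backward.isDefEq.respectTransparency.types false
set_option backward.isDefEq.respectTransparency false

namespace Groth.Agent.Et18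

instance stalk_preservesColimitsOfSize {X : Scheme.{u}} {Ω : Type u} [Field Ω] [IsSepClosed Ω]
    (ξ : Spec (CommRingCat.of Ω) ⟶ X) :
    PreservesColimitsOfSize.{u + 1, u + 1} (EtCoh.stalk ξ) :=
  preservesColimits_of_natIso (bigStalkIso ξ)

/-- A functor to sheaves is cocontinuous if its composites with the stalks are. -/
theorem preservesColimitsOfShape_of_stalks {X : Scheme.{u}} {ι : Type (u + 1)} {K : ι → Type u}
    [∀ i, Field (K i)] [∀ i, IsSepClosed (K i)] (s : ∀ i, Spec (CommRingCat.of (K i)) ⟶ X)
    (hs : ∀ x : X, ∃ i, s i default = x) {C : Type*} [Category* C] (G : C ⥤ EtCoh.Ab X)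
    {J : Type*} [Category* J] [HasColimitsOfShape J (EtCoh.Ab X)]
    [∀ i, PreservesColimitsOfShape J (EtCoh.stalk (s i))]
    (h : ∀ i, PreservesColimitsOfShape J (G ⋙ EtCoh.stalk (s i))) :
    PreservesColimitsOfShape J G where
  preservesColimit {D} :=
    ⟨fun {c} hc => ⟨by
      let d := colimit.isColimit (D ⋙ G)
      let φ := d.desc (G.mapCocone c)
      suffices IsIso φ from d.ofIsoColimit (Cocone.ext (asIso φ) (fun j => d.fac _ j))
      refine isIso_of_stalks_family s hs φ fun i => ?_
      have := h i
      have hc' : IsColimit ((EtCoh.stalk (s i)).mapCocone (G.mapCocone c)) :=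
        isColimitOfPreserves (G ⋙ EtCoh.stalk (s i)) hc
      have hd' := isColimitOfPreserves (EtCoh.stalk (s i)) d
      have : (EtCoh.stalk (s i)).map φ = (hd'.coconePointUniqueUpToIso hc').hom := by
        refine hd'.hom_ext fun j => ?_
        rw [IsColimit.comp_coconePointUniqueUpToIso_hom, Functor.mapCocone_ι_app,
          ← Functor.map_comp, d.fac]
        rfl
      rw [this]
      infer_instance⟩⟩

variable {X Y : Scheme.{u}} (f : X ⟶ Y) {Ω : Type u} [Field Ω] [IsAlgClosed Ω]
  (η : Spec (CommRingCat.of Ω) ⟶ Y)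

/-- The stalks at the points of the fibre. -/
noncomputable def fibreStalks :
    EtCoh.Ab X ⥤ (Discrete (FibrePts f η) ⥤ AddCommGrpCat.{u + 1}) where
  obj F := Discrete.functor fun ξ : FibrePts f η => (EtCoh.stalk ξ.1).obj F
  map a := Discrete.natTrans fun ξ => (EtCoh.stalk ξ.as.1).map a

instance fibreStalks_preservesColimits :
    PreservesColimitsOfSize.{u + 1, u + 1} (fibreStalks f η) :=
  ⟨fun {J} _ => preservesColimitsOfShape_of_evaluation _ J fun ξ =>
    preservesColimitsOfShape_of_natIso (Iso.refl (EtCoh.stalk ξ.as.1))⟩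

variable [IsSeparated f] [LocallyOfFiniteType f] [LocallyQuasiFinite f]

lemma single_naturality {F G : EtCoh.Ab X} (α : F ⟶ G) (ξ : FibrePts f η)
    (a : fibreStalk f η F ξ) :
    (EtShriek.lowerShriekPreFunctor f ⋙
        (Scheme.pointSmallEtale η).presheafFiber (A := AddCommGrpCat.{u + 1})).map α
        (single f η F ξ a) =
      single f η G ξ ((Scheme.pointSmallEtale ξ.1).sheafFiber.map α a) := by
  refine shriekToFibre_injective f η G (funext fun ξ' => ?_)
  refine (shriekToFibre_naturality f η F α ξ' _).trans ?_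
  rcases eq_or_ne ξ' ξ with rfl | hne
  · rw [shriekToFibre_single_self]
    exact (shriekToFibre_single_self f η G ξ' _).symm
  · rw [shriekToFibre_single_ne f η F hne, map_zero]
    exact (shriekToFibre_single_ne f η G hne _).symm

/-- The direct sum description of the fibre. -/
noncomputable def colimPreFibIso (F : EtCoh.Ab X) :
    (fibreStalks f η ⋙ colim).obj F ≅ preFib f η F :=
  colimit.isoColimitCocone ⟨_, sumCofanIsColimit fun ξ : FibrePts f η => fibreStalk f η F ξ⟩ ≪≫
    AddEquiv.toAddCommGrpIso (sumEquiv f η F)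

open scoped Classical in
lemma ι_colimPreFibIso (F : EtCoh.Ab X) (ξ : FibrePts f η) :
    colimit.ι ((fibreStalks f η).obj F) ⟨ξ⟩ ≫ (colimPreFibIso f η F).hom =
      AddCommGrpCat.ofHom (single f η F ξ) := by
  rw [colimPreFibIso, Iso.trans_hom]
  refine (Category.assoc _ _ _).symm.trans ?_
  refine (congrArg (fun t => t ≫ _) (colimit.isoColimitCocone_ι_hom
    ⟨_, sumCofanIsColimit fun ξ : FibrePts f η => fibreStalk f η F ξ⟩ ⟨ξ⟩)).trans ?_
  refine AddCommGrpCat.hom_ext (AddMonoidHom.ext fun a => ?_)
  refine shriekToFibre_injective f η F (funext fun ξ' => ?_)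
  refine Eq.trans (shriekToFibre_sumToPreFib f η F
    ((sumCofan fun ξ : FibrePts f η => fibreStalk f η F ξ).inj ξ a) ξ') ?_
  rcases eq_or_ne ξ' ξ with rfl | hne
  · exact (sumCofan_app_same (fun ξ : FibrePts f η => fibreStalk f η F ξ) ξ' a).trans
      (shriekToFibre_single_self f η F ξ' a).symm
  · exact (sumCofan_app_ne (fun ξ : FibrePts f η => fibreStalk f η F ξ) hne a).trans
      (shriekToFibre_single_ne f η F hne a).symm

/-- The stalks of `f_!`, naturally. -/
noncomputable def stalkShriekColimIso :
    fibreStalks f η ⋙ colim ≅ EtShriek.lowerShriek f ⋙ EtCoh.stalk η :=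
  NatIso.ofComponents (colimPreFibIso f η) (fun {F G} α => colimit.hom_ext fun ⟨ξ⟩ => by
      simp only [Functor.comp_map, colim_map]
      rw [ι_colimMap_assoc, ι_colimPreFibIso]
      refine Eq.trans ?_ (Category.assoc _ _ _)
      refine Eq.trans ?_ (congrArg (fun t => t ≫ _) (ι_colimPreFibIso f η F ξ)).symm
      ext a
      exact (single_naturality f η α ξ a).symm) ≪≫ (stalkShriekIso f η).symm

/-- `f_!` commutes with all colimits. -/
theorem lowerShriek_preservesColimits :
    PreservesColimitsOfSize.{u + 1, u + 1} (EtShriek.lowerShriek f) := by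
  refine ⟨fun {J} _ => ?_⟩
  refine preservesColimitsOfShape_of_stalks (ι := ULift.{u + 1} Y) (fun y => algPoint Y y.down)
    (fun y => ⟨⟨y⟩, algPoint_default Y y⟩) _ fun y => ?_
  haveI : PreservesColimitsOfShape J (colim : (Discrete (FibrePts f (algPoint Y y.down)) ⥤
      AddCommGrpCat.{u + 1}) ⥤ AddCommGrpCat.{u + 1}) :=
    (colimConstAdj.leftAdjoint_preservesColimits).preservesColimitsOfShape
  exact preservesColimitsOfShape_of_natIso (stalkShriekColimIso f (algPoint Y y.down))

/-- `f_!` has a right adjoint. -/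
theorem lowerShriek_isLeftAdjoint : (EtShriek.lowerShriek f).IsLeftAdjoint :=
  haveI := lowerShriek_preservesColimits f
  haveI : PreservesColimits (EtShriek.lowerShriek f) := this
  isLeftAdjoint_of_preservesColimits_of_isSeparating
    (isSeparator_separator (EtCoh.Ab X)) (EtShriek.lowerShriek f)

end Groth.Agent.Et18
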