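import Groth.Agent.Et18.ConsCompact
import Groth.Agent.Et18.NoetherianSub
import Groth.Agent.Et18.ShriekCocont

/-!
# Torsion sheaves are filtered colimits of constructible sheaves
-/

universe w u

open CategoryTheory CategoryTheory.Limits AlgebraicGeometry Opposite Topology

set_option backward.isDefEq.respectTransparency.types false
set_option backward.isDefEq.respectTransparency false

namespace Groth.Agent.Et18

variable {X : Scheme.{u}}

/-- Germs of a torsion sheaf are killed by positive integers. -/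
theorem exists_pos_nsmul_eq_zero {F : EtCoh.Ab X} (hF : EtCoh.IsTorsion F) {Ω : Type u} [Field Ω]
    [IsSepClosed Ω] (ξ : Spec (CommRingCat.of Ω) ⟶ X) (t : (EtCoh.stalk ξ).obj F) :
    ∃ n, 0 < n ∧ n • t = 0 := by
  obtain ⟨U, v, s, rfl⟩ := (Scheme.pointSmallEtale ξ).toPresheafFiber_jointly_surjective (P := F.obj) t
  obtain ⟨V, g, ⟨z, hz⟩, hfin⟩ := hF U s (fiberPt v)
  obtain ⟨m, hm, h0⟩ := isOfFinAddOrder_iff_nsmul_eq_zero.mp hfin
  refine ⟨m, hm, (map_nsmul _ m s).symm.trans ?_⟩
  exact germ_eq_zero_of_not_mem_sectSupp F ξ U (m • s) v fun hs =>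
    hs V g ⟨z, hz⟩ ((map_nsmul _ m s).trans h0)

/-- Germs of a sheaf with finite stalks are killed by positive integers. -/
lemma exists_pos_nsmul_of_finite {A : Type*} [AddCommGroup A] [Finite A] (a : A) :
    ∃ n, 0 < n ∧ n • a = 0 :=
  ⟨_, Nat.card_pos, card_nsmul_eq_zero'⟩

lemma stalk_map_map {A B C : EtCoh.Ab X} {f : A ⟶ B} {g : B ⟶ C} {h : A ⟶ C} (e : f ≫ g = h)
    {Ω : Type u} [Field Ω] [IsSepClosed Ω] (ξ : Spec (CommRingCat.of Ω) ⟶ X) (b : (EtCoh.stalk ξ).obj A) :
    (EtCoh.stalk ξ).map g ((EtCoh.stalk ξ).map f b) = (EtCoh.stalk ξ).map h b := by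
  subst e
  rw [Functor.map_comp]
  rfl

lemma stalk_exact_kernel {F G : EtCoh.Ab X} (φ : F ⟶ G) {Ω : Type u} [Field Ω] [IsSepClosed Ω]
    (ξ : Spec (CommRingCat.of Ω) ⟶ X) (a : (EtCoh.stalk ξ).obj F) (ha : (EtCoh.stalk ξ).map φ a = 0) :
    ∃ k, (EtCoh.stalk ξ).map (kernel.ι φ) k = a := by
  have hex := (ShortComplex.exact_kernel φ).map (EtCoh.stalk ξ)
  rw [ShortComplex.ab_exact_iff] at hex
  exact hex a ha

/-- The image of the stalk map of a section contains its germ. -/
theorem mem_range_stalk_sectData {P : ℕ → Prop} {F : EtCoh.Ab X} (d : SectData P F) {Ω : Type u}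
    [Field Ω] [IsSepClosed Ω] {ξ : Spec (CommRingCat.of Ω) ⟶ X}
    (w : (Scheme.pointSmallEtale ξ).fiber.obj d.W) :
    (Scheme.pointSmallEtale ξ).toPresheafFiber d.W w F.obj d.s ∈
      Set.range ((EtCoh.stalk ξ).map d.hom) := by
  have h0 := app_eq_zero_of_sectHom_comp (cokernel.π d.hom) d.W d.n d.s d.killed (cokernel.condition _)
  have hex := (ShortComplex.exact_cokernel d.hom).map (EtCoh.stalk ξ)
  rw [ShortComplex.ab_exact_iff] at hex
  refine hex _ ?_
  refine ((Scheme.pointSmallEtale ξ).toPresheafFiber_naturality_apply (cokernel.π d.hom).hom _ _ _).trans ?_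
  exact (congrArg _ h0).trans (map_zero _)

/-- A cocone is a colimit if it is one on stalks, elementwise. -/
theorem nonempty_isColimit_of_stalks {J : Type (u + 1)} [SmallCategory J] [IsFiltered J]
    {D : J ⥤ EtCoh.Ab X} (c : Cocone D)
    (hsurj : ∀ (x : X) (a : (EtCoh.stalk (sepPoint X x)).obj c.pt),
      ∃ (j : J) (b : (EtCoh.stalk (sepPoint X x)).obj (D.obj j)),
        (EtCoh.stalk (sepPoint X x)).map (c.ι.app j) b = a)
    (hinj : ∀ (x : X) (j : J) (b : (EtCoh.stalk (sepPoint X x)).obj (D.obj j)),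
      (EtCoh.stalk (sepPoint X x)).map (c.ι.app j) b = 0 →
        ∃ (k : J) (f : j ⟶ k), (EtCoh.stalk (sepPoint X x)).map (D.map f) b = 0) :
    Nonempty (IsColimit c) := by
  let d := colimit.isColimit D
  let φ := d.desc c
  suffices IsIso φ from ⟨d.ofIsoColimit (Cocone.ext (asIso φ) fun j => d.fac c j)⟩
  refine isIso_of_stalks φ fun x => ?_
  let Φ := EtCoh.stalk (sepPoint X x)
  have hfac : ∀ (j : J) (b : Φ.obj (D.obj j)),
      Φ.map φ (Φ.map (colimit.ι D j) b) = Φ.map (c.ι.app j) b := fun j b =>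
    stalk_map_map (d.fac c j) _ b
  refine (ConcreteCategory.isIso_iff_bijective _).mpr ⟨?_, fun a => ?_⟩
  · refine (injective_iff_map_eq_zero _).mpr fun z hz => ?_
    obtain ⟨j, b, rfl⟩ := Types.jointly_surjective_of_isColimit
      (isColimitOfPreserves (Φ ⋙ forget _) d) z
    obtain ⟨k, f, hk⟩ := hinj x j b ((hfac j b).symm.trans hz)
    have h1 : Φ.map (colimit.ι D j) b = Φ.map (colimit.ι D k) (Φ.map (D.map f) b) :=
      (stalk_map_map (colimit.w D f) _ b).symm
    exact h1.trans ((congrArg _ hk).trans (map_zero _))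
  · obtain ⟨j, b, hb⟩ := hsurj x a
    exact ⟨_, (hfac j b).trans hb⟩

namespace ColimCons

variable {F : EtCoh.Ab X}

variable (F) in
/-- Generators. -/
abbrev Gen : Type (u + 1) := SectData (fun _ => True) F

/-- The sum of a finite family of generators. -/
noncomputable abbrev S (A : Finset (Gen F)) : EtCoh.Ab X :=
  ⨁ fun d : A => EtPBC.extZeroConst d.1.W (ZMod d.1.n)

/-- Inclusion of sums. -/
noncomputable def incl {A A' : Finset (Gen F)} (h : A ⊆ A') : S A ⟶ S A' :=
  biproduct.desc fun d => biproduct.ι (fun d : A' => EtPBC.extZeroConst d.1.W (ZMod d.1.n)) ⟨d.1, h d.2⟩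

/-- The evaluation of a sum. -/
noncomputable def φ (A : Finset (Gen F)) : S A ⟶ F := biproduct.desc fun d => d.1.hom

@[reassoc]
lemma incl_φ {A A' : Finset (Gen F)} (h : A ⊆ A') : incl h ≫ φ A' = φ A :=
  biproduct.hom_ext' _ _ fun d => by simp [incl, φ]

lemma incl_self {A : Finset (Gen F)} (h : A ⊆ A) : incl h = 𝟙 (S A) :=
  biproduct.hom_ext' _ _ fun d => by simp [incl]

@[reassoc]
lemma incl_comp {A A' A'' : Finset (Gen F)} (h : A ⊆ A') (h' : A' ⊆ A'') :
    incl h ≫ incl h' = incl (h.trans h') :=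
  biproduct.hom_ext' _ _ fun d => by simp [incl]

lemma isConstructible_S [QuasiSeparatedSpace X] (A : Finset (Gen F)) : EtPBC.IsConstructible (S A) := by
  obtain ⟨n, ⟨e⟩⟩ := Finite.exists_equiv_fin A
  exact isConstructible_of_iso
    (isConstructible_biproduct (fun i : Fin n => EtPBC.extZeroConst (e.symm i).1.W (ZMod (e.symm i).1.n))
      fun i =>
        haveI : NeZero (e.symm i).1.n := ⟨(e.symm i).1.pos.ne'⟩
        isConstructible_extZeroConst _ (e.symm i).1.isAffine _)
    (biproduct.whiskerEquiv (f := fun i : Fin n => EtPBC.extZeroConst (e.symm i).1.W (ZMod (e.symm i).1.n))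
      (g := fun d : A => EtPBC.extZeroConst d.1.W (ZMod d.1.n)) e.symm fun i => Iso.refl _)

variable (F) in
/-- Relations: sections of kernels. -/
abbrev Rel : Type (u + 1) := Σ A₀ : Finset (Gen F), SectData (fun _ => True) (kernel (φ A₀))

variable (F) in
/-- Finite presentations mapping to `F`. -/
structure Idx : Type (u + 1) where
  /-- The generators. -/
  A : Finset (Gen F)
  /-- The relations. -/
  B : Finset (Rel F)
  sub : ∀ b ∈ B, b.1 ⊆ A

instance : Preorder (Idx F) where
  le p q := p.A ⊆ q.A ∧ p.B ⊆ q.B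
  le_refl p := ⟨subset_rfl, subset_rfl⟩
  le_trans _ _ _ h h' := ⟨h.1.trans h'.1, h.2.trans h'.2⟩

instance : Nonempty (Idx F) := ⟨⟨∅, ∅, by simp⟩⟩

instance : IsDirectedOrder (Idx F) where
  directed p q := by
    classical
    refine ⟨⟨p.A ∪ q.A, p.B ∪ q.B, fun b hb => ?_⟩,
      ⟨Finset.subset_union_left, Finset.subset_union_left⟩,
      ⟨Finset.subset_union_right, Finset.subset_union_right⟩⟩
    rcases Finset.mem_union.mp hb with h | h
    · exact (p.sub b h).trans Finset.subset_union_left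
    · exact (q.sub b h).trans Finset.subset_union_right

/-- A single relation in a larger sum. -/
noncomputable def relHom (b : Rel F) {A : Finset (Gen F)} (h : b.1 ⊆ A) :
    EtPBC.extZeroConst b.2.W (ZMod b.2.n) ⟶ S A :=
  b.2.hom ≫ kernel.ι (φ b.1) ≫ incl h

/-- The relations of an index. -/
noncomputable def ψ (p : Idx F) :
    (⨁ fun b : p.B => EtPBC.extZeroConst b.1.2.W (ZMod b.1.2.n)) ⟶ S p.A :=
  biproduct.desc fun b => relHom b.1 (p.sub _ b.2)

@[reassoc]
lemma relHom_φ (b : Rel F) {A : Finset (Gen F)} (h : b.1 ⊆ A) : relHom b h ≫ φ A = 0 := by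
  simp [relHom, incl_φ]

/-- The constructible sheaf of an index. -/
noncomputable abbrev obj (p : Idx F) : EtCoh.Ab X := cokernel (ψ p)

lemma relHom_π (b : Rel F) {q : Idx F} (hb : b ∈ q.B) (h : b.1 ⊆ q.A) :
    relHom b h ≫ cokernel.π (ψ q) = 0 := by
  have : biproduct.ι (fun b : q.B => EtPBC.extZeroConst b.1.2.W (ZMod b.1.2.n)) ⟨b, hb⟩ ≫ ψ q =
      relHom b h := biproduct.ι_desc _ _
  rw [← this, Category.assoc, cokernel.condition, comp_zero]

variable (F) in
/-- The diagram. -/
noncomputable def D : Idx F ⥤ EtCoh.Ab X where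
  obj p := obj p
  map {p q} f := cokernel.desc _ (incl (leOfHom f).1 ≫ cokernel.π (ψ q)) (biproduct.hom_ext' _ _ fun b => by
    rw [comp_zero, ψ, biproduct.ι_desc_assoc, relHom, Category.assoc, Category.assoc, incl_comp_assoc]
    have := relHom_π b.1 ((leOfHom f).2 b.2) ((p.sub _ b.2).trans (leOfHom f).1)
    simpa [relHom, Category.assoc] using this)
  map_id p := coequalizer.hom_ext (by simp [incl_self])
  map_comp f g := coequalizer.hom_ext (by simp [incl_comp_assoc])

variable (F) in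
/-- The cocone. -/
noncomputable def cocone : Cocone (D F) where
  pt := F
  ι :=
    { app := fun p => cokernel.desc _ (φ p.A) (biproduct.hom_ext' _ _ fun b => by
        rw [comp_zero, ψ, biproduct.ι_desc_assoc, relHom_φ])
      naturality := fun p q f => coequalizer.hom_ext (by simp [D, incl_φ]) }

lemma π_ι (p : Idx F) : cokernel.π (ψ p) ≫ (cocone F).ι.app p = φ p.A := cokernel.π_desc _ _ _

/-- The objects are constructible. -/
theorem isConstructible_obj [QuasiSeparatedSpace X] (p : Idx F) : EtPBC.IsConstructible ((D F).obj p) := by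
  obtain ⟨n, ⟨e⟩⟩ := Finite.exists_equiv_fin p.B
  refine (isConstructible_kernel_cokernel (ψ p) ?_ (isConstructible_S p.A)).2
  exact isConstructible_of_iso
    (isConstructible_biproduct (fun i : Fin n => EtPBC.extZeroConst (e.symm i).1.2.W (ZMod (e.symm i).1.2.n))
      fun i =>
        haveI : NeZero (e.symm i).1.2.n := ⟨(e.symm i).1.2.pos.ne'⟩
        isConstructible_extZeroConst _ (e.symm i).1.2.isAffine _)
    (biproduct.whiskerEquiv (f := fun i : Fin n => EtPBC.extZeroConst (e.symm i).1.2.W (ZMod (e.symm i).1.2.n))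
      (g := fun b : p.B => EtPBC.extZeroConst b.1.2.W (ZMod b.1.2.n)) e.symm fun i => Iso.refl _)

variable [QuasiSeparatedSpace X]

/-- Surjectivity on stalks. -/
theorem exists_gen (hF : EtCoh.IsTorsion F) (x : X) (a : (EtCoh.stalk (sepPoint X x)).obj F) :
    ∃ (A : Finset (Gen F)) (b : (EtCoh.stalk (sepPoint X x)).obj (S A)),
      (EtCoh.stalk (sepPoint X x)).map (φ A) b = a := by
  obtain ⟨n, hn, ha⟩ := exists_pos_nsmul_eq_zero hF _ a
  obtain ⟨d, w, hd⟩ := exists_sectData (P := fun _ => True) (sepPoint X x) a n hn trivial ha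
  obtain ⟨b, hb⟩ := mem_range_stalk_sectData d w
  refine ⟨{d}, (EtCoh.stalk (sepPoint X x)).map
    (biproduct.ι (fun e : ({d} : Finset (Gen F)) => EtPBC.extZeroConst e.1.W (ZMod e.1.n))
      ⟨d, Finset.mem_singleton_self d⟩) b, ?_⟩
  have e : biproduct.ι (fun e : ({d} : Finset (Gen F)) => EtPBC.extZeroConst e.1.W (ZMod e.1.n))
      ⟨d, Finset.mem_singleton_self d⟩ ≫ φ {d} = d.hom :=
    biproduct.ι_desc (fun e : ({d} : Finset (Gen F)) => e.1.hom) _
  exact (stalk_map_map e _ b).trans (hb.trans hd)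

/-- Injectivity on stalks, with the same generators. -/
theorem exists_kill (p : Idx F) (x : X) (b : (EtCoh.stalk (sepPoint X x)).obj ((D F).obj p))
    (hb : (EtCoh.stalk (sepPoint X x)).map ((cocone F).ι.app p) b = 0) :
    ∃ (q : Idx F) (h : p ≤ q), q.A = p.A ∧ (EtCoh.stalk (sepPoint X x)).map ((D F).map (homOfLE h)) b = 0 := by
  classical
  let Φ := EtCoh.stalk (sepPoint X x)
  haveI : Epi (Φ.map (cokernel.π (ψ p))) := inferInstance
  obtain ⟨b', rfl⟩ := (AddCommGrpCat.epi_iff_surjective (Φ.map (cokernel.π (ψ p)))).mp inferInstance b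
  replace hb := (stalk_map_map (π_ι p) _ b').symm.trans hb
  obtain ⟨k, hk⟩ := stalk_exact_kernel (φ p.A) _ b' hb
  haveI := finite_stalk_of_isConstructible (isConstructible_S p.A) (sepPoint X x)
  haveI : Finite (Φ.obj (kernel (φ p.A))) := finite_stalk_of_mono (kernel.ι (φ p.A)) _
  obtain ⟨n, hn, hnk⟩ := exists_pos_nsmul_of_finite k
  obtain ⟨e, w, he⟩ := exists_sectData (P := fun _ => True) (sepPoint X x) k n hn trivial hnk
  obtain ⟨z, hz⟩ := mem_range_stalk_sectData e w
  let b₀ : Rel F := ⟨p.A, e⟩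
  let q : Idx F := ⟨p.A, insert b₀ p.B, fun b hb => by
    rcases Finset.mem_insert.mp hb with rfl | hb
    · exact subset_rfl
    · exact p.sub b hb⟩
  refine ⟨q, ⟨subset_rfl, Finset.subset_insert _ _⟩, rfl, ?_⟩
  have h1 : cokernel.π (ψ p) ≫ (D F).map (homOfLE (show p ≤ q from ⟨subset_rfl, Finset.subset_insert _ _⟩)) =
      cokernel.π (ψ q) := by simp [D, incl_self, q]
  have h2 : e.hom ≫ kernel.ι (φ p.A) ≫ cokernel.π (ψ q) = 0 := by
    have := relHom_π b₀ (q := q) (Finset.mem_insert_self _ _) subset_rfl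
    rw [relHom, incl_self] at this
    simpa [b₀, Category.assoc] using this
  have hb0 : Φ.map (kernel.ι (φ p.A)) (Φ.map e.hom z) = b' :=
    (congrArg (fun t => Φ.map (kernel.ι (φ p.A)) t) (hz.trans he)).trans hk
  have e1 : Φ.map (cokernel.π (ψ q)) b' = 0 := by
    rw [← hb0, stalk_map_map (f := e.hom) (g := kernel.ι (φ p.A)) rfl,
      stalk_map_map (f := e.hom ≫ kernel.ι (φ p.A)) (g := cokernel.π (ψ q))
        (h := 0) ((Category.assoc _ _ _).trans h2)]
    simp
  exact (stalk_map_map (f := cokernel.π (ψ p))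
    (g := (D F).map (homOfLE (show p ≤ q from ⟨subset_rfl, Finset.subset_insert _ _⟩)))
    (h := cokernel.π (ψ q)) h1 _ b').trans e1

/-- A torsion sheaf is the colimit of its finite presentations. -/
theorem nonempty_isColimit (hF : EtCoh.IsTorsion F) : Nonempty (IsColimit (cocone F)) := by
  refine nonempty_isColimit_of_stalks _ (fun x a => ?_) fun x p b hb => ?_
  · obtain ⟨A, b, hb⟩ := exists_gen hF x a
    let p₀ : Idx F := ⟨A, ∅, by simp⟩
    let π₀ : S A ⟶ (D F).obj p₀ := cokernel.π (ψ p₀)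
    have h0 : π₀ ≫ (cocone F).ι.app p₀ = φ A := π_ι p₀
    refine ⟨p₀, (EtCoh.stalk (sepPoint X x)).map π₀ b, ?_⟩
    exact (stalk_map_map (f := π₀) (g := (cocone F).ι.app p₀) (h := φ A) h0 _ b).trans hb
  · obtain ⟨q, h, -, hq⟩ := exists_kill p x b hb
    exact ⟨q, homOfLE h, hq⟩

/-- Where `F` has no stalk, indices with the same property are cofinal. -/
theorem exists_le_isZero_stalk (p : Idx F) (x : X) (hx : x ∉ EtPBC.supp F) :
    ∃ q, p ≤ q ∧ x ∉ EtPBC.supp ((D F).obj q) := by
  classical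
  let Φ := EtCoh.stalk (sepPoint X x)
  haveI := finite_stalk_of_isConstructible (isConstructible_obj p) (sepPoint X x)
  have hsub : Subsingleton ((EtCoh.stalk (sepPoint X x)).obj F) := AddCommGrpCat.subsingleton_of_isZero
    (isZero_stalk_of_not_mem_supp (F := F) (sepPoint X x) (by rwa [sepPoint_default]))
  cases nonempty_fintype (Φ.obj ((D F).obj p))
  suffices H : ∀ t : Finset (Φ.obj ((D F).obj p)), ∃ q, ∃ h : p ≤ q, q.A = p.A ∧
      ∀ b ∈ t, Φ.map ((D F).map (homOfLE h)) b = 0 by
    obtain ⟨q, h, hA, hq⟩ := H Finset.univ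
    refine ⟨q, h, fun hsupp => (mem_supp_iff _ (sepPoint X x) (sepPoint_default X x)).mp hsupp ?_⟩
    have hepi : Epi ((D F).map (homOfLE h)) := by
      obtain ⟨qA, qB, hq'⟩ := q
      subst hA
      have h1 : cokernel.π (ψ p) ≫ (D F).map (homOfLE h) = cokernel.π (ψ ⟨p.A, qB, hq'⟩) := by
        simp [D, incl_self]
      haveI : Epi (cokernel.π (ψ p) ≫ (D F).map (homOfLE h)) := h1 ▸ inferInstance
      exact epi_of_epi (cokernel.π (ψ p)) _
    exact IsZero.of_epi_eq_zero _ (ConcreteCategory.hom_ext (Φ.map ((D F).map (homOfLE h))) 0 fun b =>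
      hq b (Finset.mem_univ b))
  intro t
  induction t using Finset.induction_on with
  | empty => exact ⟨p, le_rfl, rfl, by simp⟩
  | insert b t _ ih =>
    obtain ⟨q, h, hA, hq⟩ := ih
    obtain ⟨r, h', hA', hr⟩ := exists_kill q x (Φ.map ((D F).map (homOfLE h)) b) (@Subsingleton.elim _ hsub _ _)
    have hcomp : ∀ b, Φ.map ((D F).map (homOfLE (h.trans h'))) b =
        Φ.map ((D F).map (homOfLE h')) (Φ.map ((D F).map (homOfLE h)) b) := fun b => by
      rw [← ConcreteCategory.comp_apply, ← Φ.map_comp, ← Functor.map_comp, homOfLE_comp]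
    refine ⟨r, h.trans h', hA'.trans hA, fun b' hb' => (hcomp b').trans ?_⟩
    rcases Finset.mem_insert.mp hb' with rfl | hb'
    · exact hr
    · rw [hq b' hb', map_zero]

variable (F) in
/-- The indices without stalk at `x`. -/
abbrev IdxAt (x : X) : Type (u + 1) := {p : Idx F // x ∉ EtPBC.supp ((D F).obj p)}

theorem isDirected_idxAt (x : X) (hx : x ∉ EtPBC.supp F) : IsDirectedOrder (IdxAt F x) where
  directed p q := by
    obtain ⟨r, h1, h2⟩ := exists_ge_ge p.1 q.1
    obtain ⟨s, hs, hsx⟩ := exists_le_isZero_stalk r x hx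
    exact ⟨⟨s, hsx⟩, (h1.trans hs : p.1 ≤ s), (h2.trans hs : q.1 ≤ s)⟩

variable (F) in
/-- The restricted diagram. -/
noncomputable def DAt (x : X) : IdxAt F x ⥤ EtCoh.Ab X :=
  (Subtype.mono_coe (fun p : Idx F => x ∉ EtPBC.supp ((D F).obj p))).functor ⋙ D F

/-- The restricted cocone. -/
noncomputable def coconeAt (x : X) : Cocone (DAt F x) := (cocone F).whisker _

/-- It is still a colimit. -/
theorem nonempty_isColimit_at (hF : EtCoh.IsTorsion F) (y : X) (hy : y ∉ EtPBC.supp F) :
    Nonempty (IsColimit (coconeAt (F := F) y)) := by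
  haveI := isDirected_idxAt y hy
  haveI : Nonempty (IdxAt F y) := by
    obtain ⟨q, -, hq⟩ := exists_le_isZero_stalk (Classical.arbitrary (Idx F)) y hy
    exact ⟨⟨q, hq⟩⟩
  refine nonempty_isColimit_of_stalks _ (fun x a => ?_) fun x p b hb => ?_
  · obtain ⟨A, b, hb⟩ := exists_gen hF x a
    let p₀ : Idx F := ⟨A, ∅, by simp⟩
    obtain ⟨q, hq, hqy⟩ := exists_le_isZero_stalk p₀ y hy
    refine ⟨⟨q, hqy⟩, (EtCoh.stalk (sepPoint X x)).map (cokernel.π (ψ p₀) ≫ (D F).map (homOfLE hq)) b, ?_⟩
    refine (stalk_map_map (h := φ p₀.A) ?_ _ b).trans hb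
    show (cokernel.π (ψ p₀) ≫ (D F).map (homOfLE hq)) ≫ (cocone F).ι.app q = _
    rw [Category.assoc, (cocone F).w, π_ι]
  · obtain ⟨q, h, -, hq⟩ := exists_kill p.1 x b hb
    obtain ⟨r, hr, hry⟩ := exists_le_isZero_stalk q y hy
    refine ⟨⟨r, hry⟩, homOfLE (show p ≤ ⟨r, hry⟩ from h.trans hr), ?_⟩
    show (EtCoh.stalk (sepPoint X x)).map ((D F).map (homOfLE (h.trans hr))) b = 0
    rw [← homOfLE_comp h hr, Functor.map_comp, Functor.map_comp, ConcreteCategory.comp_apply, hq, map_zero]

variable (F) in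
/-- The images of finite sums. -/
noncomputable def imDiagram : Finset (Gen F) ⥤ EtCoh.Ab X where
  obj A := Limits.image (φ A)
  map {A A'} f := image.lift
    { I := Limits.image (φ A')
      m := image.ι _
      e := incl (leOfHom f) ≫ factorThruImage (φ A')
      fac := by rw [Category.assoc, image.fac, incl_φ] }
  map_id A := by
    rw [← cancel_mono (image.ι (φ A)), image.lift_fac, Category.id_comp]
  map_comp {A A' A''} f g := by
    rw [← cancel_mono (image.ι (φ A'')), image.lift_fac, Category.assoc, image.lift_fac, image.lift_fac]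

variable (F) in
/-- The cocone of images. -/
noncomputable def imCocone : Cocone (imDiagram F) where
  pt := F
  ι :=
    { app := fun A => image.ι (φ A)
      naturality := fun A A' f => by
        refine Eq.trans ?_ (Category.comp_id (image.ι (φ A))).symm
        exact image.lift_fac _ }

theorem nonempty_isColimit_im (hF : EtCoh.IsTorsion F) : Nonempty (IsColimit (imCocone F)) := by
  classical
  refine nonempty_isColimit_of_stalks _ (fun x a => ?_) fun x A b hb => ⟨A, 𝟙 A, ?_⟩
  · obtain ⟨A, b, hb⟩ := exists_gen hF x a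
    refine ⟨A, (EtCoh.stalk (sepPoint X x)).map (factorThruImage (φ A)) b, ?_⟩
    exact (stalk_map_map (image.fac (φ A)) _ b).trans hb
  · have hb' : (EtCoh.stalk (sepPoint X x)).map (image.ι (φ A)) b = 0 := hb
    haveI : Mono ((EtCoh.stalk (sepPoint X x)).map (image.ι (φ A))) := inferInstance
    rw [CategoryTheory.Functor.map_id, CategoryTheory.Functor.map_id]
    exact (AddCommGrpCat.mono_iff_injective ((EtCoh.stalk (sepPoint X x)).map (image.ι (φ A)))).mp
      inferInstance (hb'.trans (map_zero _).symm)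

theorem isConstructible_im [IsLocallyNoetherian X] (A : Finset (Gen F)) :
    EtPBC.IsConstructible ((imDiagram F).obj A) :=
  isConstructible_of_epi (factorThruImage (φ A)) (isConstructible_S A)

theorem supp_im_subset (A : Finset (Gen F)) : EtPBC.supp ((imDiagram F).obj A) ⊆ EtPBC.supp F := by
  intro y hy
  by_contra h
  refine (mem_supp_iff _ (sepPoint X y) (sepPoint_default X y)).mp hy ?_
  haveI : Mono ((EtCoh.stalk (sepPoint X y)).map (image.ι (φ A))) := inferInstance
  exact IsZero.of_mono ((EtCoh.stalk (sepPoint X y)).map (image.ι (φ A)))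
    (isZero_stalk_of_not_mem_supp _ (by rw [sepPoint_default]; exact h))

end ColimCons

/-- A point generalizes into a constructible set meeting every open around it. -/
theorem exists_specializes_of_mem_closure [CompactSpace X] [QuasiSeparatedSpace X] {S : Set X}
    (hS : IsLocallyConstructible S) {x : X} (hx : x ∈ closure S) : ∃ y ∈ S, y ⤳ x :=
  H8ProCons.exists_specializes_of_mem_closure
    (H8ProCons.isClosed_cons_of_isConstructible hS.isConstructible) hx

end Groth.Agent.Et18
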