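import Groth.Agent.Et18.PropBEpi

/-!
# Direct images along morphisms with property (A) are faithful
-/

universe u

open CategoryTheory CategoryTheory.Limits AlgebraicGeometry Opposite

set_option backward.isDefEq.respectTransparency.types false
set_option backward.isDefEq.respectTransparency false

namespace Groth.Agent.Et18

variable {X Y : Scheme.{u}}

/-- A sieve on the small étale site is covering as soon as it reaches every point. -/
theorem mem_smallEtaleTopology_of_points {U : X.Etale} (S : Sieve U)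
    (h : ∀ x : U.left, ∃ (W : X.Etale) (b : W ⟶ U) (w : W.left), S b ∧ Etale b.left ∧ b.left w = x) :
    S ∈ X.smallEtaleTopology U := by
  rw [show X.smallEtaleTopology =
      (X.smallPretopology (P := EtCoh.etaleMP) (Q := EtCoh.etaleMP)).toGrothendieck from
    Scheme.smallGrothendieckTopology_eq_toGrothendieck_smallPretopology X le_rfl]
  exact (Scheme.mem_toGrothendieck_smallPretopology _ _).2 h

/-- With property (A), the counit `f⁻¹ f_* F ⟶ F` is an epimorphism. -/
theorem epi_counit_of_propA (f : X ⟶ Y) (hA : BigSite.PropA f) (F : EtCoh.Ab X) :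
    Epi ((EtCoh.pullPushAdj f).counit.app F) := by
  refine (Sheaf.isLocallySurjective_iff_epi' (φ := (EtCoh.pullPushAdj f).counit.app F) ..).mp
    ⟨fun {U} s => ?_⟩
  refine mem_smallEtaleTopology_of_points _ fun x => ?_
  have : Etale U.hom := U.prop
  obtain ⟨V', v, _, W, hW, h, hh, w, hw⟩ := hA U.left U.hom x
  let V : Y.Etale := Scheme.Etale.mk v
  let P := (EtCoh.bc f).obj V
  let e : P.left ⟶ pullback f v := (pullbackSymmetry f v).inv
  let Wc : (pullback f v).Opens := ⟨(W : Set ↥(pullback f v))ᶜ, hW.isOpen_compl⟩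
  let W' : ULift.{u} Bool → P.left.Opens := fun b => e ⁻¹ᵁ (if b.down then W else Wc)
  let l : (etalePiece P (W' ⟨true⟩)).left ⟶ U.left := (e ∣_ W) ≫ h
  have hl : l ≫ U.hom = (W' ⟨true⟩).ι ≫ P.hom := by
    change ((e ∣_ W) ≫ h) ≫ U.hom = (e ⁻¹ᵁ W).ι ≫ _
    rw [Category.assoc, hh, morphismRestrict_ι_assoc]
    exact congrArg ((e ⁻¹ᵁ W).ι ≫ ·) (pullbackSymmetry_inv_comp_fst f v)
  let c : etalePiece P (W' ⟨true⟩) ⟶ U := MorphismProperty.Over.homMk l hl
  have hFs : Presieve.IsSheaf X.smallEtaleTopology (F.obj ⋙ forget AddCommGrpCat.{u + 1}) :=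
    (isSheaf_iff_isSheaf_of_type _ _).mp ((sheafCompose _ (forget AddCommGrpCat.{u + 1})).obj F).property
  have hdis : ∀ a b, a ≠ b → Disjoint (W' a) (W' b) := by
    intro a b hab
    refine TopologicalSpace.Opens.coe_disjoint.mp (Set.disjoint_left.mpr fun p ha hb => ?_)
    rcases a with ⟨_ | _⟩ <;> rcases b with ⟨_ | _⟩ <;> try exact hab rfl
    · exact ha hb
    · exact hb ha
  have hcov : (⨆ b, W' b) = ⊤ := by
    refine TopologicalSpace.Opens.ext (Set.eq_univ_iff_forall.mpr fun p => ?_)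
    rw [SetLike.mem_coe, TopologicalSpace.Opens.mem_iSup]
    by_cases hp : e p ∈ W
    · exact ⟨⟨true⟩, hp⟩
    · exact ⟨⟨false⟩, hp⟩
  obtain ⟨t, ht⟩ := exists_glue_etalePieces hFs P W' hdis hcov (fun b =>
    match b with
    | ⟨true⟩ => (F.obj.map c.op s : F.obj.obj (op (etalePiece P (W' ⟨true⟩))))
    | ⟨false⟩ => (0 : F.obj.obj (op (etalePiece P (W' ⟨false⟩)))))
  have hsur := (pullbackSymmetry f v).inv_hom_id
  obtain ⟨p, hp⟩ : ∃ p : (W' ⟨true⟩ : P.left.Opens), (e ∣_ W) p = w := by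
    refine ⟨(asIso (e ∣_ W)).inv w, ?_⟩
    exact congrArg (fun k => k w) (asIso (e ∣_ W)).inv_hom_id
  refine ⟨etalePiece P (W' ⟨true⟩), c, p, ?_, ?_, ?_⟩
  · refine ⟨((EtCoh.pull f).obj ((EtCoh.push f).obj F)).obj.map (etalePieceHom P (W' ⟨true⟩)).op
      (((EtCoh.pullPushAdj f).unit.app ((EtCoh.push f).obj F)).hom.app (op V) t), ?_⟩
    have h1 : ((EtCoh.pullPushAdj f).counit.app F).hom.app (op P)
        (((EtCoh.pullPushAdj f).unit.app ((EtCoh.push f).obj F)).hom.app (op V) t) = t :=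
      ConcreteCategory.congr_hom (congrArg (fun k : (EtCoh.push f).obj F ⟶ (EtCoh.push f).obj F =>
        k.hom.app (op V)) ((EtCoh.pullPushAdj f).right_triangle_components F)) t
    refine (NatTrans.naturality_apply ((EtCoh.pullPushAdj f).counit.app F).hom
      (etalePieceHom P (W' ⟨true⟩)).op _).trans ?_
    exact (congrArg (F.obj.map (etalePieceHom P (W' ⟨true⟩)).op) h1).trans (ht ⟨true⟩)
  · have : Etale (l ≫ U.hom) := hl ▸ (etalePiece P (W' ⟨true⟩)).prop
    exact Etale.of_comp l U.hom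
  · change h ((e ∣_ W) p) = x
    rw [hp, hw]

/-- With property (A), `f_*` is faithful. -/
theorem push_faithful_of_propA (f : X ⟶ Y) (hA : BigSite.PropA f) : (EtCoh.push f).Faithful :=
  haveI := epi_counit_of_propA f hA
  (EtCoh.pullPushAdj f).faithful_R_of_epi_counit_app

end Groth.Agent.Et18
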