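import Groth.Prelude.Def_EtShriek2
import Groth.Agent.Et18.Stalk

/-!
# Restriction along an étale morphism is inverse image
-/

universe u

open CategoryTheory CategoryTheory.Limits AlgebraicGeometry Opposite

set_option backward.isDefEq.respectTransparency.types false
set_option backward.isDefEq.respectTransparency false

namespace Groth.Agent.Et18

variable {U X : Scheme.{u}} (j : U ⟶ X) [Etale j] [EtShriek.JCont j]

/-- `compEtale j ⊣ bc j`. -/
noncomputable def compBcAdj : EtShriek.compEtale j ⊣ EtCoh.bc j :=
  MorphismProperty.Over.mapPullbackAdj EtCoh.etaleMP.{u} ⊤ j ‹Etale j› trivial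

/-- Restriction is left adjoint to direct image. -/
noncomputable def restrPushAdj : EtShriek.restrAlong j ⊣ EtCoh.push j :=
  (compBcAdj j).sheafPushforwardContinuous U.smallEtaleTopology X.smallEtaleTopology

/-- Inverse image along an étale morphism is restriction. -/
noncomputable def pullRestrIso : EtCoh.pull j ≅ EtShriek.restrAlong j :=
  (EtCoh.pullPushAdj j).leftAdjointUniq (restrPushAdj j)

/-- Stalks of restrictions. -/
noncomputable def stalkRestrIso {Ω : Type u} [Field Ω] [IsSepClosed Ω]
    (ξ : Spec (CommRingCat.of Ω) ⟶ U) :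
    EtShriek.restrAlong j ⋙ EtCoh.stalk ξ ≅ EtCoh.stalk (ξ ≫ j) :=
  Functor.isoWhiskerRight (pullRestrIso j).symm _ ≪≫ stalkPullIso j ξ

instance restrAlong_preservesFiniteLimits : PreservesFiniteLimits (EtShriek.restrAlong j) :=
  preservesFiniteLimits_of_natIso (pullRestrIso j)

instance restrAlong_preservesFiniteColimits : PreservesFiniteColimits (EtShriek.restrAlong j) :=
  have : PreservesColimitsOfSize.{0, 0} (EtShriek.restrAlong j) :=
    (restrPushAdj j).leftAdjoint_preservesColimits
  PreservesColimitsOfSize.preservesFiniteColimits _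

end Groth.Agent.Et18
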