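import Mathlib.AlgebraicGeometry.Sites.Etale
import Mathlib.AlgebraicGeometry.Morphisms.UniversallyOpen
import Mathlib.CategoryTheory.Sites.Sheafification
import Mathlib.CategoryTheory.Sites.Limits

/-!
# Subterminal étale sheaves are Zariski opens
-/

universe u w

open CategoryTheory CategoryTheory.Limits AlgebraicGeometry Opposite

set_option backward.isDefEq.respectTransparency.types false
set_option backward.isDefEq.respectTransparency false

namespace Groth.Agent.Et18

variable {X : Scheme.{u}}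

lemma exists_mem_of_covering {U : X.Etale} {S : Sieve U} (hS : S ∈ X.smallEtaleTopology U)
    (t : U.left) : ∃ (V : X.Etale) (g : V ⟶ U) (_ : S g), t ∈ Set.range g.left := by
  obtain ⟨α, T, f, rfl⟩ := S.exists_eq_ofArrows
  rw [Scheme.ofArrows_mem_smallEtaleTopology_iff] at hS
  obtain ⟨i, hi⟩ := Set.mem_iUnion.mp (hS ▸ Set.mem_univ t)
  exact ⟨T i, f i, ⟨T i, 𝟙 _, f i, ⟨i⟩, Category.id_comp _⟩, hi⟩

lemma nonempty_hom_opens_iff (O : X.Opens) (V : X.Etale) :
    Nonempty (V ⟶ Scheme.Etale.mk O.ι) ↔ Set.range V.hom ⊆ (O : Set X) := by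
  constructor
  · rintro ⟨g⟩ _ ⟨v, rfl⟩
    have h : g.left ≫ O.ι = V.hom := Over.w g.hom
    rw [← h]
    exact (g.left v).2
  · intro h
    refine ⟨MorphismProperty.Over.homMk (IsOpenImmersion.lift O.ι V.hom ?_) ?_⟩
    · intro y hy
      exact ⟨⟨y, h hy⟩, rfl⟩
    · exact IsOpenImmersion.lift_fac _ _ _

instance subsingleton_hom_opens (O : X.Opens) (V : X.Etale) :
    Subsingleton (V ⟶ Scheme.Etale.mk O.ι) :=
  ⟨fun a b => (Scheme.Etale.forget X).map_injective (Over.OverMorphism.ext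
    ((cancel_mono O.ι).mp ((Over.w a.hom).trans (Over.w b.hom).symm)))⟩

/-- The open where a presheaf has sections. -/
def sectionLocus (F : X.Etaleᵒᵖ ⥤ Type w) : X.Opens :=
  ⟨⋃ (V : X.Etale) (_ : Nonempty (F.obj (op V))), Set.range V.hom,
    isOpen_iUnion fun V => isOpen_iUnion fun _ => haveI : Etale V.hom := V.prop
      V.hom.isOpenMap.isOpen_range⟩

/-- A subterminal sheaf has sections exactly on objects over its open. -/
theorem nonempty_sections_iff {F : X.Etaleᵒᵖ ⥤ Type w}
    (hF : Presieve.IsSheaf X.smallEtaleTopology F) [hs : ∀ V, Subsingleton (F.obj (op V))]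
    (U : X.Etale) : Nonempty (F.obj (op U)) ↔ Set.range U.hom ⊆ (sectionLocus F : Set X) := by
  refine ⟨fun h y hy => Set.mem_iUnion₂.mpr ⟨U, h, hy⟩, fun h => ?_⟩
  let S : Sieve U :=
    { arrows := fun V _ => Nonempty (F.obj (op V))
      downward_closed := fun {V W _} hV g => hV.map (F.map g.op) }
  have hS : S ∈ X.smallEtaleTopology U := by
    obtain ⟨α, T, f, hSeq⟩ := S.exists_eq_ofArrows
    rw [hSeq, Scheme.ofArrows_mem_smallEtaleTopology_iff, Set.eq_univ_iff_forall]
    intro t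
    obtain ⟨V, hV, v, hv⟩ := Set.mem_iUnion₂.mp (h ⟨t, rfl⟩)
    have : Etale U.hom := U.prop
    have : Etale V.hom := V.prop
    obtain ⟨z, hz, -⟩ := Scheme.Pullback.exists_preimage_pullback (f := U.hom) (g := V.hom) t v hv.symm
    let P : X.Etale := Scheme.Etale.mk (pullback.fst U.hom V.hom ≫ U.hom)
    let p : P ⟶ U := MorphismProperty.Over.homMk (pullback.fst U.hom V.hom) rfl
    let q : P ⟶ V := MorphismProperty.Over.homMk (pullback.snd U.hom V.hom) pullback.condition.symm
    have hp : S p := hV.map (F.map q.op)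
    rw [hSeq] at hp
    obtain ⟨W, a, _, ⟨i⟩, hi⟩ := hp
    refine Set.mem_iUnion.mpr ⟨i, a.left z, ?_⟩
    rw [← hz]
    exact congrArg (fun k => k.left z) hi
  exact ⟨(hF S hS).amalgamate (fun V g hg => hg.some) fun _ _ _ _ _ _ _ _ _ _ =>
    Subsingleton.elim _ _⟩

/-- A subterminal sheaf is the sheaf of its open. -/
noncomputable def isoOfSubterminal {F : X.Etaleᵒᵖ ⥤ Type u}
    (hF : Presieve.IsSheaf X.smallEtaleTopology F) [∀ V, Subsingleton (F.obj (op V))] :
    F ≅ yoneda.obj (Scheme.Etale.mk (sectionLocus F).ι) :=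
  NatIso.ofComponents (fun V => (equivOfSubsingletonOfSubsingleton
    (fun s => ((nonempty_hom_opens_iff _ _).mpr ((nonempty_sections_iff hF V.unop).mp ⟨s⟩)).some)
    (fun g => ((nonempty_sections_iff hF V.unop).mpr ((nonempty_hom_opens_iff _ _).mp ⟨g⟩)).some)).toIso)
    fun {V W} g => by
      ext s
      exact @Subsingleton.elim _ (subsingleton_hom_opens _ _) _ _

/-- The presheaf of an open is a sheaf. -/
theorem isSheaf_opens (O : X.Opens) :
    Presieve.IsSheaf X.smallEtaleTopology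
      (yoneda.obj (Scheme.Etale.mk O.ι) ⋙ uliftFunctor.{w}) := by
  intro U S hS x _
  have h : Set.range U.hom ⊆ (O : Set X) := by
    rintro _ ⟨t, rfl⟩
    obtain ⟨V, g, hg, v, rfl⟩ := exists_mem_of_covering hS t
    have h1 := (nonempty_hom_opens_iff O V).mp ⟨(x g hg).down⟩ ⟨v, rfl⟩
    have e : g.left ≫ U.hom = V.hom := Over.w g.hom
    rw [← e] at h1
    exact h1
  refine ⟨⟨((nonempty_hom_opens_iff O U).mpr h).some⟩, fun V g hg => ?_, fun y _ => ?_⟩
  · exact ULift.ext _ _ (@Subsingleton.elim _ (subsingleton_hom_opens _ _) _ _)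
  · exact ULift.ext _ _ (@Subsingleton.elim _ (subsingleton_hom_opens _ _) _ _)

lemma le_of_hom {O O' : X.Opens} (g : Scheme.Etale.mk O.ι ⟶ Scheme.Etale.mk O'.ι) : O ≤ O' :=
  fun x hx => (nonempty_hom_opens_iff O' _).mp ⟨g⟩ ⟨⟨x, hx⟩, rfl⟩

/-- A subterminal sheaf in a larger universe is the sheaf of its open. -/
noncomputable def isoOfSubterminalULift {F : X.Etaleᵒᵖ ⥤ Type max u w}
    (hF : Presieve.IsSheaf X.smallEtaleTopology F) [∀ V, Subsingleton (F.obj (op V))] :
    F ≅ yoneda.obj (Scheme.Etale.mk (sectionLocus F).ι) ⋙ uliftFunctor.{w} :=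
  NatIso.ofComponents (fun V => (equivOfSubsingletonOfSubsingleton
    (fun s => ULift.up ((nonempty_hom_opens_iff _ _).mpr ((nonempty_sections_iff hF V.unop).mp ⟨s⟩)).some)
    (fun g => ((nonempty_sections_iff hF V.unop).mpr
      ((nonempty_hom_opens_iff _ _).mp ⟨g.down⟩)).some)).toIso)
    fun {V W} g => by
      ext s
      exact ULift.ext _ _ (@Subsingleton.elim _ (subsingleton_hom_opens _ _) _ _)

end Groth.Agent.Et18
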