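import Groth.Agent.Et18.JCont
import Groth.Agent.Et18.EtalePieces
import Groth.Agent.Et18.GermBasics
import Groth.Agent.Et18.PropAFaithful
import Groth.Agent.Et18.Subterminal
import Groth.Agent.Et18.Restr
import Groth.Prelude.Def_EtCore
import Mathlib.CategoryTheory.Sites.ConstantSheaf
import Mathlib.CategoryTheory.Sites.Equivalence

/-!
# The localised site at an étale scheme is its small étale site
-/

universe u

open CategoryTheory CategoryTheory.Limits AlgebraicGeometry Opposite

set_option backward.isDefEq.respectTransparency.types false
set_option backward.isDefEq.respectTransparency false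

namespace Groth.Agent.Et18

variable {X : Scheme.{u}} (U : X.Etale)

instance etale_structureHom : Etale U.hom := U.prop

instance jCont_structureHom : EtShriek.JCont U.hom := jCont U.hom

/-- `V ↦ (V → U)`. -/
noncomputable def overEtale : U.left.Etale ⥤ Over U where
  obj V := Over.mk (MorphismProperty.Over.homMk V.hom rfl : (EtShriek.compEtale U.hom).obj V ⟶ U)
  map g := Over.homMk ((EtShriek.compEtale U.hom).map g)
    (etaleHom_ext (MorphismProperty.Over.w g))

/-- The composite with the forgetful functor. -/
noncomputable def overEtaleForget : overEtale U ⋙ Over.forget U ≅ EtShriek.compEtale U.hom :=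
  Iso.refl _

instance : (overEtale U).Faithful where
  map_injective h := (EtShriek.compEtale U.hom).map_injective (congrArg (fun t => t.left) h)

instance : (overEtale U).Full where
  map_surjective {V W} g :=
    ⟨MorphismProperty.Over.homMk g.left.left (congrArg (fun t => t.left) (Over.w g)),
      Over.OverMorphism.ext (etaleHom_ext rfl)⟩

instance : (overEtale U).EssSurj where
  mem_essImage A := by
    have h : A.hom.left ≫ U.hom = A.left.hom := MorphismProperty.Over.w A.hom
    haveI : Etale A.left.hom := A.left.prop
    haveI : Etale A.hom.left := etale_map_left A.hom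
    refine ⟨Scheme.Etale.mk A.hom.left, ⟨Over.isoMk
      (MorphismProperty.Over.isoMk (Iso.refl _) ((Category.id_comp _).trans h.symm)) ?_⟩⟩
    exact etaleHom_ext (Category.id_comp _)

instance : (overEtale U).IsEquivalence where

instance isDenseSubsite_overEtale :
    (overEtale U).IsDenseSubsite U.left.smallEtaleTopology (X.smallEtaleTopology.over U) where
  functorPushforward_mem_iff {V S} := by
    rw [GrothendieckTopology.mem_over_iff]
    have e : Sieve.overEquiv _ (S.functorPushforward (overEtale U)) =
        S.functorPushforward (EtShriek.compEtale U.hom) := by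
      ext W g
      rw [Sieve.overEquiv_iff]
      constructor
      · rintro ⟨V', g', h, hg', hh⟩
        exact ⟨V', g', h.left, hg', congrArg (fun t => t.left) hh⟩
      · rintro ⟨V', g', h, hg', hh⟩
        refine ⟨V', g', Over.homMk h ?_, hg', Over.OverMorphism.ext hh⟩
        refine etaleHom_ext ?_
        subst hh
        exact (congrArg (fun t => h.left ≫ t) (MorphismProperty.Over.w g')).symm.trans
          (Category.assoc _ _ _).symm
    rw [e]
    refine ⟨fun hS => mem_smallEtaleTopology_of_points S fun x => ?_,
      (EtShriek.coverPreserving_compEtale U.hom).cover_preserve⟩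
    obtain ⟨W, b, ⟨V', g', h, hg', rfl⟩, w, hw⟩ := exists_mem_of_covering hS x
    exact ⟨V', g', h.left w, hg', etale_map_left g', hw⟩

/-- Sheaves on the localised site are sheaves on the small étale site. -/
noncomputable abbrev overRestr :
    Sheaf (X.smallEtaleTopology.over U) AddCommGrpCat.{u + 1} ⥤ EtCoh.Ab U.left :=
  (overEtale U).sheafPushforwardContinuous AddCommGrpCat.{u + 1} U.left.smallEtaleTopology
    (X.smallEtaleTopology.over U)

/-- `F|_U` on either site. -/
noncomputable def overRestrRestrIso :
    X.smallEtaleTopology.overPullback AddCommGrpCat.{u + 1} U ⋙ overRestr U ≅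
      @EtShriek.restrAlong _ _ U.hom (etale_structureHom U) (jCont_structureHom U) :=
  haveI := Functor.isContinuous_comp (overEtale U) (Over.forget U) U.left.smallEtaleTopology
    (X.smallEtaleTopology.over U) X.smallEtaleTopology
  Functor.sheafPushforwardContinuousComp _ _ _ _ _ _

/-- Constant sheaves on either site. -/
noncomputable def overRestrConstIso :
    constantSheaf (X.smallEtaleTopology.over U) AddCommGrpCat.{u + 1} ⋙ overRestr U ≅
      constantSheaf U.left.smallEtaleTopology AddCommGrpCat.{u + 1} :=
  (equivCommuteConstant' U.left.smallEtaleTopology AddCommGrpCat.{u + 1}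
    (X.smallEtaleTopology.over U) (overEtale U) (EtCore.topIsTerminal U.left)
    ((EtCore.topIsTerminal U.left).isTerminalObj (overEtale U))).symm

instance : (overRestr U).IsEquivalence :=
  (Functor.IsDenseSubsite.sheafEquiv U.left.smallEtaleTopology (X.smallEtaleTopology.over U)
    (overEtale U) AddCommGrpCat.{u + 1}).isEquivalence_inverse

/-- `F|_U` is isomorphic to a constant sheaf iff the inverse image of `F` on `U` is. -/
theorem nonempty_restr_iso_const_iff (F : EtCoh.Ab X) (M : AddCommGrpCat.{u + 1}) :
    Nonempty (EtCoh.restr F U ≅
      (constantSheaf (X.smallEtaleTopology.over U) AddCommGrpCat.{u + 1}).obj M) ↔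
    Nonempty ((EtCoh.pull U.hom).obj F ≅
      (constantSheaf U.left.smallEtaleTopology AddCommGrpCat.{u + 1}).obj M) := by
  let a : (overRestr U).obj (EtCoh.restr F U) ≅ (EtCoh.pull U.hom).obj F :=
    (overRestrRestrIso U).app F ≪≫ (@pullRestrIso _ _ U.hom (etale_structureHom U) (jCont_structureHom U)).symm.app F
  let b := (overRestrConstIso U).app M
  constructor
  · rintro ⟨i⟩
    exact ⟨a.symm ≪≫ (overRestr U).mapIso i ≪≫ b⟩
  · rintro ⟨i⟩
    exact ⟨(overRestr U).preimageIso (a ≪≫ i ≪≫ b.symm)⟩

/-- The criterion for finite locally constant sheaves by inverse images. -/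
theorem isFiniteLocallyConstant_iff (F : EtCoh.Ab X) :
    EtCoh.IsFiniteLocallyConstant F ↔
      ∃ (ι : Type u) (U : ι → X.Etale), EtCoh.Covers U ∧ ∀ i, ∃ (M : Type) (_ : AddCommGroup M)
        (_ : Finite M), Nonempty ((EtCoh.pull (U i).hom).obj F ≅ EtCoh.const (U i).left M) := by
  refine exists_congr fun ι => exists_congr fun U => and_congr_right fun _ => forall_congr' fun i => ?_
  exact exists_congr fun M => exists_congr fun _ => exists_congr fun _ =>
    nonempty_restr_iso_const_iff (U i) F _

end Groth.Agent.Et18
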