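import Groth.Agent.Et18.HpullComp

/-!
# The canonical map `Hq(Y, f_* F) → Hq(X, F)` and base change
-/

set_option autoImplicit false
set_option linter.all false
set_option backward.isDefEq.respectTransparency.types false
set_option backward.isDefEq.respectTransparency false
set_option backward.defeqAttrib.useBackward true
set_option synthInstance.maxHeartbeats 400000
set_option maxHeartbeats 1000000

universe u

open CategoryTheory CategoryTheory.Limits CategoryTheory.Abelian AlgebraicGeometry Opposite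
open Groth.Agent.EtLimit Groth.Agent.Et18.HpullComp

namespace Groth.Agent.Et18.HofPushSquare

variable {X Y Z : Scheme.{u}}

theorem hPull_postcomp (f : X ⟶ Y) [PreservesFiniteLimits (EtCoh.pull f)] {F : EtCoh.Ab Y} {M M' : EtCoh.Ab X}
    (α : (EtCoh.pull f).obj F ⟶ M) (m : M ⟶ M') (n : ℕ) (x : EtCoh.H Y F n) :
    (hPull f α n x).comp (Ext.mk₀ m) (add_zero n) = hPull f (α ≫ m) n x := by
  rw [hPull, hPull, extPull_apply, extPull_apply, Ext.comp_assoc_of_third_deg_zero, Ext.mk₀_comp_mk₀]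

theorem hPull_precomp (f : X ⟶ Y) [PreservesFiniteLimits (EtCoh.pull f)] {F F' : EtCoh.Ab Y} {M : EtCoh.Ab X}
    (g : F ⟶ F') (α : (EtCoh.pull f).obj F' ⟶ M) (n : ℕ) (x : EtCoh.H Y F n) :
    hPull f α n (x.comp (Ext.mk₀ g) (add_zero n)) = hPull f ((EtCoh.pull f).map g ≫ α) n x := by
  rw [hPull, hPull, extPull_apply, extPull_apply, Ext.mapExactFunctor_comp, Ext.mapExactFunctor_mk₀]
  simp only [Ext.comp_assoc_of_third_deg_zero, Ext.mk₀_comp_mk₀]

/-- Two-step pullback with a map of coefficients after each step. -/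
theorem hPull_hPull (f : X ⟶ Y) (g : Y ⟶ Z) [PreservesFiniteLimits (EtCoh.pull f)] [PreservesFiniteLimits (EtCoh.pull g)]
    {F : EtCoh.Ab Z} {M : EtCoh.Ab Y} {N : EtCoh.Ab X} (β : (EtCoh.pull g).obj F ⟶ M)
    (α : (EtCoh.pull f).obj M ⟶ N) (n : ℕ) (x : EtCoh.H Z F n) :
    hPull f α n (hPull g β n x) =
      hPull (f ≫ g) ((EtCore.pullComp f g).hom.app F ≫ (EtCoh.pull f).map β ≫ α) n x := by
  have h1 : hPull g β n x = (hPull g (𝟙 _) n x).comp (Ext.mk₀ β) (add_zero n) := by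
    rw [hPull_postcomp, Category.id_comp]
  rw [h1, hPull_precomp, ← hPull_postcomp f (𝟙 _) ((EtCoh.pull f).map β ≫ α) n _ |>.trans
    (congrArg (fun t => hPull f t n (hPull g (𝟙 _) n x)) (Category.id_comp _)), hPull_comp]
  exact hPull_postcomp (f ≫ g) _ _ n x

theorem pushCongr_refl (f : X ⟶ Y) (G : EtCoh.Ab X) : (EtCoh.pushCongr (rfl : f = f)).hom.app G = 𝟙 _ := by
  apply (sheafToPresheaf Y.smallEtaleTopology AddCommGrpCat.{u + 1}).map_injective
  refine NatTrans.ext (funext fun W => ?_)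
  obtain ⟨W⟩ := W
  have h : (MorphismProperty.Over.pullbackCongr (P := EtCoh.etaleMP) (Q := ⊤) (rfl : f = f)).inv.app W = 𝟙 _ := by
    apply MorphismProperty.Over.Hom.ext
    simp [MorphismProperty.Over.pullbackCongr]
  refine Eq.trans ?_ (G.obj.map_id (op ((EtCoh.bc f).obj W)))
  exact congrArg (fun t => G.obj.map t) (congrArg Quiver.Hom.op h)

theorem hPull_congr {a b : X ⟶ Y} (h : a = b) [PreservesFiniteLimits (EtCoh.pull a)] [PreservesFiniteLimits (EtCoh.pull b)]
    {F : EtCoh.Ab Y} {M : EtCoh.Ab X} (α : (EtCoh.pull a).obj F ⟶ M) (β : (EtCoh.pull b).obj F ⟶ M)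
    (hαβ : (EtCoh.pullPushAdj a).homEquiv _ _ α ≫ (EtCoh.pushCongr h).hom.app M =
      (EtCoh.pullPushAdj b).homEquiv _ _ β) (n : ℕ) (x : EtCoh.H Y F n) :
    hPull a α n x = hPull b β n x := by
  subst h
  rw [pushCongr_refl] at hαβ
  erw [Category.comp_id] at hαβ
  rw [((EtCoh.pullPushAdj a).homEquiv _ _).injective hαβ]

variable {X' Y' : Scheme.{u}}

theorem homEquiv_two_step (f : X ⟶ Y) (g : Y ⟶ Z) {F : EtCoh.Ab Z} {M : EtCoh.Ab Y} {N : EtCoh.Ab X}
    (β : (EtCoh.pull g).obj F ⟶ M) (α : (EtCoh.pull f).obj M ⟶ N) :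
    (EtCoh.pullPushAdj (f ≫ g)).homEquiv _ _ ((EtCore.pullComp f g).hom.app F ≫ (EtCoh.pull f).map β ≫ α) =
      ((EtCoh.pullPushAdj g).homEquiv _ _ β ≫ (EtCoh.push g).map ((EtCoh.pullPushAdj f).homEquiv _ _ α)) ≫
        (EtCoh.pushComp g f).hom.app N := by
  rw [Adjunction.homEquiv_naturality_right, homEquiv_pullComp, Category.assoc]
  erw [← (EtCoh.pushComp g f).hom.naturality]
  rw [Adjunction.homEquiv_unit, Adjunction.homEquiv_unit, Category.assoc, Category.assoc, Category.assoc]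
  congr 1
  simp only [Functor.comp_map, ← Functor.map_comp_assoc]
  congr 2
  rw [Functor.map_comp, ← Category.assoc]
  erw [← (EtCoh.pullPushAdj f).unit.naturality]
  rw [Category.assoc]
  rfl

theorem Hpull_HofPush (f : X ⟶ Y) (g : Y' ⟶ Y) (f' : X' ⟶ Y') (g' : X' ⟶ X) (w : g' ≫ f = f' ≫ g)
    (F : EtCoh.Ab X) (q : ℕ)
    [PreservesFiniteLimits (EtCoh.pull f)] [PreservesFiniteLimits (EtCoh.pull g)]
    [PreservesFiniteLimits (EtCoh.pull f')] [PreservesFiniteLimits (EtCoh.pull g')]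
    (ζ : EtCoh.H Y ((EtCoh.push f).obj F) q) :
    EtCore.Hpull g' F q (EtLim.HofPush f F q ζ) =
      EtLim.HofPush f' ((EtCoh.pull g').obj F) q
        (((EtCoh.HF Y' q).map (EtCoh.baseChange0 f g f' g' w F)).hom
          (EtCore.Hpull g ((EtCoh.push f).obj F) q ζ)) := by
  haveI : PreservesFiniteLimits (EtCoh.pull (g' ≫ f)) := inferInstance
  haveI : PreservesFiniteLimits (EtCoh.pull (f' ≫ g)) := inferInstance
  let ε := (EtCoh.pullPushAdj f).counit.app F
  let ε' := (EtCoh.pullPushAdj f').counit.app ((EtCoh.pull g').obj F)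
  let b := EtCoh.baseChange0 f g f' g' w F
  have hL : EtLim.HofPush f F q ζ = hPull f ε q ζ := by
    show (EtCore.Hpull f _ q ζ).comp (Ext.mk₀ ε) (add_zero q) = _
    rw [Hpull_eq_hPull, hPull_postcomp, Category.id_comp]
  have hM : ((EtCoh.HF Y' q).map b).hom (EtCore.Hpull g ((EtCoh.push f).obj F) q ζ) = hPull g b q ζ := by
    show (EtCore.Hpull g _ q ζ).comp (Ext.mk₀ b) (add_zero q) = _
    rw [Hpull_eq_hPull, hPull_postcomp, Category.id_comp]
  have hR : ∀ y, EtLim.HofPush f' ((EtCoh.pull g').obj F) q y = hPull f' ε' q y := fun y => by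
    show (EtCore.Hpull f' _ q y).comp (Ext.mk₀ ε') (add_zero q) = _
    rw [Hpull_eq_hPull, hPull_postcomp, Category.id_comp]
  rw [hM, hR, hL, Hpull_eq_hPull]
  refine (hPull_hPull g' f ε (𝟙 _) q ζ).trans (Eq.trans ?_ (hPull_hPull f' g b ε' q ζ).symm)
  refine hPull_congr w _ _ ?_ q ζ
  rw [homEquiv_two_step, homEquiv_two_step]
  have h1 : (EtCoh.pullPushAdj f).homEquiv _ _ ε = 𝟙 _ := by
    rw [Adjunction.homEquiv_unit]; exact (EtCoh.pullPushAdj f).right_triangle_components F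
  have h2 : (EtCoh.pullPushAdj f').homEquiv _ _ ε' = 𝟙 _ := by
    rw [Adjunction.homEquiv_unit]; exact (EtCoh.pullPushAdj f').right_triangle_components _
  have h3 : (EtCoh.pullPushAdj g).homEquiv _ _ b = _ := Equiv.apply_symm_apply _ _
  erw [h1, h2, h3]
  erw [CategoryTheory.Functor.map_id, Category.comp_id, Category.id_comp, Adjunction.homEquiv_unit,
    CategoryTheory.Functor.map_id, Category.comp_id]
  simp only [Category.assoc]
  congr 2
  rw [← Category.assoc]
  exact (Category.assoc _ _ _).trans ((congrArg (fun t => (EtCoh.pushCongr w).hom.app _ ≫ t)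
    (Iso.inv_hom_id_app (EtCoh.pushComp g f') ((EtCoh.pull g').obj F))).trans (Category.comp_id _)) |>.symm

end Groth.Agent.Et18.HofPushSquare
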