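import Groth.Agent.Et18.Strata
import Groth.Agent.Et18.GermBasics
import Groth.Agent.H8ProCons.ConsTopology

/-!
# Constructible sheaves: kernels, extensions, supports, coverings by strata
-/

universe u

open CategoryTheory CategoryTheory.Limits AlgebraicGeometry Opposite Topology

set_option backward.isDefEq.respectTransparency.types false
set_option backward.isDefEq.respectTransparency false

namespace Groth.Agent.Et18

variable {X Y : Scheme.{u}}

/-- Common refinement of two stratifications. -/
theorem Stratified.exists_common {F G : EtCoh.Ab X} {S : Set X} (hF : Stratified F S)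
    (hG : Stratified G S) :
    ∃ (ι : Type) (_ : Finite ι) (T : ι → Scheme.{u}) (g : ∀ i, T i ⟶ X),
      (∀ i, IsImmersion (g i)) ∧ (∀ i, IsLocallyConstructible (Set.range (g i))) ∧
      Pairwise (fun i j => Disjoint (Set.range (g i)) (Set.range (g j))) ∧
      (⋃ i, Set.range (g i)) = S ∧
      ∀ i, EtCoh.IsFiniteLocallyConstant ((EtCoh.pull (g i)).obj F) ∧
        EtCoh.IsFiniteLocallyConstant ((EtCoh.pull (g i)).obj G) := by
  obtain ⟨ι, hι, T, g, hg, hc, hd, hu, hF⟩ := hF
  obtain ⟨κ, hκ, W, k, hk, hc', hd', hu', hG⟩ := hG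
  have hr : ∀ p : ι × κ, Set.range (pullback.fst (g p.1) (k p.2) ≫ g p.1) =
      Set.range (g p.1) ∩ Set.range (k p.2) := fun p => by
    rw [Scheme.Hom.comp_base, TopCat.coe_comp, Set.range_comp, Scheme.Pullback.range_fst,
      Set.image_preimage_eq_inter_range, Set.inter_comm]
  refine ⟨ι × κ, inferInstance, fun p => pullback (g p.1) (k p.2),
    fun p => pullback.fst (g p.1) (k p.2) ≫ g p.1, fun p => inferInstance, fun p => ?_,
    fun p q hpq => ?_, ?_, fun p => ⟨isFLC_pull_comp (hF _) _, ?_⟩⟩
  · rw [hr]; exact (hc _).inter (hc' _)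
  · show Disjoint (Set.range (pullback.fst (g p.1) (k p.2) ≫ g p.1))
      (Set.range (pullback.fst (g q.1) (k q.2) ≫ g q.1))
    rw [hr, hr]
    by_cases h : p.1 = q.1
    · exact (hd' fun h' => hpq (Prod.ext h h')).mono Set.inter_subset_right Set.inter_subset_right
    · exact (hd h).mono Set.inter_subset_left Set.inter_subset_left
  · simp only [hr]
    rw [Set.iUnion_prod', ← Set.inter_self S]
    nth_rw 1 [← hu]
    rw [← hu', Set.iUnion_inter_iUnion]
  · exact isFLC_of_iso (isFLC_pull_comp (hG _) (pullback.snd (g p.1) (k p.2)))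
      ((EtCore.pullCongr pullback.condition.symm).app G)

theorem Stratified.kernel_cokernel {F G : EtCoh.Ab X} {S : Set X} (φ : F ⟶ G)
    (hF : Stratified F S) (hG : Stratified G S) :
    Stratified (kernel φ) S ∧ Stratified (cokernel φ) S := by
  obtain ⟨ι, hι, T, g, hg, hc, hd, hu, h⟩ := hF.exists_common hG
  constructor
  · exact ⟨ι, hι, T, g, hg, hc, hd, hu, fun i =>
      isFLC_of_iso (isFLC_kernel_cokernel _ (h i).1 (h i).2).1
        (PreservesKernel.iso (EtCoh.pull (g i)) φ).symm⟩
  · exact ⟨ι, hι, T, g, hg, hc, hd, hu, fun i =>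
      isFLC_of_iso (isFLC_kernel_cokernel _ (h i).1 (h i).2).2
        (PreservesCokernel.iso (EtCoh.pull (g i)) φ).symm⟩

theorem Stratified.extension {S : ShortComplex (EtCoh.Ab X)} (hS : S.ShortExact) {Z : Set X}
    (h1 : Stratified S.X₁ Z) (h3 : Stratified S.X₃ Z) : Stratified S.X₂ Z := by
  obtain ⟨ι, hι, T, g, hg, hc, hd, hu, h⟩ := h1.exists_common h3
  exact ⟨ι, hι, T, g, hg, hc, hd, hu, fun i =>
    isFLC_extension (hS.map_of_exact (EtCoh.pull (g i))) (h i).1 (h i).2⟩

theorem isConstructible_kernel_cokernel {F G : EtCoh.Ab X} (φ : F ⟶ G)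
    (hF : EtPBC.IsConstructible F) (hG : EtPBC.IsConstructible G) :
    EtPBC.IsConstructible (kernel φ) ∧ EtPBC.IsConstructible (cokernel φ) := by
  rw [isConstructible_iff_affine] at hF hG
  simp only [isConstructible_iff_affine]
  have key := fun (U : X.Opens) hU =>
    Stratified.kernel_cokernel ((EtCoh.pull U.ι).map φ) (hF U hU) (hG U hU)
  exact ⟨fun U hU => (key U hU).1.of_iso (PreservesKernel.iso (EtCoh.pull U.ι) φ).symm,
    fun U hU => (key U hU).2.of_iso (PreservesCokernel.iso (EtCoh.pull U.ι) φ).symm⟩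

theorem isConstructible_extension {S : ShortComplex (EtCoh.Ab X)} (hS : S.ShortExact)
    (h1 : EtPBC.IsConstructible S.X₁) (h3 : EtPBC.IsConstructible S.X₃) :
    EtPBC.IsConstructible S.X₂ := by
  rw [isConstructible_iff_affine] at h1 h3 ⊢
  exact fun U hU => Stratified.extension (hS.map_of_exact (EtCoh.pull U.ι)) (h1 U hU) (h3 U hU)

/-- The support can be computed at any geometric point. -/
lemma mem_supp_iff (F : EtCoh.Ab X) {Ω : Type u} [Field Ω] [IsSepClosed Ω]
    (ξ : Spec (CommRingCat.of Ω) ⟶ X) {x : X} (hx : ξ default = x) :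
    x ∈ EtPBC.supp F ↔ ¬ IsZero ((EtCoh.stalk ξ).obj F) := by
  constructor
  · rw [supp_eq_union]
    simp only [Set.mem_iUnion, Set.mem_image]
    rintro ⟨U, σ, y, hy, rfl⟩ h0
    obtain ⟨v, rfl⟩ := exists_fiber_point ξ U y hx.symm
    exact not_mem_sectSupp_of_germ_eq_zero F ξ U σ v
      ((AddCommGrpCat.subsingleton_of_isZero h0).elim _ _) hy
  · refine fun h => ⟨Ω, inferInstance, inferInstance, ξ, ?_, h⟩
    refine Set.eq_singleton_iff_unique_mem.mpr ⟨⟨default, hx⟩, ?_⟩
    rintro _ ⟨p, rfl⟩
    rw [Subsingleton.elim p default, hx]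

lemma supp_pull (f : X ⟶ Y) (F : EtCoh.Ab Y) :
    EtPBC.supp ((EtCoh.pull f).obj F) = f ⁻¹' EtPBC.supp F := by
  ext x
  rw [Set.mem_preimage, mem_supp_iff _ (sepPoint X x) (sepPoint_default X x),
    mem_supp_iff F (sepPoint X x ≫ f) (show f (sepPoint X x default) = f x by rw [sepPoint_default])]
  exact not_congr ((stalkPullIso f (sepPoint X x)).app F).isZero_iff

/-- The support of a finite locally constant sheaf is open and closed. -/
theorem isClopen_supp_of_isFLC {F : EtCoh.Ab X} (h : EtCoh.IsFiniteLocallyConstant F) :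
    IsClopen (EtPBC.supp F) := by
  have hloc : ∀ x : X, ∃ O : Set X, IsOpen O ∧ x ∈ O ∧
      ∀ x' ∈ O, x' ∈ EtPBC.supp F ↔ x ∈ EtPBC.supp F := fun x => by
    obtain ⟨U, y, A, hy, -, hU⟩ := isFLC_iff.mp h x
    haveI : Etale U.hom := U.prop
    refine ⟨Set.range U.hom, U.hom.isOpenMap.isOpen_range, ⟨y, hy⟩, ?_⟩
    have key : ∀ (z : X) (t : U.left), U.hom t = z → (z ∈ EtPBC.supp F ↔ ¬ IsZero A) := fun z t ht => by
      rw [mem_supp_iff F (sepPoint X z) (sepPoint_default X z)]
      obtain ⟨e⟩ := nonempty_stalk_iso' hU (sepPoint X z) t (ht.trans (sepPoint_default X z).symm)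
      exact not_congr e.isZero_iff
    rintro x' ⟨t, ht⟩
    exact (key x' t ht).trans (key x y hy).symm
  refine ⟨⟨isOpen_iff_forall_mem_open.mpr fun x hx => ?_⟩, isOpen_iff_forall_mem_open.mpr fun x hx => ?_⟩
  all_goals obtain ⟨O, hO, hxO, hiff⟩ := hloc x
  · exact ⟨O, fun x' hx' hs => hx ((hiff x' hx').mp hs), hO, hxO⟩
  · exact ⟨O, fun x' hx' => (hiff x' hx').mpr hx, hO, hxO⟩

lemma isLocallyConstructible_of_isClopen {Z : Type*} [TopologicalSpace Z] {s : Set Z}
    (hs : IsClopen s) : IsLocallyConstructible s := fun x => by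
  by_cases hx : x ∈ s
  · refine ⟨s, hs.2.mem_nhds hx, hs.2, ?_⟩
    convert IsConstructible.univ
    exact Set.eq_univ_of_forall fun y => y.2
  · refine ⟨sᶜ, hs.1.isOpen_compl.mem_nhds hx, hs.1.isOpen_compl, ?_⟩
    convert IsConstructible.empty
    exact Set.eq_empty_of_forall_notMem fun y hy => y.2 hy

theorem Stratified.isLocallyConstructible_supp [CompactSpace X] [QuasiSeparatedSpace X]
    {F : EtCoh.Ab X} (h : Stratified F Set.univ) : IsLocallyConstructible (EtPBC.supp F) := by
  obtain ⟨ι, hι, T, g, hg, hc, hd, hu, hF⟩ := h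
  have : EtPBC.supp F = ⋃ i, g i '' EtPBC.supp ((EtCoh.pull (g i)).obj F) := by
    simp only [supp_pull, Set.image_preimage_eq_inter_range]
    rw [← Set.inter_iUnion, hu, Set.inter_univ]
  rw [this]
  exact IsLocallyConstructible.iUnion fun i =>
    isLocallyConstructible_image (g i) (hc i)
      (isLocallyConstructible_of_isClopen (isClopen_supp_of_isFLC (hF i)))

theorem isLocallyConstructible_supp {F : EtCoh.Ab X} (hF : EtPBC.IsConstructible F) :
    IsLocallyConstructible (EtPBC.supp F) := by
  refine IsLocallyConstructible.of_isOpenCover (U := fun U : X.affineOpens => U.1)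
    (iSup_affineOpens_eq_top X) fun U => ?_
  have := (qcqs_of_isAffineOpen U.2).1
  have := (qcqs_of_isAffineOpen U.2).2
  have h := ((isConstructible_iff_affine F).mp hF U.1 U.2).isLocallyConstructible_supp
  rw [supp_pull] at h
  exact h

lemma stratified_empty (F : EtCoh.Ab X) : Stratified F (∅ : Set X) :=
  ⟨Empty, inferInstance, fun e => e.elim, fun e => e.elim, fun e => e.elim, fun e => e.elim,
    fun e => e.elim, Set.iUnion_of_empty _, fun e => e.elim⟩

/-- Constructibility can be checked on a covering by constructible strata. -/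
theorem isConstructible_of_immersions [CompactSpace X] [QuasiSeparatedSpace X] {F : EtCoh.Ab X}
    {ι : Type*} (T : ι → Scheme.{u}) (g : ∀ i, T i ⟶ X) [∀ i, IsImmersion (g i)]
    (hc : ∀ i, IsConstructible (Set.range (g i))) (hcov : (⋃ i, Set.range (g i)) = Set.univ)
    (h : ∀ i, EtPBC.IsConstructible ((EtCoh.pull (g i)).obj F)) : EtPBC.IsConstructible F := by
  classical
  obtain ⟨t, ht⟩ := @IsCompact.elim_finite_subcover X (constructibleTopology X) Set.univ ι
    (H8ProCons.isCompact_cons (@isClosed_univ X (constructibleTopology X)))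
    (fun i => Set.range (g i)) (fun i => H8ProCons.isOpen_cons_of_isConstructible (hc i)) hcov.ge
  let e := t.equivFin
  obtain ⟨I, _, _, S, hS, hSu, hSd, -, hST⟩ :=
    H8Top.exists_stratification (fun k => Set.range (g (e.symm k).1)) (fun k => hc _)
  rw [isConstructible_iff_stratified, ← hSu]
  refine Stratified.iUnion (fun i j hij => hSd i j hij) fun i => ?_
  rcases Set.eq_empty_or_nonempty (S i) with hemp | ⟨x, hx⟩
  · rw [hemp]; exact stratified_empty F
  · obtain ⟨j, hj, hxj⟩ := Set.mem_iUnion₂.mp (ht (Set.mem_univ x))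
    have hsub : S i ⊆ Set.range (g j) := by
      have := hST i (e ⟨j, hj⟩) ⟨x, hx, by rw [e.symm_apply_apply]; exact hxj⟩
      rwa [e.symm_apply_apply] at this
    haveI : CompactSpace (T j) := ⟨by
      rw [(g j).isEmbedding.isCompact_iff, Set.image_univ]
      exact H8Lim.isCompact_of_isLocallyConstructible (hc j).isLocallyConstructible⟩
    haveI : QuasiSeparatedSpace (T j) := quasiSeparatedSpace_of_quasiSeparated (g j)
    have hj' := ((isConstructible_iff_stratified _).mp (h j)).image (g j) (hc j).isLocallyConstructible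
    rw [Set.image_univ] at hj'
    have := hj'.inter (hS i).1 (hS i).2.isLocallyConstructible
    rwa [Set.inter_eq_right.mpr hsub] at this

end Groth.Agent.Et18
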