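import Groth.Agent.Et18.GermBasics
import Groth.Prelude.Def_EtCore
import Groth.Prelude.Def_EtAcyc
import Mathlib.Algebra.Homology.DerivedCategory.Ext.Map
import Mathlib.Algebra.Homology.DerivedCategory.Ext.ExactSequences

/-!
# Pullback on cohomology and long exact sequences
-/

set_option autoImplicit false
set_option backward.isDefEq.respectTransparency.types false
set_option backward.isDefEq.respectTransparency false

universe w w' v v' u u'

open CategoryTheory CategoryTheory.Limits Abelian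

namespace Groth.Agent.Et18.HpullExact

variable {C : Type u} [Category.{v} C] [Abelian C] [HasExt.{w} C]
  {D : Type u'} [Category.{v'} D] [Abelian D] [HasExt.{w'} D]
  (P : C ⥤ D) [P.Additive] [PreservesFiniteLimits P] [PreservesFiniteColimits P]
  {c : C} {d : D} (φ : d ⟶ P.obj c)

/-- An exact functor on classes, followed by restriction along a map into the image. -/
noncomputable def pullExt {G : C} {n : ℕ} (e : Ext c G n) : Ext d (P.obj G) n :=
  (Ext.mk₀ φ).comp (e.mapExactFunctor P) (zero_add n)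

theorem pullExt_comp {G G' : C} {a b m : ℕ} (e : Ext c G a) (β : Ext G G' b) (h : a + b = m) :
    pullExt P φ (e.comp β h) = (pullExt P φ e).comp (β.mapExactFunctor P) h := by
  rw [pullExt, pullExt, Ext.mapExactFunctor_comp,
    Ext.comp_assoc (Ext.mk₀ φ) _ _ (zero_add a) h (by omega)]

/-- The image criterion from a short exact sequence. -/
theorem mem_range_of_shortExact {S : ShortComplex C} (hS : S.ShortExact) {n : ℕ}
    (hbij : Function.Surjective (pullExt P φ : Ext c S.X₃ n → Ext d (P.obj S.X₃) n))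
    (hinj : ∀ z : Ext c S.X₃ (n + 1), pullExt P φ z = 0 → z = 0)
    (hadd : ∀ a b : Ext c S.X₁ (n + 1), pullExt P φ (a + b) = pullExt P φ a + pullExt P φ b)
    (ξ : Ext d (P.obj S.X₁) (n + 1)) (η : Ext c S.X₂ (n + 1))
    (hξ : pullExt P φ η = ξ.comp (Ext.mk₀ (P.map S.f)) (add_zero _)) :
    ∃ η₀ : Ext c S.X₁ (n + 1), pullExt P φ η₀ = ξ := by
  have hT := hS.map_of_exact P
  obtain ⟨η₁, hη₁⟩ := Ext.covariant_sequence_exact₂ c hS η (hinj _ (by
    rw [pullExt_comp, hξ, Ext.mapExactFunctor_mk₀, Ext.comp_assoc_of_third_deg_zero, Ext.mk₀_comp_mk₀,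
      ← P.map_comp, S.zero, P.map_zero, Ext.mk₀_zero, Ext.comp_zero]))
  obtain ⟨θ, hθ⟩ := Ext.covariant_sequence_exact₁ (S := S.map P) d hT (ξ - pullExt P φ η₁) (by
    rw [sub_eq_add_neg, Ext.add_comp, Ext.neg_comp, ← sub_eq_add_neg, sub_eq_zero]
    change ξ.comp (Ext.mk₀ (P.map S.f)) _ = (pullExt P φ η₁).comp (Ext.mk₀ (P.map S.f)) _
    rw [← hξ, ← hη₁, pullExt_comp, Ext.mapExactFunctor_mk₀]) rfl
  obtain ⟨θ', hθ'⟩ := hbij θ
  refine ⟨η₁ + θ'.comp hS.extClass rfl, ?_⟩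
  rw [hadd, pullExt_comp, Ext.mapExactFunctor_extClass, hθ']
  rw [show θ.comp (hS.map_of_exact P).extClass rfl = ξ - pullExt P φ η₁ from hθ]
  abel

end Groth.Agent.Et18.HpullExact

namespace Groth.Agent.Et18

open AlgebraicGeometry Opposite

universe u₁

variable {X Y : Scheme.{u₁}}

theorem HF_map_apply (n : ℕ) {F G : EtCoh.Ab Y} (a : F ⟶ G) (z : EtCoh.H Y F n) :
    (EtCoh.HF Y n).map a z = z.comp (Abelian.Ext.mk₀ a) (add_zero n) := rfl

theorem isLTorsion_of_epi (L : Set ℕ) {F G : EtCoh.Ab X} (φ : F ⟶ G) [Epi φ]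
    (hF : EtAcyc.IsLTorsion L F) : EtAcyc.IsLTorsion L G := by
  rw [isLTorsion_iff_stalks] at hF ⊢
  intro Ω _ _ ξ t
  have : Epi ((EtCoh.stalk ξ).map φ) := inferInstance
  obtain ⟨s, rfl⟩ := (AddCommGrpCat.epi_iff_surjective _).1 this t
  obtain ⟨m, hm, h0⟩ := hF Ω ξ s
  exact ⟨m, hm, by rw [← map_nsmul, h0, map_zero]⟩

/-- A class comes from the base if its image in a larger torsion sheaf does. -/
theorem mem_range_Hpull_of_mono (h : Y ⟶ X) [PreservesFiniteLimits (EtCoh.pull h)] (L : Set ℕ) (n : ℕ)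
    (hc : EtAcyc.CompN h L n) {F G : EtCoh.Ab X} (u : F ⟶ G) [Mono u] (hG : EtAcyc.IsLTorsion L G)
    (ξ : EtCoh.H Y ((EtCoh.pull h).obj F) (n + 1))
    (hξ : (EtCoh.HF Y (n + 1)).map ((EtCoh.pull h).map u) ξ ∈ Set.range (EtCore.Hpull h G (n + 1))) :
    ξ ∈ Set.range (EtCore.Hpull h F (n + 1)) := by
  obtain ⟨η, hη⟩ := hξ
  let S := ShortComplex.mk u (cokernel.π u) (cokernel.condition u)
  have hS : S.ShortExact :=
    { exact := ShortComplex.exact_of_g_is_cokernel S (cokernelIsCokernel u) }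
  obtain ⟨hb, hi⟩ := hc S.X₃ (isLTorsion_of_epi L (cokernel.π u) hG)
  obtain ⟨η₀, hη₀⟩ := HpullExact.mem_range_of_shortExact (EtCoh.pull h) (EtCore.pullConst h ℤ).inv hS
    (hb n le_rfl).2 (fun z hz => hi (hz.trans (map_zero (EtCore.Hpull h S.X₃ (n + 1))).symm))
    (fun a b => map_add (EtCore.Hpull h S.X₁ (n + 1)) a b) ξ η (hη.trans (HF_map_apply _ _ _))
  exact ⟨η₀, hη₀⟩

end Groth.Agent.Et18
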