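import Groth.Agent.Et18.FiniteEtaleTrace
import Groth.Agent.Et18.FinitePush
import Groth.Agent.Et18.HpullExact
import Groth.Agent.SiteCoh.ExtAdj
import Groth.Agent.Et18.JCont

/-!
# Finite étale covers of degree prime to the coefficients
-/

set_option autoImplicit false
set_option linter.all false
set_option backward.isDefEq.respectTransparency.types false
set_option backward.isDefEq.respectTransparency false
set_option backward.defeqAttrib.useBackward true

universe u

open CategoryTheory CategoryTheory.Limits CategoryTheory.Abelian AlgebraicGeometry Opposite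

namespace Groth.Agent.Et18

variable {X X' : Scheme.{u}}

theorem isIso_nsmul_of_isLTorsion (L : Set ℕ) (F : EtCoh.Ab X) (hF : EtAcyc.IsLTorsion L F) (d : ℕ)
    (hL : ∀ p : ℕ, p.Prime → p ∈ L → ¬ p ∣ d) : IsIso (d • 𝟙 F) := by
  refine isIso_of_stalks _ fun x => ?_
  haveI : (EtCoh.stalk (sepPoint X x)).Additive := Functor.additive_of_preserves_binary_products _
  rw [ConcreteCategory.isIso_iff_bijective, Functor.map_nsmul, CategoryTheory.Functor.map_id]
  change Function.Bijective fun t : (EtCoh.stalk (sepPoint X x)).obj F => d • t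
  have key : ∀ t : (EtCoh.stalk (sepPoint X x)).obj F, ∃ m : ℕ, Nat.Coprime d m ∧ m • t = 0 := fun t => by
    obtain ⟨m, hm, h0⟩ := (isLTorsion_iff_stalks F L).1 hF _ (sepPoint X x) t
    exact ⟨m, Nat.coprime_of_dvd fun p hp hpd hpm => hL p hp (hm.2 p hp hpm) hpd, h0⟩
  have hint : ∀ (t : (EtCoh.stalk (sepPoint X x)).obj F) (m : ℕ), Nat.Coprime d m → m • t = 0 →
      (Nat.gcdA d m) • (d • t) = t := fun t m hc h0 => by
    have h := Nat.gcd_eq_gcd_ab d m
    rw [hc.gcd_eq_one, Nat.cast_one] at h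
    calc Nat.gcdA d m • (d • t) = ((d : ℤ) * Nat.gcdA d m) • t := by
            rw [mul_comm, mul_smul, natCast_zsmul]
      _ = ((d : ℤ) * Nat.gcdA d m + (m : ℤ) * Nat.gcdB d m) • t := by
            rw [add_smul, mul_comm (m : ℤ), mul_smul (Nat.gcdB d m), natCast_zsmul, h0, smul_zero, add_zero]
      _ = t := by rw [← h, one_smul]
  refine ⟨fun a b hab => ?_, fun t => ?_⟩
  · obtain ⟨m, hc, h0⟩ := key (a - b)
    rw [← sub_eq_zero, ← hint (a - b) m hc h0, smul_sub, show d • a = d • b from hab, sub_self, smul_zero]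
  · obtain ⟨m, hc, h0⟩ := key t
    exact ⟨Nat.gcdA d m • t, (smul_comm _ _ t).trans (hint t m hc h0)⟩

theorem subsingleton_H_of_finite_etale (f : X' ⟶ X) [IsFinite f] [Etale f]
    (d : ℕ) (hd : ∀ (Ω : Type u) [Field Ω] [IsSepClosed Ω] (ξ : Spec (CommRingCat.of Ω) ⟶ X),
      Nat.card ↥(pullback f ξ) = d)
    (L : Set ℕ) (hL : ∀ p : ℕ, p.Prime → p ∈ L → ¬ p ∣ d) (F : EtCoh.Ab X) (hF : EtAcyc.IsLTorsion L F)
    [PreservesFiniteLimits (EtCoh.pull f)] (q : ℕ)
    (h : Subsingleton (EtCoh.H X' ((EtCoh.pull f).obj F) q)) :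
    Subsingleton (EtCoh.H X F q) := by
  haveI : EtShriek.JCont f := jCont f
  have hd' : ∀ x : X, f.finrank x = d := fun x => by
    have := (card_pointLift f (sepPoint X x)).2.2
    rw [hd] at this
    rw [this, sepPoint_default]
  have := push_preservesHomology_of_integral f
  haveI : PreservesFiniteColimits (EtCoh.push f) := (EtCoh.push f).preservesFiniteColimits_of_preservesHomology
  haveI : (EtCoh.pull f).PreservesMonomorphisms := inferInstance
  let adj := EtCoh.pullPushAdj f
  obtain ⟨e⟩ := SiteCoh.extAdjEquiv_of_exact adj ((EtCoh.pull f).obj F) (EtCoh.const X ℤ) q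
  have hP : Subsingleton (EtCoh.H X ((EtCoh.push f).obj ((EtCoh.pull f).obj F)) q) := by
    refine ⟨fun a b => e.injective ?_⟩
    let c := EtCore.pullConst f ℤ
    have key : ∀ y : Ext.{u + 1} ((EtCoh.pull f).obj (EtCoh.const X ℤ)) ((EtCoh.pull f).obj F) q, y = 0 := fun y => by
      have h0 : (Ext.mk₀ c.inv).comp y (zero_add q) = 0 := @Subsingleton.elim _ h _ _
      have h1 := congrArg (fun w => (Ext.mk₀ c.hom).comp w (zero_add q)) h0
      simp only [Ext.mk₀_comp_mk₀_assoc, Iso.hom_inv_id, Ext.comp_zero] at h1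
      exact (Ext.mk₀_id_comp y).symm.trans h1
    exact (key _).trans (key _).symm
  haveI := isIso_nsmul_of_isLTorsion L F hF d hL
  refine ⟨fun a b => ?_⟩
  have key : ∀ z : EtCoh.H X F q, z = 0 := fun z => by
    have h1 := unit_trace f d hd' F
    let u := (EtCoh.pullPushAdj f).unit.app F
    let tr := (pushPullAdj f).counit.app F
    have h2 : (z.comp (Ext.mk₀ u) (add_zero q)).comp (Ext.mk₀ tr) (add_zero q) =
        z.comp (Ext.mk₀ (d • 𝟙 F)) (add_zero q) := by
      rw [Ext.comp_assoc_of_second_deg_zero, Ext.mk₀_comp_mk₀]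
      exact congrArg (fun k => z.comp (Ext.mk₀ k) (add_zero q)) h1
    rw [show z.comp (Ext.mk₀ u) (add_zero q) = 0 from @Subsingleton.elim _ hP _ _, Ext.zero_comp] at h2
    have h3 := congrArg (fun w => Ext.comp w (Ext.mk₀ (inv (d • 𝟙 F))) (add_zero q)) h2.symm
    simp only [Ext.comp_assoc_of_second_deg_zero, Ext.mk₀_comp_mk₀, IsIso.hom_inv_id, Ext.zero_comp] at h3
    exact (Ext.comp_mk₀_id z).symm.trans h3
  exact (key a).trans (key b).symm

end Groth.Agent.Et18
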