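import Groth.Agent.Et18.SmallSiteBasics
import Groth.Prelude.Def_EtBase
import Mathlib.CategoryTheory.Sites.LocallyBijective
import Mathlib.AlgebraicGeometry.Morphisms.QuasiSeparated

/-!
# Sections of filtered colimits over quasi-compact quasi-separated objects
-/

universe v w u

open CategoryTheory CategoryTheory.Limits AlgebraicGeometry Opposite

set_option backward.isDefEq.respectTransparency.types false
set_option backward.isDefEq.respectTransparency false

namespace Groth.Agent.Et18

variable {X : Scheme.{u}} {I : Type w} [Category.{v} I] [IsFiltered I]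

/-- The points of an object are reached by the members of a covering sieve. -/
lemma exists_mem_sieve_point {W : X.Etale} {R : Sieve W} (hR : R ∈ X.smallEtaleTopology W) (x : W.left) :
    ∃ (Z : X.Etale) (f : Z ⟶ W), R f ∧ x ∈ Set.range f.left := by
  have e : Sieve.ofArrows (fun p : Σ Z : X.Etale, {f : Z ⟶ W // R f} => p.1) (fun p => p.2.1) = R := by
    ext Z f
    rw [Sieve.mem_ofArrows_iff]
    exact ⟨fun ⟨p, a, h⟩ => h ▸ R.downward_closed p.2.2 a, fun h => ⟨⟨Z, f, h⟩, 𝟙 _, (Category.id_comp f).symm⟩⟩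
  have h := (Scheme.ofArrows_mem_smallEtaleTopology_iff _).mp (e.symm ▸ hR :
    Sieve.ofArrows (fun p : Σ Z : X.Etale, {f : Z ⟶ W // R f} => p.1) (fun p => p.2.1) ∈ X.smallEtaleTopology W)
  obtain ⟨p, hp⟩ := Set.mem_iUnion.mp (h.symm ▸ Set.mem_univ x :
    x ∈ ⋃ p : Σ Z : X.Etale, {f : Z ⟶ W // R f}, Set.range p.2.1.left)
  exact ⟨p.1, p.2.1, p.2.2, hp⟩

/-- Finitely many attainable upward closed conditions are attained at a common stage. -/
lemma exists_stage {κ : Type*} [Finite κ] {j : I} (Q : κ → ∀ k : I, (j ⟶ k) → Prop)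
    (hmono : ∀ i k (a : j ⟶ k) l (b : k ⟶ l), Q i k a → Q i l (a ≫ b))
    (h : ∀ i, ∃ k a, Q i k a) : ∃ k a, ∀ i, Q i k a := by
  classical
  cases nonempty_fintype κ
  suffices H : ∀ t : Finset κ, ∃ k a, ∀ i ∈ t, Q i k a by
    obtain ⟨k, a, hk⟩ := H Finset.univ
    exact ⟨k, a, fun i => hk i (Finset.mem_univ i)⟩
  intro t
  induction t using Finset.induction_on with
  | empty => exact ⟨j, 𝟙 j, by simp⟩
  | insert i t _ ih =>
    obtain ⟨k₁, a₁, h₁⟩ := ih
    obtain ⟨k₂, a₂, h₂⟩ := h i
    obtain ⟨l, b₁, b₂, hb⟩ := IsFiltered.span a₁ a₂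
    refine ⟨l, a₁ ≫ b₁, fun i' hi' => ?_⟩
    rcases Finset.mem_insert.mp hi' with rfl | hi'
    · exact hb ▸ hmono _ _ _ _ b₂ h₂
    · exact hmono _ _ _ _ b₁ (h₁ _ hi')

/-- A cocone of presheaves of sets on the small étale site which is locally a colimit. -/
structure IsLocColim {P : I ⥤ X.Etaleᵒᵖ ⥤ Type (u + 1)} (t : Cocone P) : Prop where
  sheaf : ∀ j, Presieve.IsSheaf X.smallEtaleTopology (P.obj j)
  sheafPt : Presieve.IsSheaf X.smallEtaleTopology t.pt
  locSurj : ∀ (U : X.Etale) (σ : t.pt.obj (op U)) (x : U.left), ∃ (V : X.Etale) (f : V ⟶ U),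
    x ∈ Set.range f.left ∧ ∃ (j : I) (s : (P.obj j).obj (op V)), (t.ι.app j).app (op V) s = t.pt.map f.op σ
  locInj : ∀ (U : X.Etale) (j : I) (s s' : (P.obj j).obj (op U)),
    (t.ι.app j).app (op U) s = (t.ι.app j).app (op U) s' → ∀ x : U.left, ∃ (V : X.Etale) (f : V ⟶ U),
      x ∈ Set.range f.left ∧ ∃ (k : I) (a : j ⟶ k),
        (P.map a).app (op V) ((P.obj j).map f.op s) = (P.map a).app (op V) ((P.obj j).map f.op s')

variable {P : I ⥤ X.Etaleᵒᵖ ⥤ Type (u + 1)} {t : Cocone P}

/-- Two sections with equal image agree at a finite stage over a compact object. -/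
theorem IsLocColim.eventually_eq (h : IsLocColim t) (U : X.Etale) [CompactSpace U.left] {j : I}
    (s s' : (P.obj j).obj (op U)) (e : (t.ι.app j).app (op U) s = (t.ι.app j).app (op U) s') :
    ∃ (k : I) (a : j ⟶ k), (P.map a).app (op U) s = (P.map a).app (op U) s' := by
  choose V f hx k₀ a₀ ha₀ using h.locInj U j s s' e
  obtain ⟨T, hT⟩ := isCompact_univ.elim_finite_subcover (fun x => Set.range (f x).left)
    (fun x => haveI := etale_left (f x); (f x).left.isOpenMap.isOpen_range)
    (fun x _ => Set.mem_iUnion.mpr ⟨x, hx x⟩)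
  obtain ⟨k, a, ha⟩ := exists_stage (κ := T) (fun x k a =>
      (P.map a).app (op (V x.1)) ((P.obj j).map (f x.1).op s) =
        (P.map a).app (op (V x.1)) ((P.obj j).map (f x.1).op s'))
    (fun x k a l b hk => by
      simp only [Functor.map_comp, NatTrans.comp_app, types_comp_apply]
      exact congrArg _ hk)
    (fun x => ⟨k₀ x.1, a₀ x.1, ha₀ x.1⟩)
  refine ⟨k, a, ?_⟩
  have hcov : Sieve.ofArrows _ (fun x : T => f x.1) ∈ X.smallEtaleTopology U :=
    (Scheme.ofArrows_mem_smallEtaleTopology_iff _).mpr (Set.eq_univ_of_forall fun y => by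
      obtain ⟨x, hxT, hy⟩ := Set.mem_iUnion₂.mp (hT (Set.mem_univ y))
      exact Set.mem_iUnion.mpr ⟨⟨x, hxT⟩, hy⟩)
  have hsep := ((Presieve.isSheafFor_iff_generate _).mpr (h.sheaf k _ hcov)).isSeparatedFor
  refine hsep.ext fun Z g hg => ?_
  obtain ⟨x⟩ := hg
  rw [← NatTrans.naturality_apply, ← NatTrans.naturality_apply]
  exact ha x

/-- Sections over a qcqs object come from a finite stage. -/
theorem IsLocColim.exists_lift (h : IsLocColim t) (U : X.Etale) [CompactSpace U.left]
    [QuasiSeparatedSpace U.left] (σ : t.pt.obj (op U)) :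
    ∃ (j : I) (s : (P.obj j).obj (op U)), (t.ι.app j).app (op U) s = σ := by
  classical
  choose V f hx j₀ s₀ hs₀ using h.locSurj U σ
  choose y hy using hx
  choose O hO hyO _ using fun x : U.left =>
    exists_isAffineOpen_mem_and_subset (X := (V x).left) (x := y x) (U := ⊤) trivial
  let f' : ∀ x, etalePiece (V x) (O x) ⟶ U := fun x => etalePieceHom (V x) (O x) ≫ f x
  have hf' : ∀ x, x ∈ Set.range (f' x).left := fun x => ⟨⟨y x, hyO x⟩, hy x⟩
  obtain ⟨T, hT⟩ := isCompact_univ.elim_finite_subcover (fun x => Set.range (f' x).left)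
    (fun x => haveI := etale_left (f' x); (f' x).left.isOpenMap.isOpen_range)
    (fun x _ => Set.mem_iUnion.mpr ⟨x, hf' x⟩)
  let T₀ := T.image j₀
  obtain ⟨j, hj⟩ := IsFiltered.sup_objs_exists T₀
  let a : ∀ x : T, j₀ x.1 ⟶ j := fun x => (hj (Finset.mem_image_of_mem j₀ x.2)).some
  let W : T → X.Etale := fun x => etalePiece (V x.1) (O x.1)
  let g : ∀ x : T, W x ⟶ U := fun x => f' x.1
  let s : ∀ x : T, (P.obj j).obj (op (W x)) := fun x =>
    (P.map (a x)).app _ ((P.obj (j₀ x.1)).map (etalePieceHom (V x.1) (O x.1)).op (s₀ x.1))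
  have hs : ∀ x, (t.ι.app j).app (op (W x)) (s x) = t.pt.map (g x).op σ := fun x => by
    have e := congrFun (congrArg (fun φ => φ.app (op (W x))) (t.w (a x)))
      ((P.obj (j₀ x.1)).map (etalePieceHom (V x.1) (O x.1)).op (s₀ x.1))
    refine Eq.trans e ?_
    refine (NatTrans.naturality_apply (t.ι.app (j₀ x.1)) (etalePieceHom (V x.1) (O x.1)).op (s₀ x.1)).trans ?_
    exact (congrArg (fun z => t.pt.map (etalePieceHom (V x.1) (O x.1)).op z) (hs₀ x.1)).trans
      (Functor.map_comp_apply t.pt (f x.1).op (etalePieceHom (V x.1) (O x.1)).op σ).symm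
  haveI : QuasiSeparated (terminal.from U.left) :=
    (quasiSeparatedSpace_iff_quasiSeparated _).mp inferInstance
  have hov : ∀ p : T × T, ∃ (k : I) (b : j ⟶ k), ∀ (Z : X.Etale) (g₁ : Z ⟶ W p.1) (g₂ : Z ⟶ W p.2),
      g₁ ≫ g p.1 = g₂ ≫ g p.2 →
        (P.map b).app _ ((P.obj j).map g₁.op (s p.1)) = (P.map b).app _ ((P.obj j).map g₂.op (s p.2)) := by
    rintro ⟨x, x'⟩
    haveI : IsAffine (W x).left := hO x.1
    haveI : IsAffine (W x').left := hO x'.1
    haveI : QuasiCompact (g x).left := QuasiCompact.of_comp (g x).left (terminal.from U.left)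
    haveI : QuasiCompact (g x').left := QuasiCompact.of_comp (g x').left (terminal.from U.left)
    haveI := etale_left (g x)
    haveI := etale_left (g x')
    haveI : Etale (W x).hom := (W x).prop
    let R : X.Etale := Scheme.Etale.mk (pullback.fst (g x).left (g x').left ≫ (W x).hom)
    let π₁ : R ⟶ W x := MorphismProperty.Over.homMk (pullback.fst (g x).left (g x').left) rfl
    let π₂ : R ⟶ W x' := MorphismProperty.Over.homMk (pullback.snd (g x).left (g x').left) (by
      have h1 : (g x).left ≫ U.hom = (W x).hom := Over.w (g x).hom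
      have h2 : (g x').left ≫ U.hom = (W x').hom := Over.w (g x').hom
      change _ = pullback.fst (g x).left (g x').left ≫ (W x).hom
      rw [← h1, ← h2, pullback.condition_assoc])
    have hπ : π₁ ≫ g x = π₂ ≫ g x' := etaleHom_ext pullback.condition
    haveI : CompactSpace R.left :=
      QuasiCompact.compactSpace_of_compactSpace (pullback.fst (g x).left (g x').left)
    obtain ⟨k, b, hb⟩ := h.eventually_eq R ((P.obj j).map π₁.op (s x)) ((P.obj j).map π₂.op (s x')) (by
      rw [NatTrans.naturality_apply, NatTrans.naturality_apply, hs, hs]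
      show t.pt.map π₁.op (t.pt.map (g x).op σ) = t.pt.map π₂.op (t.pt.map (g x').op σ)
      rw [← Functor.map_comp_apply, ← Functor.map_comp_apply, ← op_comp, ← op_comp, hπ])
    refine ⟨k, b, fun Z g₁ g₂ hg => ?_⟩
    have hg' : g₁.left ≫ (g x).left = g₂.left ≫ (g x').left :=
      congrArg (fun q : Z ⟶ U => q.left) hg
    let l : Z ⟶ R := MorphismProperty.Over.homMk (pullback.lift g₁.left g₂.left hg') (by
      change pullback.lift g₁.left g₂.left hg' ≫ pullback.fst (g x).left (g x').left ≫ (W x).hom = _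
      rw [pullback.lift_fst_assoc]
      exact Over.w g₁.hom)
    have e₁ : g₁ = l ≫ π₁ := etaleHom_ext (pullback.lift_fst _ _ _).symm
    have e₂ : g₂ = l ≫ π₂ := etaleHom_ext (pullback.lift_snd _ _ _).symm
    rw [e₁, e₂, op_comp, op_comp, Functor.map_comp_apply, Functor.map_comp_apply,
      NatTrans.naturality_apply (P.map b) l.op, NatTrans.naturality_apply (P.map b) l.op, hb]
  obtain ⟨k, b, hk⟩ := exists_stage (κ := T × T) (fun p k b => ∀ (Z : X.Etale) (g₁ : Z ⟶ W p.1)
      (g₂ : Z ⟶ W p.2), g₁ ≫ g p.1 = g₂ ≫ g p.2 →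
        (P.map b).app _ ((P.obj j).map g₁.op (s p.1)) = (P.map b).app _ ((P.obj j).map g₂.op (s p.2)))
    (fun p k b l c hk Z g₁ g₂ hg => by
      simp only [Functor.map_comp, NatTrans.comp_app, types_comp_apply]
      exact congrArg _ (hk Z g₁ g₂ hg)) hov
  have hcov : Sieve.ofArrows _ g ∈ X.smallEtaleTopology U :=
    (Scheme.ofArrows_mem_smallEtaleTopology_iff _).mpr (Set.eq_univ_of_forall fun z => by
      obtain ⟨x, hxT, hz⟩ := Set.mem_iUnion₂.mp (hT (Set.mem_univ z))
      exact Set.mem_iUnion.mpr ⟨⟨x, hxT⟩, hz⟩)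
  obtain ⟨r, hr, -⟩ := (Presieve.isSheafFor_arrows_iff _ g).mp
    ((Presieve.isSheafFor_iff_generate _).mpr (h.sheaf k _ hcov))
    (fun x => (P.map b).app _ (s x)) (fun x x' Z g₁ g₂ hg => by
      exact (NatTrans.naturality_apply (P.map b) g₁.op (s x)).symm.trans
        ((hk (x, x') Z g₁ g₂ hg).trans (NatTrans.naturality_apply (P.map b) g₂.op (s x'))))
  refine ⟨k, r, ((Presieve.isSheafFor_iff_generate _).mpr (h.sheafPt _ hcov)).isSeparatedFor.ext ?_⟩
  rintro Z q ⟨x⟩
  refine (NatTrans.naturality_apply (t.ι.app k) (g x).op r).symm.trans ?_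
  refine (congrArg (fun z => (t.ι.app k).app (op (W x)) z) (hr x)).trans ?_
  exact (congrFun (congrArg (fun φ => φ.app (op (W x))) (t.w b)) (s x)).trans (hs x)

/-- Over a qcqs object the cocone is a colimit. -/
theorem IsLocColim.nonempty_isColimit (h : IsLocColim t) (U : X.Etale) [CompactSpace U.left]
    [QuasiSeparatedSpace U.left] :
    Nonempty (IsColimit (((evaluation X.Etaleᵒᵖ (Type (u + 1))).obj (op U)).mapCocone t)) := by
  refine ⟨Types.FilteredColimit.isColimitOf _ _ (fun σ => ?_) fun i j si sj e => ?_⟩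
  · obtain ⟨j, s, hs⟩ := h.exists_lift U σ
    exact ⟨j, s, hs.symm⟩
  · let l := IsFiltered.max i j
    have e' : (t.ι.app l).app (op U) ((P.map (IsFiltered.leftToMax i j)).app (op U) si) =
        (t.ι.app l).app (op U) ((P.map (IsFiltered.rightToMax i j)).app (op U) sj) :=
      (congrFun (congrArg (fun φ => φ.app (op U)) (t.w (IsFiltered.leftToMax i j))) si).trans
        (e.trans (congrFun (congrArg (fun φ => φ.app (op U)) (t.w (IsFiltered.rightToMax i j))) sj).symm)
    obtain ⟨k, a, ha⟩ := h.eventually_eq U _ _ e'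
    refine ⟨k, IsFiltered.leftToMax i j ≫ a, IsFiltered.rightToMax i j ≫ a, ?_⟩
    simpa using ha

section

variable {A : Type (u + 2)} [Category.{u + 1} A] {FA : A → A → Type*} {CA : A → Type (u + 1)}
  [∀ M N, FunLike (FA M N) (CA M) (CA N)] [ConcreteCategory.{u + 1} A FA]
  [HasSheafify X.smallEtaleTopology A] [X.smallEtaleTopology.HasSheafCompose (forget A)]
  [HasColimitsOfShape I A] [PreservesColimitsOfShape I (forget A)]
  [∀ Q : X.Etaleᵒᵖ ⥤ A, Presheaf.IsLocallyInjective X.smallEtaleTopology (toSheafify X.smallEtaleTopology Q)]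
  [∀ Q : X.Etaleᵒᵖ ⥤ A, Presheaf.IsLocallySurjective X.smallEtaleTopology (toSheafify X.smallEtaleTopology Q)]

/-- The underlying cocone of sets of a cocone of sheaves. -/
abbrev setCocone {D : I ⥤ Sheaf X.smallEtaleTopology A} (c : Cocone D) :
    Cocone ((D ⋙ sheafToPresheaf _ A) ⋙ (Functor.whiskeringRight _ _ _).obj (forget A)) :=
  ((Functor.whiskeringRight _ _ _).obj (forget A)).mapCocone ((sheafToPresheaf _ A).mapCocone c)

/-- Colimit cocones of sheaves are locally colimits of sets. -/
theorem isLocColim_of_isColimit {D : I ⥤ Sheaf X.smallEtaleTopology A} (c : Cocone D) (hc : IsColimit c) :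
    IsLocColim (setCocone c) := by
  let J := X.smallEtaleTopology
  let E := colimit.cocone (D ⋙ sheafToPresheaf J A)
  let φ : E.pt ⟶ c.pt.obj := colimit.desc _ ((sheafToPresheaf J A).mapCocone c)
  let hE' := Sheaf.isColimitSheafifyCocone E (colimit.isColimit _)
  let e := hE'.coconePointUniqueUpToIso hc
  have hι : ∀ j, E.ι.app j ≫ φ = (c.ι.app j).hom := fun j => colimit.ι_desc _ j
  have hφ : φ = toSheafify J E.pt ≫ e.hom.hom := by
    refine colimit.hom_ext fun j => (hι j).trans ?_
    have h1 : (Sheaf.sheafifyCocone E).ι.app j ≫ e.hom = c.ι.app j :=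
      hE'.comp_coconePointUniqueUpToIso_hom hc j
    have h2 : E.ι.app j ≫ toSheafify J E.pt = ((Sheaf.sheafifyCocone E).ι.app j).hom := by
      show _ = ((asIso (sheafificationAdjunction J A).counit).symm.hom.app (D.obj j) ≫
        (presheafToSheaf J A).map (E.ι.app j)).hom
      have h3 : ((asIso (sheafificationAdjunction J A).counit).symm.hom.app (D.obj j)).hom =
          toSheafify J (D.obj j).obj := by
        have := (sheafificationAdjunction J A).right_triangle_components (D.obj j)
        have h4 : ((asIso (sheafificationAdjunction J A).counit).hom.app (D.obj j)).hom ≫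
            ((asIso (sheafificationAdjunction J A).counit).inv.app (D.obj j)).hom = 𝟙 _ :=
          congrArg (fun q : (sheafToPresheaf J A ⋙ presheafToSheaf J A).obj (D.obj j) ⟶
            (sheafToPresheaf J A ⋙ presheafToSheaf J A).obj (D.obj j) => q.hom)
            (Iso.hom_inv_id_app (asIso (sheafificationAdjunction J A).counit) (D.obj j))
        change toSheafify J (D.obj j).obj ≫ ((sheafificationAdjunction J A).counit.app (D.obj j)).hom = 𝟙 _ at this
        calc ((asIso (sheafificationAdjunction J A).counit).symm.hom.app (D.obj j)).hom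
            = (toSheafify J (D.obj j).obj ≫ ((sheafificationAdjunction J A).counit.app (D.obj j)).hom) ≫
              ((asIso (sheafificationAdjunction J A).counit).symm.hom.app (D.obj j)).hom := by
              rw [this, Category.id_comp]
          _ = toSheafify J (D.obj j).obj := by
              rw [Category.assoc]
              exact (congrArg (fun q => toSheafify J (D.obj j).obj ≫ q) h4).trans (Category.comp_id _)
      exact (toSheafify_naturality J (E.ι.app j)).trans (congrArg (fun q => q ≫ _) h3.symm)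
    exact (congrArg (fun q => q.hom) h1.symm).trans
      ((congrArg (fun q => q ≫ e.hom.hom) h2.symm).trans (Category.assoc _ _ _))
  haveI : IsIso e.hom.hom := inferInstanceAs (IsIso ((sheafToPresheaf J A).map e.hom))
  haveI : Presheaf.IsLocallyInjective J e.hom.hom := inferInstance
  haveI : Presheaf.IsLocallySurjective J e.hom.hom := inferInstance
  haveI : Presheaf.IsLocallyInjective J φ := hφ ▸ inferInstance
  haveI : Presheaf.IsLocallySurjective J φ := hφ ▸ inferInstance
  have hEV : ∀ V, IsColimit (((evaluation X.Etaleᵒᵖ A).obj V ⋙ forget A).mapCocone E) :=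
    fun V => isColimitOfPreserves _ (colimit.isColimit _)
  have happ : ∀ j V (s : ToType ((D.obj j).obj.obj V)),
      φ.app V ((E.ι.app j).app V s) = (c.ι.app j).hom.app V s := fun j V s => by
    rw [← hι j, NatTrans.comp_app, ConcreteCategory.comp_apply]; rfl
  refine ⟨fun j => (isSheaf_iff_isSheaf_of_type _ _).mp ((sheafCompose J (forget A)).obj (D.obj j)).property,
    (isSheaf_iff_isSheaf_of_type _ _).mp ((sheafCompose J (forget A)).obj c.pt).property,
    fun U σ x => ?_, fun U j s s' h x => ?_⟩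
  · obtain ⟨V, f, ⟨τ, hτ⟩, hx⟩ := exists_mem_sieve_point (Presheaf.imageSieve_mem J φ (U := op U) σ) x
    obtain ⟨j, s, hs⟩ := Types.jointly_surjective_of_isColimit (hEV (op V)) τ
    refine ⟨V, f, hx, j, s, ?_⟩
    refine ((happ j (op V) s).symm.trans ?_).trans hτ
    exact congrArg (φ.app (op V)) hs
  · have h' : φ.app (op U) ((E.ι.app j).app (op U) s) = φ.app (op U) ((E.ι.app j).app (op U) s') := by
      rw [happ, happ]; exact h
    obtain ⟨V, f, hf, hx⟩ := exists_mem_sieve_point (Presheaf.equalizerSieve_mem J φ _ _ h') x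
    change E.pt.map f.op _ = E.pt.map f.op _ at hf
    have hf' := ((NatTrans.naturality_apply (E.ι.app j) f.op s).trans hf).trans
      (NatTrans.naturality_apply (E.ι.app j) f.op s').symm
    obtain ⟨k, a, b, hk⟩ := (Types.FilteredColimit.isColimit_eq_iff _ (hEV (op V))).mp hf'
    let l := IsFiltered.coeq a b
    refine ⟨V, f, hx, l, a ≫ IsFiltered.coeqHom a b, ?_⟩
    have := congrArg ((D.map (IsFiltered.coeqHom a b)).hom.app (op V)) hk
    refine (Eq.trans ?_ this).trans ?_
    · simp; rfl
    · rw [IsFiltered.coeq_condition]; simp; rfl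

end

/-- Sections over a qcqs object commute with filtered colimits of sheaves of sets. -/
theorem preservesColimitsOfShape_sect_type (U : X.Etale) [CompactSpace U.left] [QuasiSeparatedSpace U.left]
    (I : Type (u + 1)) [SmallCategory I] [IsFiltered I] :
    PreservesColimitsOfShape I (sheafToPresheaf X.smallEtaleTopology (Type (u + 1)) ⋙
      (evaluation X.Etaleᵒᵖ (Type (u + 1))).obj (op U)) where
  preservesColimit {D} := ⟨fun {c} hc => (isLocColim_of_isColimit c hc).nonempty_isColimit U⟩

/-- Sections over a qcqs object commute with filtered colimits of abelian sheaves. -/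
theorem preservesColimitsOfShape_sect (U : X.Etale) [CompactSpace U.left] [QuasiSeparatedSpace U.left]
    {J : Type w} [Category.{v} J] [IsFiltered J] [HasColimitsOfShape J AddCommGrpCat.{u + 1}]
    [PreservesColimitsOfShape J (forget AddCommGrpCat.{u + 1})] :
    PreservesColimitsOfShape J (sheafToPresheaf X.smallEtaleTopology AddCommGrpCat.{u + 1} ⋙
      (evaluation X.Etaleᵒᵖ AddCommGrpCat.{u + 1}).obj (op U)) where
  preservesColimit {D} :=
    haveI : ReflectsColimitsOfShape J (forget AddCommGrpCat.{u + 1}) :=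
      reflectsColimitsOfShape_of_reflectsIsomorphisms
    ⟨fun {c} hc => ⟨isColimitOfReflects (forget AddCommGrpCat.{u + 1})
      ((isLocColim_of_isColimit c hc).nonempty_isColimit U).some⟩⟩

end Groth.Agent.Et18
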