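import Groth.Agent.Et18.Recollement
import Groth.Prelude.Def_EtDual
import Mathlib.Algebra.Homology.HomologySequence
import Mathlib.Algebra.Homology.HomologicalComplexAbelian
import Mathlib.CategoryTheory.Abelian.RightDerived

/-!
# Local cohomology sheaves and higher direct images from the open complement
-/

set_option autoImplicit false
set_option linter.all false
set_option backward.isDefEq.respectTransparency.types false
set_option backward.isDefEq.respectTransparency false
set_option backward.defeqAttrib.useBackward true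
set_option maxHeartbeats 800000

universe u

open CategoryTheory CategoryTheory.Limits AlgebraicGeometry Opposite

namespace Groth.Agent.Et18.LocCohShift

variable {X U : Scheme.{u}} (j : U ⟶ X) [IsOpenImmersion j]

theorem mono_counit [EtShriek.JCont j] (G : EtCoh.Ab X) : Mono ((EtShriek.extZeroAdj j).counit.app G) := by
  refine mono_of_stalks _ fun x => ?_
  by_cases hx : x ∈ Set.range j
  · obtain ⟨y, hy⟩ := hx
    obtain ⟨v, hv, -⟩ := Scheme.exists_fac_of_etale_of_isSepClosed j (sepPoint X x) y
      (hy.trans (sepPoint_default X x).symm)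
    rw [← hv]
    have := isIso_pull_map_counit (j := j) G
    have := isIso_stalk_map_of_pull j v ((EtShriek.extZeroAdj j).counit.app G)
    exact (AddCommGrpCat.mono_iff_injective _).1 inferInstance
  · have z : IsZero ((EtCoh.stalk (sepPoint X x)).obj
        ((EtShriek.extZero j).obj ((EtShriek.restrAlong j).obj G))) := by
      refine IsZero.of_iso ?_ (extZeroStalkIso j _ _)
      have : IsEmpty (PointLift j (sepPoint X x)) := ⟨fun v => hx ⟨v.1 default, by
        have := congrArg (fun t => t default) v.2
        exact this.trans (sepPoint_default X x)⟩⟩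
      exact isZero_sigma_of_isEmpty _
    exact fun a b _ => (AddCommGrpCat.subsingleton_of_isZero z).elim a b

theorem exists_lift_restr [EtShriek.JCont j] {G I : EtCoh.Ab X} [Injective I]
    (t : (EtShriek.restrAlong j).obj G ⟶ (EtShriek.restrAlong j).obj I) :
    ∃ s : G ⟶ I, (EtShriek.restrAlong j).map s = t := by
  let adj := EtShriek.extZeroAdj j
  have := mono_counit j G
  refine ⟨Injective.factorThru ((adj.homEquiv _ _).symm t) (adj.counit.app G), ?_⟩
  have h := congrArg (adj.homEquiv _ _) (Injective.comp_factorThru ((adj.homEquiv _ _).symm t) (adj.counit.app G))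
  rw [Equiv.apply_symm_apply, Adjunction.homEquiv_naturality_right, Adjunction.homEquiv_unit] at h
  erw [adj.right_triangle_components] at h
  exact (Category.id_comp _).symm.trans h

/-- The unit at an injective sheaf is an epimorphism. -/
theorem epi_unit (I : EtCoh.Ab X) [Injective I] : Epi (EtDual.unitApp j I) := by
  let adj := EtCoh.pullPushAdj j
  let e := pullRestrIso j
  let A := (EtCoh.push j).obj ((EtCoh.pull j).obj I)
  obtain ⟨s, hs⟩ := exists_lift_restr j (G := A) (I := I)
    (e.inv.app A ≫ adj.counit.app ((EtCoh.pull j).obj I) ≫ e.hom.app I)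
  have h1 : (EtCoh.pull j).map s = adj.counit.app ((EtCoh.pull j).obj I) := by
    rw [← cancel_mono (e.hom.app I), e.hom.naturality, hs, Iso.hom_inv_id_app_assoc]
  have h2 : s ≫ EtDual.unitApp j I = 𝟙 A := by
    apply (adj.homEquiv _ _).symm.injective
    rw [Adjunction.homEquiv_naturality_left_symm]
    have h3 : (adj.homEquiv _ _).symm (EtDual.unitApp j I) = 𝟙 _ := adj.homEquiv_symm_unit _
    have h4 : (adj.homEquiv _ _).symm (𝟙 A) = adj.counit.app ((EtCoh.pull j).obj I) := adj.homEquiv_symm_id _
    rw [h3, h4, h1, Category.comp_id]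
  have := (IsSplitEpi.mk' ⟨s, h2⟩ : IsSplitEpi (EtDual.unitApp j I))
  infer_instance

/-- The inclusion of sections with support. -/
noncomputable def ι : EtDual.secSupp j ⟶ 𝟭 (EtCoh.Ab X) where
  app F := kernel.ι (EtDual.unitApp j F)
  naturality F G f := kernel.lift_ι _ _ _

theorem injective_pull (I : EtCoh.Ab X) [Injective I] : Injective ((EtCoh.pull j).obj I) :=
  have := Injective.injective_of_adjoint (EtShriek.extZeroAdj j) I
  Injective.of_iso ((pullRestrIso j).app I).symm inferInstance

variable (F : EtCoh.Ab X)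

/-- The chosen resolution restricted to the open. -/
noncomputable def pullRes : InjectiveResolution ((EtCoh.pull j).obj F) where
  cocomplex := ((EtCoh.pull j).mapHomologicalComplex _).obj (injectiveResolution F).cocomplex
  injective n := injective_pull j _
  ι := (HomologicalComplex.singleMapHomologicalComplex _ _ _).inv.app F ≫
    ((EtCoh.pull j).mapHomologicalComplex _).map (injectiveResolution F).ι

/-- The short exact sequence of complexes. -/
noncomputable def seq : ShortComplex (CochainComplex (EtCoh.Ab X) ℕ) :=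
  ShortComplex.mk
    ((NatTrans.mapHomologicalComplex (ι j) _).app (injectiveResolution F).cocomplex)
    ((NatTrans.mapHomologicalComplex (F := 𝟭 _) (G := EtCoh.pull j ⋙ EtCoh.push j)
      (EtCoh.pullPushAdj j).unit _).app (injectiveResolution F).cocomplex)
    (by
      refine HomologicalComplex.hom_ext _ _ fun n => ?_
      exact kernel.condition (EtDual.unitApp j ((injectiveResolution F).cocomplex.X n)))

theorem seq_shortExact : (seq j F).ShortExact := by
  refine HomologicalComplex.shortExact_of_degreewise_shortExact _ fun n => ?_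
  have := epi_unit j ((injectiveResolution F).cocomplex.X n)
  exact
    { exact := ShortComplex.exact_of_f_is_kernel _ (kernelIsKernel (EtDual.unitApp j _))
      mono_f := inferInstanceAs (Mono (kernel.ι (EtDual.unitApp j _)))
      epi_g := this }

theorem isZero_homology_mid (n : ℕ) : IsZero ((seq j F).X₂.homology (n + 1)) := by
  refine (((injectiveResolution F).cocomplex_exactAt_succ n).isZero_homology).of_iso ?_
  exact Iso.refl _

/-- The homology of the last complex. -/
noncomputable def homologyIso (n : ℕ) :
    (seq j F).X₃.homology n ≅ (EtCoh.Rpush j n).obj ((EtCoh.pull j).obj F) :=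
  ((pullRes j F).isoRightDerivedObj (EtCoh.push j) n).symm

theorem nonempty_succ (p : ℕ) :
    Nonempty ((EtCoh.Rpush j (p + 1)).obj ((EtCoh.pull j).obj F) ≅ (EtDual.locCoh j (p + 1 + 1)).obj F) :=
  ⟨(homologyIso j F (p + 1)).symm ≪≫
    (seq_shortExact j F).δIso (p + 1) (p + 1 + 1) rfl (isZero_homology_mid j F p) (isZero_homology_mid j F (p + 1)) ≪≫
    ((injectiveResolution F).isoRightDerivedObj (EtDual.secSupp j) (p + 1 + 1)).symm⟩

theorem nonempty_one : Nonempty (cokernel (EtDual.unitApp j F) ≅ (EtDual.locCoh j 1).obj F) := by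
  let hS := seq_shortExact j F
  let T : EtCoh.Ab X ⥤ EtCoh.Ab X := EtCoh.pull j ⋙ EtCoh.push j
  have : (EtCoh.push j).IsRightAdjoint := ⟨_, ⟨EtCoh.pullPushAdj j⟩⟩
  have : PreservesFiniteLimits T := comp_preservesFiniteLimits _ _
  let I := injectiveResolution F
  let C₂ := (seq j F).X₂
  let C₃ := (seq j F).X₃
  have w₂ : I.ι.f 0 ≫ C₂.d 0 1 = 0 := I.ι_f_zero_comp_complex_d
  have w₃ : T.map (I.ι.f 0) ≫ C₃.d 0 1 = 0 :=
    (T.map_comp _ _).symm.trans ((congrArg T.map I.ι_f_zero_comp_complex_d).trans (T.map_zero _ _))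
  have hnext : (ComplexShape.up ℕ).next 0 = 1 := ComplexShape.next_eq' _ rfl
  let l₂ := C₂.liftCycles (I.ι.f 0) 1 hnext w₂
  let l₃ := C₃.liftCycles (T.map (I.ι.f 0)) 1 hnext w₃
  have k₂ : IsLimit (KernelFork.ofι (I.ι.f 0) w₂) := I.isLimitKernelFork
  have k₃ : IsLimit (KernelFork.ofι (T.map (I.ι.f 0)) w₃) := KernelFork.mapIsLimit _ I.isLimitKernelFork T
  have i₂ : IsIso l₂ := by
    have e : l₂ = (k₂.conePointUniqueUpToIso (C₂.cyclesIsKernel 0 1 hnext)).hom := by
      rw [← cancel_mono (C₂.iCycles 0), HomologicalComplex.liftCycles_i]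
      exact (IsLimit.conePointUniqueUpToIso_hom_comp k₂ (C₂.cyclesIsKernel 0 1 hnext) WalkingParallelPair.zero).symm
    rw [e]; infer_instance
  have i₃ : IsIso l₃ := by
    have e : l₃ = (k₃.conePointUniqueUpToIso (C₃.cyclesIsKernel 0 1 hnext)).hom := by
      rw [← cancel_mono (C₃.iCycles 0), HomologicalComplex.liftCycles_i]
      exact (IsLimit.conePointUniqueUpToIso_hom_comp k₃ (C₃.cyclesIsKernel 0 1 hnext) WalkingParallelPair.zero).symm
    rw [e]; infer_instance
  let a := asIso l₂ ≪≫ C₂.isoHomologyπ₀
  let b := asIso l₃ ≪≫ C₃.isoHomologyπ₀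
  have w : EtDual.unitApp j F ≫ b.hom = a.hom ≫ HomologicalComplex.homologyMap (seq j F).g 0 := by
    show EtDual.unitApp j F ≫ l₃ ≫ C₃.homologyπ 0 =
      (l₂ ≫ C₂.homologyπ 0) ≫ HomologicalComplex.homologyMap (seq j F).g 0
    rw [Category.assoc, HomologicalComplex.homologyπ_naturality, ← Category.assoc, ← Category.assoc]
    congr 1
    rw [← cancel_mono (C₃.iCycles 0), Category.assoc, Category.assoc, HomologicalComplex.liftCycles_i,
      HomologicalComplex.cyclesMap_i, HomologicalComplex.liftCycles_i_assoc]
    exact ((EtCoh.pullPushAdj j).unit.naturality (I.ι.f 0)).symm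
  let S := ShortComplex.mk _ _ (hS.comp_δ 0 1 rfl)
  have hex : S.Exact := hS.homology_exact₃ 0 1 rfl
  have : Epi S.g := hS.epi_δ 0 1 rfl (isZero_homology_mid j F 0)
  exact ⟨cokernel.mapIso (EtDual.unitApp j F) (HomologicalComplex.homologyMap (seq j F).g 0) a b w ≪≫
    (cokernelIsCokernel _).coconePointUniqueUpToIso hex.gIsCokernel ≪≫
    ((injectiveResolution F).isoRightDerivedObj (EtDual.secSupp j) 1).symm⟩

end Groth.Agent.Et18.LocCohShift
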