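import Groth.Agent.Et18.GermBasics
import Groth.Agent.Et18.HpullExact
import Groth.Agent.Et18.FilteredSections
import Groth.Agent.Et18.LocCoh.Basic
import Groth.Agent.EtCechLib.Qcqs
import Groth.Agent.EtLimit.HMaps
import Mathlib.CategoryTheory.Abelian.Injective.Ext

/-!
# Torsion sheaves: cohomology and higher direct images
-/

set_option autoImplicit false
set_option linter.all false
set_option backward.isDefEq.respectTransparency.types false
set_option backward.isDefEq.respectTransparency false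
set_option backward.defeqAttrib.useBackward true

universe u

open CategoryTheory CategoryTheory.Limits CategoryTheory.Abelian AlgebraicGeometry Opposite

namespace Groth.Agent.Et18.TorsionColim

/-- The positive integers with prime factors in `L`, ordered by divisibility. -/
structure LNum (L : Set ℕ) : Type (u + 1) where
  val : ℕ
  prop : EtAcyc.PrimesIn L val

variable (L : Set ℕ)

instance : Preorder (LNum.{u} L) where
  le a b := a.val ∣ b.val
  le_refl a := dvd_refl _
  le_trans a b c := dvd_trans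

instance : IsDirectedOrder (LNum.{u} L) :=
  ⟨fun a b => ⟨⟨a.val * b.val, Nat.mul_pos a.prop.1 b.prop.1, fun p hp h =>
    ((Nat.Prime.dvd_mul hp).1 h).elim (a.prop.2 p hp) (b.prop.2 p hp)⟩, dvd_mul_right _ _, dvd_mul_left _ _⟩⟩

instance : Nonempty (LNum.{u} L) :=
  ⟨⟨1, Nat.one_pos, fun p hp h => absurd (Nat.dvd_one.1 h) hp.ne_one⟩⟩

theorem nsmul_id_comp {C : Type*} [Category C] [Preadditive C] {A B : C} (f : A ⟶ B) (n : ℕ) :
    f ≫ (n • 𝟙 B) = n • f := by
  rw [Preadditive.comp_nsmul, Category.comp_id]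

variable {X : Scheme.{u}} (F : EtCoh.Ab X)

/-- The sheaves of `m`-torsion. -/
noncomputable def diag : LNum.{u} L ⥤ EtCoh.Ab X where
  obj m := kernel (m.val • 𝟙 F)
  map {a b} h := kernel.lift _ (kernel.ι (a.val • 𝟙 F)) (by
    obtain ⟨c, hc⟩ := leOfHom h
    have h0 : a.val • kernel.ι (a.val • 𝟙 F) = 0 := (nsmul_id_comp _ _).symm.trans (kernel.condition _)
    rw [nsmul_id_comp, hc, mul_comm, mul_nsmul', h0, smul_zero])
  map_id a := by rw [← cancel_mono (kernel.ι _)]; simp
  map_comp f g := by rw [← cancel_mono (kernel.ι _)]; simp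

/-- The torsion subsheaves of a sheaf. -/
noncomputable def cocone : Cocone (diag.{u} L F) where
  pt := F
  ι :=
    { app := fun m => kernel.ι (m.val • 𝟙 F)
      naturality := fun a b h => by simp [diag] }

theorem isIso_desc (hF : EtAcyc.IsLTorsion L F) : IsIso (colimit.desc _ (cocone.{u} L F)) := by
  refine isIso_of_stalks _ fun x => ?_
  let P := EtCoh.stalk (sepPoint X x)
  haveI : P.Additive := Functor.additive_of_preserves_binary_products _
  let d := colimit.desc _ (cocone.{u} L F)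
  have hι : ∀ m, colimit.ι (diag.{u} L F) m ≫ d = kernel.ι (m.val • 𝟙 F) := fun m => colimit.ι_desc _ m
  have hd : ∀ (m) (b : P.obj ((diag.{u} L F).obj m)),
      P.map d (P.map (colimit.ι (diag.{u} L F) m) b) = P.map (kernel.ι (m.val • 𝟙 F)) b := fun m b => by
    rw [← hι m, Functor.map_comp]; rfl
  rw [ConcreteCategory.isIso_iff_bijective]
  refine ⟨(injective_iff_map_eq_zero (P.map d).hom).2 fun a ha => ?_, fun t => ?_⟩
  · obtain ⟨m, b, rfl⟩ := Concrete.isColimit_exists_rep _ (isColimitOfPreserves P (colimit.isColimit (diag.{u} L F))) a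
    have hinj := (AddCommGrpCat.mono_iff_injective (P.map (kernel.ι (m.val • 𝟙 F)))).1 inferInstance
    have hb : b = 0 := hinj ((hd m b).symm.trans (ha.trans (map_zero _).symm))
    subst hb
    exact map_zero (P.map (colimit.ι (diag.{u} L F) m)).hom
  · obtain ⟨n, hn, h0⟩ := (isLTorsion_iff_stalks F L).1 hF _ (sepPoint X x) t
    let S := ShortComplex.mk (kernel.ι (n • 𝟙 F)) (n • 𝟙 F) (kernel.condition _)
    have hS : (S.map P).Exact := (ShortComplex.exact_of_f_is_kernel S (kernelIsKernel _)).map P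
    have hn0 : P.map (n • 𝟙 F) t = 0 := by
      rw [Functor.map_nsmul, CategoryTheory.Functor.map_id]
      exact h0
    obtain ⟨b, hb⟩ := (ShortComplex.ab_exact_iff _).1 hS t hn0
    exact ⟨P.map (colimit.ι (diag.{u} L F) ⟨n, hn⟩) b, (hd ⟨n, hn⟩ b).trans hb⟩

/-- An `L`-torsion sheaf is the colimit of its torsion subsheaves. -/
noncomputable def isColimit (hF : EtAcyc.IsLTorsion L F) : IsColimit (cocone.{u} L F) :=
  haveI := isIso_desc L F hF
  IsColimit.ofIsoColimit (colimit.isColimit _) (Cocone.ext (asIso (colimit.desc _ (cocone.{u} L F)))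
    fun m => colimit.ι_desc _ m)

theorem exists_smul_eq_zero [CompactSpace X] [QuasiSeparatedSpace X] (hF : EtAcyc.IsLTorsion L F) (n : ℕ)
    (ξ : EtCoh.H X F n) : ∃ m : ℕ, EtAcyc.PrimesIn L m ∧ m • ξ = 0 := by
  have := EtCechLib.preservesColimitsOfShape_HF (X := X) n (LNum.{u} L)
  obtain ⟨m, b, hb⟩ := Concrete.isColimit_exists_rep _
    (isColimitOfPreserves (EtCoh.HF X n) (isColimit L F hF)) (show ((EtCoh.HF X n).obj F : Type (u + 1)) from ξ)
  let κ : kernel (m.val • 𝟙 F) ⟶ F := kernel.ι _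
  have h1 : ξ = Ext.comp (show EtCoh.H X (kernel (m.val • 𝟙 F)) n from b) (Ext.mk₀ κ) (add_zero n) :=
    hb.symm.trans (HF_map_apply n κ b)
  have h2 : m.val • κ = 0 := (nsmul_id_comp _ _).symm.trans (kernel.condition _)
  refine ⟨m.val, m.prop, ?_⟩
  let Φ : (kernel (m.val • 𝟙 F) ⟶ F) →+ EtCoh.H X F n :=
    AddMonoidHom.mk' (fun k => Ext.comp (show EtCoh.H X (kernel (m.val • 𝟙 F)) n from b) (Ext.mk₀ k) (add_zero n))
      (fun k k' => by rw [Ext.mk₀_add, Ext.comp_add])
  rw [h1]
  show m.val • Φ κ = 0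
  rw [← map_nsmul, h2, map_zero]

theorem primesIn_one : EtAcyc.PrimesIn L 1 :=
  ⟨Nat.one_pos, fun p hp h => absurd (Nat.dvd_one.1 h) hp.ne_one⟩

theorem isTorsion_iff : EtCoh.IsTorsion F ↔ EtAcyc.IsLTorsion Set.univ F := by
  refine ⟨fun h U s x => ?_, fun h U s x => ?_⟩
  · obtain ⟨V, g, hv, ht⟩ := h U s x
    obtain ⟨m, hm, h0⟩ := (isOfFinAddOrder_iff_nsmul_eq_zero).1 ht
    exact ⟨V, g, m, hv, ⟨hm, fun _ _ _ => trivial⟩, h0⟩
  · obtain ⟨V, g, m, hv, hm, h0⟩ := h U s x
    exact ⟨V, g, hv, (isOfFinAddOrder_iff_nsmul_eq_zero).2 ⟨m, hm.1, h0⟩⟩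

theorem isAddTorsion_H [CompactSpace X] [QuasiSeparatedSpace X] (hF : EtCoh.IsTorsion F) (n : ℕ) :
    IsAddTorsion (EtCoh.H X F n) := fun ξ => by
  obtain ⟨m, hm, h0⟩ := exists_smul_eq_zero Set.univ F ((isTorsion_iff F).1 hF) n ξ
  exact (isOfFinAddOrder_iff_nsmul_eq_zero).2 ⟨m, hm.1, h0⟩

theorem isLTorsion_restr {X : Scheme.{u}} (W : X.Etale) {F : EtCoh.Ab X} (hF : EtAcyc.IsLTorsion L F) :
    EtAcyc.IsLTorsion L ((LocCoh.res W).obj F) := by
  rw [isLTorsion_iff_stalks] at hF ⊢
  intro Ω _ _ ξ t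
  let e := (stalkRestrIso (LocCoh.str W) ξ).app F
  obtain ⟨m, hm, h0⟩ := hF Ω (ξ ≫ LocCoh.str W) (e.hom t)
  refine ⟨m, hm, ?_⟩
  apply (ConcreteCategory.bijective_of_isIso e.hom).1
  exact (map_nsmul e.hom.hom m t).trans (h0.trans (map_zero e.hom.hom).symm)

/-- Sections at the top of an étale scheme. -/
noncomputable def topIso {X : Scheme.{u}} (W : X.Etale) :
    (EtShriek.compEtale (LocCoh.str W)).obj (EtCoh.top W.left) ≅ W :=
  MorphismProperty.Over.isoMk (Iso.refl _) (Category.id_comp _ |>.trans (Category.id_comp _).symm)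

theorem secOf_comp {X : Scheme.{u}} {A B : EtCoh.Ab X} (g : EtCoh.const X ℤ ⟶ A) (φ : A ⟶ B) :
    EtLimit.secOf (g ≫ φ) = φ.hom.app (op (EtCoh.top X)) (EtLimit.secOf g) := by
  simp only [EtLimit.secOf, Adjunction.homEquiv_naturality_right]
  rfl

theorem secOf_nsmul {X : Scheme.{u}} {A : EtCoh.Ab X} (g : EtCoh.const X ℤ ⟶ A) (m : ℕ) :
    EtLimit.secOf (m • g) = m • EtLimit.secOf g := by
  induction m with
  | zero => rw [zero_nsmul, zero_nsmul, EtLimit.secOf_zero]
  | succ k ih =>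
    rw [succ_nsmul, succ_nsmul, ← ih]
    simp only [EtLimit.secOf, Adjunction.homEquiv_unit, Functor.map_add, Preadditive.comp_add]
    rfl

theorem nsmul_extMk {C : Type*} [Category C] [Abelian C] [HasExt.{u + 1} C] {A B : C}
    (R : InjectiveResolution B) {n : ℕ} (f : A ⟶ R.cocomplex.X n) (k : ℕ) (hk : n + 1 = k)
    (hf : f ≫ R.cocomplex.d n k = 0) (m : ℕ) :
    m • R.extMk f k hk hf = R.extMk (m • f) k hk (by rw [Preadditive.nsmul_comp, hf, smul_zero]) := by
  induction m with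
  | zero => simp
  | succ i ih => simp only [succ_nsmul, ih, InjectiveResolution.add_extMk]

/-- A cocycle on a quasi-compact quasi-separated étale scheme is, up to an `L`-number, a coboundary. -/
theorem exists_smul_eq_d {X : Scheme.{u}} (W : X.Etale) [CompactSpace W.left] [QuasiSeparatedSpace W.left]
    {F : EtCoh.Ab X} (hF : EtAcyc.IsLTorsion L F) (q : ℕ)
    (s : ((injectiveResolution F).cocomplex.X (q + 1)).obj.obj (op W))
    (hs : ((injectiveResolution F).cocomplex.d (q + 1) (q + 2)).hom.app (op W) s = 0) :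
    ∃ (m : ℕ) (t : ((injectiveResolution F).cocomplex.X q).obj.obj (op W)), EtAcyc.PrimesIn L m ∧
      ((injectiveResolution F).cocomplex.d q (q + 1)).hom.app (op W) t = m • s := by
  let I := injectiveResolution F
  let R : InjectiveResolution ((LocCoh.res W).obj F) :=
    { cocomplex := ((LocCoh.res W).mapHomologicalComplex _).obj I.cocomplex
      injective := fun n => LocCoh.injective_res W _
      ι := (HomologicalComplex.singleMapHomologicalComplex _ _ _).inv.app F ≫
        ((LocCoh.res W).mapHomologicalComplex _).map I.ι }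
  let i := topIso W
  let s' : (R.cocomplex.X (q + 1)).obj.obj (op (EtCoh.top W.left)) :=
    (I.cocomplex.X (q + 1)).obj.map i.hom.op s
  obtain ⟨f, hf⟩ := EtLimit.exists_secOf s'
  have hfd : f ≫ R.cocomplex.d (q + 1) (q + 2) = 0 := EtLimit.secOf_injective (by
    rw [secOf_comp, hf, EtLimit.secOf_zero]
    refine (NatTrans.naturality_apply (I.cocomplex.d (q + 1) (q + 2)).hom i.hom.op s).trans ?_
    exact (congrArg _ hs).trans (map_zero _))
  obtain ⟨m, hm, h0⟩ := exists_smul_eq_zero L _ (isLTorsion_restr L W hF) (q + 1)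
    (show EtCoh.H W.left ((LocCoh.res W).obj F) (q + 1) from R.extMk f (q + 2) rfl hfd)
  have h1 : R.extMk (m • f) (q + 2) rfl (by rw [Preadditive.nsmul_comp, hfd, smul_zero]) = 0 :=
    (nsmul_extMk R f (q + 2) rfl hfd m).symm.trans h0
  obtain ⟨g, hg⟩ := (R.extMk_eq_zero_iff _ _ _ _ q rfl).1 h1
  have h2 : (R.cocomplex.d q (q + 1)).hom.app (op (EtCoh.top W.left)) (EtLimit.secOf g) = m • s' :=
    (secOf_comp g _).symm.trans ((congrArg EtLimit.secOf hg).trans ((secOf_nsmul f m).trans (congrArg (m • ·) hf)))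
  refine ⟨m, (I.cocomplex.X q).obj.map i.inv.op (EtLimit.secOf g), hm, ?_⟩
  refine (NatTrans.naturality_apply (I.cocomplex.d q (q + 1)).hom i.inv.op _).trans ?_
  refine (congrArg _ h2).trans ((map_nsmul _ m s').trans (congrArg (m • ·) ?_))
  exact (ConcreteCategory.congr_hom ((I.cocomplex.X (q + 1)).obj.map_comp i.hom.op i.inv.op) s).symm.trans
    (by rw [← op_comp, i.inv_hom_id, op_id, CategoryTheory.Functor.map_id]; rfl)

theorem exists_affine_obj {Y : Scheme.{u}} (U : Y.Etale) (x : U.left) :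
    ∃ (V : Y.Etale) (g : V ⟶ U), IsAffine V.left ∧ ∃ v : V.left, g.left v = x := by
  obtain ⟨_, ⟨(A : U.left.Opens), hA, rfl⟩, hx, -⟩ :=
    U.left.isBasis_affineOpens.exists_subset_of_mem_open (Set.mem_univ x) isOpen_univ
  haveI : Etale U.hom := U.prop
  refine ⟨Scheme.Etale.mk ((Scheme.Opens.ι A) ≫ U.hom), MorphismProperty.Over.homMk (Scheme.Opens.ι A) rfl,
    hA, ⟨x, hx⟩, rfl⟩

theorem exists_local_lift {Y : Scheme.{u}} {A B : EtCoh.Ab Y} (φ : A ⟶ B) [Epi φ] (U : Y.Etale)
    (s : EtCoh.sect B U) (x : U.left) :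
    ∃ (V : Y.Etale) (g : V ⟶ U), IsAffine V.left ∧ (∃ v : V.left, g.left v = x) ∧
      ∃ a : EtCoh.sect A V, φ.hom.app (op V) a = B.obj.map g.op s := by
  have : Sheaf.IsLocallySurjective φ := (Sheaf.isLocallySurjective_iff_epi' (φ := φ) ..).mpr inferInstance
  obtain ⟨V₁, g₁, ⟨a, ha⟩, ⟨v₁, hv₁⟩⟩ :=
    exists_mem_sieve_point (Presheaf.imageSieve_mem Y.smallEtaleTopology φ.hom (U := op U) s) x
  obtain ⟨V, g, hV, v, hv⟩ := exists_affine_obj V₁ v₁
  refine ⟨V, g ≫ g₁, hV, ⟨v, ?_⟩, A.obj.map g.op a, ?_⟩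
  · show g₁.left (g.left v) = x
    rw [hv, hv₁]
  · refine (NatTrans.naturality_apply φ.hom g.op a).trans ?_
    rw [op_comp, Functor.map_comp]
    exact congrArg _ ha

variable {Y : Scheme.{u}} (f : X ⟶ Y) [QuasiCompact f] [QuasiSeparated f] [EtCoh.BCCont f]

theorem isLTorsion_Rpush (hF : EtAcyc.IsLTorsion L F) (q : ℕ) :
    EtAcyc.IsLTorsion L ((EtCoh.Rpush f q).obj F) := by
  let I := injectiveResolution F
  let K := ((EtCoh.push f).mapHomologicalComplex _).obj I.cocomplex
  have hqc : ∀ V : Y.Etale, IsAffine V.left →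
      CompactSpace ((EtCoh.bc f).obj V).left ∧ QuasiSeparatedSpace ((EtCoh.bc f).obj V).left := fun V hV =>
    haveI : IsAffine ((𝟭 Scheme.{u}).obj V.left) := hV
    ⟨QuasiCompact.compactSpace_of_compactSpace (pullback.fst V.hom f),
      quasiSeparatedSpace_of_quasiSeparated (pullback.fst V.hom f)⟩
  suffices hK : EtAcyc.IsLTorsion L (K.homology q) from
    isLTorsion_of_epi L (I.isoRightDerivedObj (EtCoh.push f) q).inv hK
  intro U z x
  obtain ⟨V, g, hV, hv, c, hc⟩ := exists_local_lift (K.homologyπ q) U z x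
  obtain ⟨_, _⟩ := hqc V hV
  let s : EtCoh.sect (K.X q) V := (K.iCycles q).hom.app (op V) c
  have hinj : Function.Injective ((K.iCycles q).hom.app (op V)) :=
    (AddCommGrpCat.mono_iff_injective _).1
      (inferInstanceAs (Mono (((sheafToPresheaf _ _).map (K.iCycles q)).app (op V))))
  have hds : (K.d q (q + 1)).hom.app (op V) s = 0 :=
    ConcreteCategory.congr_hom (congrArg (fun k => k.hom.app (op V)) (K.iCycles_d q (q + 1))) c
  cases q with
  | succ q =>
    obtain ⟨m, t, hm, ht⟩ := exists_smul_eq_d L ((EtCoh.bc f).obj V) hF q s hds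
    refine ⟨V, g, m, hv, hm, ?_⟩
    have hc' : (K.toCycles q (q + 1)).hom.app (op V) t = m • c := hinj (by
      refine (ConcreteCategory.congr_hom (congrArg (fun k => k.hom.app (op V)) (K.toCycles_i q (q + 1))) t).trans ?_
      exact ht.trans (map_nsmul ((K.iCycles (q + 1)).hom.app (op V)).hom m c).symm)
    rw [← hc]
    refine (map_nsmul ((K.homologyπ (q + 1)).hom.app (op V)).hom m c).symm.trans ?_
    rw [← hc']
    exact ConcreteCategory.congr_hom
      (congrArg (fun k => k.hom.app (op V)) (K.toCycles_comp_homologyπ q (q + 1))) t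
  | zero =>
    let W := (EtCoh.bc f).obj V
    let ι0 : F ⟶ I.cocomplex.X 0 := I.ι.f 0
    have hex : (ShortComplex.mk ι0 (I.cocomplex.d 0 1) (I.ι_f_zero_comp_complex_d)).Exact := I.exact₀
    haveI : Mono ι0 := inferInstanceAs (Mono (I.ι.f 0))
    let e := isLimitForkMapOfIsLimit' (sheafToPresheaf _ _ ⋙ (evaluation _ _).obj (op W)) _
      hex.fIsKernel
    have hex' : ((ShortComplex.mk ι0 (I.cocomplex.d 0 1) (I.ι_f_zero_comp_complex_d)).map
        (sheafToPresheaf _ _ ⋙ (evaluation _ _).obj (op W))).Exact :=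
      ShortComplex.exact_of_f_is_kernel _ e
    obtain ⟨a, ha⟩ := (ShortComplex.ab_exact_iff _).1 hex' s hds
    obtain ⟨m, hm, h0⟩ := exists_smul_eq_zero_of_compactSpace F L hF W a
    refine ⟨V, g, m, hv, hm, ?_⟩
    have hmc : m • c = 0 := hinj ((map_nsmul ((K.iCycles 0).hom.app (op V)).hom m c).trans (by
      refine (congrArg (m • ·) ha.symm).trans ?_
      refine (map_nsmul (ι0.hom.app (op W)).hom m a).symm.trans ?_
      rw [h0, map_zero, map_zero]))
    rw [← hc]
    refine (map_nsmul ((K.homologyπ 0).hom.app (op V)).hom m c).symm.trans ?_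
    rw [hmc, map_zero]

theorem isTorsion_Rpush (hF : EtCoh.IsTorsion F) (q : ℕ) : EtCoh.IsTorsion ((EtCoh.Rpush f q).obj F) :=
  (isTorsion_iff _).2 (isLTorsion_Rpush Set.univ F f ((isTorsion_iff F).1 hF) q)

end Groth.Agent.Et18.TorsionColim
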