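/-
Galois cohomology in top degree: restriction to finite separable extensions, right exactness, and
the test sheaf `ℤ/ℓ`.
-/
import Groth.Prelude.Def_EtDepth
import Groth.Agent.Et18.FiniteEtaleCoprime
import Groth.Agent.Et18.TorsionColim
import Groth.Agent.Et18.ConsColim
import Groth.Agent.Et18.StrataApps
import Groth.Agent.Et18.FLC
import Groth.Agent.EtCechLib.Qcqs
import Mathlib.RingTheory.Etale.Field
import Mathlib.FieldTheory.PurelyInseparable.Basic

set_option autoImplicit false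
set_option linter.all false
set_option backward.isDefEq.respectTransparency.types false
set_option backward.isDefEq.respectTransparency false
set_option backward.defeqAttrib.useBackward true
set_option maxHeartbeats 1000000
set_option synthInstance.maxHeartbeats 400000

universe u

open CategoryTheory CategoryTheory.Limits CategoryTheory.Abelian AlgebraicGeometry Opposite

noncomputable section

namespace Groth.Agent.Et18.CdField

variable {X X' : Scheme.{u}}

theorem isLTorsion_iff {ℓ : ℕ} (hℓ : ℓ.Prime) (F : EtCoh.Ab X) :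
    EtDepth.IsLTorsion ℓ F ↔ EtAcyc.IsLTorsion {ℓ} F := by
  constructor
  · intro h U s x
    obtain ⟨V, g, hv, k, hk⟩ := h U s x
    exact ⟨V, g, ℓ ^ k, hv, ⟨pow_pos hℓ.pos k, fun p hp hd =>
      (Nat.prime_dvd_prime_iff_eq hp hℓ).1 (hp.dvd_of_dvd_pow hd)⟩, hk⟩
  · intro h U s x
    obtain ⟨V, g, m, hv, hm, h0⟩ := h U s x
    refine ⟨V, g, hv, m.primeFactorsList.length, ?_⟩
    rwa [← Nat.eq_prime_pow_of_unique_prime_dvd hm.1.ne' fun {d} hd hdvd => hm.2 d hd hdvd]

theorem isLTorsion_of_iso {L : Set ℕ} {F G : EtCoh.Ab X} (e : F ≅ G)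
    (hF : EtAcyc.IsLTorsion L F) : EtAcyc.IsLTorsion L G := isLTorsion_of_epi L e.hom hF

theorem isLTorsion_of_mono {L : Set ℕ} {F G : EtCoh.Ab X} (φ : F ⟶ G) [Mono φ]
    (hG : EtAcyc.IsLTorsion L G) : EtAcyc.IsLTorsion L F := by
  rw [isLTorsion_iff_stalks] at hG ⊢
  intro Ω _ _ ξ t
  obtain ⟨m, hm, h0⟩ := hG Ω ξ ((EtCoh.stalk ξ).map φ t)
  have : Mono ((EtCoh.stalk ξ).map φ) := inferInstance
  exact ⟨m, hm, (AddCommGrpCat.mono_iff_injective _).1 this (by rw [map_nsmul, h0, map_zero])⟩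

theorem isLTorsion_pull' {L : Set ℕ} (f : X' ⟶ X) {F : EtCoh.Ab X}
    (hF : EtAcyc.IsLTorsion L F) : EtAcyc.IsLTorsion L ((EtCoh.pull f).obj F) := by
  rw [isLTorsion_iff_stalks] at hF ⊢
  intro Ω _ _ ξ t
  obtain ⟨m, hm, h0⟩ := hF Ω (ξ ≫ f) ((stalkPullIso f ξ).hom.app F t)
  refine ⟨m, hm, (AddCommGrpCat.mono_iff_injective ((stalkPullIso f ξ).hom.app F)).1 inferInstance ?_⟩
  rw [map_nsmul, h0, map_zero]

theorem isLTorsion_cst {L : Set ℕ} (A : AddCommGrpCat.{u + 1})
    (hA : ∀ a : A, ∃ m, EtAcyc.PrimesIn L m ∧ m • a = 0) :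
    EtAcyc.IsLTorsion L ((cst X).obj A) := by
  rw [isLTorsion_iff_stalks]
  intro Ω _ _ ξ t
  obtain ⟨a, rfl⟩ := (AddCommGrpCat.epi_iff_surjective (cstGerm ξ A)).1 inferInstance t
  obtain ⟨m, hm, h0⟩ := hA a
  exact ⟨m, hm, by rw [← map_nsmul, h0, map_zero]⟩

theorem isLTorsion_push {L : Set ℕ} (f : X' ⟶ X) [QuasiCompact f] [QuasiSeparated f]
    {G : EtCoh.Ab X'} (hG : EtAcyc.IsLTorsion L G) : EtAcyc.IsLTorsion L ((EtCoh.push f).obj G) :=
  isLTorsion_of_iso ((EtCoh.push f).rightDerivedZeroIsoSelf.app G)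
    (TorsionColim.isLTorsion_Rpush L G f hG 0)

theorem subsingleton_H_push_iff (f : X' ⟶ X) [IsIntegralHom f] (G : EtCoh.Ab X') (q : ℕ) :
    Subsingleton (EtCoh.H X ((EtCoh.push f).obj G) q) ↔ Subsingleton (EtCoh.H X' G q) := by
  have := push_preservesHomology_of_integral f
  haveI : PreservesFiniteColimits (EtCoh.push f) :=
    (EtCoh.push f).preservesFiniteColimits_of_preservesHomology
  haveI : (EtCoh.pull f).PreservesMonomorphisms := inferInstance
  obtain ⟨e⟩ := SiteCoh.extAdjEquiv_of_exact (EtCoh.pullPushAdj f) G (EtCoh.const X ℤ) q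
  let c := EtCore.pullConst f ℤ
  refine (e.toEquiv.subsingleton_congr).trans ⟨fun h => ?_, fun h => ?_⟩
  · refine ⟨fun a b => ?_⟩
    have h0 : (Ext.mk₀ c.hom).comp a (zero_add q) = (Ext.mk₀ c.hom).comp b (zero_add q) :=
      @Subsingleton.elim _ h _ _
    have h1 := congrArg (fun w => (Ext.mk₀ c.inv).comp w (zero_add q)) h0
    simpa only [Ext.mk₀_comp_mk₀_assoc, Iso.inv_hom_id, Ext.mk₀_id_comp] using h1
  · refine ⟨fun a b => ?_⟩
    have h0 : (Ext.mk₀ c.inv).comp a (zero_add q) = (Ext.mk₀ c.inv).comp b (zero_add q) :=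
      @Subsingleton.elim _ h _ _
    have h1 := congrArg (fun w => (Ext.mk₀ c.hom).comp w (zero_add q)) h0
    simpa only [Ext.mk₀_comp_mk₀_assoc, Iso.hom_inv_id, Ext.mk₀_id_comp] using h1

/-- Cohomology of torsion sheaves vanishes above the degree `n`. -/
def CdL (X : Scheme.{u}) (L : Set ℕ) (n : ℕ) : Prop :=
  ∀ F : EtCoh.Ab X, EtAcyc.IsLTorsion L F → ∀ q, n < q → Subsingleton (EtCoh.H X F q)

theorem CdL.of_finite {L : Set ℕ} {n : ℕ} (f : X' ⟶ X) [IsFinite f] (h : CdL X L n) :
    CdL X' L n := fun G hG q hq =>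
  (subsingleton_H_push_iff f G q).1 (h _ (isLTorsion_push f hG) q hq)

/-- Right exactness in top degree. -/
theorem subsingleton_of_epi {L : Set ℕ} {n : ℕ} (h : CdL X L n) {F G : EtCoh.Ab X} (φ : F ⟶ G)
    [Epi φ] (hF : EtAcyc.IsLTorsion L F) (hFn : Subsingleton (EtCoh.H X F n)) :
    Subsingleton (EtCoh.H X G n) := by
  let S := ShortComplex.mk (kernel.ι φ) φ (kernel.condition φ)
  have hS : S.ShortExact :=
    { exact := ShortComplex.exact_kernel φ
      mono_f := inferInstanceAs (Mono (kernel.ι φ))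
      epi_g := inferInstanceAs (Epi φ) }
  have key : ∀ z : EtCoh.H X G n, z = 0 := fun z => by
    haveI := h _ (isLTorsion_of_mono (kernel.ι φ) hF) (n + 1) (Nat.lt_succ_self n)
    obtain ⟨y, hy⟩ := Ext.covariant_sequence_exact₃ _ hS z rfl (Subsingleton.elim
      (α := EtCoh.H X (kernel φ) (n + 1)) _ _)
    rw [← hy, show y = 0 from @Subsingleton.elim _ hFn _ _, Ext.zero_comp]
  exact ⟨fun a b => (key a).trans (key b).symm⟩

theorem subsingleton_of_shortExact {S : ShortComplex (EtCoh.Ab X)} (hS : S.ShortExact) {n : ℕ}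
    (h₁ : Subsingleton (EtCoh.H X S.X₁ n)) (h₃ : Subsingleton (EtCoh.H X S.X₃ n)) :
    Subsingleton (EtCoh.H X S.X₂ n) := by
  have key : ∀ z : EtCoh.H X S.X₂ n, z = 0 := fun z => by
    obtain ⟨y, hy⟩ := Ext.covariant_sequence_exact₂ _ hS z (@Subsingleton.elim _ h₃ _ _)
    rw [← hy, show y = 0 from @Subsingleton.elim _ h₁ _ _, Ext.zero_comp]
  exact ⟨fun a b => (key a).trans (key b).symm⟩

section Groups

variable {ℓ : ℕ}

theorem exists_mono_zmod (hℓ : ℓ.Prime) (A : AddCommGrpCat.{u + 1}) [Nontrivial A]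
    (hA : ∀ a : A, ∃ k : ℕ, ℓ ^ k • a = 0) :
    ∃ i : AddCommGrpCat.of (ULift.{u + 1} (ZMod ℓ)) ⟶ A, Mono i := by
  classical
  obtain ⟨a, ha⟩ := exists_ne (0 : A)
  let k := Nat.find (hA a)
  have hk : k ≠ 0 := fun h0 => ha (by
    have := Nat.find_spec (hA a)
    rw [show Nat.find (hA a) = 0 from h0] at this
    simpa using this)
  let b := ℓ ^ (k - 1) • a
  have hb : b ≠ 0 := Nat.find_min (hA a) (Nat.sub_lt (Nat.pos_of_ne_zero hk) one_pos)
  have hℓb : (zmultiplesHom A b) (ℓ : ℤ) = 0 := by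
    rw [zmultiplesHom_apply, natCast_zsmul, smul_smul, ← pow_succ',
      Nat.sub_add_cancel (Nat.pos_of_ne_zero hk)]
    exact Nat.find_spec (hA a)
  haveI := Fact.mk hℓ
  let g : ZMod ℓ →+ A := ZMod.lift ℓ ⟨zmultiplesHom A b, hℓb⟩
  have hg : Function.Injective g := by
    rw [injective_iff_map_eq_zero]
    intro x hx
    by_contra hne
    have h1 : g 1 = b := by
      have := ZMod.lift_coe ℓ ⟨zmultiplesHom A b, hℓb⟩ 1
      simpa using this
    apply hb
    rw [← h1, show (1 : ZMod ℓ) = (x⁻¹).val • x by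
      rw [nsmul_eq_mul, ZMod.natCast_val, ZMod.cast_id, inv_mul_cancel₀ hne]]
    rw [map_nsmul, hx, nsmul_zero]
  refine ⟨AddCommGrpCat.ofHom (g.comp AddEquiv.ulift.toAddMonoidHom), ?_⟩
  rw [AddCommGrpCat.mono_iff_injective]
  exact hg.comp ULift.down_injective

theorem card_cokernel_lt (hℓ : ℓ.Prime) {A : AddCommGrpCat.{u + 1}} [Finite A]
    (i : AddCommGrpCat.of (ULift.{u + 1} (ZMod ℓ)) ⟶ A) [Mono i] :
    Nat.card (cokernel i : AddCommGrpCat.{u + 1}) < Nat.card A := by
  have hsurj : Function.Surjective (cokernel.π i) :=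
    (AddCommGrpCat.epi_iff_surjective _).1 inferInstance
  refine lt_of_le_of_ne (Nat.card_le_card_of_surjective _ hsurj) fun h => ?_
  haveI : Finite (cokernel i : AddCommGrpCat.{u + 1}) := Finite.of_surjective _ hsurj
  have hinj : Function.Injective (cokernel.π i) := (hsurj.bijective_of_nat_card_le h.symm.le).1
  haveI := Fact.mk hℓ
  have h1 : i (ULift.up 1) = i 0 := hinj (by
    rw [map_zero, map_zero, ← ConcreteCategory.comp_apply, cokernel.condition]
    rfl)
  exact one_ne_zero (α := ZMod ℓ) (congrArg ULift.down ((AddCommGrpCat.mono_iff_injective i).1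
    inferInstance h1))

theorem shortExact_cokernel {C : Type*} [Category C] [Abelian C] {A B : C} (i : A ⟶ B) [Mono i] :
    (ShortComplex.mk i (cokernel.π i) (cokernel.condition i)).ShortExact :=
  { exact := ShortComplex.exact_cokernel i
    mono_f := inferInstanceAs (Mono i)
    epi_g := inferInstanceAs (Epi (cokernel.π i)) }

theorem exists_epi_zmod (hℓ : ℓ.Prime) (A : AddCommGrpCat.{u + 1}) [Finite A] [Nontrivial A]
    (hA : ∀ a : A, ∃ k : ℕ, ℓ ^ k • a = 0) :
    ∃ p : A ⟶ AddCommGrpCat.of (ULift.{u + 1} (ZMod ℓ)), Epi p := by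
  generalize hN : Nat.card A = N
  induction N using Nat.strong_induction_on generalizing A with
  | _ N ih =>
    subst hN
    obtain ⟨i, hi⟩ := exists_mono_zmod hℓ A hA
    let Q := cokernel i
    have hsurj : Function.Surjective (cokernel.π i) :=
      (AddCommGrpCat.epi_iff_surjective _).1 inferInstance
    haveI : Finite Q := Finite.of_surjective _ hsurj
    rcases subsingleton_or_nontrivial Q with hQ | hQ
    · haveI : Epi i := Abelian.epi_of_cokernel_π_eq_zero i (by
        ext a; exact @Subsingleton.elim _ hQ _ _)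
      haveI := isIso_of_mono_of_epi i
      exact ⟨inv i, inferInstance⟩
    · have hQt : ∀ q : Q, ∃ k : ℕ, ℓ ^ k • q = 0 := fun q => by
        obtain ⟨a, rfl⟩ := hsurj q
        obtain ⟨k, hk⟩ := hA a
        exact ⟨k, by rw [← map_nsmul, hk, map_zero]⟩
      obtain ⟨p, hp⟩ := ih _ (card_cokernel_lt hℓ i) Q hQt rfl
      exact ⟨cokernel.π i ≫ p, inferInstance⟩

theorem subsingleton_H_cst (hℓ : ℓ.Prime) (n : ℕ)
    (h : Subsingleton (EtCoh.H X (EtCoh.const X (ZMod ℓ)) n))
    (A : AddCommGrpCat.{u + 1}) [Finite A] (hA : ∀ a : A, ∃ k : ℕ, ℓ ^ k • a = 0) :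
    Subsingleton (EtCoh.H X ((cst X).obj A) n) := by
  generalize hN : Nat.card A = N
  induction N using Nat.strong_induction_on generalizing A with
  | _ N ih =>
    subst hN
    rcases subsingleton_or_nontrivial A with hA' | hA'
    · have hz : IsZero ((cst X).obj A) :=
        (cst X).map_isZero (AddCommGrpCat.isZero_of_subsingleton A)
      have key : ∀ z : EtCoh.H X ((cst X).obj A) n, z = 0 := fun z => by
        refine (Ext.comp_mk₀_id z).symm.trans ?_
        rw [hz.eq_of_src (𝟙 _) 0, Ext.mk₀_zero, Ext.comp_zero]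
      exact ⟨fun a b => (key a).trans (key b).symm⟩
    · obtain ⟨i, hi⟩ := exists_mono_zmod hℓ A hA
      have hsurj : Function.Surjective (cokernel.π i) :=
        (AddCommGrpCat.epi_iff_surjective _).1 inferInstance
      haveI : Finite (cokernel i : AddCommGrpCat.{u + 1}) := Finite.of_surjective _ hsurj
      refine subsingleton_of_shortExact ((shortExact_cokernel i).map_of_exact (cst X)) h ?_
      refine ih _ (card_cokernel_lt hℓ i) (cokernel i) (fun q => ?_) rfl
      obtain ⟨a, rfl⟩ := hsurj q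
      obtain ⟨k, hk⟩ := hA a
      exact ⟨k, by rw [← map_nsmul, hk, map_zero]⟩

end Groups

section Field

variable (K : Type u) [Field K]

/-- The map of spectra of an extension. -/
abbrev mor (L : Type u) [CommRing L] [Algebra K L] :
    Spec (CommRingCat.of L) ⟶ Spec (CommRingCat.of K) :=
  Spec.map (CommRingCat.ofHom (algebraMap K L))

variable (L : Type u) [Field L] [Algebra K L] [Module.Finite K L]

instance isFinite_mor : IsFinite (mor K L) :=
  (IsFinite.SpecMap_iff _).2 (RingHom.finite_algebraMap.2 inferInstance)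

instance surjective_mor : Surjective (mor K L) := ⟨fun x => ⟨default, Subsingleton.elim _ _⟩⟩

theorem etale_mor [Algebra.IsSeparable K L] : Etale (mor K L) := by
  haveI : Algebra.FormallyEtale K L := (Algebra.FormallyEtale.iff_isSeparable K L).2 inferInstance
  haveI : Algebra.Etale K L :=
    ⟨inferInstance, Algebra.FinitePresentation.of_finiteType.1 inferInstance⟩
  exact (HasRingHomProperty.Spec_iff (P := @Etale)).2 (RingHom.etale_algebraMap.2 inferInstance)

/-- The counit `π_* π^* G → G` is an epimorphism. -/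
theorem exists_epi_push_pull [Algebra.IsSeparable K L] (G : EtCoh.Ab (Spec (CommRingCat.of K))) :
    ∃ φ : (EtCoh.push (mor K L)).obj ((EtCoh.pull (mor K L)).obj G) ⟶ G, Epi φ := by
  haveI := etale_mor K L
  haveI : EtShriek.JCont (mor K L) := jCont (mor K L)
  let adj := pushPullAdj (mor K L)
  refine ⟨adj.counit.app G, Abelian.epi_of_cokernel_π_eq_zero _ ?_⟩
  let q := cokernel.π (adj.counit.app G)
  have h1 : (EtCoh.pull (mor K L)).map q = 0 := by
    have h2 := adj.unit.naturality_assoc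
    calc (EtCoh.pull (mor K L)).map q
        = adj.unit.app _ ≫ (EtCoh.pull (mor K L)).map (adj.counit.app G) ≫
            (EtCoh.pull (mor K L)).map q := by rw [adj.right_triangle_components_assoc]
      _ = adj.unit.app _ ≫ (EtCoh.pull (mor K L)).map (adj.counit.app G ≫ q) := by
          rw [Functor.map_comp]
      _ = 0 := by rw [cokernel.condition, Functor.map_zero, comp_zero]
  have h3 : IsZero ((EtCoh.pull (mor K L)).obj (cokernel (adj.counit.app G))) := by
    haveI : Epi ((EtCoh.pull (mor K L)).map q) := inferInstance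
    exact IsZero.of_epi_eq_zero _ h1
  have h4 : IsZero (cokernel (adj.counit.app G)) := by
    refine isZero_of_stalks fun x => ?_
    by_contra hx
    have hmem := (mem_supp_iff _ (sepPoint _ x) (sepPoint_default _ x)).2 hx
    let η := sepPoint (Spec (CommRingCat.of L)) default
    exact (mem_supp_iff _ (η ≫ mor K L) (Subsingleton.elim _ x)).1 hmem
      (((EtCoh.stalk η).map_isZero h3).of_iso ((stalkPullIso (mor K L) η).app _).symm)
  exact h4.eq_of_tgt _ _

theorem exists_field_point (U : Scheme.{u}) (f : U ⟶ Spec (CommRingCat.of K)) [Etale f] (y : U) :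
    ∃ (L : Type u) (_ : Field L) (_ : Algebra K L) (_ : Module.Finite K L)
      (_ : Algebra.IsSeparable K L) (g : Spec (CommRingCat.of L) ⟶ U), g ≫ f = mor K L := by
  obtain ⟨_, ⟨(V : U.Opens), hV, rfl⟩, hy, -⟩ :=
    U.isBasis_affineOpens.exists_subset_of_mem_open (Set.mem_univ y) isOpen_univ
  obtain ⟨φ, hφ⟩ := Spec.map_surjective (hV.fromSpec ≫ f)
  letI : Algebra K Γ(U, V) := φ.hom.toAlgebra
  haveI : Algebra.Etale K Γ(U, V) := by
    have h : Etale (Spec.map φ) := hφ ▸ inferInstance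
    exact RingHom.etale_algebraMap.1 ((HasRingHomProperty.Spec_iff (P := @Etale)).1 h)
  haveI := Algebra.FormallyUnramified.finite_of_free K Γ(U, V)
  let P := (hV.primeIdealOf ⟨y, hy⟩).asIdeal
  haveI : Algebra.FormallyEtale K Γ(U, V) := inferInstance
  haveI : IsArtinianRing Γ(U, V) := IsArtinianRing.of_finite K _
  haveI : P.IsMaximal := IsArtinianRing.isMaximal_of_isPrime P
  letI := Ideal.Quotient.field P
  haveI : Algebra.FormallyUnramified Γ(U, V) (Γ(U, V) ⧸ P) :=
    Algebra.FormallyUnramified.of_surjective (Algebra.ofId _ _) Ideal.Quotient.mk_surjective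
  haveI : Algebra.FormallyUnramified K (Γ(U, V) ⧸ P) := .comp K Γ(U, V) _
  refine ⟨Γ(U, V) ⧸ P, inferInstance, inferInstance, inferInstance,
    Algebra.FormallyUnramified.isSeparable _ _,
    Spec.map (CommRingCat.ofHom (Ideal.Quotient.mk P)) ≫ hV.fromSpec, ?_⟩
  rw [Category.assoc, ← hφ, ← Spec.map_comp]
  rfl

/-- A constructible sheaf over a field is trivialised by a finite separable extension. -/
theorem exists_triv (G : EtCoh.Ab (Spec (CommRingCat.of K))) (hG : EtPBC.IsConstructible G)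
    (U₀ : Scheme.{u}) (f₀ : U₀ ⟶ Spec (CommRingCat.of K)) [Etale f₀] [Nonempty U₀] :
    ∃ (L : Type u) (_ : Field L) (_ : Algebra K L) (_ : Module.Finite K L)
      (_ : Algebra.IsSeparable K L) (g : Spec (CommRingCat.of L) ⟶ U₀)
      (A : AddCommGrpCat.{u + 1}), g ≫ f₀ = mor K L ∧ Finite A ∧ Triv (mor K L) G A := by
  obtain ⟨n, T, g, himm, -, -, hcov, hflc⟩ := hG ⊤ (isAffineOpen_top _)
  let x₀ : Spec (CommRingCat.of K) := default
  obtain ⟨i, t, ht⟩ : ∃ i, x₀ ∈ Set.range (g i) := by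
    have : x₀ ∈ ⋃ i, Set.range (g i) := by rw [hcov]; trivial
    simpa using this
  haveI := himm i
  haveI : Surjective (g i) := ⟨fun x => ⟨t, Subsingleton.elim _ _⟩⟩
  haveI : IsClosedImmersion (g i) := IsClosedImmersion.of_isPreimmersion _ (by
    rw [(Surjective.surj (f := g i)).range_eq]; exact isClosed_univ)
  haveI : IsIso (g i) := isIso_of_isClosedImmersion_of_surjective _
  obtain ⟨W, w, A, hw, hA, hW⟩ := isFLC_iff.1 (hflc i) t
  haveI : Etale W.hom := W.prop
  obtain ⟨u₀⟩ := ‹Nonempty U₀›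
  obtain ⟨z, hz₁, hz₂⟩ := Scheme.Pullback.exists_preimage_pullback (f := W.hom ≫ g i) (g := f₀)
    w u₀ (Subsingleton.elim _ _)
  obtain ⟨L, _, _, _, _, h, hh⟩ :=
    exists_field_point K _ (pullback.snd (W.hom ≫ g i) f₀ ≫ f₀) z
  refine ⟨L, inferInstance, inferInstance, inferInstance, inferInstance,
    h ≫ pullback.snd _ _, A, by rw [Category.assoc, hh], hA, ?_⟩
  refine ((triv_pull_iff (g i) W.hom G A).1 hW).comp (h ≫ pullback.fst _ _) ?_
  rw [Category.assoc, pullback.condition, hh]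

end Field

/-- The main step: if `F ≠ 0` is constructible `ℓ`-torsion with vanishing top cohomology over
every finite separable extension, then all `ℓ`-torsion sheaves have vanishing top cohomology. -/
theorem top_vanishing (K : Type u) [Field K] {ℓ : ℕ} (hℓ : ℓ.Prime)
    (F : EtCoh.Ab (Spec (CommRingCat.of K))) (hF : EtAcyc.IsLTorsion {ℓ} F)
    (hFc : EtPBC.IsConstructible F) (hF0 : ¬ IsZero F) (n : ℕ)
    (hcd : CdL (Spec (CommRingCat.of K)) {ℓ} n)
    (hvan : ∀ (L : Type u) [Field L] [Algebra K L] [Module.Finite K L] [Algebra.IsSeparable K L],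
      Subsingleton (EtCoh.H (Spec (CommRingCat.of L)) ((EtCoh.pull (mor K L)).obj F) n))
    (G : EtCoh.Ab (Spec (CommRingCat.of K))) (hG : EtAcyc.IsLTorsion {ℓ} G) :
    Subsingleton (EtCoh.H (Spec (CommRingCat.of K)) G n) := by
  haveI : Etale (𝟙 (Spec (CommRingCat.of K))) := inferInstance
  obtain ⟨L₀, _, _, _, _, g₀, A, -, hA, hT⟩ := exists_triv K F hFc _ (𝟙 _)
  have hAt : ∀ (B : AddCommGrpCat.{u + 1}) {Y : Scheme.{u}} [Nonempty Y],
      EtAcyc.IsLTorsion {ℓ} ((cst Y).obj B) → ∀ a : B, ∃ k : ℕ, ℓ ^ k • a = 0 := by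
    intro B Y _ hB a
    obtain ⟨y⟩ := ‹Nonempty Y›
    obtain ⟨m, hm, h0⟩ := (isLTorsion_iff_stalks _ _).1 hB _ (sepPoint Y y)
      (cstGerm (sepPoint Y y) B a)
    refine ⟨m.primeFactorsList.length, (AddCommGrpCat.mono_iff_injective
      (cstGerm (sepPoint Y y) B)).1 inferInstance ?_⟩
    rw [← Nat.eq_prime_pow_of_unique_prime_dvd hm.1.ne' fun {d} hd hdvd => hm.2 d hd hdvd,
      map_nsmul, h0, map_zero]
  haveI : Etale (mor K L₀) := etale_mor K L₀
  have hA' : ∀ a : A, ∃ k : ℕ, ℓ ^ k • a = 0 :=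
    hAt A (Y := Spec (CommRingCat.of L₀)) (isLTorsion_of_iso hT.some (isLTorsion_pull' _ hF))
  have hAn : Nontrivial A := by
    by_contra hne
    rw [not_nontrivial_iff_subsingleton] at hne
    refine hF0 (isZero_of_stalks fun x => ?_)
    by_contra hx
    have hmem := (mem_supp_iff _ (sepPoint _ x) (sepPoint_default _ x)).2 hx
    let η := sepPoint (Spec (CommRingCat.of L₀)) default
    obtain ⟨e⟩ := nonempty_stalk_iso hT η
    exact (mem_supp_iff _ (η ≫ mor K L₀) (Subsingleton.elim _ x)).1 hmem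
      ((AddCommGrpCat.isZero_of_subsingleton A).of_iso e)
  -- constructible case
  have hcons : ∀ G', EtPBC.IsConstructible G' → EtAcyc.IsLTorsion {ℓ} G' →
      Subsingleton (EtCoh.H (Spec (CommRingCat.of K)) G' n) := by
    intro G' hc ht
    obtain ⟨M, _, _, _, _, g, B, hg, hB, hTG⟩ := exists_triv K G' hc _ (mor K L₀)
    have hcdM : CdL (Spec (CommRingCat.of M)) {ℓ} n := hcd.of_finite (mor K M)
    obtain ⟨p, hp⟩ := exists_epi_zmod hℓ A hA'
    have hTA : Triv (mor K M) F A := hT.comp g hg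
    obtain ⟨eA⟩ := hTA
    have hzmod : Subsingleton (EtCoh.H (Spec (CommRingCat.of M)) (EtCoh.const _ (ZMod ℓ)) n) :=
      subsingleton_of_epi hcdM (eA.hom ≫ (cst _).map p) (isLTorsion_pull' _ hF) (hvan M)
    obtain ⟨eB⟩ := hTG
    have hGM : Subsingleton
        (EtCoh.H (Spec (CommRingCat.of M)) ((EtCoh.pull (mor K M)).obj G') n) := by
      have hcst := subsingleton_H_cst hℓ n hzmod B
        (hAt B (Y := Spec (CommRingCat.of M)) (isLTorsion_of_iso eB (isLTorsion_pull' _ ht)))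
      exact subsingleton_of_epi hcdM eB.inv
        (isLTorsion_of_iso eB (isLTorsion_pull' _ ht)) hcst
    obtain ⟨φ, hφ⟩ := exists_epi_push_pull K M G'
    exact subsingleton_of_epi hcd φ (isLTorsion_push _ (isLTorsion_pull' _ ht))
      ((subsingleton_H_push_iff _ _ n).2 hGM)
  -- colimit
  have hGt : EtCoh.IsTorsion G := by
    rw [TorsionColim.isTorsion_iff, isLTorsion_iff_stalks]
    intro Ω _ _ ξ t
    obtain ⟨m, hm, h0⟩ := (isLTorsion_iff_stalks _ _).1 hG Ω ξ t
    exact ⟨m, ⟨hm.1, fun p _ _ => trivial⟩, h0⟩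
  obtain ⟨hc⟩ := ColimCons.nonempty_isColimit_im (F := G) hGt
  have := EtCechLib.preservesColimitsOfShape_HF (X := Spec (CommRingCat.of K)) n
    (Finset (ColimCons.Gen G))
  have key : ∀ z : EtCoh.H (Spec (CommRingCat.of K)) G n, z = 0 := fun z => by
    obtain ⟨s, b, rfl⟩ := Concrete.isColimit_exists_rep _
      (isColimitOfPreserves (EtCoh.HF (Spec (CommRingCat.of K)) n) hc) z
    haveI : Mono ((ColimCons.imCocone G).ι.app s) := inferInstanceAs (Mono (Limits.image.ι _))
    haveI := hcons _ (ColimCons.isConstructible_im s)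
      (isLTorsion_of_mono ((ColimCons.imCocone G).ι.app s) hG)
    rw [show b = 0 from Subsingleton.elim
      (α := EtCoh.H (Spec (CommRingCat.of K)) ((ColimCons.imDiagram G).obj s) n) _ _, map_zero]
  exact ⟨fun a b => (key a).trans (key b).symm⟩

theorem not_subsingleton_H_zero (X : Scheme.{u}) [Nonempty X] {ℓ : ℕ} (hℓ : ℓ.Prime) :
    ¬ Subsingleton (EtCoh.H X (EtCoh.const X (ZMod ℓ)) 0) := fun h => by
  obtain ⟨x⟩ := ‹Nonempty X›
  let c : AddCommGrpCat.of (ULift.{u + 1} ℤ) ⟶ AddCommGrpCat.of (ULift.{u + 1} (ZMod ℓ)) :=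
    AddCommGrpCat.ofHom (AddEquiv.ulift.symm.toAddMonoidHom.comp
      ((Int.castAddHom (ZMod ℓ)).comp AddEquiv.ulift.toAddMonoidHom))
  have h0 : Ext.mk₀.{u + 1} ((cst X).map c) = 0 := @Subsingleton.elim _ h _ _
  have h1 : (cst X).map c = 0 := Ext.mk₀_eq_zero_iff _ |>.1 h0
  have h2 : c ≫ cstGerm (sepPoint X x) _ = 0 := by
    rw [← cstGerm_naturality, h1, Functor.map_zero, comp_zero]
  haveI := Fact.mk hℓ
  have h3 : cstGerm (sepPoint X x) (AddCommGrpCat.of (ULift.{u + 1} (ZMod ℓ))) (c (ULift.up 1)) = 0 :=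
    ConcreteCategory.congr_hom h2 (ULift.up 1)
  have h4 : c (ULift.up (1 : ℤ)) = 0 :=
    (AddCommGrpCat.mono_iff_injective (cstGerm (sepPoint X x) _)).1 inferInstance
      (h3.trans (map_zero _).symm)
  have h5 : ((1 : ℤ) : ZMod ℓ) = 0 := congrArg ULift.down h4
  exact one_ne_zero (α := ZMod ℓ) (by rwa [Int.cast_one] at h5)

end Groth.Agent.Et18.CdField
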