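import Groth.Agent.Et18.ShriekStalk
import Groth.Agent.Et18.ExtZero

/-!
# `j_! = f_!` for a separated étale morphism
-/

universe u

open CategoryTheory CategoryTheory.Limits AlgebraicGeometry Opposite DirectSum

set_option backward.isDefEq.respectTransparency.types false
set_option backward.isDefEq.respectTransparency false
set_option maxHeartbeats 1000000

namespace Groth.Agent.Et18

variable {U X : Scheme.{u}} (j : U ⟶ X) [Etale j]

instance (priority := low) locallyQuasiFinite_etale {A B : Scheme.{u}} (f : A ⟶ B) [Etale f] :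
    LocallyQuasiFinite f := by
  refine ⟨fun {O} hO {O'} hO' e => ?_⟩
  have h := HasRingHomProperty.appLE @Etale f ‹_› ⟨O, hO⟩ ⟨O', hO'⟩ e
  algebraize [(f.appLE O O' e).hom]
  exact inferInstanceAs (Algebra.QuasiFinite Γ(B, O) Γ(A, O'))

/-- The base change of `V → U → X` along `j`. -/
noncomputable abbrev graphTgt (V : U.Etale) : U.Etale :=
  (EtCoh.bc j).obj ((EtShriek.compEtale j).obj V)

/-- The graph of `V → U`. -/
noncomputable def graphHom (V : U.Etale) : V ⟶ graphTgt j V :=
  MorphismProperty.Over.homMk (pullback.lift (𝟙 V.left) V.hom (Category.id_comp _))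
    (pullback.lift_snd _ _ _)

lemma graphHom_fst (V : U.Etale) :
    (graphHom j V).left ≫ EtShriek.prV j ((EtShriek.compEtale j).obj V) = 𝟙 V.left :=
  pullback.lift_fst _ _ _

instance etale_graphHom (V : U.Etale) : Etale (graphHom j V).left := etale_map_left (graphHom j V)

instance mono_graphHom_left (V : U.Etale) : Mono (graphHom j V).left :=
  ⟨fun a b h => by
    have := congrArg (fun t => t ≫ EtShriek.prV j ((EtShriek.compEtale j).obj V)) h
    simp only [Category.assoc, graphHom_fst] at this
    exact (Category.comp_id a).symm.trans (this.trans (Category.comp_id b))⟩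

instance isOpenImmersion_graphHom (V : U.Etale) : IsOpenImmersion (graphHom j V).left :=
  FEtLib.isOpenImmersion_of_etale_universallyInjective _

lemma isPullback_graphHom {V V' : U.Etale} (g : V' ⟶ V) :
    IsPullback g.left (graphHom j V').left (graphHom j V).left
      ((EtCoh.bc j).map ((EtShriek.compEtale j).map g)).left := by
  have hw : g.left ≫ (graphHom j V).left =
      (graphHom j V').left ≫ ((EtCoh.bc j).map ((EtShriek.compEtale j).map g)).left := by
    refine pullback.hom_ext ?_ ?_
    · refine Eq.trans (Category.assoc _ _ _) ?_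
      refine (congrArg (fun t => g.left ≫ t) (graphHom_fst j V)).trans ?_
      refine Eq.symm ((Category.assoc _ _ _).trans ?_)
      refine (congrArg (fun t => (graphHom j V').left ≫ t)
        (isPullback_prV j ((EtShriek.compEtale j).map g)).w).trans ?_
      refine (Category.assoc _ _ _).symm.trans ?_
      refine (congrArg (fun t => t ≫ g.left) (graphHom_fst j V')).trans ?_
      exact (Category.id_comp _).trans (Category.comp_id _).symm
    · exact (MorphismProperty.Over.w (g ≫ graphHom j V)).trans
        (MorphismProperty.Over.w (graphHom j V' ≫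
          (EtCoh.bc j).map ((EtShriek.compEtale j).map g))).symm
  refine IsPullback.of_bot ?_ hw (isPullback_prV j ((EtShriek.compEtale j).map g))
  rw [graphHom_fst, graphHom_fst]
  exact IsPullback.of_vert_isIso ⟨by
    change g.left ≫ 𝟙 _ = 𝟙 _ ≫ g.left
    simp⟩

lemma preimage_range_graphHom {V V' : U.Etale} (g : V' ⟶ V) :
    ((EtCoh.bc j).map ((EtShriek.compEtale j).map g)).left ⁻¹' Set.range (graphHom j V).left ⊆
      Set.range (graphHom j V').left := by
  intro y ⟨x, hx⟩
  obtain ⟨z, -, hz⟩ := Scheme.Pullback.exists_preimage_pullback x y hx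
  exact ⟨(isPullback_graphHom j g).isoPullback.inv z, by
    rw [← Scheme.Hom.comp_apply, IsPullback.isoPullback_inv_snd]; exact hz⟩

variable [IsSeparated j] (F : EtCoh.Ab U)

/-- Extension by zero along the graph, as a section. -/
def IsZeroExt (V : U.Etale) (s : EtCoh.sect F V) (t : EtCoh.sect F (graphTgt j V)) : Prop :=
  F.obj.map (graphHom j V).op t = s ∧
    EtShriek.sectSupp F (graphTgt j V) t ⊆ Set.range (graphHom j V).left

lemma exists_zeroExt (V : U.Etale) (s : EtCoh.sect F V) : ∃ t, IsZeroExt j F V s t := by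
  let B := graphTgt j V
  let k : V.left ⟶ B.left := (graphHom j V).left
  haveI : UniversallyClosed (k ≫ EtShriek.prV j ((EtShriek.compEtale j).obj V)) := by
    rw [show k ≫ EtShriek.prV j ((EtShriek.compEtale j).obj V) = 𝟙 V.left from graphHom_fst j V]
    infer_instance
  have hc : IsClosed (Set.range k) :=
    IsProperOver.isClosed (isProperOver_range (EtShriek.prV j ((EtShriek.compEtale j).obj V)) k)
  let Q : B.left.Opens := k.opensRange
  let Qc : B.left.Opens := ⟨(Set.range k)ᶜ, hc.isOpen_compl⟩
  let e₁ : etalePiece B Q ⟶ V := MorphismProperty.Over.homMk k.isoOpensRange.inv (by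
    change k.isoOpensRange.inv ≫ V.hom = Q.ι ≫ B.hom
    rw [← k.isoOpensRange_inv_comp, Category.assoc]
    exact congrArg (fun t => k.isoOpensRange.inv ≫ t) (MorphismProperty.Over.w (graphHom j V)).symm)
  let e₂ : V ⟶ etalePiece B Q := MorphismProperty.Over.homMk k.isoOpensRange.hom (by
    change k.isoOpensRange.hom ≫ Q.ι ≫ B.hom = V.hom
    rw [← Category.assoc, show k.isoOpensRange.hom ≫ Q.ι = k from
      Scheme.Hom.isoOpensRange_hom_ι k]
    exact MorphismProperty.Over.w (graphHom j V))
  obtain ⟨t, ht⟩ := exists_glue_etalePieces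
    ((isSheaf_iff_isSheaf_of_type _ _).mp
      ((sheafCompose U.smallEtaleTopology (forget AddCommGrpCat.{u + 1})).obj F).property)
    B (μ := ULift.{u} Bool) (fun b => bif b.down then Q else Qc)
    (fun a b hab => by
      obtain ⟨a⟩ := a; obtain ⟨b⟩ := b
      have hd : Disjoint Q Qc := TopologicalSpace.Opens.coe_disjoint.mp disjoint_compl_right
      cases a <;> cases b
      · exact absurd rfl hab
      · exact hd.symm
      · exact hd
      · exact absurd rfl hab)
    (by
      refine eq_top_iff.mpr fun y _ => TopologicalSpace.Opens.mem_iSup.mpr ?_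
      by_cases hy : y ∈ Set.range k
      · exact ⟨⟨true⟩, hy⟩
      · exact ⟨⟨false⟩, hy⟩)
    (fun b => match b with
      | ⟨true⟩ => F.obj.map e₁.op s
      | ⟨false⟩ => (0 : EtCoh.sect F (etalePiece B Qc)))
  have he : graphHom j V = e₂ ≫ etalePieceHom B Q :=
    etaleHom_ext (Scheme.Hom.isoOpensRange_hom_ι k).symm
  have hee : e₂ ≫ e₁ = 𝟙 V := etaleHom_ext k.isoOpensRange.hom_inv_id
  refine ⟨t, ?_, fun y hy => ?_⟩
  · rw [he, op_comp, Functor.map_comp, ConcreteCategory.comp_apply]
    refine (congrArg (fun z => F.obj.map e₂.op z) (ht ⟨true⟩)).trans ?_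
    change F.obj.map e₂.op (F.obj.map e₁.op s) = s
    rw [← ConcreteCategory.comp_apply, ← Functor.map_comp, ← op_comp, hee, op_id,
      CategoryTheory.Functor.map_id]
    rfl
  · by_contra hyk
    exact hy (etalePiece B Qc) (etalePieceHom B Qc) ⟨⟨y, hyk⟩, rfl⟩ (ht ⟨false⟩)

lemma zeroExt_unique (V : U.Etale) (s : EtCoh.sect F V) {t t' : EtCoh.sect F (graphTgt j V)}
    (h : IsZeroExt j F V s t) (h' : IsZeroExt j F V s t') : t = t' := by
  refine sub_eq_zero.mp (eq_zero_of_sectSupp_eq_empty F _ (t - t')
    (Set.eq_empty_iff_forall_notMem.mpr fun y hy => ?_))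
  have := sectSupp_add F (graphTgt j V) t (-t') (sub_eq_add_neg t t' ▸ hy)
  rw [sectSupp_neg] at this
  obtain ⟨v, rfl⟩ : y ∈ Set.range (graphHom j V).left := this.elim (fun a => h.2 a) fun a => h'.2 a
  exact hy V (graphHom j V) ⟨v, rfl⟩ (by rw [map_sub, h.1, h'.1, sub_self])

/-- The extension by zero of a section along the graph. -/
noncomputable def zeroExt (V : U.Etale) : EtCoh.sect F V →+ EtCoh.sect F (graphTgt j V) :=
  AddMonoidHom.mk' (fun s => (exists_zeroExt j F V s).choose) fun a b => by
    refine zeroExt_unique j F V (a + b) (exists_zeroExt j F V (a + b)).choose_spec ⟨?_, ?_⟩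
    · rw [map_add, (exists_zeroExt j F V a).choose_spec.1, (exists_zeroExt j F V b).choose_spec.1]
    · exact (sectSupp_add F _ _ _).trans (Set.union_subset (exists_zeroExt j F V a).choose_spec.2
        (exists_zeroExt j F V b).choose_spec.2)

lemma zeroExt_spec (V : U.Etale) (s : EtCoh.sect F V) : IsZeroExt j F V s (zeroExt j F V s) :=
  (exists_zeroExt j F V s).choose_spec

lemma zeroExt_mem (V : U.Etale) (s : EtCoh.sect F V) :
    zeroExt j F V s ∈ EtShriek.shriekSubgroup j F ((EtShriek.compEtale j).obj V) := by
  refine (mem_shriekSubgroup_iff j F _).mpr ?_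
  haveI : UniversallyClosed ((graphHom j V).left ≫
      EtShriek.prV j ((EtShriek.compEtale j).obj V)) := by
    rw [graphHom_fst]; infer_instance
  exact IsProperOver.of_subset (isProperOver_range
    (EtShriek.prV j ((EtShriek.compEtale j).obj V)) (graphHom j V).left)
    (isClosed_sectSupp F _ _) (zeroExt_spec j F V s).2

lemma zeroExt_map {V V' : U.Etale} (g : V' ⟶ V) (s : EtCoh.sect F V) :
    zeroExt j F V' (F.obj.map g.op s) =
      F.obj.map ((EtCoh.bc j).map ((EtShriek.compEtale j).map g)).op (zeroExt j F V s) := by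
  refine zeroExt_unique j F V' _ (zeroExt_spec j F V' _) ⟨?_, ?_⟩
  · rw [← ConcreteCategory.comp_apply, ← Functor.map_comp, ← op_comp,
      show graphHom j V' ≫ (EtCoh.bc j).map ((EtShriek.compEtale j).map g) = g ≫ graphHom j V from
        etaleHom_ext (isPullback_graphHom j g).w.symm,
      op_comp, Functor.map_comp, ConcreteCategory.comp_apply, (zeroExt_spec j F V s).1]
  · exact (sectSupp_restrict_subset F _ _).trans
      ((Set.preimage_mono (zeroExt_spec j F V s).2).trans (preimage_range_graphHom j g))

lemma zeroExt_app {G : EtCoh.Ab U} (a : F ⟶ G) (V : U.Etale) (s : EtCoh.sect F V) :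
    zeroExt j G V (a.hom.app (op V) s) = a.hom.app (op (graphTgt j V)) (zeroExt j F V s) := by
  refine zeroExt_unique j G V _ (zeroExt_spec j G V _) ⟨?_, ?_⟩
  · rw [← NatTrans.naturality_apply a.hom, (zeroExt_spec j F V s).1]
  · exact (EtShriek.sectSupp_map_subset a _ _).trans (zeroExt_spec j F V s).2

variable [EtShriek.JCont j]

/-- Extension by zero of sections, as a morphism of presheaves. -/
noncomputable def zeroExtPre :
    F.obj ⟶ (EtShriek.compEtale j).op ⋙ EtShriek.lowerShriekPre j F where
  app V := AddCommGrpCat.ofHom ((zeroExt j F V.unop).codRestrict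
    (EtShriek.shriekSubgroup j F ((EtShriek.compEtale j).obj V.unop)) (zeroExt_mem j F V.unop))
  naturality V V' g := by
    ext s
    exact Subtype.ext (zeroExt_map j F g.unop s)

/-- The unit `F ⟶ j^{-1} j_! F`. -/
noncomputable def zeroExtUnit :
    𝟭 (EtCoh.Ab U) ⟶ EtShriek.lowerShriek j ⋙ EtShriek.restrAlong j where
  app F := ⟨zeroExtPre j F ≫ Functor.whiskerLeft (EtShriek.compEtale j).op
    (CategoryTheory.toSheafify X.smallEtaleTopology (EtShriek.lowerShriekPre j F))⟩
  naturality F G a := by
    refine Sheaf.hom_ext (NatTrans.ext (funext fun V => ?_))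
    let V' : X.Etaleᵒᵖ := op ((EtShriek.compEtale j).obj V.unop)
    have hn : (CategoryTheory.toSheafify X.smallEtaleTopology
          (EtShriek.lowerShriekPre j F)).app V' ≫
        (((EtShriek.lowerShriek j).map a).hom.app V') =
        ((EtShriek.lowerShriekPreFunctor j).map a).app V' ≫
          (CategoryTheory.toSheafify X.smallEtaleTopology (EtShriek.lowerShriekPre j G)).app V' :=
      (congrArg (fun t => t.app V') (toSheafify_naturality X.smallEtaleTopology
        ((EtShriek.lowerShriekPreFunctor j).map a))).symm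
    change a.hom.app V ≫ ((zeroExtPre j G).app V ≫ (CategoryTheory.toSheafify
        X.smallEtaleTopology (EtShriek.lowerShriekPre j G)).app V') =
      ((zeroExtPre j F).app V ≫ (CategoryTheory.toSheafify X.smallEtaleTopology
        (EtShriek.lowerShriekPre j F)).app V') ≫ (((EtShriek.lowerShriek j).map a).hom.app V')
    rw [Category.assoc, hn, ← Category.assoc, ← Category.assoc]
    congr 1
    ext s
    exact Subtype.ext (zeroExt_app j F a V.unop s)

/-- The comparison `j_! ⟶ f_!`. -/
noncomputable def extZeroToShriek : EtShriek.extZero j ⟶ EtShriek.lowerShriek j where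
  app F := (EtShriek.extZero j).map ((zeroExtUnit j).app F) ≫
    (EtShriek.extZeroAdj j).counit.app _
  naturality F G a := by
    have h := (zeroExtUnit j).naturality a
    rw [Category.assoc, ← Category.assoc ((EtShriek.extZero j).map a), ← Functor.map_comp]
    simp only [Functor.id_map] at h
    rw [h, Functor.map_comp, Category.assoc]
    congr 1
    exact (EtShriek.extZeroAdj j).counit.naturality _

variable {Ω : Type u} [Field Ω] [IsAlgClosed Ω] (η : Spec (CommRingCat.of Ω) ⟶ X)

lemma extZeroInj_extZeroToShriek (u : PointLift j η) :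
    extZeroInj j η F u ≫ (EtCoh.stalk η).map ((extZeroToShriek j).app F) =
      (EtCoh.stalk u.1).map ((zeroExtUnit j).app F) ≫
        restrStalkMap j η u ((EtShriek.lowerShriek j).obj F) := by
  refine Eq.symm ((Category.assoc _ _ _).symm.trans ?_)
  refine (congrArg (fun t => t ≫ (EtCoh.stalk η).map _)
    (extZeroInj_naturality j η ((zeroExtUnit j).app F) u)).trans ?_
  exact (Category.assoc _ _ _).trans (congrArg (fun t => extZeroInj j η F u ≫ t)
    (Functor.map_comp (EtCoh.stalk η) _ _).symm)

lemma germ_extZeroToShriek (u : PointLift j η) (V : U.Etale)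
    (w : (Scheme.pointSmallEtale u.1).fiber.obj V) (s : EtCoh.sect F V) :
    (stalkShriekIso j η).hom.app F ((EtCoh.stalk η).map ((extZeroToShriek j).app F)
      (extZeroInj j η F u ((Scheme.pointSmallEtale u.1).toPresheafFiber V w F.obj s))) =
    (Scheme.pointSmallEtale η).toPresheafFiber ((EtShriek.compEtale j).obj V) (fiberIncl u w)
      (EtShriek.lowerShriekPre j F) ⟨zeroExt j F V s, zeroExt_mem j F V s⟩ := by
  let σ : EtShriek.shriekSubgroup j F ((EtShriek.compEtale j).obj V) :=
    ⟨zeroExt j F V s, zeroExt_mem j F V s⟩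
  let Φ := Scheme.pointSmallEtale η
  have h1 : (EtCoh.stalk η).map ((extZeroToShriek j).app F)
      (extZeroInj j η F u ((Scheme.pointSmallEtale u.1).toPresheafFiber V w F.obj s)) =
      Φ.presheafFiber.map (CategoryTheory.toSheafify X.smallEtaleTopology
        (EtShriek.lowerShriekPre j F))
        (Φ.toPresheafFiber ((EtShriek.compEtale j).obj V) (fiberIncl u w) (EtShriek.lowerShriekPre j F) σ) := by
    refine (congrArg (fun t => t ((Scheme.pointSmallEtale u.1).toPresheafFiber V w F.obj s))
      (extZeroInj_extZeroToShriek j F η u)).trans ?_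
    refine (congrArg (fun z => restrStalkMap j η u _ z)
      (congrArg (fun t => t s) ((Scheme.pointSmallEtale u.1).toPresheafFiber_naturality
        ((zeroExtUnit j).app F).hom V w))).trans ?_
    refine (congrArg (fun t => t (((zeroExtUnit j).app F).hom.app (op V) s))
      (germ_restrStalkMap j η u _ V w)).trans ?_
    exact (congrArg (fun t => t σ) (Φ.toPresheafFiber_naturality
      (CategoryTheory.toSheafify X.smallEtaleTopology (EtShriek.lowerShriekPre j F)) _ _)).symm
  refine (congrArg (fun z => (stalkShriekIso j η).hom.app F z) h1).trans ?_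
  exact congrArg (fun t => t (Φ.toPresheafFiber ((EtShriek.compEtale j).obj V) (fiberIncl u w) (EtShriek.lowerShriekPre j F) σ))
    (asIso (Φ.presheafFiber.map (CategoryTheory.toSheafify X.smallEtaleTopology
        (EtShriek.lowerShriekPre j F)))).hom_inv_id

lemma shriekToFibre_zeroExt (u u' : PointLift j η) (V : U.Etale)
    (w : (Scheme.pointSmallEtale u.1).fiber.obj V) (s : EtCoh.sect F V) :
    ((u' = u) → HEq (shriekToFibre j η F u' ((Scheme.pointSmallEtale η).toPresheafFiber
      ((EtShriek.compEtale j).obj V) (fiberIncl u w) (EtShriek.lowerShriekPre j F)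
      ⟨zeroExt j F V s, zeroExt_mem j F V s⟩))
      ((Scheme.pointSmallEtale u.1).toPresheafFiber V w F.obj s)) ∧
    ((u' ≠ u) → shriekToFibre j η F u' ((Scheme.pointSmallEtale η).toPresheafFiber
      ((EtShriek.compEtale j).obj V) (fiberIncl u w) (EtShriek.lowerShriekPre j F)
      ⟨zeroExt j F V s, zeroExt_mem j F V s⟩) = 0) := by
  rw [shriekToFibre_germ]
  constructor
  · rintro rfl
    refine heq_of_eq ?_
    have e : bcLift j η u' ((EtShriek.compEtale j).obj V) (fiberIncl u' w) =
        (Scheme.pointSmallEtale u'.1).fiber.map (graphHom j V) w := by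
      refine Over.OverMorphism.ext (pullback.hom_ext ?_ ?_)
      · refine (pullback.lift_fst _ _ _).trans ?_
        refine Eq.symm ((Category.assoc _ _ _).trans ?_)
        exact (congrArg (fun t => (w.left : Spec (CommRingCat.of Ω) ⟶ V.left) ≫ t)
          (graphHom_fst j V)).trans (Category.comp_id _)
      · exact (pullback.lift_snd _ _ _).trans
          (Over.w ((Scheme.pointSmallEtale u'.1).fiber.map (graphHom j V) w)).symm
    rw [e, ← GrothendieckTopology.Point.toPresheafFiber_w_apply, (zeroExt_spec j F V s).1]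
  · intro hne
    refine germ_eq_zero_of_not_mem_sectSupp F _ _ _ _ fun hy => hne ?_
    obtain ⟨v, hv⟩ := (zeroExt_spec j F V s).2 hy
    let k : V.left ⟶ (graphTgt j V).left := (graphHom j V).left
    let y : Spec (CommRingCat.of Ω) ⟶ V.left :=
      IsOpenImmersion.lift k (bcPt j η u' ((EtShriek.compEtale j).obj V) (fiberIncl u w)) (by
        rintro _ ⟨t, rfl⟩
        exact ⟨v, hv.trans (congrArg (bcPt j η u' ((EtShriek.compEtale j).obj V) (fiberIncl u w))
          (Subsingleton.elim (α := Spec (CommRingCat.of Ω)) default t))⟩)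
    have hyk : y ≫ k = bcPt j η u' ((EtShriek.compEtale j).obj V) (fiberIncl u w) :=
      IsOpenImmersion.lift_fac _ _ _
    have hy' : y = (w.left : Spec (CommRingCat.of Ω) ⟶ V.left) := by
      refine (Category.comp_id y).symm.trans ?_
      rw [← graphHom_fst j V, ← Category.assoc, hyk]
      exact bcLift_left_fst j η u' _ _
    refine Subtype.ext ?_
    have hs := congrArg (fun t => t ≫ (graphTgt j V).hom) hyk
    have hk : k ≫ (graphTgt j V).hom = V.hom := MorphismProperty.Over.w (graphHom j V)
    simp only [Category.assoc, hk, hy'] at hs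
    exact ((Over.w w).symm.trans (hs.trans (pullback.lift_snd _ _ _))).symm

/-- `j_!` is the direct image with proper support. -/
theorem isIso_extZeroToShriek : IsIso ((extZeroToShriek j).app F) := by
  classical
  refine isIso_of_stalks_family (ι := ULift.{u + 1} X) (fun y => algPoint X y.down)
    (fun y => ⟨⟨y⟩, algPoint_default X y⟩) _ fun y => ?_
  let η := algPoint X y.down
  let c := sumCofan fun u : PointLift j η => fibreStalk j η F u
  let e : AddCommGrpCat.of (⨁ u : PointLift j η, fibreStalk j η F u) ≅ preFib j η F :=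
    AddEquiv.toAddCommGrpIso (sumEquiv j η F)
  let g := (extZeroIsColimit j η F).coconePointUniqueUpToIso (sumCofanIsColimit _)
  suffices h : (EtCoh.stalk η).map ((extZeroToShriek j).app F) ≫ (stalkShriekIso j η).hom.app F =
      g.hom ≫ e.hom by
    haveI : IsIso ((EtCoh.stalk η).map ((extZeroToShriek j).app F) ≫
        (stalkShriekIso j η).hom.app F) := by rw [h]; infer_instance
    exact IsIso.of_isIso_comp_right _ ((stalkShriekIso j η).hom.app F)
  refine Cofan.IsColimit.hom_ext (extZeroIsColimit j η F) _ _ fun u => ?_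
  refine AddCommGrpCat.hom_ext (AddMonoidHom.ext fun a => ?_)
  obtain ⟨V, w, s, rfl⟩ :=
    (Scheme.pointSmallEtale u.1).toPresheafFiber_jointly_surjective (P := F.obj) a
  refine (germ_extZeroToShriek j F η u V w s).trans ?_
  have hg := congrArg (fun t => t ((Scheme.pointSmallEtale u.1).toPresheafFiber V w F.obj s))
    ((extZeroIsColimit j η F).comp_coconePointUniqueUpToIso_hom (sumCofanIsColimit
      (fun u : PointLift j η => fibreStalk j η F u)) ⟨u⟩)
  refine Eq.trans ?_ (congrArg (fun z => e.hom z) hg).symm
  refine shriekToFibre_injective j η F (funext fun u' => ?_)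
  refine Eq.trans ?_ (shriekToFibre_sumToPreFib j η F _ u').symm
  rcases eq_or_ne u' u with rfl | hne
  · refine (eq_of_heq ((shriekToFibre_zeroExt j F η u' u' V w s).1 rfl)).trans (Eq.symm ?_)
    exact sumCofan_app_same (fun u : PointLift j η => fibreStalk j η F u) u' _
  · refine ((shriekToFibre_zeroExt j F η u u' V w s).2 hne).trans (Eq.symm ?_)
    exact sumCofan_app_ne (fun u : PointLift j η => fibreStalk j η F u) hne _

/-- `j_! ≅ f_!`. -/
noncomputable def extZeroShriekIso : EtShriek.extZero j ≅ EtShriek.lowerShriek j :=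
  haveI := fun F => isIso_extZeroToShriek j F
  haveI : IsIso (extZeroToShriek j) := NatIso.isIso_of_isIso_app _
  asIso (extZeroToShriek j)

end Groth.Agent.Et18
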