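import Groth.Agent.Et18.ShriekComp
import Groth.Agent.Et18.ShriekEtale

/-!
# `f_!` and compactifications
-/

universe u

open CategoryTheory CategoryTheory.Limits AlgebraicGeometry Opposite

set_option backward.isDefEq.respectTransparency.types false
set_option backward.isDefEq.respectTransparency false

namespace Groth.Agent.Et18

theorem isProperOver_of_isProper {U S : Scheme.{u}} (g : U ⟶ S) [IsProper g] {A : Set U}
    (hA : IsClosed A) : ClSub.IsProperOver g A := by
  refine ⟨hA, ?_⟩
  change IsProper ((redSub A hA).subschemeι ≫ g)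
  infer_instance

variable {X Y : Scheme.{u}} (f : X ⟶ Y) [IsProper f]

theorem isIso_shriekToPush (F : EtCoh.Ab X) : IsIso ((shriekToPush f).app F) := by
  haveI := mono_shriekToPush f F
  obtain ⟨k, hk⟩ := exists_fac_of_range (𝟙 ((EtCoh.push f).obj F)) ((shriekToPush f).app F)
    fun V s _ => by
      haveI : IsProper (EtShriek.prV f V.unop) := MorphismProperty.pullback_fst _ _ inferInstance
      exact (range_shriekToPush f F V.unop).ge
        (show PropSupp f F (V := V.unop) s from isProperOver_of_isProper _ (isClosed_sectSupp F _ _))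
  exact ⟨k, by rw [← cancel_mono ((shriekToPush f).app F), Category.assoc, hk, Category.comp_id,
    Category.id_comp], hk⟩

/-- For proper `f`, `f_! = f_*`. -/
noncomputable def shriekPushIso : EtShriek.lowerShriek f ≅ EtCoh.push f :=
  haveI := fun F => isIso_shriekToPush f F
  haveI : IsIso (shriekToPush f) := NatIso.isIso_of_isIso_app _
  asIso (shriekToPush f)

theorem nonempty_compactification {X Xb Y : Scheme.{u}} (j : X ⟶ Xb) [IsOpenImmersion j]
    (fb : Xb ⟶ Y) [IsProper fb] [EtShriek.JCont j] :
    Nonempty (EtShriek.lowerShriek (j ≫ fb) ≅ EtShriek.extZero j ⋙ EtCoh.push fb) :=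
  ⟨(existsUnique_shriekComp j fb).choose ≪≫ Functor.isoWhiskerLeft _ (shriekPushIso fb) ≪≫
    Functor.isoWhiskerRight (extZeroShriekIso j).symm _⟩

omit [IsProper f] in
theorem mem_H0c_iff {k : Type u} [Field k] {X : Scheme.{u}} (p : X ⟶ Spec (CommRingCat.of k))
    [LocallyOfFiniteType p] (F : EtCoh.Ab X) (s : EtCoh.sect F (EtCoh.top X)) :
    s ∈ EtShriek.H0c p F ↔ ClSub.IsProperOver p (EtShriek.sectSupp F (EtCoh.top X) s) := by
  constructor
  · intro h
    induction h using AddSubgroup.closure_induction with
    | mem x hx =>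
      exact IsProperOver.of_subset hx.choose_spec.2 (isClosed_sectSupp F _ _) hx.choose_spec.1
    | zero =>
      rw [sectSupp_zero]
      exact isProperOver_empty _
    | add x y _ _ hx hy =>
      exact IsProperOver.of_subset (IsProperOver.union hx hy) (isClosed_sectSupp F _ _)
        (sectSupp_add F _ x y)
    | neg x _ hx =>
      rw [sectSupp_neg]
      exact hx
  · exact fun h => AddSubgroup.subset_closure ⟨_, subset_rfl, h⟩

theorem nonempty_H0c_equiv {k : Type u} [Field k] {X Xb : Scheme.{u}} (j : X ⟶ Xb)
    [IsOpenImmersion j] (pb : Xb ⟶ Spec (CommRingCat.of k)) [IsProper pb]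
    (p : X ⟶ Spec (CommRingCat.of k)) (hp : p = j ≫ pb) [LocallyOfFiniteType p]
    [EtShriek.JCont j] (F : EtCoh.Ab X) :
    Nonempty ((EtShriek.H0c p F) ≃+
      EtCoh.sect ((EtShriek.extZero j).obj F) (EtCoh.top Xb)) := by
  let T := EtCoh.top Xb
  let P := (EtCoh.bc j).obj T
  let e : P ≅ EtCoh.top X := (EtCore.bcTopIsTerminal j).uniqueUpToIso (EtCore.topIsTerminal X)
  let A : EtShriek.H0c p F ≃+ EtShriek.shriekSubgroup j F T := by
    refine
      { toFun := fun s => ⟨F.obj.map e.hom.op s.1, ?_⟩
        invFun := fun s => ⟨F.obj.map e.inv.op s.1, ?_⟩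
        left_inv := fun s => Subtype.ext ?_
        right_inv := fun s => Subtype.ext ?_
        map_add' := fun a b => Subtype.ext (map_add _ _ _) }
    · rw [mem_shriekSubgroup_iff, PropSupp, sectSupp_restrict_eq]
      have h := (mem_H0c_iff p F s.1).mp s.2
      have sq : IsPullback e.hom.left (EtShriek.prV j T ≫ pb) p (𝟙 _) := by
        haveI : IsIso e.hom.left := ⟨e.inv.left, congrArg (fun t => t.left) e.hom_inv_id,
          congrArg (fun t => t.left) e.inv_hom_id⟩
        refine IsPullback.of_horiz_isIso ⟨?_⟩
        have h1 : e.hom.left = pullback.snd T.hom j :=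
          (Category.comp_id _).symm.trans (MorphismProperty.Over.w e.hom)
        rw [h1, hp, Category.comp_id, ← Category.assoc, ← pullback.condition]
        exact congrArg (fun t => t ≫ pb) (Category.comp_id _)
      exact ((isProperOver_comp_iff (EtShriek.prV j T) pb _).mp (IsProperOver.preimage h sq)).1
    · rw [mem_H0c_iff, sectSupp_restrict_eq]
      have h := (mem_shriekSubgroup_iff j F s.1).mp s.2
      haveI : IsProper pb := ‹_›
      have h' := (isProperOver_comp_iff (EtShriek.prV j T) pb _).mpr
        ⟨h, isProperOver_of_isProper pb (IsProperOver.isClosed_image h)⟩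
      have sq : IsPullback e.inv.left p (EtShriek.prV j T ≫ pb) (𝟙 _) := by
        haveI : IsIso e.inv.left := ⟨e.hom.left, congrArg (fun t => t.left) e.inv_hom_id,
          congrArg (fun t => t.left) e.hom_inv_id⟩
        refine IsPullback.of_horiz_isIso ⟨?_⟩
        have h1 : e.inv.left ≫ pullback.snd T.hom j = 𝟙 X := MorphismProperty.Over.w e.inv
        rw [hp, Category.comp_id]
        refine Eq.trans ?_ ((congrArg (fun t => t ≫ j ≫ pb) h1).trans (Category.id_comp _))
        rw [Category.assoc, ← pullback.condition_assoc]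
        exact congrArg (fun t => e.inv.left ≫ pullback.fst T.hom j ≫ t) (Category.id_comp pb).symm
      exact IsProperOver.preimage h' sq
    · simp [← ConcreteCategory.comp_apply, ← Functor.map_comp, ← op_comp]
    · simp [← ConcreteCategory.comp_apply, ← Functor.map_comp, ← op_comp]
  refine ⟨(A.trans (AddEquiv.ofBijective (toShriek j F T) (toShriek_bijective j F T))).trans ?_⟩
  exact (((sheafToPresheaf _ _).mapIso ((extZeroShriekIso j).app F).symm).app
    (op T)).addCommGroupIsoToAddEquiv

end Groth.Agent.Et18
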