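import Mathlib.AlgebraicGeometry.AlgClosed.Basic
import Mathlib.AlgebraicGeometry.Morphisms.QuasiFinite
import Mathlib.AlgebraicGeometry.Morphisms.ClosedImmersion
import Mathlib.AlgebraicGeometry.PullbackCarrier

/-!
# Lifting geometric points
-/

universe u

open CategoryTheory CategoryTheory.Limits AlgebraicGeometry

set_option backward.isDefEq.respectTransparency.types false
set_option backward.isDefEq.respectTransparency false

namespace Groth.Agent.Et18

/-- A geometric point with image in a closed subscheme factors through it. -/
theorem exists_fac_of_isClosedImmersion {Z U : Scheme.{u}} (i : Z ⟶ U) [IsClosedImmersion i]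
    {Ω : Type u} [Field Ω] (l : Spec (CommRingCat.of Ω) ⟶ U) (h : l default ∈ Set.range i) :
    ∃ m : Spec (CommRingCat.of Ω) ⟶ Z, m ≫ i = l := by
  have : Surjective (pullback.snd i l) := by
    rw [surjective_iff, ← Set.range_eq_univ, Scheme.Pullback.range_snd, Set.eq_univ_iff_forall]
    intro t
    rw [Subsingleton.elim t default]
    exact h
  have : IsIso (pullback.snd i l) := isIso_of_isClosedImmersion_of_surjective _
  exact ⟨inv (pullback.snd i l) ≫ pullback.fst i l, by
    rw [Category.assoc, pullback.condition, IsIso.inv_hom_id_assoc]⟩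

/-- Over an algebraically closed field a point of a locally quasi-finite scheme is rational. -/
theorem exists_lift_of_locallyQuasiFinite {U V : Scheme.{u}} (k : U ⟶ V) [LocallyQuasiFinite k]
    [LocallyOfFiniteType k] {Ω : Type u} [Field Ω] [IsAlgClosed Ω]
    (a : Spec (CommRingCat.of Ω) ⟶ V) (z : U) (h : k z = a default) :
    ∃ m : Spec (CommRingCat.of Ω) ⟶ U, m ≫ k = a ∧ m default = z := by
  obtain ⟨p, hp, -⟩ := Scheme.Pullback.exists_preimage_pullback (f := k) (g := a) z default h
  have hd := (pullback.snd k a).isDiscrete_preimage_singleton default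
  rw [show pullback.snd k a ⁻¹' {default} = Set.univ from Set.eq_univ_iff_forall.mpr fun q =>
    Subsingleton.elim _ _, isDiscrete_univ_iff] at hd
  have hc : IsClosed ({p} : Set ↥(pullback k a)) := isClosed_discrete _
  refine ⟨pointOfClosedPoint (pullback.snd k a) p hc ≫ pullback.fst k a, ?_, ?_⟩
  · rw [Category.assoc, pullback.condition, pointOfClosedPoint_comp_assoc]
  · rw [Scheme.Hom.comp_apply, pointOfClosedPoint_apply, hp]

end Groth.Agent.Et18
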