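import Groth.Agent.Et18.PropAFaithful
import Groth.Agent.Et18.EtalePieces

/-!
# Elementary facts about the small étale site
-/

universe u

open CategoryTheory CategoryTheory.Limits AlgebraicGeometry Opposite

set_option backward.isDefEq.respectTransparency.types false
set_option backward.isDefEq.respectTransparency false

namespace Groth.Agent.Et18

variable {S : Scheme.{u}}

theorem exists_finset_subcover [CompactSpace ↥S] (U : S.Etale)
    [QuasiCompact U.hom] (ι : Type (u + 1)) (Uf : ι → Over U)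
    (hU : ∀ x : ↥(U.left), ∃ (i : ι) (y : ↥((Uf i).left.left)), (Uf i).hom.left.base y = x) :
    ∃ t : Finset ι, ∀ x : ↥(U.left), ∃ i ∈ t, ∃ y : ↥((Uf i).left.left), (Uf i).hom.left.base y = x := by
  have : CompactSpace U.left := QuasiCompact.compactSpace_of_compactSpace (Y := S) U.hom
  obtain ⟨t, ht⟩ := isCompact_univ.elim_finite_subcover (fun i => Set.range (Uf i).hom.left.base)
    (fun i => haveI := etale_left (Uf i).hom; (Uf i).hom.left.isOpenMap.isOpen_range)
    (fun x _ => let ⟨i, y, hy⟩ := hU x; Set.mem_iUnion.mpr ⟨i, y, hy⟩)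
  refine ⟨t, fun x => ?_⟩
  obtain ⟨i, hi, y, hy⟩ := Set.mem_iUnion₂.mp (ht (Set.mem_univ x))
  exact ⟨i, hi, y, hy⟩

theorem exists_cover_qcqs [QuasiSeparatedSpace ↥S] (U : S.Etale) :
    ∃ (ι : Type u) (V : ι → Over U), (∀ i, QuasiCompact (V i).left.hom ∧ QuasiSeparated (V i).left.hom) ∧
      ∀ x : ↥(U.left), ∃ (i : ι) (y : ↥((V i).left.left)), (V i).hom.left.base y = x := by
  choose O hO hx _ using fun x : U.left =>
    exists_isAffineOpen_mem_and_subset (X := U.left) (x := x) (U := ⊤) trivial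
  refine ⟨U.left, fun x => Over.mk (etalePieceHom U (O x)), fun x => ?_,
    fun x => ⟨x, ⟨x, hx x⟩, rfl⟩⟩
  have : IsAffine (O x : Scheme.{u}) := hO x
  change QuasiCompact ((O x).ι ≫ U.hom) ∧ QuasiSeparated ((O x).ι ≫ U.hom)
  let g : (O x : Scheme.{u}) ⟶ S := (O x).ι ≫ U.hom
  exact ⟨inferInstanceAs (QuasiCompact g), inferInstanceAs (QuasiSeparated g)⟩

theorem exists_vanishing_locus (F : EtCoh.Ab S) (U : S.Etale) (σ : EtCoh.sect F U) :
    ∃ W : U.left.Opens, ∀ (V : S.Etale) (φ : V ⟶ U),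
      F.obj.map φ.op σ = 0 ↔ Set.range φ.left.base ⊆ (W : Set U.left) := by
  refine ⟨⟨⋃ (V : S.Etale) (φ : V ⟶ U) (_ : F.obj.map φ.op σ = 0), Set.range φ.left.base,
    isOpen_iUnion fun V => isOpen_iUnion fun φ => isOpen_iUnion fun _ =>
      haveI := etale_left φ; φ.left.isOpenMap.isOpen_range⟩, fun V φ => ⟨fun h x hx =>
      Set.mem_iUnion.mpr ⟨V, Set.mem_iUnion.mpr ⟨φ, Set.mem_iUnion.mpr ⟨h, hx⟩⟩⟩, fun h => ?_⟩⟩
  have hF : Presieve.IsSheaf S.smallEtaleTopology (F.obj ⋙ forget AddCommGrpCat.{u + 1}) :=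
    (isSheaf_iff_isSheaf_of_type _ _).mp ((sheafCompose _ (forget AddCommGrpCat.{u + 1})).obj F).property
  let R : Sieve V :=
    { arrows := fun Z ψ => F.obj.map ψ.op (F.obj.map φ.op σ) = 0
      downward_closed := fun {Y Z ψ} hψ k => by
        rw [op_comp, Functor.map_comp_apply, hψ, map_zero] }
  have hR : R ∈ S.smallEtaleTopology V := mem_smallEtaleTopology_of_points R fun v => by
    obtain ⟨V', hV'⟩ := Set.mem_iUnion.mp (h ⟨v, rfl⟩)
    obtain ⟨ψ, hψ'⟩ := Set.mem_iUnion.mp hV'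
    obtain ⟨hψ, v', hv'⟩ := Set.mem_iUnion.mp hψ'
    have := etale_left φ
    have := etale_left ψ
    have : Etale V.hom := V.prop
    let Q := pullback φ.left ψ.left
    let Z : S.Etale := Scheme.Etale.mk (pullback.fst φ.left ψ.left ≫ V.hom)
    let a : Z ⟶ V := MorphismProperty.Over.homMk (pullback.fst φ.left ψ.left) rfl
    let b : Z ⟶ V' := MorphismProperty.Over.homMk (pullback.snd φ.left ψ.left) (by
      have h1 : φ.left ≫ U.hom = V.hom := Over.w φ.hom
      have h2 : ψ.left ≫ U.hom = V'.hom := Over.w ψ.hom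
      change _ = pullback.fst φ.left ψ.left ≫ V.hom
      rw [← h1, ← h2, pullback.condition_assoc])
    obtain ⟨z, hz, -⟩ := Scheme.Pullback.exists_preimage_pullback (f := φ.left) (g := ψ.left) v v' hv'.symm
    refine ⟨Z, a, z, ?_, etale_left a, hz⟩
    change F.obj.map a.op (F.obj.map φ.op σ) = 0
    rw [← Functor.map_comp_apply, ← op_comp, show a ≫ φ = b ≫ ψ from etaleHom_ext pullback.condition,
      op_comp, Functor.map_comp_apply, hψ, map_zero]
  refine (hF R hR).isSeparatedFor.ext fun Z f hf => ?_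
  exact (show F.obj.map f.op (F.obj.map φ.op σ) = 0 from hf).trans (map_zero (F.obj.map f.op).hom).symm

end Groth.Agent.Et18
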