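import Groth.Agent.Et18.ShriekPre
import Groth.Agent.Et18.GeomLift
import Groth.Agent.Et18.SmallSiteBasics
import Mathlib.AlgebraicGeometry.ZariskisMainTheorem

/-!
# Stalks of the presheaf of sections with proper support: comparison with the fibre
-/

universe u

open CategoryTheory CategoryTheory.Limits AlgebraicGeometry Opposite

set_option backward.isDefEq.respectTransparency.types false
set_option backward.isDefEq.respectTransparency false

namespace Groth.Agent.Et18

variable {X Y : Scheme.{u}} (f : X ⟶ Y) {Ω : Type u} [Field Ω] [IsAlgClosed Ω]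
  (η : Spec (CommRingCat.of Ω) ⟶ Y) (F : EtCoh.Ab X)

/-- The fibre at `η` of the presheaf of sections with proper support. -/
noncomputable abbrev preFib : AddCommGrpCat.{u + 1} :=
  (Scheme.pointSmallEtale η).presheafFiber.obj (EtShriek.lowerShriekPre f F)

/-- The map to the stalk at a point of the fibre. -/
noncomputable def shriekToFibre (ξ : FibrePts f η) :
    preFib f η F ⟶ (Scheme.pointSmallEtale ξ.1).sheafFiber.obj F :=
  (Scheme.pointSmallEtale η).presheafFiber.map (EtShriek.lowerShriekPreι f F) ≫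
    (fibreNat f η AddCommGrpCat.{u + 1} ξ).app F

lemma shriekToFibre_germ (ξ : FibrePts f η) (V : Y.Etale)
    (v : (Scheme.pointSmallEtale η).fiber.obj V) (s : EtShriek.shriekSubgroup f F V) :
    shriekToFibre f η F ξ ((Scheme.pointSmallEtale η).toPresheafFiber V v
        (EtShriek.lowerShriekPre f F) s) =
      (Scheme.pointSmallEtale ξ.1).toPresheafFiber ((EtCoh.bc f).obj V) (bcLift f η ξ V v)
        F.obj s.1 := by
  have h := congrArg (fun t => t s) ((Scheme.pointSmallEtale η).toPresheafFiber_naturality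
    (EtShriek.lowerShriekPreι f F) V v)
  refine Eq.trans (congrArg (fun p => (fibreNat f η AddCommGrpCat.{u + 1} ξ).app F p) h) ?_
  exact congrArg (fun t => t s.1) (toPresheafFiber_fibreNat f η AddCommGrpCat.{u + 1} ξ F V v)

lemma shriekToFibre_naturality {G : EtCoh.Ab X} (α : F ⟶ G) (ξ : FibrePts f η)
    (p : preFib f η F) :
    shriekToFibre f η G ξ
        ((Scheme.pointSmallEtale η).presheafFiber.map ((EtShriek.lowerShriekPreFunctor f).map α) p) =
      (Scheme.pointSmallEtale ξ.1).sheafFiber.map α (shriekToFibre f η F ξ p) := by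
  obtain ⟨V, v, s, rfl⟩ := (Scheme.pointSmallEtale η).toPresheafFiber_jointly_surjective p
  rw [shriekToFibre_germ]
  have h := congrArg (fun t => t s) ((Scheme.pointSmallEtale η).toPresheafFiber_naturality
    ((EtShriek.lowerShriekPreFunctor f).map α) V v)
  refine Eq.trans (congrArg (fun q => shriekToFibre f η G ξ q) h) ?_
  refine (shriekToFibre_germ f η G ξ V v _).trans ?_
  exact (congrArg (fun t => t s.1) ((Scheme.pointSmallEtale ξ.1).toPresheafFiber_naturality α.hom
    ((EtCoh.bc f).obj V) (bcLift f η ξ V v))).symm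

lemma bcLift_left_fst (ξ : FibrePts f η) (V : Y.Etale)
    (v : (Scheme.pointSmallEtale η).fiber.obj V) :
    (bcLift f η ξ V v).left ≫ EtShriek.prV f V = (v.left : Spec (CommRingCat.of Ω) ⟶ V.left) :=
  pullback.lift_fst _ _ _

lemma prV_fiberPt (ξ : FibrePts f η) (V : Y.Etale)
    (v : (Scheme.pointSmallEtale η).fiber.obj V) :
    EtShriek.prV f V (fiberPt (bcLift f η ξ V v)) = fiberPt v :=
  congrArg (fun k : Spec (CommRingCat.of Ω) ⟶ V.left => k default) (bcLift_left_fst f η ξ V v)

/-- Every geometric point of the base change over `v` comes from a point of the fibre. -/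
lemma exists_fibrePt {V : Y.Etale} (v : (Scheme.pointSmallEtale η).fiber.obj V)
    (l : Spec (CommRingCat.of Ω) ⟶ ((EtCoh.bc f).obj V).left)
    (hl : l ≫ EtShriek.prV f V = (v.left : Spec (CommRingCat.of Ω) ⟶ V.left)) :
    ∃ ξ : FibrePts f η, (bcLift f η ξ V v).left = l := by
  let l' : Spec (CommRingCat.of Ω) ⟶ pullback V.hom f := l
  refine ⟨⟨l' ≫ pullback.snd V.hom f, ?_⟩, ?_⟩
  · rw [Category.assoc, ← pullback.condition, ← Category.assoc]
    exact (congrArg (fun t => t ≫ V.hom) hl).trans (Over.w v)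
  · exact pullback.hom_ext ((pullback.lift_fst _ _ _).trans hl.symm) (pullback.lift_snd _ _ _)

/-- The point of the base change, as a morphism of schemes. -/
noncomputable abbrev bcPt (ξ : FibrePts f η) (V : Y.Etale)
    (v : (Scheme.pointSmallEtale η).fiber.obj V) :
    Spec (CommRingCat.of Ω) ⟶ ((EtCoh.bc f).obj V).left :=
  (bcLift f η ξ V v).left

lemma bcLift_left_injective (V : Y.Etale) (v : (Scheme.pointSmallEtale η).fiber.obj V) :
    Function.Injective fun ξ : FibrePts f η => bcPt f η ξ V v := fun ξ ξ' h =>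
  Subtype.ext ((pullback.lift_snd _ _ _).symm.trans
    ((congrArg (fun k : Spec (CommRingCat.of Ω) ⟶ pullback V.hom f => k ≫ pullback.snd V.hom f)
      h).trans (pullback.lift_snd _ _ _)))

/-- A section with empty support vanishes. -/
theorem eq_zero_of_sectSupp_eq_empty (U : X.Etale) (σ : EtCoh.sect F U)
    (h : EtShriek.sectSupp F U σ = ∅) : σ = 0 := by
  obtain ⟨W, hW⟩ := exists_vanishing_locus F U σ
  refine ((CategoryTheory.Functor.map_id F.obj (op U)) ▸ rfl : σ = F.obj.map (𝟙 (op U)) σ).trans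
    ((hW U (𝟙 U)).mpr fun x _ => ?_)
  have hx : x ∉ EtShriek.sectSupp F U σ := h ▸ Set.notMem_empty x
  simp only [EtShriek.sectSupp, Set.mem_setOf_eq, not_forall, not_not] at hx
  obtain ⟨W', g, ⟨w, hw⟩, hσ⟩ := hx
  exact (hW W' g).mp hσ ⟨w, hw⟩

variable [IsSeparated f] [LocallyOfFiniteType f] [LocallyQuasiFinite f]

omit [IsAlgClosed Ω] in
lemma isFinite_supp {V : Y.Etale} {s : EtCoh.sect F ((EtCoh.bc f).obj V)} (h : PropSupp f F s) :
    IsFinite ((redSub _ (isClosed_sectSupp F _ s)).subschemeι ≫ EtShriek.prV f V) :=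
  haveI : IsProper ((redSub _ (isClosed_sectSupp F _ s)).subschemeι ≫ EtShriek.prV f V) := h.2
  IsFinite.of_isProper_of_locallyQuasiFinite _

/-- Only finitely many components of an element of the stalk are nonzero. -/
theorem finite_support_shriekToFibre (p : preFib f η F) :
    {ξ : FibrePts f η | shriekToFibre f η F ξ p ≠ 0}.Finite := by
  obtain ⟨V, v, s, rfl⟩ := (Scheme.pointSmallEtale η).toPresheafFiber_jointly_surjective p
  have hs := (mem_shriekSubgroup_iff f F s.1).mp s.2
  let Z := redSub _ (isClosed_sectSupp F _ s.1)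
  have := isFinite_supp f F hs
  have := finite_lifts_of_isFinite (Z.subschemeι ≫ EtShriek.prV f V)
    (v.left : Spec (CommRingCat.of Ω) ⟶ V.left)
  have key : ∀ ξ : {ξ : FibrePts f η | shriekToFibre f η F ξ
      ((Scheme.pointSmallEtale η).toPresheafFiber V v (EtShriek.lowerShriekPre f F) s) ≠ 0},
      ∃ m : FibrePts (Z.subschemeι ≫ EtShriek.prV f V)
        (v.left : Spec (CommRingCat.of Ω) ⟶ V.left),
        m.1 ≫ Z.subschemeι = (bcLift f η ξ.1 V v).left := by
    intro ξ
    have hmem : fiberPt (bcLift f η ξ.1 V v) ∈ EtShriek.sectSupp F _ s.1 := by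
      by_contra hn
      exact ξ.2 ((shriekToFibre_germ f η F ξ.1 V v s).trans
        (germ_eq_zero_of_not_mem_sectSupp F _ _ _ _ hn))
    rw [← range_redSub _ (isClosed_sectSupp F _ s.1)] at hmem
    obtain ⟨m, hm⟩ := exists_fac_of_isClosedImmersion Z.subschemeι
      ((bcLift f η ξ.1 V v).left : Spec (CommRingCat.of Ω) ⟶ ((EtCoh.bc f).obj V).left) hmem
    refine ⟨⟨m, ?_⟩, hm⟩
    rw [reassoc_of% hm]
    exact bcLift_left_fst f η ξ.1 V v
  choose m hm using key
  exact Set.finite_coe_iff.mp (Finite.of_injective m fun ξ ξ' h => Subtype.ext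
    (bcLift_left_injective f η V v
      ((hm ξ).symm.trans ((congrArg (fun t => t.1 ≫ Z.subschemeι) h).trans (hm ξ')))))

/-- An element of the stalk is determined by its components. -/
theorem shriekToFibre_injective :
    Function.Injective fun (p : preFib f η F) (ξ : FibrePts f η) => shriekToFibre f η F ξ p := by
  suffices ∀ p, (∀ ξ, shriekToFibre f η F ξ p = 0) → p = 0 by
    intro p q h
    refine sub_eq_zero.mp (this (p - q) fun ξ => ?_)
    rw [map_sub, sub_eq_zero]
    exact congrFun h ξ
  intro p hp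
  obtain ⟨V, v, s, rfl⟩ := (Scheme.pointSmallEtale η).toPresheafFiber_jointly_surjective p
  have hs := (mem_shriekSubgroup_iff f F s.1).mp s.2
  let C := EtShriek.prV f V '' EtShriek.sectSupp F _ s.1
  let O : V.left.Opens := ⟨Cᶜ, (IsProperOver.isClosed_image hs).isOpen_compl⟩
  have hv : fiberPt v ∈ O := by
    rintro ⟨x, hx, hxv⟩
    obtain ⟨l, hl, hlx⟩ := exists_lift_of_locallyQuasiFinite (EtShriek.prV f V)
      (v.left : Spec (CommRingCat.of Ω) ⟶ V.left) x hxv
    obtain ⟨ξ, hξ⟩ := exists_fibrePt f η v l hl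
    refine not_mem_sectSupp_of_germ_eq_zero F _ _ _ (bcLift f η ξ V v)
      ((shriekToFibre_germ f η F ξ V v s).symm.trans (hp ξ)) ?_
    convert hx
    exact (congrArg (fun k : Spec (CommRingCat.of Ω) ⟶ _ => k default) hξ).trans hlx
  obtain ⟨v', hv'⟩ : ∃ v' : (Scheme.pointSmallEtale η).fiber.obj (etalePiece V O),
      (Scheme.pointSmallEtale η).fiber.map (etalePieceHom V O) v' = v := by
    let vl : Spec (CommRingCat.of Ω) ⟶ V.left := v.left
    refine ⟨Over.homMk (IsOpenImmersion.lift O.ι vl ?_) ?_,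
      Over.OverMorphism.ext (IsOpenImmersion.lift_fac _ _ _)⟩
    · rintro _ ⟨t, rfl⟩
      exact ⟨⟨_, hv⟩, congrArg vl (Subsingleton.elim (α := Spec (CommRingCat.of Ω)) default t)⟩
    · refine (Category.assoc _ _ _).symm.trans ?_
      rw [IsOpenImmersion.lift_fac]
      exact Over.w v
  have h0 : (EtShriek.lowerShriekPre f F).map (etalePieceHom V O).op s = 0 := by
    refine Subtype.ext ?_
    change F.obj.map ((EtCoh.bc f).map (etalePieceHom V O)).op s.1 = 0
    refine eq_zero_of_sectSupp_eq_empty F _ _ (Set.eq_empty_iff_forall_notMem.mpr fun x hx => ?_)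
    have h1 := sectSupp_restrict_subset F _ _ hx
    have h2 := congrArg (fun k : _ ⟶ V.left => k x) (isPullback_prV f (etalePieceHom V O)).w
    have hO : (etalePieceHom V O).left (EtShriek.prV f (etalePiece V O) x) ∈ O :=
      (EtShriek.prV f (etalePiece V O) x : O.toScheme).2
    exact hO ⟨_, h1, h2⟩
  rw [← hv', ← GrothendieckTopology.Point.toPresheafFiber_w_apply, h0, map_zero]

end Groth.Agent.Et18
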