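import Groth.Agent.Et18.AlgClosedFunctionField
import Groth.Agent.Et18.Recollement
import Groth.Agent.Et18.ShriekFibre
import Groth.Agent.Et18.ConsColim
import Groth.Agent.VarietyLib.DivisorGlue
import Mathlib.FieldTheory.PurelyInseparable.Basic
import Mathlib.RingTheory.Jacobson.Ring
import Mathlib.AlgebraicGeometry.ResidueField
import Mathlib.AlgebraicGeometry.Morphisms.Preimmersion

/-!
# Sheaves supported at closed points of a scheme of finite type over a separably closed field
-/

set_option autoImplicit false

universe u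

open CategoryTheory CategoryTheory.Limits AlgebraicGeometry Opposite CategoryTheory.Abelian

set_option backward.isDefEq.respectTransparency.types false
set_option backward.isDefEq.respectTransparency false

namespace Groth.Agent.Et18.ClosedPointSupport

variable {K : Type u} [Field K] {X : Scheme.{u}} (a : X ⟶ Spec (CommRingCat.of K)) [LocallyOfFiniteType a]

include a in
theorem isSepClosed_residueField [IsSepClosed K] {x : X} (hx : IsClosed ({x} : Set X)) :
    IsSepClosed (X.residueField x) := by
  haveI : IsClosedImmersion (X.fromSpecResidueField x) :=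
    IsClosedImmersion.of_isPreimmersion _ (by rw [Scheme.range_fromSpecResidueField]; exact hx)
  obtain ⟨φ, hφ⟩ := Spec.map_surjective (X.fromSpecResidueField x ≫ a)
  letI : Algebra K (X.residueField x) := φ.hom.toAlgebra
  haveI : Algebra.FiniteType K (X.residueField x) := by
    have h : LocallyOfFiniteType (Spec.map φ) := hφ ▸ inferInstance
    exact RingHom.finiteType_algebraMap.1 ((HasRingHomProperty.Spec_iff (P := @LocallyOfFiniteType)).1 h)
  haveI := finite_of_finite_type_of_isJacobsonRing K (X.residueField x)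
  exact Algebra.IsAlgebraic.isSepClosed (F := K) (E := X.residueField x)

theorem supp_subset_of_isZero_pull {U Y : Scheme.{u}} (f : U ⟶ Y) {F : EtCoh.Ab Y}
    (h : IsZero ((EtCoh.pull f).obj F)) : EtPBC.supp F ⊆ (Set.range f)ᶜ := by
  rintro _ hx ⟨u, rfl⟩
  have hu : u ∈ EtPBC.supp ((EtCoh.pull f).obj F) := by rw [supp_pull]; exact hx
  exact (mem_supp_iff _ (sepPoint U u) (sepPoint_default U u)).1 hu ((EtCoh.stalk _).map_isZero h)

theorem isZero_of_supp_empty {Y : Scheme.{u}} {F : EtCoh.Ab Y} (h : EtPBC.supp F = ∅) : IsZero F :=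
  isZero_of_stalks fun x => isZero_stalk_of_not_mem_supp (sepPoint Y x) (h ▸ Set.notMem_empty _)

theorem isZero_pull_of_disjoint {U Y : Scheme.{u}} (f : U ⟶ Y) {F : EtCoh.Ab Y}
    (h : Disjoint (EtPBC.supp F) (Set.range f)) : IsZero ((EtCoh.pull f).obj F) := by
  refine isZero_of_supp_empty (Set.eq_empty_iff_forall_notMem.2 fun u hu => ?_)
  rw [supp_pull] at hu
  exact Set.disjoint_left.1 h hu ⟨u, rfl⟩

theorem supp_mono {Y : Scheme.{u}} {F G : EtCoh.Ab Y} (φ : F ⟶ G) [Mono φ] :
    EtPBC.supp F ⊆ EtPBC.supp G := fun x hx => by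
  rw [mem_supp_iff _ (sepPoint Y x) (sepPoint_default Y x)] at hx ⊢
  exact fun h => hx (IsZero.of_mono ((EtCoh.stalk (sepPoint Y x)).map φ) h)

variable [IsSepClosed K]

include a in
theorem subsingleton_H_skyscraper {x : X} (hx : IsClosed ({x} : Set X))
    (G : EtCoh.Ab (Spec (X.residueField x))) (q : ℕ) (hq : 0 < q) :
    Subsingleton (EtCoh.H X ((EtCoh.push (X.fromSpecResidueField x)).obj G) q) := by
  haveI : IsClosedImmersion (X.fromSpecResidueField x) :=
    IsClosedImmersion.of_isPreimmersion _ (by rw [Scheme.range_fromSpecResidueField]; exact hx)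
  haveI := isSepClosed_residueField a hx
  exact (CdField.subsingleton_H_push_iff _ G q).2
    (AlgClosedFunctionField.subsingleton_H (X.residueField x) G q hq)

include a in
theorem subsingleton_H_of_finite_supp (S : Finset X) (hS : ∀ x ∈ S, IsClosed ({x} : Set X))
    (F : EtCoh.Ab X) (hF : EtPBC.supp F ⊆ S) (q : ℕ) (hq : 0 < q) : Subsingleton (EtCoh.H X F q) := by
  classical
  induction S using Finset.induction_on generalizing F with
  | empty => exact Sheaf.subsingleton_H_of_isZero (isZero_of_supp_empty (Set.eq_empty_of_subset_empty (by simpa using hF))) q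
  | insert x S hxS ih =>
    have hx := hS x (Finset.mem_insert_self x S)
    let i := X.fromSpecResidueField x
    haveI : IsClosedImmersion i :=
      IsClosedImmersion.of_isPreimmersion _ (by rw [Scheme.range_fromSpecResidueField]; exact hx)
    let O : X.Opens := ⟨{x}ᶜ, hx.isOpen_compl⟩
    have hO : Set.range O.ι = (Set.range i)ᶜ := by
      rw [Scheme.Opens.range_ι, Scheme.range_fromSpecResidueField]; rfl
    let η := (EtCoh.pullPushAdj i).unit.app F
    haveI : Epi η := by
      haveI : Epi ((EtCoh.pull O.ι).map η) :=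
        (isZero_pull_push_compl hO _).epi _
      exact epi_of_pulls (jointlySurjective_of_compl hO) η
    let T := ShortComplex.mk (kernel.ι η) η (kernel.condition η)
    have hT : T.ShortExact :=
      { exact := ShortComplex.exact_kernel η
        mono_f := inferInstanceAs (Mono (kernel.ι η))
        epi_g := inferInstanceAs (Epi η) }
    refine CdField.subsingleton_of_shortExact hT (ih (fun y hy => hS y (Finset.mem_insert_of_mem hy)) _ ?_)
      (subsingleton_H_skyscraper a hx _ q hq)
    intro y hy
    have hyx : y ∉ Set.range i := supp_subset_of_isZero_pull i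
      (IsZero.of_iso (isZero_kernel_of_mono _) (PreservesKernel.iso _ η)) hy
    have h' := hF (supp_mono (kernel.ι η) hy)
    rw [Finset.coe_insert, Set.mem_insert_iff] at h'
    exact h'.resolve_left fun h => hyx (by rw [Scheme.range_fromSpecResidueField]; exact h)

/-- The complement of a finite set of closed points. -/
def away (S : Finset (ULift.{u + 1} {x : X // IsClosed ({x} : Set X)})) : X.Opens :=
  ⟨(⋃ p ∈ S, ({p.down.1} : Set X))ᶜ, (S.finite_toSet.isClosed_biUnion fun p _ => p.down.2).isOpen_compl⟩

theorem away_antitone {S S' : Finset (ULift.{u + 1} {x : X // IsClosed ({x} : Set X)})} (h : S ⊆ S') :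
    away S' ≤ away S :=
  Set.compl_subset_compl.2 (Set.biUnion_subset_biUnion_left h)

variable (F : EtCoh.Ab X)

/-- The unit at an open piece. -/
noncomputable def unitAt (U : X.Opens) : F ⟶ (EtCoh.push U.ι).obj ((EtCoh.pull U.ι).obj F) :=
  (EtCoh.pullPushAdj U.ι).unit.app F

instance isIso_pull_unitAt (U : X.Opens) : IsIso ((EtCoh.pull U.ι).map (unitAt F U)) :=
  isIso_pull_map_unit U.ι F

theorem kernel_comp_unitAt {U V : X.Opens} (h : V ≤ U) : kernel.ι (unitAt F U) ≫ unitAt F V = 0 := by
  apply ((EtCoh.pullPushAdj V.ι).homEquiv _ _).symm.injective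
  refine IsZero.eq_of_src (isZero_pull_of_disjoint _ ?_) _ _
  refine Disjoint.mono_right ?_ (Set.subset_compl_iff_disjoint_right.1 (supp_subset_of_isZero_pull U.ι
    (IsZero.of_iso (isZero_kernel_of_mono _) (PreservesKernel.iso _ (unitAt F U)))))
  rw [Scheme.Opens.range_ι, Scheme.Opens.range_ι]
  exact h

/-- The parts supported on finite sets of closed points. -/
noncomputable def diag : Finset (ULift.{u + 1} {x : X // IsClosed ({x} : Set X)}) ⥤ EtCoh.Ab X where
  obj S := kernel (unitAt F (away S))
  map {S S'} f := kernel.lift _ (kernel.ι _) (kernel_comp_unitAt F (away_antitone (leOfHom f)))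
  map_id S := by rw [← cancel_mono (kernel.ι _)]; simp
  map_comp f g := by rw [← cancel_mono (kernel.ι _)]; simp

noncomputable def cocone : Cocone (diag F) where
  pt := F
  ι :=
    { app := fun S => kernel.ι _
      naturality := fun S S' f => (kernel.lift_ι _ _ _).trans (Category.comp_id _).symm }

theorem supp_diag_subset (S : Finset (ULift.{u + 1} {x : X // IsClosed ({x} : Set X)})) :
    EtPBC.supp ((diag F).obj S) ⊆ ⋃ p ∈ S, ({p.down.1} : Set X) := by
  refine (supp_subset_of_isZero_pull (away S).ι
    (IsZero.of_iso (isZero_kernel_of_mono _) (PreservesKernel.iso _ (unitAt F (away S))))).trans ?_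
  rw [Scheme.Opens.range_ι]
  exact (compl_compl _).le

include a in
theorem nonempty_isColimit (hF : ∀ x ∈ EtPBC.supp F, IsClosed ({x} : Set X)) :
    Nonempty (IsColimit (cocone F)) := by
  classical
  refine nonempty_isColimit_of_stalks _ (fun y t => ?_) fun y S b hb => ?_
  · let Φ := Scheme.pointSmallEtale (sepPoint X y)
    obtain ⟨W, v, s, rfl⟩ := Φ.toPresheafFiber_jointly_surjective (P := F.obj) t
    haveI : Etale W.hom := W.prop
    obtain ⟨_, ⟨(V : W.left.Opens), hV, rfl⟩, hv, -⟩ :=
      W.left.isBasis_affineOpens.exists_subset_of_mem_open (Set.mem_univ (fiberPt v)) isOpen_univ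
    let W' : X.Etale := MorphismProperty.Over.mk ⊤ (V.ι ≫ W.hom) (inferInstanceAs (Etale (V.ι ≫ W.hom)))
    let g : W' ⟶ W := MorphismProperty.Over.homMk V.ι rfl
    obtain ⟨v', rfl⟩ := UnitConst.exists_lift_nhd g v ⟨⟨_, hv⟩, rfl⟩
    let s' : EtCoh.sect F W' := F.obj.map g.op s
    haveI : Etale W'.hom := W'.prop
    haveI : IsAffine W'.left := hV
    haveI : LocallyOfFiniteType (W'.hom ≫ a) := inferInstance
    haveI : IsLocallyNoetherian W'.left := LocallyOfFiniteType.isLocallyNoetherian (W'.hom ≫ a)
    haveI : IsNoetherian W'.left := ⟨⟩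
    let Z := EtShriek.sectSupp F W' s'
    have hZmem : ∀ z ∈ Z, W'.hom z ∈ EtPBC.supp F := fun z hz => by
      rw [supp_eq_union]
      exact Set.mem_iUnion.2 ⟨W', Set.mem_iUnion.2 ⟨s', z, hz, rfl⟩⟩
    have hZpt : ∀ z ∈ Z, IsClosed ({z} : Set W'.left) := fun z hz => by
      let P := W'.hom ⁻¹' {W'.hom z}
      haveI := isDiscrete_iff_discreteTopology.mp (W'.hom.isDiscrete_preimage_singleton (W'.hom z))
      have hP : IsClosed P := (hF _ (hZmem z hz)).preimage W'.hom.continuous
      have := hP.isClosedMap_subtype_val _ (isClosed_discrete ({⟨z, rfl⟩} : Set P))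
      simpa using this
    have hfin : Z.Finite :=
      VarietyLib.finite_of_forall_isClosed (isClosed_sectSupp F W' s') hZpt
    let S : Finset (ULift.{u + 1} {x : X // IsClosed ({x} : Set X)}) :=
      hfin.toFinset.attach.image fun z => ⟨⟨W'.hom z.1, hF _ (hZmem z.1 (hfin.mem_toFinset.1 z.2))⟩⟩
    have hs : (unitAt F (away S)).hom.app (op W') s' = 0 := by
      refine eq_zero_of_sectSupp_eq_empty _ W' _ (Set.eq_empty_iff_forall_notMem.2 fun w hw => ?_)
      by_cases hwZ : w ∈ Z
      · let j := (away S).ι
        refine hw W' (𝟙 W') ⟨w, rfl⟩ ?_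
        rw [op_id, CategoryTheory.Functor.map_id]
        change (unitAt F (away S)).hom.app (op W') s' = 0
        refine eq_zero_of_sectSupp_eq_empty ((EtCoh.pull j).obj F) ((EtCoh.bc j).obj W') _
          (Set.eq_empty_iff_forall_notMem.2 fun p hp => ?_)
        have hpZ : (pullback.fst W'.hom j p) ∉ Z := fun h => by
          have h1 : W'.hom (pullback.fst W'.hom j p) = j (pullback.snd W'.hom j p) :=
            congrArg (fun k : pullback W'.hom j ⟶ X => k p) pullback.condition
          have h2 : j (pullback.snd W'.hom j p) ∈ (away S : Set X) := (pullback.snd W'.hom j p).2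
          refine h2 (Set.mem_iUnion₂.2 ⟨⟨⟨W'.hom (pullback.fst W'.hom j p), hF _ (hZmem _ h)⟩⟩, ?_, h1.symm⟩)
          exact Finset.mem_image.2 ⟨⟨_, hfin.mem_toFinset.2 h⟩, Finset.mem_attach _ _, rfl⟩
        change ¬ ∀ (W : X.Etale) (g : W ⟶ W'), (∃ w, g.left w = pullback.fst W'.hom j p) → F.obj.map g.op s' ≠ 0 at hpZ
        push Not at hpZ
        obtain ⟨V', r, ⟨u', hu'⟩, hr⟩ := hpZ
        obtain ⟨q, -, hq⟩ := Scheme.Pullback.exists_preimage_pullback (f := r.left)
          (g := pullback.fst W'.hom j) u' p hu'
        let m : pullback r.left (pullback.fst W'.hom j) ⟶ pullback V'.hom j :=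
          pullback.lift (pullback.fst _ _) (pullback.snd _ _ ≫ pullback.snd _ _) (by
            have hw' : r.left ≫ W'.hom = V'.hom := Over.w r.hom
            refine (congrArg (pullback.fst _ _ ≫ ·) hw'.symm).trans ?_
            refine (pullback.condition_assoc _).trans ?_
            exact (congrArg (pullback.snd _ _ ≫ ·) pullback.condition).trans (Category.assoc _ _ _).symm)
        refine hp ((EtCoh.bc j).obj V') ((EtCoh.bc j).map r) ⟨m q, ?_⟩ ?_
        · have hm : m ≫ ((EtCoh.bc j).map r).left = pullback.snd r.left (pullback.fst W'.hom j) := by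
            refine pullback.hom_ext ?_ ?_
            · refine (Category.assoc _ _ _).trans ((congrArg (m ≫ ·) (pullback.lift_fst _ _ _)).trans ?_)
              refine (Category.assoc _ _ _).symm.trans ((congrArg (· ≫ r.left) (pullback.lift_fst _ _ _)).trans ?_)
              exact pullback.condition
            · refine (Category.assoc _ _ _).trans ((congrArg (m ≫ ·) (pullback.lift_snd _ _ _)).trans ?_)
              exact pullback.lift_snd _ _ _
          exact (congrArg (fun k : pullback r.left (pullback.fst W'.hom j) ⟶ _ => k q) hm).trans hq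
        · refine (NatTrans.naturality_apply (unitAt F (away S)).hom r.op s').symm.trans ?_
          rw [hr, map_zero]
      · simp only [Z, EtShriek.sectSupp, Set.mem_setOf_eq, not_forall, not_not] at hwZ
        obtain ⟨V', r, hr, hr0⟩ := hwZ
        refine hw V' r hr ((NatTrans.naturality_apply (unitAt F (away S)).hom r.op s').symm.trans ?_)
        rw [hr0, map_zero]
    have ht : (EtCoh.stalk (sepPoint X y)).map (unitAt F (away S))
        (Φ.toPresheafFiber W' v' F.obj s') = 0 := by
      refine (Φ.toPresheafFiber_naturality_apply (unitAt F (away S)).hom _ _ _).trans ?_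
      rw [hs, map_zero]
    obtain ⟨k, hk⟩ := stalk_exact_kernel (unitAt F (away S)) (sepPoint X y) _ ht
    exact ⟨S, k, hk.trans (Φ.toPresheafFiber_w_apply g v' F.obj s)⟩
  · refine ⟨S, 𝟙 S, ?_⟩
    have : Mono ((cocone F).ι.app S) := inferInstanceAs (Mono (kernel.ι _))
    rw [CategoryTheory.Functor.map_id, CategoryTheory.Functor.map_id]
    exact (AddCommGrpCat.mono_iff_injective ((EtCoh.stalk (sepPoint X y)).map ((cocone F).ι.app S))).1
      inferInstance (hb.trans (map_zero _).symm)

include a in
theorem subsingleton_H [QuasiCompact a] (hF : ∀ x ∈ EtPBC.supp F, IsClosed ({x} : Set X)) (q : ℕ) (hq : 0 < q) :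
    Subsingleton (EtCoh.H X F q) := by
  classical
  haveI : IsLocallyNoetherian X := LocallyOfFiniteType.isLocallyNoetherian a
  haveI : CompactSpace X := QuasiCompact.compactSpace_of_compactSpace a
  obtain ⟨hc⟩ := nonempty_isColimit a F hF
  have := EtCechLib.preservesColimitsOfShape_HF (X := X) q
    (Finset (ULift.{u + 1} {x : X // IsClosed ({x} : Set X)}))
  have key : ∀ z : EtCoh.H X F q, z = 0 := fun z => by
    obtain ⟨S, b, rfl⟩ := Concrete.isColimit_exists_rep _ (isColimitOfPreserves (EtCoh.HF X q) hc) z
    haveI := subsingleton_H_of_finite_supp a (S.image fun p => p.down.1) (fun x hx => by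
      obtain ⟨p, -, rfl⟩ := Finset.mem_image.1 hx; exact p.down.2) ((diag F).obj S)
      ((supp_diag_subset F S).trans (by intro x hx; simpa using hx)) q hq
    rw [show b = 0 from Subsingleton.elim (α := EtCoh.H X ((diag F).obj S) q) _ _, map_zero]
  exact ⟨fun a b => (key a).trans (key b).symm⟩

end Groth.Agent.Et18.ClosedPointSupport
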