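import Groth.Agent.GalEt.BrTrivial
import Groth.Agent.HenselLib.Olivier
import Groth.Agent.HenselLib.Perm
import Mathlib.FieldTheory.KummerExtension
import Mathlib.FieldTheory.PurelyInseparable.Basic

/-!
# Cohomological dimension of fraction fields of strictly henselian discrete valuation rings

Prime to the residue characteristic, norms from cyclic extensions are surjective, so `cd ≤ 1`.
-/

set_option autoImplicit false
set_option linter.all false
set_option backward.isDefEq.respectTransparency.types false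
set_option backward.isDefEq.respectTransparency false
set_option maxHeartbeats 1000000

universe u

open CategoryTheory CategoryTheory.Limits AlgebraicGeometry Opposite Polynomial IsLocalRing IntermediateField
open Groth.Agent.Et18 Groth.Agent.Et18.CdField

noncomputable section

namespace Groth.Agent.Et18.CdSHFrac

section Roots

variable (S : Type u) [CommRing S] [HenselianLocalRing S] [IsSepClosed (ResidueField S)] {p : ℕ}

/-- Units are `p`-th powers for `p` prime to the residue characteristic. -/
theorem exists_pow_eq_unit (hp : 0 < p) (hpk : (p : ResidueField S) ≠ 0) (u : Sˣ) :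
    ∃ w : Sˣ, (w : S) ^ p = u := by
  have := Groth.Agent.HenselLib.henselianRing_maximalIdeal S
  haveI : NeZero (p : ResidueField S) := ⟨hpk⟩
  obtain ⟨w0, hw0⟩ := IsSepClosed.exists_pow_nat_eq (residue S u) p
  obtain ⟨a0, rfl⟩ := residue_surjective w0
  have ha0 : residue S a0 ≠ 0 := fun h => by
    rw [h, zero_pow hp.ne'] at hw0
    exact (residue_ne_zero_iff_isUnit (u : S)).mpr u.isUnit hw0.symm
  obtain ⟨a, ha, haa⟩ := Groth.Agent.HenselLib.exists_root (maximalIdeal S) (X ^ p - C (u : S)) a0
    (Ideal.Quotient.eq_zero_iff_mem.mp (by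
      show residue S _ = 0
      simp [hw0]))
    (by
      show IsUnit (residue S _)
      rw [derivative_sub, derivative_X_pow, derivative_C, sub_zero, eval_mul, eval_C, eval_pow, eval_X,
        map_mul, map_natCast, map_pow]
      exact IsUnit.mk0 _ (mul_ne_zero hpk (pow_ne_zero _ ha0)))
  have hae : a ^ p = u := by simpa [sub_eq_zero] using ha
  have hu : IsUnit a := (isUnit_pow_iff hp.ne').mp (hae ▸ u.isUnit)
  exact ⟨hu.unit, hae⟩

/-- There is a primitive `p`-th root of unity. -/
theorem exists_primitiveRoot (hp : 0 < p) (hpk : (p : ResidueField S) ≠ 0) : ∃ ζ : S, IsPrimitiveRoot ζ p := by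
  have := Groth.Agent.HenselLib.henselianRing_maximalIdeal S
  haveI : NeZero (p : ResidueField S) := ⟨hpk⟩
  obtain ⟨ζ0, hr⟩ := IsSepClosed.exists_root (cyclotomic p (ResidueField S))
    (degree_cyclotomic_pos p _ hp).ne' (separable_cyclotomic p _)
  have hζ0 : IsPrimitiveRoot ζ0 p := Polynomial.isRoot_cyclotomic_iff.1 hr
  obtain ⟨a0, rfl⟩ := residue_surjective ζ0
  have ha0 : residue S a0 ≠ 0 := hζ0.ne_zero hp.ne'
  obtain ⟨a, ha, haa⟩ := Groth.Agent.HenselLib.exists_root (maximalIdeal S) (X ^ p - C 1) a0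
    (Ideal.Quotient.eq_zero_iff_mem.mp (by
      show residue S _ = 0
      simp [hζ0.pow_eq_one]))
    (by
      show IsUnit (residue S _)
      rw [derivative_sub, derivative_X_pow, derivative_C, sub_zero, eval_mul, eval_C, eval_pow, eval_X,
        map_mul, map_natCast, map_pow]
      exact IsUnit.mk0 _ (mul_ne_zero hpk (pow_ne_zero _ ha0)))
  have hae : a ^ p = 1 := by simpa [sub_eq_zero] using ha
  have hres : residue S a = residue S a0 := Ideal.Quotient.eq.mpr haa
  exact ⟨a, hae, fun l hl => hζ0.dvd_of_pow_eq_one l (by rw [← hres, ← map_pow, hl, map_one])⟩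

end Roots

/-- Norms from a cyclic extension of degree `p` of the fraction field of a DVR whose units are `p`-th
powers are surjective. -/
theorem norm_surjective_of_units (S K L : Type u) [CommRing S] [IsDomain S] [IsDiscreteValuationRing S]
    [Field K] [Algebra S K] [IsFractionRing S K] [Field L] [Algebra K L] [FiniteDimensional K L]
    [IsGalois K L] {p : ℕ} (hp : p.Prime) (hL : Module.finrank K L = p)
    (hu : ∀ u : Sˣ, ∃ w : Sˣ, (w : S) ^ p = u) (ζ : K) (hζ : IsPrimitiveRoot ζ p) (x : K) (hx : x ≠ 0) :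
    ∃ y : L, Algebra.norm K y = x := by
  haveI := Fact.mk hp
  haveI : IsCyclic Gal(L/K) := isCyclic_of_prime_card (p := p) (by rw [IsGalois.card_aut_eq_finrank, hL])
  obtain ⟨α, ⟨a, ha⟩, hα⟩ := exists_root_adjoin_eq_top_of_isCyclic K L
    ⟨ζ, by rw [hL, mem_primitiveRoots hp.pos]; exact hζ⟩
  have hirr := irreducible_X_pow_sub_C_of_root_adjoin_eq_top ha.symm hα
  rw [hL] at ha hirr
  have hint : IsIntegral K α := Algebra.IsIntegral.isIntegral α
  have hmin : minpoly K α = X ^ p - C a :=
    (minpoly.eq_of_irreducible_of_monic hirr (by simp [aeval_X_pow, ha])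
      (monic_X_pow_sub_C a hp.ne_zero)).symm
  let e : K⟮α⟯ ≃ₐ[K] L := (IntermediateField.equivOfEq hα).trans IntermediateField.topEquiv
  let pb := (IntermediateField.adjoin.powerBasis hint).map e
  have hgen : pb.gen = α := rfl
  have hnorm : Algebra.norm K α = (-1) ^ (p + 1) * a := by
    rw [← hgen, Algebra.PowerBasis.norm_gen_eq_coeff_zero_minpoly, hgen, hmin, ← pb.natDegree_minpoly,
      hgen, hmin, natDegree_X_pow_sub_C]
    simp [hp.ne_zero, Nat.ne_of_lt hp.pos, pow_succ]
  have ha0 : a ≠ 0 := fun h =>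
    (X_pow_sub_C_irreducible_iff_of_prime hp).1 hirr 0 (by rw [h, zero_pow hp.ne_zero])
  obtain ⟨π, hπ⟩ := IsDiscreteValuationRing.exists_irreducible S
  let ϖ : Kˣ := Units.mk0 (algebraMap S K π) ((map_ne_zero_iff _ (IsFractionRing.injective S K)).2 hπ.ne_zero)
  -- every element is a `p`-th power times a power of the uniformiser
  have hdec : ∀ z : Kˣ, ∃ (w : Kˣ) (m : ℤ), z = w ^ p * ϖ ^ m := by
    intro z
    obtain ⟨s, t, ht, hst⟩ := IsFractionRing.div_surjective (A := S) (z : K)
    have hs0 : s ≠ 0 := fun h => z.ne_zero (by rw [← hst, h, map_zero, zero_div])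
    obtain ⟨i, u, rfl⟩ := IsDiscreteValuationRing.eq_unit_mul_pow_irreducible hs0 hπ
    obtain ⟨j, v, rfl⟩ := IsDiscreteValuationRing.eq_unit_mul_pow_irreducible (nonZeroDivisors.ne_zero ht) hπ
    obtain ⟨w, hw⟩ := hu u
    obtain ⟨w', hw'⟩ := hu v
    let W : Sˣ →* Kˣ := Units.map (algebraMap S K).toMonoidHom
    refine ⟨W w / W w', (i : ℤ) - j, ?_⟩
    rw [zpow_sub, zpow_natCast, zpow_natCast, div_pow]
    ext
    simp only [Units.val_mul, Units.val_div_eq_div_val, Units.val_pow_eq_pow_val, Units.val_inv_eq_inv_val,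
      Units.coe_map, Units.val_mk0, W, ϖ, RingHom.toMonoidHom_eq_coe, MonoidHom.coe_coe]
    rw [← hst, ← map_pow, ← map_pow, hw, hw', map_mul, map_mul, map_pow, map_pow]
    field_simp
  let N : Subgroup Kˣ := (Units.map (Algebra.norm K : L →* K)).range
  have hpow : ∀ w : Kˣ, w ^ p ∈ N := fun w =>
    ⟨Units.map (algebraMap K L).toMonoidHom w, Units.ext (by
      show Algebra.norm K (algebraMap K L w) = _
      rw [Algebra.norm_algebraMap, hL, Units.val_pow_eq_pow_val])⟩
  obtain ⟨w, m, hm⟩ := hdec (Units.mk0 a ha0)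
  have hmp : ¬ (p : ℤ) ∣ m := by
    rintro ⟨m', rfl⟩
    refine (X_pow_sub_C_irreducible_iff_of_prime hp).1 hirr ((w * ϖ ^ m' : Kˣ) : K) ?_
    rw [← Units.val_pow_eq_pow_val, mul_pow, ← zpow_natCast (ϖ ^ m'), ← zpow_mul, mul_comm m', ← hm,
      Units.val_mk0]
  obtain ⟨d, hd⟩ := hu ((-1) ^ (p + 1))
  have hαN : ϖ ^ m ∈ N := by
    have h1 : (Units.map (algebraMap S K).toMonoidHom d * w) ^ p * ϖ ^ m ∈ N := by
      have hα0 : α ≠ 0 := fun h => ha0 ((algebraMap K L).injective (by
        rw [ha, h, zero_pow hp.ne_zero, map_zero]))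
      refine ⟨Units.mk0 α hα0, Units.ext ?_⟩
      show Algebra.norm K α = _
      rw [mul_pow, mul_assoc, ← hm, Units.val_mul, Units.val_pow_eq_pow_val, Units.val_mk0, hnorm]
      refine congrArg (· * a) ?_
      show _ = algebraMap S K (d : S) ^ p
      rw [← map_pow, hd, Units.val_pow_eq_pow_val, Units.val_neg, Units.val_one, map_pow, map_neg, map_one]
    exact (N.mul_mem_cancel_left (hpow _)).1 h1
  have hϖ : ϖ ∈ N := by
    obtain ⟨s, t, hst⟩ : ∃ s t : ℤ, s * m + t * p = 1 := by
      have hc : IsCoprime m (p : ℤ) := ((Nat.prime_iff_prime_int.1 hp).coprime_iff_not_dvd.2 hmp).symm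
      exact hc
    rw [show ϖ = (ϖ ^ m) ^ s * (ϖ ^ t) ^ p by
      rw [← zpow_natCast (ϖ ^ t), ← zpow_mul, ← zpow_mul, ← zpow_add, mul_comm m s, hst, zpow_one]]
    exact N.mul_mem (N.zpow_mem hαN s) (hpow _)
  obtain ⟨w', m', hm'⟩ := hdec (Units.mk0 x hx)
  obtain ⟨y, hy⟩ : Units.mk0 x hx ∈ N := hm' ▸ N.mul_mem (hpow w') (N.zpow_mem hϖ m')
  exact ⟨y, congrArg Units.val hy⟩

/-- Norm surjectivity for finite separable extensions of the fraction field. -/
theorem normSurj (R K : Type u) [CommRing R] [IsDomain R] [IsDiscreteValuationRing R] [HenselianLocalRing R]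
    [IsSepClosed (ResidueField R)] [Field K] [Algebra R K] [IsFractionRing R K] {p : ℕ} (hp : p.Prime)
    (hpR : IsUnit (p : R)) : GalEt.NormSurj K p := by
  intro K' _ _ _ _ L _ _ _ _ hL x hx
  letI : Algebra R K' := ((algebraMap K K').comp (algebraMap R K)).toAlgebra
  haveI : IsScalarTower R K K' := IsScalarTower.of_algebraMap_eq' rfl
  let S := integralClosure R K'
  haveI : IsDedekindDomain S := integralClosure.isDedekindDomain R K K'
  haveI : IsFractionRing S K' := integralClosure.isFractionRing_of_finite_extension K K'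
  haveI : Module.Finite R S := IsIntegralClosure.finite R K K' S
  haveI : IsLocalRing S := HenselLib.Olivier.isLocalRing_of_integral_domain (A := R) S
  have hinj : Function.Injective (algebraMap R S) := by
    refine Function.Injective.of_comp (f := algebraMap S K') ?_
    rw [← RingHom.coe_comp, ← IsScalarTower.algebraMap_eq R S K', IsScalarTower.algebraMap_eq R K K',
      RingHom.coe_comp]
    exact (algebraMap K K').injective.comp (IsFractionRing.injective R K)
  haveI : FaithfulSMul R S := (faithfulSMul_iff_algebraMap_injective R S).2 hinj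
  haveI : IsLocalHom (algebraMap R S) := Algebra.IsIntegral.isLocalHom R S
  have hnf : ¬ IsField S := fun h => IsDiscreteValuationRing.not_isField R
    (isField_of_isIntegral_of_isField hinj h)
  haveI : IsDiscreteValuationRing S :=
    (List.TFAE.out (IsDiscreteValuationRing.TFAE S hnf) 0 2 : IsDiscreteValuationRing S ↔ IsDedekindDomain S).2 inferInstance
  haveI : HenselianLocalRing S := HenselLib.henselianLocalRing_of_isIntegral R S
  haveI : Module.Finite (ResidueField R) (ResidueField S) := inferInstance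
  haveI : Algebra.IsAlgebraic (ResidueField R) (ResidueField S) := Algebra.IsAlgebraic.of_finite _ _
  haveI : IsSepClosed (ResidueField S) := Algebra.IsAlgebraic.isSepClosed (F := ResidueField R)
  have hpk : (p : ResidueField S) ≠ 0 := by
    have := ((hpR.map (algebraMap R S)).map (residue S)).ne_zero
    rwa [map_natCast, map_natCast] at this
  obtain ⟨ζ, hζ⟩ := exists_primitiveRoot S hp.pos hpk
  exact norm_surjective_of_units S K' L hp hL (exists_pow_eq_unit S hp.pos hpk) _
    (hζ.map_of_injective (IsFractionRing.injective S K')) x hx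

/-- Sectionwise annihilation is annihilation of the identity. -/
theorem nsmul_id_eq_zero {X : Scheme.{u}} {n : ℕ} {F : EtCoh.Ab X} (hF : EtCoh.KilledBy n F) : n • 𝟙 F = 0 := by
  apply CategoryTheory.Sheaf.hom_ext
  refine NatTrans.ext (funext fun V => ConcreteCategory.hom_ext _ _ fun t => ?_)
  show (ConcreteCategory.hom ((n • 𝟙 F : F ⟶ F).hom.app V)) t = 0
  have e : (n • 𝟙 F : F ⟶ F).hom.app V = n • 𝟙 _ := rfl
  rw [e]
  exact hF V.unop t

/-- Torsion killed by an integer invertible on `R` has no cohomology above degree one. -/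
theorem subsingleton_H (R K : Type u) [CommRing R] [IsDomain R] [IsDiscreteValuationRing R]
    [HenselianLocalRing R] [IsSepClosed (ResidueField R)] [Field K] [Algebra R K] [IsFractionRing R K]
    (n : ℕ) [NeZero n] (hn : IsUnit (n : R)) (F : EtCoh.Ab (Spec (CommRingCat.of K)))
    (hF : EtCoh.KilledBy n F) (q : ℕ) (hq : 2 ≤ q) :
    Subsingleton (EtCoh.H (Spec (CommRingCat.of K)) F q) := by
  refine GalEt.subsingleton_of_forall_eq_zero fun x => ?_
  by_contra hx
  have h0 : n • x = 0 := GalEt.nsmul_eq_zero_of_nsmul_id _ n (nsmul_id_eq_zero hF) q x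
  have hne : addOrderOf x ≠ 1 := fun h => hx (AddMonoid.addOrderOf_eq_one_iff.1 h)
  obtain ⟨p, hp, hpd⟩ := Nat.exists_prime_and_dvd hne
  have hpR : IsUnit (p : R) := isUnit_of_dvd_unit (Nat.cast_dvd_cast
    (hpd.trans (addOrderOf_dvd_of_nsmul_eq_zero h0))) hn
  have hz : ∀ (L : Type u) [Field L] [Algebra K L] [Module.Finite K L] [Algebra.IsSeparable K L],
      Subsingleton (EtCoh.H (Spec (CommRingCat.of L)) (EtCoh.const _ (ZMod p)) 2) := by
    intro L _ _ _ _
    haveI := Fact.mk hp
    let φ : R →+* L := (algebraMap K L).comp (algebraMap R K)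
    have hpk : (p : ResidueField R) ≠ 0 := by
      have := (hpR.map (residue R)).ne_zero
      rwa [map_natCast] at this
    obtain ⟨ζ, hζ⟩ := exists_primitiveRoot R hp.pos hpk
    have hpL : (p : L) ≠ 0 := by
      have := (hpR.map φ).ne_zero
      rwa [map_natCast] at this
    exact GalEt.subsingleton_H_zmod_of_root L hp hpL (φ ζ)
      (hζ.map_of_injective ((algebraMap K L).injective.comp (IsFractionRing.injective R K)))
      fun y hy => GalEt.eq_zero_of_normSurj K hp (normSurj R K hp hpR) L y ⟨1, by rwa [pow_one]⟩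
  obtain ⟨d, hd⟩ := hpd
  have hFt : EtCoh.IsTorsion F := GalEt.isTorsion_of_nsmul_id F n (NeZero.pos n) (nsmul_id_eq_zero hF)
  have hdx : d • x = 0 := GalEt.eq_zero_of_cdL hp (GalEt.subsingleton_H_of_ge K 1 fun G hG =>
    GalEt.subsingleton_H_of_constructible K hp 2 (GalEt.subsingleton_H_constructible_of_all K hp 2 hz) G hG)
    F hFt q (by omega) _ ⟨1, by rw [pow_one, smul_smul, ← hd, addOrderOf_nsmul_eq_zero]⟩
  have hfin : IsOfFinAddOrder x := isOfFinAddOrder_iff_nsmul_eq_zero.2 ⟨n, NeZero.pos n, h0⟩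
  have hpos : 0 < addOrderOf x := hfin.addOrderOf_pos
  have hd0 : 0 < d := Nat.pos_of_ne_zero fun h => hpos.ne' (by rw [hd, h, mul_zero])
  have hle := Nat.le_of_dvd hd0 (addOrderOf_dvd_iff_nsmul_eq_zero.2 hdx)
  rw [hd] at hle
  exact absurd hle (by nlinarith [hp.two_le])

end Groth.Agent.Et18.CdSHFrac
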