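import Groth.Agent.Et18.FLC
import Groth.Agent.Et18.Thickening
import Groth.Agent.Et18.Recollement
import Mathlib.Algebra.Homology.ShortComplex.Exact

/-!
# Finite locally constant sheaves: finite sums, surjective immersions
-/

universe u

open CategoryTheory CategoryTheory.Limits AlgebraicGeometry Opposite

set_option backward.isDefEq.respectTransparency.types false
set_option backward.isDefEq.respectTransparency false

namespace Groth.Agent.Et18

variable {X Y : Scheme.{u}}

/-- Inverse image along a surjective immersion reflects isomorphy. -/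
theorem nonempty_iso_of_pull_iso (k : Y ⟶ X) [IsImmersion k] [Surjective k] {G H : EtCoh.Ab X}
    (e : (EtCoh.pull k).obj G ≅ (EtCoh.pull k).obj H) : Nonempty (G ≅ H) := by
  have key : ∀ F : EtCoh.Ab X, IsIso ((EtCoh.pullPushAdj k).unit.app F) := fun F =>
    isIso_of_pulls (f := k) (g := k) (fun x => Or.inl (k.surjective x)) _
  haveI := key G
  haveI := key H
  exact ⟨asIso ((EtCoh.pullPushAdj k).unit.app G) ≪≫ (EtCoh.push k).mapIso e ≪≫
    (asIso ((EtCoh.pullPushAdj k).unit.app H)).symm⟩

/-- Being finite locally constant descends along surjective immersions. -/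
theorem isFLC_of_pull_immersion (i : Y ⟶ X) [IsImmersion i] [Surjective i] {G : EtCoh.Ab X}
    (h : EtCoh.IsFiniteLocallyConstant ((EtCoh.pull i).obj G)) :
    EtCoh.IsFiniteLocallyConstant G := by
  haveI : IsClosedImmersion i :=
    IsClosedImmersion.of_isPreimmersion i (by rw [i.surjective.range_eq]; exact isClosed_univ)
  haveI := bc_isEquivalence_of_thickening i
  refine isFLC_iff.mpr fun x => ?_
  obtain ⟨z, rfl⟩ := i.surjective x
  obtain ⟨V, y, A, hy, hA, hV⟩ := isFLC_iff.mp h z
  let V' := (EtCoh.bc i).objPreimage V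
  let e : (EtCoh.bc i).obj V' ≅ V := (EtCoh.bc i).objObjPreimageIso V
  let k := bcFst i V'
  have hw : k ≫ V'.hom = ((EtCoh.bc i).obj V').hom ≫ i := pullback.condition
  haveI : IsImmersion k := inferInstanceAs (IsImmersion (pullback.fst V'.hom i))
  haveI : Surjective k := inferInstanceAs (Surjective (pullback.fst V'.hom i))
  have hT := (triv_pull_iff i _ G A).mp (hV.comp e.hom.left (MorphismProperty.Over.w e.hom))
  refine ⟨V', k (e.inv.left y), A, ?_, hA, ?_⟩
  · show (k ≫ V'.hom) (e.inv.left y) = i z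
    rw [hw, Scheme.Hom.comp_apply, ← hy]
    exact congrArg i (congrArg (fun t : V.left ⟶ Y => t y) (MorphismProperty.Over.w e.inv))
  · exact nonempty_iso_of_pull_iso k
      (((EtCore.pullComp k V'.hom).app G).symm ≪≫ (EtCore.pullCongr hw).app G ≪≫ hT.some ≪≫
        ((EtCore.pullConstIso k).app A).symm)

lemma finite_of_isZero {A : AddCommGrpCat.{u + 1}} (h : IsZero A) : Finite A :=
  haveI := AddCommGrpCat.subsingleton_of_isZero h
  inferInstance

lemma isFLC_of_isZero {F : EtCoh.Ab X} (h : IsZero F) : EtCoh.IsFiniteLocallyConstant F := by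
  have h0 : IsZero (AddCommGrpCat.of PUnit.{u + 2}) := AddCommGrpCat.isZero_of_subsingleton _
  exact isFLC_of_iso (isFLC_cst (AddCommGrpCat.of PUnit.{u + 2}))
    (((cst X).map_isZero h0).iso h)

lemma isFLC_biprod {F G : EtCoh.Ab X} (hF : EtCoh.IsFiniteLocallyConstant F)
    (hG : EtCoh.IsFiniteLocallyConstant G) : EtCoh.IsFiniteLocallyConstant (F ⊞ G) :=
  isFLC_extension (S := ShortComplex.mk (biprod.inl : F ⟶ F ⊞ G) biprod.snd biprod.inl_snd)
    (ShortComplex.Splitting.shortExact
      { r := biprod.fst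
        s := biprod.inr }) hF hG

/-- Finite sums, one summand at a time. -/
noncomputable def biproductFinSuccIso {n : ℕ} (F : Fin (n + 1) → EtCoh.Ab X) :
    F 0 ⊞ (⨁ fun i : Fin n => F i.succ) ≅ ⨁ F where
  hom := biprod.desc (biproduct.ι F 0) (biproduct.desc fun i => biproduct.ι F i.succ)
  inv := biproduct.desc (Fin.cases biprod.inl
    fun i => biproduct.ι (fun i : Fin n => F i.succ) i ≫ biprod.inr)
  hom_inv_id := by
    refine biprod.hom_ext' _ _ ?_ (biproduct.hom_ext' _ _ fun i => ?_) <;> simp
  inv_hom_id := by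
    refine biproduct.hom_ext' _ _ fun j => ?_
    cases j using Fin.cases <;> simp

theorem isFLC_biproduct : ∀ {n : ℕ} (F : Fin n → EtCoh.Ab X),
    (∀ i, EtCoh.IsFiniteLocallyConstant (F i)) → EtCoh.IsFiniteLocallyConstant (⨁ F)
  | 0, F, _ => isFLC_of_isZero ((IsZero.iff_id_eq_zero _).mpr (biproduct.hom_ext' _ _ fun i => i.elim0))
  | _ + 1, F, h => isFLC_of_iso (isFLC_biprod (h 0) (isFLC_biproduct _ fun i => h i.succ))
      (biproductFinSuccIso F)

end Groth.Agent.Et18
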