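import Groth.Agent.Et18.ExtZeroSplit
import Groth.Agent.Et18.FLCGlue
import Groth.Agent.Et18.ExtZeroBaseChange
import Groth.Agent.Et18.ShriekProper

/-!
# `j_!` and `f_*` of finite locally constant sheaves
-/

universe u

open CategoryTheory CategoryTheory.Limits AlgebraicGeometry Opposite

set_option backward.isDefEq.respectTransparency.types false
set_option backward.isDefEq.respectTransparency false

namespace Groth.Agent.Et18

variable {U X : Scheme.{u}}

/-- Lifts along a base change are lifts along the original morphism. -/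
lemma hasLifts_baseChange {T : Scheme.{u}} (j : U ⟶ X) (g : T ⟶ X) {Ω : Type u} [Field Ω]
    [IsSepClosed Ω] (η : Spec (CommRingCat.of Ω) ⟶ T) (k : ℕ) :
    HasLifts (pullback.snd j g) η k ↔ HasLifts j (η ≫ g) k := by
  constructor
  · rintro ⟨e, he⟩
    refine ⟨fun i => ⟨(e i).1 ≫ pullback.fst j g, ?_⟩, fun a b hab => he (Subtype.ext ?_)⟩
    · rw [Category.assoc, pullback.condition, ← Category.assoc, (e i).2]
    · exact pullback.hom_ext (congrArg Subtype.val hab) ((e a).2.trans (e b).2.symm)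
  · rintro ⟨e, he⟩
    refine ⟨fun i => ⟨pullback.lift (e i).1 η (e i).2, pullback.lift_snd _ _ _⟩,
      fun a b hab => he (Subtype.ext ?_)⟩
    have := congrArg (fun t : {v : Spec (CommRingCat.of Ω) ⟶ pullback j g // v ≫ pullback.snd j g = η} =>
      t.1 ≫ pullback.fst j g) hab
    simpa using this

/-- Exactly `n` lifts everywhere. -/
def ConstLifts (j : U ⟶ X) (n : ℕ) : Prop :=
  ∀ (Ω : Type u) [Field Ω] [IsSepClosed Ω] (ξ : Spec (CommRingCat.of Ω) ⟶ X),
    HasLifts j ξ n ∧ ¬ HasLifts j ξ (n + 1)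

/-- With constantly many lifts `j_!` preserves finite locally constant sheaves. -/
theorem isFLC_extZero_of_constLifts (j : U ⟶ X) [Etale j] [EtShriek.JCont j] [IsSeparated j] {n : ℕ}
    (hn : ConstLifts j n) {F : EtCoh.Ab U} (hF : EtCoh.IsFiniteLocallyConstant F) :
    EtCoh.IsFiniteLocallyConstant ((EtShriek.extZero j).obj F) := by
  refine isFLC_iff.mpr (LocTriv.of_nhds fun x => ?_)
  obtain ⟨W, y, s, hy, h⟩ := exists_nhd_extZero_split j n hn x
  obtain ⟨e⟩ := h F
  exact ⟨W, y, hy, isFLC_iff.mp (isFLC_of_iso (isFLC_biproduct _ fun i => isFLC_pull hF (s i)) e.symm)⟩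

/-- Along a finite étale morphism the number of lifts is locally constant. -/
theorem exists_open_constLifts (j : U ⟶ X) [Etale j] [IsFinite j] (x : X) :
    ∃ (O : X.Opens) (n : ℕ), x ∈ O ∧ ConstLifts (pullback.snd j O.ι) n := by
  classical
  choose E hEo _ hEf hE using fun k => exists_atLeast k j
  have hex : ∃ k, x ∉ E k := by
    haveI := finite_lifts_of_etale j (sepPoint X x)
    cases nonempty_fintype {v : Spec (CommRingCat.of _) ⟶ U // v ≫ j = sepPoint X x}
    refine ⟨Fintype.card {v : Spec (CommRingCat.of _) ⟶ U // v ≫ j = sepPoint X x} + 1, fun hx => ?_⟩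
    obtain ⟨e, he⟩ := (hE _ _ (sepPoint X x)).mpr (by rw [sepPoint_default]; exact hx)
    simpa using Fintype.card_le_of_injective e he
  have h0 : x ∈ E 0 := by
    rw [← sepPoint_default X x, ← hE]
    exact ⟨Fin.elim0, fun a => a.elim0⟩
  obtain ⟨n, hn⟩ : ∃ n, Nat.find hex = n + 1 :=
    ⟨Nat.find hex - 1, (Nat.succ_pred_eq_of_ne_zero fun h => (h ▸ Nat.find_spec hex) h0).symm⟩
  refine ⟨⟨E n \ E (n + 1), (hEo n).sdiff (hEf (n + 1) inferInstance)⟩, n,
    ⟨by_contra fun h => Nat.find_min hex (hn ▸ n.lt_succ_self) h, hn ▸ Nat.find_spec hex⟩, ?_⟩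
  intro Ω _ _ η
  have hmem := (η default).2
  rw [hasLifts_baseChange, hasLifts_baseChange, hE, hE]
  exact hmem

/-- Finite étale `j_!` preserves finite locally constant sheaves. -/
theorem isFLC_extZero_of_isFinite (j : U ⟶ X) [Etale j] [EtShriek.JCont j] [IsFinite j]
    {F : EtCoh.Ab U} (hF : EtCoh.IsFiniteLocallyConstant F) :
    EtCoh.IsFiniteLocallyConstant ((EtShriek.extZero j).obj F) := by
  refine isFLC_iff.mpr (LocTriv.of_nhds fun x => ?_)
  obtain ⟨O, n, hx, hn⟩ := exists_open_constLifts j x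
  haveI : EtShriek.JCont (pullback.snd j O.ι) := jCont _
  exact ⟨Scheme.Etale.mk O.ι, ⟨x, hx⟩, rfl, isFLC_iff.mp (isFLC_of_iso
    (isFLC_extZero_of_constLifts (pullback.snd j O.ι) hn (isFLC_pull hF (pullback.fst j O.ι)))
    ((extZeroBaseChangeIso j O.ι (pullback.snd j O.ι) (pullback.fst j O.ι)
      (IsPullback.of_hasPullback j O.ι).flip).app F))⟩

/-- For finite étale morphisms `j_! = j_*`. -/
noncomputable def extZeroPushIso (j : U ⟶ X) [Etale j] [EtShriek.JCont j] [IsFinite j] :
    EtShriek.extZero j ≅ EtCoh.push j :=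
  extZeroShriekIso j ≪≫ shriekPushIso j

/-- Finite étale direct images preserve finite locally constant sheaves. -/
theorem isFLC_push_of_isFinite (f : U ⟶ X) [Etale f] [IsFinite f] {F : EtCoh.Ab U}
    (hF : EtCoh.IsFiniteLocallyConstant F) :
    EtCoh.IsFiniteLocallyConstant ((EtCoh.push f).obj F) :=
  haveI : EtShriek.JCont f := jCont f
  isFLC_of_iso (isFLC_extZero_of_isFinite f hF) ((extZeroPushIso f).app F)

end Groth.Agent.Et18
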