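import Groth.Agent.Et18.CompCrit.Nice
import Groth.Agent.Et18.ExtZeroFLC
import Groth.Agent.Et18.FLC
import Groth.Agent.Et18.Presentation

/-!
# Finite étale covers and killing of cohomology classes
-/

set_option autoImplicit false
set_option linter.all false
set_option backward.isDefEq.respectTransparency.types false
set_option backward.isDefEq.respectTransparency false
set_option maxHeartbeats 1000000

universe u

open CategoryTheory CategoryTheory.Limits AlgebraicGeometry

namespace Groth.Agent.Et18.KPiFinite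

variable {X Y : Scheme.{u}}

theorem killedBy_of_nsmul_id {F : EtCoh.Ab X} {n : ℕ} (h : n • 𝟙 F = 0) : EtCoh.KilledBy n F :=
  fun U s => congrArg (fun m : F ⟶ F => (m.hom.app (Opposite.op U)).hom s) h

theorem killedBy_pull (f : X ⟶ Y) {F : EtCoh.Ab Y} {n : ℕ} (h : EtCoh.KilledBy n F) :
    EtCoh.KilledBy n ((EtCoh.pull f).obj F) := by
  refine killedBy_of_nsmul_id ?_
  rw [← CategoryTheory.Functor.map_id, ← Functor.map_nsmul, nsmul_id_of_killedBy h, Functor.map_zero]

theorem killedBy_push (f : X ⟶ Y) {F : EtCoh.Ab X} {n : ℕ} (h : EtCoh.KilledBy n F) :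
    EtCoh.KilledBy n ((EtCoh.push f).obj F) :=
  fun U s => h ((EtCoh.bc f).obj U) s

section Components

variable {S T : Type*} [TopologicalSpace S] [TopologicalSpace T]

/-- A space whose nonempty clopen sets all meet a given finite set has finitely many connected components. -/
theorem finite_components_of_clopen_meets (s : Set S) (hs : s.Finite)
    (h : ∀ C : Set S, IsClopen C → C.Nonempty → (C ∩ s).Nonempty) :
    Finite (_root_.ConnectedComponents S) := by
  have hinj : Set.InjOn (fun C : Set S => C ∩ s) {C | IsClopen C} := fun C hC D hD e => by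
    by_contra hne
    have hd : ∀ A B : Set S, IsClopen A → IsClopen B → A ∩ s = B ∩ s → A ⊆ B := fun A B hA hB e' x hx => by
      by_contra hx'
      obtain ⟨y, ⟨hy, hy'⟩, hys⟩ := h _ (hA.diff hB) ⟨x, hx, hx'⟩
      exact hy' ((Set.ext_iff.mp e' y).1 ⟨hy, hys⟩).1
    exact hne (Set.Subset.antisymm (hd C D hC hD e) (hd D C hD hC e.symm))
  have hfin : {C : Set S | IsClopen C}.Finite :=
    Set.Finite.of_finite_image (hs.finite_subsets.subset (by
      rintro _ ⟨C, -, rfl⟩; exact Set.inter_subset_right)) hinj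
  let A : S → Set S := fun x => ⋂₀ {C | IsClopen C ∧ x ∈ C}
  have hA : ∀ x, IsClopen (A x) := fun x => by
    have hf : {C : Set S | IsClopen C ∧ x ∈ C}.Finite := hfin.subset fun C hC => hC.1
    exact ⟨isClosed_sInter fun C hC => hC.1.1, hf.isOpen_sInter fun C hC => hC.1.2⟩
  have hmem : ∀ x, x ∈ A x := fun x C hC => hC.2
  have hpre : ∀ x, IsPreconnected (A x) := fun x => by
    intro U V hU hV hsub hnU hnV
    by_contra hne
    rw [Set.not_nonempty_iff_eq_empty] at hne
    have hUc : IsClopen (A x ∩ U) := by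
      refine ⟨?_, (hA x).2.inter hU⟩
      have e : A x ∩ U = A x ∩ Vᶜ := Set.ext fun y => ⟨fun hy => ⟨hy.1, fun hyV =>
        (Set.eq_empty_iff_forall_notMem.mp hne y) ⟨hy.1, hy.2, hyV⟩⟩,
        fun hy => ⟨hy.1, (hsub hy.1).resolve_right hy.2⟩⟩
      rw [e]; exact (hA x).1.inter hV.isClosed_compl
    rcases hsub (hmem x) with hxU | hxV
    · obtain ⟨y, hyA, hyV⟩ := hnV
      have := Set.sInter_subset_of_mem (S := {C | IsClopen C ∧ x ∈ C}) ⟨hUc, hmem x, hxU⟩ hyA
      exact (Set.eq_empty_iff_forall_notMem.mp hne y) ⟨hyA, this.2, hyV⟩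
    · have hc : IsClopen (A x \ U) := ((hA x).diff hUc) |> fun h' => by
        rwa [Set.sdiff_self_inter] at h'
      obtain ⟨y, hyA, hyU⟩ := hnU
      have hxU : x ∉ U := fun hxU => (Set.eq_empty_iff_forall_notMem.mp hne x) ⟨hmem x, hxU, hxV⟩
      exact (Set.sInter_subset_of_mem (S := {C | IsClopen C ∧ x ∈ C}) ⟨hc, hmem x, hxU⟩ hyA).2 hyU
  haveI : Finite (Set.range A) := (hfin.subset (by rintro _ ⟨x, rfl⟩; exact hA x)).to_subtype
  let g : Set.range A → _root_.ConnectedComponents S := fun C => ConnectedComponents.mk C.2.choose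
  refine Finite.of_surjective g fun c => ?_
  obtain ⟨x, rfl⟩ := ConnectedComponents.surjective_coe c
  refine ⟨⟨A x, x, rfl⟩, ?_⟩
  have he : A (Exists.choose (p := fun y => A y = A x) ⟨x, rfl⟩) = A x :=
    Exists.choose_spec (p := fun y => A y = A x) ⟨x, rfl⟩
  exact ConnectedComponents.coe_eq_coe'.mpr
    ((hpre x).subset_connectedComponent (hmem x) (he.subset (hmem _)))

/-- An open, closed map with finite fibres preserves finiteness of the set of connected components. -/
theorem finite_components_of_isOpenMap (f : S → T) (hc : Continuous f) (ho : IsOpenMap f) (hcl : IsClosedMap f)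
    (hfib : ∀ t, (f ⁻¹' {t}).Finite) [Finite (_root_.ConnectedComponents T)] :
    Finite (_root_.ConnectedComponents S) := by
  choose r hr using ConnectedComponents.surjective_coe (α := T)
  refine finite_components_of_clopen_meets (⋃ c, f ⁻¹' {r c}) (Set.finite_iUnion fun c => hfib _) ?_
  rintro C hC ⟨x, hx⟩
  have hCc : IsClopen (f '' C) := ⟨hcl C hC.1, ho C hC.2⟩
  have hmem : r (ConnectedComponents.mk (f x)) ∈ f '' C :=
    hCc.connectedComponent_subset ⟨x, hx, rfl⟩ (ConnectedComponents.coe_eq_coe'.mp (hr _))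
  obtain ⟨y, hy, hyx⟩ := hmem
  exact ⟨y, hy, Set.mem_iUnion.mpr ⟨_, hyx⟩⟩

end Components

end Groth.Agent.Et18.KPiFinite
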