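import Groth.Agent.HenselLib.FieldLift
import Groth.Agent.HenselLib.StrictTransfer
import Groth.Agent.HenselLib.WEtNoeth
import Groth.Agent.HenselLib.WEtField
import Groth.Prelude.Def_Hensel
import Mathlib.AlgebraicGeometry.Morphisms.FiniteType
import Mathlib.FieldTheory.SeparableClosure

/-! Strict henselizations of schemes of finite type over a field, at closed points over a separably
closed field. -/

set_option autoImplicit false
set_option linter.style.haveILetI false

universe u

open IsLocalRing
open scoped TensorProduct

namespace Groth.Agent.Et18.SHClosed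

open Groth.Agent

theorem isSepClosed_separableClosure (F E : Type u) [Field F] [Field E] [Algebra F E] [IsSepClosed E] :
    IsSepClosed (separableClosure F E) := by
  refine IsSepClosed.of_exists_root _ fun p hp hirr hsep => ?_
  obtain ⟨x, hx⟩ := IsSepClosed.exists_aeval_eq_zero E p (Polynomial.degree_pos_of_irreducible hirr).ne' hsep
  have hxs : IsSeparable (separableClosure F E) x := hsep.of_dvd (minpoly.dvd _ x hx)
  have hmem : x ∈ separableClosure F E :=
    mem_separableClosure_iff.2 (IsSeparable.of_algebra_isSeparable_of_isSeparable F hxs)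
  refine ⟨⟨x, hmem⟩, Subtype.val_injective ?_⟩
  show algebraMap (separableClosure F E) E (p.eval ⟨x, hmem⟩) = 0
  rw [← Polynomial.aeval_algebraMap_apply_eq_algebraMap_eval]
  exact hx

theorem weaklyEtale_of_isSeparable (K E : Type u) [Field K] [Field E] [Algebra K E]
    [Algebra.IsSeparable K E] : Algebra.WeaklyEtale K E := by
  refine HenselLib.WEt.weaklyEtale_of_etFG fun S hS => ?_
  obtain ⟨t, rfl⟩ := hS
  let L := IntermediateField.adjoin K (t : Set E)
  have hL : L.toSubalgebra = Algebra.adjoin K (t : Set E) :=
    IntermediateField.adjoin_toSubalgebra_of_isAlgebraic fun x _ => Algebra.IsAlgebraic.isAlgebraic x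
  haveI : Module.Finite K L :=
    IntermediateField.finiteDimensional_adjoin fun x _ => Algebra.IsIntegral.isIntegral x
  haveI : Algebra.FormallyEtale K L := Algebra.FormallyEtale.of_isSeparable K L
  haveI : Algebra.Etale K L :=
    ⟨inferInstance, Algebra.FinitePresentation.of_finiteType.mp inferInstance⟩
  exact Algebra.Etale.of_equiv (Subalgebra.equivOfEq _ _ hL : L.toSubalgebra ≃ₐ[K] _)

variable {B R A : Type u} [CommRing B] [CommRing R] [CommRing A] [IsLocalRing R] [IsLocalRing A]

/-- The subalgebra generated over a coefficient field. -/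
theorem exists_model {k : Type u} [Field k] [Algebra k B] [Algebra.FiniteType k B] [Algebra k R]
    [Algebra B R] [IsScalarTower k B R] (P : Ideal B) [P.IsPrime] [IsLocalization.AtPrime R P]
    (K : Type u) [Field K] [Algebra k K] [Algebra K R] [IsScalarTower k K R] :
    ∃ B' : Subalgebra K R, Algebra.FiniteType K B' ∧
      IsLocalization.AtPrime R ((maximalIdeal R).comap (algebraMap B' R)) := by
  obtain ⟨t, ht⟩ := Algebra.FiniteType.out (R := k) (A := B)
  classical
  let B' : Subalgebra K R := Algebra.adjoin K ((t.image (algebraMap B R) : Finset R) : Set R)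
  have hB : ∀ b : B, algebraMap B R b ∈ B' := fun b => by
    have hb : b ∈ Algebra.adjoin k (t : Set B) := by rw [ht]; trivial
    induction hb using Algebra.adjoin_induction with
    | mem x hx => exact Algebra.subset_adjoin (by simpa using ⟨x, hx, rfl⟩)
    | algebraMap a =>
      rw [← IsScalarTower.algebraMap_apply, IsScalarTower.algebraMap_apply k K R]
      exact B'.algebraMap_mem _
    | add x y _ _ hx hy => rw [map_add]; exact add_mem hx hy
    | mul x y _ _ hx hy => rw [map_mul]; exact mul_mem hx hy
  refine ⟨B', (Subalgebra.fg_iff_finiteType B').1 ⟨_, rfl⟩, ⟨fun y => ?_, fun r => ?_, fun {x y} h => ?_⟩⟩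
  · have hy : algebraMap B' R y ∉ maximalIdeal R := y.2
    rwa [mem_maximalIdeal, mem_nonunits_iff, not_not] at hy
  · obtain ⟨⟨b, s⟩, hbs⟩ := IsLocalization.surj P.primeCompl r
    refine ⟨(⟨algebraMap B R b, hB b⟩, ⟨⟨algebraMap B R s, hB s⟩, fun h => ?_⟩), hbs⟩
    exact h (IsLocalization.map_units R s)
  · exact ⟨1, by rw [OneMemClass.coe_one, one_mul, one_mul]; exact Subtype.ext h⟩

theorem ker_isMaximal_of_algebraic {E C L : Type u} [Field E] [CommRing C] [Field L] [Algebra E C]
    [Algebra E L] [Algebra.IsAlgebraic E L] (π : C →ₐ[E] L) : (RingHom.ker π.toRingHom).IsMaximal :=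
  Ideal.Quotient.maximal_of_isField _ <|
    (RingHom.quotientKerEquivRange π.toRingHom).toMulEquiv.isField
      (Subalgebra.isField_of_algebraic π.range)

theorem weaklyEtale_includeRight (K E B' : Type u) [Field K] [Field E] [Algebra K E]
    [CommRing B'] [Algebra K B'] [Algebra.WeaklyEtale K E] :
    @Algebra.WeaklyEtale B' (E ⊗[K] B') _ _
      (Algebra.TensorProduct.includeRight : B' →ₐ[K] E ⊗[K] B').toRingHom.toAlgebra := by
  letI : Algebra B' (E ⊗[K] B') :=
    (Algebra.TensorProduct.includeRight : B' →ₐ[K] E ⊗[K] B').toRingHom.toAlgebra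
  have e : (B' ⊗[K] E) ≃ₐ[B'] (E ⊗[K] B') :=
    AlgEquiv.ofRingEquiv (f := (Algebra.TensorProduct.comm K B' E).toRingEquiv) fun b => rfl
  exact @HenselLib.weaklyEtale_of_equiv B' _ (B' ⊗[K] E) (E ⊗[K] B') _ _ _ _ e _

theorem finish {B' C : Type u} [CommRing B'] [CommRing C] [HenselianLocalRing A]
    [IsSepClosed (ResidueField A)] [Algebra B' A] [Algebra.WeaklyEtale B' A] (ι : B' →+* C)
    (hι : @Algebra.WeaklyEtale B' C _ _ ι.toAlgebra) (χ : C →+* A)
    (hχ : χ.comp ι = algebraMap B' A)
    (O : Type u) [CommRing O] [IsLocalRing O] [Algebra C O]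
    [IsLocalization.AtPrime O ((maximalIdeal A).comap χ)] [Algebra O A]
    (hO : (algebraMap O A).comp (algebraMap C O) = χ) :
    ∃ _ : IsLocalHom (algebraMap O A), Hensel.IsStrictHenselization O A := by
  haveI : IsLocalHom (algebraMap O A) := by
    refine ((local_hom_TFAE (algebraMap O A)).out 0 2 rfl rfl).mpr ?_
    rw [← IsLocalization.AtPrime.map_eq_maximalIdeal ((maximalIdeal A).comap χ) O, Ideal.map_map, hO]
    exact Ideal.map_comap_le
  refine ⟨inferInstance, ?_⟩
  letI := ι.toAlgebra
  haveI : Algebra.WeaklyEtale B' C := hι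
  haveI : Algebra.WeaklyEtale C O :=
    HenselLib.WEtNoeth.weaklyEtale_of_isLocalization ((maximalIdeal A).comap χ).primeCompl
  letI : Algebra B' O := ((algebraMap C O).comp ι).toAlgebra
  haveI : IsScalarTower B' C O := .of_algebraMap_eq' rfl
  haveI : Algebra.WeaklyEtale B' O := Algebra.WeaklyEtale.trans B' C O
  haveI : IsScalarTower B' O A := .of_algebraMap_eq fun b => by
    rw [← hχ, ← hO]
    rfl
  haveI : Algebra.WeaklyEtale O A := HenselLib.WEt.weaklyEtale_of_algHom (A := B')
  exact HenselLib.StrictTransfer.isStrictHenselization_of_weaklyEtale O A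

/-- Auxiliary: over a coefficient field. -/
theorem exists_closed_model_aux (K : Type u) [Field K] [Algebra K R]
    [Algebra.IsAlgebraic K (ResidueField R)] (B' : Subalgebra K R) [Algebra.FiniteType K B']
    [IsLocalization.AtPrime R ((maximalIdeal R).comap (algebraMap B' R))]
    [Algebra R A] [IsLocalHom (algebraMap R A)] [Hensel.IsStrictHenselization R A] :
    ∃ (E : Type u) (_ : Field E) (_ : IsSepClosed E) (C : Type u) (_ : CommRing C) (_ : Algebra E C)
      (_ : Algebra.FiniteType E C) (χ : C →+* A),
      ((maximalIdeal A).comap χ).IsMaximal ∧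
      ∀ (O : Type u) [CommRing O] [IsLocalRing O] [Algebra C O]
        [IsLocalization.AtPrime O ((maximalIdeal A).comap χ)] [Algebra O A],
        (algebraMap O A).comp (algebraMap C O) = χ →
          ∃ _ : IsLocalHom (algebraMap O A), Hensel.IsStrictHenselization O A := by
  have hA := ‹Hensel.IsStrictHenselization R A›
  haveI := hA.henselian
  haveI := hA.isSepClosure
  haveI : IsSepClosed (ResidueField A) := IsSepClosure.sep_closed (ResidueField R)
  haveI : Algebra.IsSeparable (ResidueField R) (ResidueField A) := IsSepClosure.separable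
  letI : Algebra K A := ((algebraMap R A).comp (algebraMap K R)).toAlgebra
  haveI : IsScalarTower K R A := .of_algebraMap_eq' rfl
  haveI : IsScalarTower K (ResidueField R) (ResidueField A) := .of_algebraMap_eq fun a => rfl
  haveI : Algebra.IsAlgebraic K (ResidueField A) :=
    Algebra.IsAlgebraic.trans K (ResidueField R) (ResidueField A)
  let E := separableClosure K (ResidueField A)
  haveI : IsSepClosed E := isSepClosed_separableClosure K (ResidueField A)
  obtain ⟨g, hg⟩ := HenselLib.FieldLift.exists_lift_separable A K E (E.val)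
  haveI : IsScalarTower B' R A := inferInstance
  haveI : IsScalarTower K B' A := .of_algebraMap_eq fun a => rfl
  let C := E ⊗[K] B'
  let χ : C →ₐ[K] A :=
    Algebra.TensorProduct.lift g (IsScalarTower.toAlgHom K B' A) fun _ _ => Commute.all _ _
  let n : Ideal C := (maximalIdeal A).comap χ.toRingHom
  haveI : n.IsPrime := Ideal.IsPrime.comap _
  -- maximality
  have hmax : n.IsMaximal := by
    haveI : Algebra.IsAlgebraic E (ResidueField A) := Algebra.IsAlgebraic.tower_top (K := K) E
    let π : C →ₐ[E] ResidueField A :=
      { (residue A).comp χ.toRingHom with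
        commutes' := fun e => by
          show residue A (χ (algebraMap E C e)) = (e : ResidueField A)
          rw [Algebra.TensorProduct.algebraMap_apply, Algebra.TensorProduct.lift_tmul, map_one, mul_one,
            Algebra.algebraMap_self_apply]
          exact hg e }
    have hker : RingHom.ker π.toRingHom = n := by
      ext c
      show residue A (χ c) = 0 ↔ χ c ∈ maximalIdeal A
      rw [residue_eq_zero_iff]
    rw [← hker]
    exact ker_isMaximal_of_algebraic (E := E) (C := C) (L := ResidueField A) π
  refine ⟨E, inferInstance, inferInstance, C, inferInstance, inferInstance, inferInstance, χ.toRingHom,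
    hmax, fun O _ _ _ _ _ hO => ?_⟩
  haveI : Algebra.WeaklyEtale R A := by
    obtain ⟨e⟩ := HenselLib.exists_equiv_localSH (R := R) A
    exact HenselLib.weaklyEtale_of_equiv e
  haveI : Algebra.WeaklyEtale B' R :=
    HenselLib.WEtNoeth.weaklyEtale_of_isLocalization ((maximalIdeal R).comap (algebraMap B' R)).primeCompl
  haveI : Algebra.WeaklyEtale B' A := Algebra.WeaklyEtale.trans B' R A
  haveI : Algebra.WeaklyEtale K E := weaklyEtale_of_isSeparable K E
  refine finish (B' := B') (A := A) (Algebra.TensorProduct.includeRight : B' →ₐ[K] C).toRingHom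
    (weaklyEtale_includeRight K E B') χ.toRingHom (RingHom.ext fun b => ?_) O hO
  show χ ((1 : E) ⊗ₜ b) = _
  rw [Algebra.TensorProduct.lift_tmul, map_one, one_mul]
  rfl

/-- The strict henselization is that of a closed point over a separably closed field. -/
theorem exists_closed_model {k : Type u} [Field k] [Algebra k B] [Algebra.FiniteType k B]
    [Algebra B R] (P : Ideal B) [P.IsPrime] [IsLocalization.AtPrime R P]
    [Algebra R A] [IsLocalHom (algebraMap R A)] [Hensel.IsStrictHenselization R A] :
    ∃ (E : Type u) (_ : Field E) (_ : IsSepClosed E) (C : Type u) (_ : CommRing C) (_ : Algebra E C)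
      (_ : Algebra.FiniteType E C) (χ : C →+* A),
      ((maximalIdeal A).comap χ).IsMaximal ∧
      ∀ (O : Type u) [CommRing O] [IsLocalRing O] [Algebra C O]
        [IsLocalization.AtPrime O ((maximalIdeal A).comap χ)] [Algebra O A],
        (algebraMap O A).comp (algebraMap C O) = χ →
          ∃ _ : IsLocalHom (algebraMap O A), Hensel.IsStrictHenselization O A := by
  letI : Algebra k R := ((algebraMap B R).comp (algebraMap k B)).toAlgebra
  haveI : IsScalarTower k B R := .of_algebraMap_eq' rfl
  obtain ⟨s, hs⟩ := exists_isTranscendenceBasis k (ResidueField R)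
  obtain ⟨ψ, hψ⟩ := HenselLib.FieldLift.exists_lift_adjoin k R (fun i : s => (i : ResidueField R)) hs.1
  let K := IntermediateField.adjoin k (Set.range fun i : s => (i : ResidueField R))
  letI : Algebra K R := ψ.toRingHom.toAlgebra
  haveI : IsScalarTower k K R := .of_algebraMap_eq fun a => (ψ.commutes a).symm
  obtain ⟨B', hfin, hloc⟩ := exists_model (k := k) (B := B) (R := R) P K
  haveI := hfin
  haveI := hloc
  have halg : @Algebra.IsAlgebraic K (ResidueField R) _ _ (IsLocalRing.ResidueField.algebra R) := by
    convert hs.isAlgebraic_field using 1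
    exact Algebra.algebra_ext _ _ fun a => hψ a
  exact @exists_closed_model_aux R A _ _ _ _ K _ _ halg B' _ _ _ _ _

end Groth.Agent.Et18.SHClosed
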