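import Groth.Agent.Et18.ExtZeroConstr
import Mathlib.AlgebraicGeometry.Limits
import Mathlib.AlgebraicGeometry.Morphisms.Separated

/-!
# `j_!` preserves constructibility
-/

universe u

open CategoryTheory CategoryTheory.Limits AlgebraicGeometry Opposite

set_option backward.isDefEq.respectTransparency.types false
set_option backward.isDefEq.respectTransparency false

namespace Groth.Agent.Et18

variable {V U X : Scheme.{u}} (k : V ⟶ U) (j : U ⟶ X) [Etale k] [Etale j] [EtShriek.JCont k]
  [EtShriek.JCont j] [EtShriek.JCont (k ≫ j)]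

/-- Composition of the functors on small étale sites. -/
noncomputable def compEtaleCompIso :
    EtShriek.compEtale k ⋙ EtShriek.compEtale j ≅ EtShriek.compEtale (k ≫ j) :=
  NatIso.ofComponents
    (fun W => MorphismProperty.Over.isoMk (Iso.refl _)
      ((Category.id_comp _).trans (Category.assoc W.hom k j).symm))
    (fun {W W'} g => etaleHom_ext ((Category.comp_id _).trans (Category.id_comp _).symm))

/-- Composition of extensions by zero. -/
noncomputable def extZeroCompIso :
    EtShriek.extZero k ⋙ EtShriek.extZero j ≅ EtShriek.extZero (k ≫ j) :=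
  ((EtShriek.extZeroAdj k).comp (EtShriek.extZeroAdj j)).leftAdjointUniq
    ((EtShriek.extZeroAdj (k ≫ j)).ofNatIsoRight
      (Functor.sheafPushforwardContinuousComp' (compEtaleCompIso k j) AddCommGrpCat.{u + 1}
        V.smallEtaleTopology U.smallEtaleTopology X.smallEtaleTopology).symm)

/-- A quasi-compact scheme is covered by an affine scheme, étale over it. -/
theorem exists_affine_etale_cover (U : Scheme.{u}) [CompactSpace U] :
    ∃ (V : Scheme.{u}) (π : V ⟶ U), IsAffine V ∧ Etale π ∧ Surjective π := by
  obtain ⟨n, W, hW, hcov⟩ := exists_finite_affine_cover U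
  haveI : ∀ i : ULift.{u} (Fin n), IsAffine (W i.down).toScheme := fun i => hW i.down
  refine ⟨∐ fun i : ULift.{u} (Fin n) => (W i.down).toScheme, Sigma.desc fun i => (W i.down).ι,
    inferInstance, ?_, ⟨fun x => ?_⟩⟩
  · rw [IsZariskiLocalAtSource.iff_of_openCover (P := @Etale) (sigmaOpenCover _)]
    intro i
    show Etale (Sigma.ι (fun i : ULift.{u} (Fin n) => (W i.down).toScheme) i ≫ Sigma.desc _)
    rw [Sigma.ι_desc]
    infer_instance
  · obtain ⟨i, hi⟩ := Set.mem_iUnion.mp (hcov.symm ▸ Set.mem_univ x : x ∈ ⋃ i, (W i : Set U))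
    refine ⟨Sigma.ι (fun i : ULift.{u} (Fin n) => (W i.down).toScheme) ⟨i⟩ ⟨x, hi⟩, ?_⟩
    rw [← Scheme.Hom.comp_apply, Sigma.ι_desc]
    rfl

omit [Etale k] [EtShriek.JCont k] [EtShriek.JCont (k ≫ j)] in
/-- `j_!` preserves constructible sheaves, for `j` étale between qcqs schemes. -/
theorem isConstructible_extZero [CompactSpace U] [QuasiSeparatedSpace U] [QuasiSeparatedSpace X]
    {F : EtCoh.Ab U} (hF : EtPBC.IsConstructible F) :
    EtPBC.IsConstructible ((EtShriek.extZero j).obj F) := by
  obtain ⟨W, π, hW, hπ, hsurj⟩ := exists_affine_etale_cover U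
  haveI : EtShriek.JCont π := jCont π
  haveI : EtShriek.JCont (π ≫ j) := jCont _
  haveI : IsSeparated π := IsSeparated.of_comp π (terminal.from U)
  haveI : IsSeparated (π ≫ j) := IsSeparated.of_comp (π ≫ j) (terminal.from X)
  have hqc : QuasiCompact π ∧ QuasiCompact (π ≫ j) :=
    ⟨QuasiCompact.of_comp π (terminal.from U), QuasiCompact.of_comp (π ≫ j) (terminal.from X)⟩
  haveI := hqc.1
  haveI := hqc.2
  -- `π_! π^*` preserves constructibility, and so does `j_! π_! π^*`
  have hrestr : ∀ {G : EtCoh.Ab U}, EtPBC.IsConstructible G →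
      EtPBC.IsConstructible ((EtShriek.restrAlong π).obj G) := fun {G} hG => by
    have := isConstructible_pull π hG
    rw [isConstructible_iff_affine] at this ⊢
    exact fun O hO => (this O hO).of_iso ((EtCoh.pull O.ι).mapIso ((pullRestrIso π).app G))
  have hone : ∀ {G : EtCoh.Ab U}, EtPBC.IsConstructible G →
      EtPBC.IsConstructible ((EtShriek.extZero π).obj ((EtShriek.restrAlong π).obj G)) :=
    fun hG => isConstructible_extZero_of_separated π (hrestr hG)
  have htwo : ∀ {G : EtCoh.Ab U}, EtPBC.IsConstructible G → EtPBC.IsConstructible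
      ((EtShriek.extZero j).obj ((EtShriek.extZero π).obj ((EtShriek.restrAlong π).obj G))) := fun {G} hG => by
    have := isConstructible_extZero_of_separated (π ≫ j) (hrestr hG)
    rw [isConstructible_iff_affine] at this ⊢
    exact fun O hO => (this O hO).of_iso ((EtCoh.pull O.ι).mapIso ((extZeroCompIso π j).app _).symm)
  let a := (EtShriek.extZeroAdj π).counit.app F
  haveI : Epi a := epi_extZero_counit π F
  have hK := (isConstructible_kernel_cokernel a (hone hF) hF).1
  let b := (EtShriek.extZeroAdj π).counit.app (kernel a)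
  haveI : Epi b := epi_extZero_counit π (kernel a)
  let d := (EtShriek.extZero j).map (b ≫ kernel.ι a)
  have hcok := (isConstructible_kernel_cokernel d (htwo hK) (htwo hF)).2
  let e : cokernel (b ≫ kernel.ι a) ≅ F :=
    cokernelEpiComp b (kernel.ι a) ≪≫ (cokernelIsCokernel (kernel.ι a)).coconePointUniqueUpToIso
      (Abelian.epiIsCokernelOfKernel _ (limit.isLimit _))
  haveI : PreservesColimitsOfSize.{0, 0} (EtShriek.extZero j) :=
    (EtShriek.extZeroAdj j).leftAdjoint_preservesColimits
  rw [isConstructible_iff_affine] at hcok ⊢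
  exact fun O hO => (hcok O hO).of_iso ((EtCoh.pull O.ι).mapIso
    ((PreservesCokernel.iso (EtShriek.extZero j) (b ≫ kernel.ι a)).symm ≪≫ (EtShriek.extZero j).mapIso e))

/-- Finite locally constant sheaves are constructible. -/
theorem isConstructible_of_isFLC {Y : Scheme.{u}} {F : EtCoh.Ab Y}
    (hF : EtCoh.IsFiniteLocallyConstant F) : EtPBC.IsConstructible F := by
  rw [isConstructible_iff_affine]
  intro O _
  have hr : Set.range (𝟙 O.toScheme : O.toScheme ⟶ O.toScheme) = Set.univ :=
    Set.range_eq_univ.mpr fun x => ⟨x, rfl⟩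
  refine ⟨Unit, inferInstance, fun _ => O.toScheme, fun _ => 𝟙 _, fun _ => inferInstance,
    fun _ => hr ▸ Topology.IsLocallyConstructible.univ, Subsingleton.pairwise,
    by rw [Set.iUnion_const]; exact hr, fun _ => isFLC_pull (isFLC_pull hF O.ι) _⟩

/-- The two extensions by zero agree. -/
theorem nonempty_extZeroConst_iso {Y : Scheme.{u}} (W : Y.Etale) [EtShriek.JCont W.hom]
    (M : Type) [AddCommGroup M] :
    Nonempty (EtPBC.extZeroConst W M ≅
      (EtShriek.extZero W.hom).obj (EtCoh.const W.left M)) := by
  let A := AddCommGrpCat.of (ULift.{u + 1} M)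
  let E := (overRestr W).asEquivalence
  let adj := E.symm.toAdjunction.comp (EtPBC.extZeroAdj W)
  let ad2 := adj.ofNatIsoRight (overRestrRestrIso W)
  let i := (EtShriek.extZeroAdj W.hom).leftAdjointUniq ad2
  exact ⟨((i.app ((cst W.left).obj A)) ≪≫ (EtPBC.extZero W).mapIso
    (E.inverse.mapIso ((overRestrConstIso W).app A).symm ≪≫ E.unitIso.symm.app _)).symm⟩

/-- Finite étale direct images preserve constructible sheaves. -/
theorem isConstructible_push_of_isFinite {Z Y : Scheme.{u}} (f : Z ⟶ Y) [Etale f] [IsFinite f]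
    {F : EtCoh.Ab Z} (hF : EtPBC.IsConstructible F) :
    EtPBC.IsConstructible ((EtCoh.push f).obj F) := by
  haveI : EtShriek.JCont f := jCont f
  have := isConstructible_extZero_of_separated f hF
  rw [isConstructible_iff_affine] at this ⊢
  exact fun O hO => (this O hO).of_iso ((EtCoh.pull O.ι).mapIso ((extZeroPushIso f).app F))

end Groth.Agent.Et18
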