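import Groth.Agent.Et18.ShriekProper
import Groth.Agent.Et18.FiniteEtaleCard
import Groth.Agent.Et18.Restr

/-!
# The trace for a finite étale morphism
-/

set_option autoImplicit false
set_option linter.all false
set_option backward.isDefEq.respectTransparency.types false
set_option backward.isDefEq.respectTransparency false
set_option backward.defeqAttrib.useBackward true

universe u

open CategoryTheory CategoryTheory.Limits AlgebraicGeometry Opposite

namespace Groth.Agent.Et18

variable {X' X : Scheme.{u}} (π : X' ⟶ X) [IsFinite π] [Etale π] [EtShriek.JCont π]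

/-- `π_! ≅ π_*`. -/
noncomputable def extZeroPushIsoOfFinite : EtShriek.extZero π ≅ EtCoh.push π :=
  extZeroShriekIso π ≪≫ shriekPushIso π

/-- `π_* ⊣ π^*`. -/
noncomputable def pushPullAdj : EtCoh.push π ⊣ EtCoh.pull π :=
  ((EtShriek.extZeroAdj π).ofNatIsoLeft (extZeroPushIsoOfFinite π)).ofNatIsoRight (pullRestrIso π).symm

theorem counit_pushPullAdj (F : EtCoh.Ab X) :
    (pushPullAdj π).counit.app F = (EtCoh.push π).map ((pullRestrIso π).hom.app F) ≫
      (extZeroPushIsoOfFinite π).inv.app _ ≫ (EtShriek.extZeroAdj π).counit.app F := by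
  simp [pushPullAdj, Adjunction.ofNatIsoLeft, Adjunction.ofNatIsoRight]

theorem unit_pullRestr (F : EtCoh.Ab X) :
    (EtCoh.pullPushAdj π).unit.app F ≫ (EtCoh.push π).map ((pullRestrIso π).hom.app F) =
      (restrPushAdj π).unit.app F :=
  Adjunction.unit_leftAdjointUniq_hom_app (EtCoh.pullPushAdj π) (restrPushAdj π) F

theorem restrPush_unit_apply (F : EtCoh.Ab X) (V : X.Etale) (s : EtCoh.sect F V) :
    ((restrPushAdj π).unit.app F).hom.app (op V) s = F.obj.map ((compBcAdj π).counit.app V).op s :=
  rfl

variable [Flat π] (d : ℕ) (hd : ∀ x : X, π.finrank x = d)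

include hd in
theorem unit_trace (F : EtCoh.Ab X) :
    (EtCoh.pullPushAdj π).unit.app F ≫ (pushPullAdj π).counit.app F = d • 𝟙 F := by
  classical
  rw [counit_pushPullAdj, ← Category.assoc, unit_pullRestr]
  let G := (EtShriek.restrAlong π).obj F
  let e := extZeroPushIsoOfFinite π
  let φ : F ⟶ F := (restrPushAdj π).unit.app F ≫ e.inv.app G ≫ (EtShriek.extZeroAdj π).counit.app F
  show φ = d • 𝟙 F
  haveI : IsIso (equalizer.ι φ (d • 𝟙 F)) := isIso_of_stalks_family (ι := ULift.{u + 1} X)
    (fun y => algPoint X y.down) (fun y => ⟨⟨y⟩, algPoint_default X y⟩) _ fun y => by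
      let η := algPoint X y.down
      haveI : (EtCoh.stalk η).Additive := Functor.additive_of_preserves_binary_products _
      suffices h : (EtCoh.stalk η).map φ = (EtCoh.stalk η).map (d • 𝟙 F) by
        rw [← equalizerComparison_comp_π φ (d • 𝟙 F) (EtCoh.stalk η)]
        have := equalizer.ι_of_eq h
        infer_instance
      rw [Functor.map_nsmul, CategoryTheory.Functor.map_id]
      refine AddCommGrpCat.hom_ext (AddMonoidHom.ext fun a => ?_)
      obtain ⟨V, v, s, rfl⟩ := (Scheme.pointSmallEtale η).toPresheafFiber_jointly_surjective (P := F.obj) a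
      obtain ⟨hfin, hcard, -⟩ := card_pointLift π η
      haveI := Fintype.ofFinite (PointLift π η)
      let Φ := Scheme.pointSmallEtale η
      let B := (EtCoh.bc π).obj V
      let h := (compBcAdj π).counit.app V
      let t : EtCoh.sect G B := F.obj.map h.op s
      let w : ∀ u : PointLift π η, (Scheme.pointSmallEtale u.1).fiber.obj B := fun u => bcLift π η u V v
      let z : (EtCoh.stalk η).obj ((EtShriek.extZero π).obj G) :=
        ∑ u, extZeroInj π η G u ((Scheme.pointSmallEtale u.1).toPresheafFiber B (w u) G.obj t)
      haveI : IsProper (EtShriek.prV π V) := MorphismProperty.pullback_fst _ _ inferInstance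
      have hmem : t ∈ EtShriek.shriekSubgroup π G V := (mem_shriekSubgroup_iff π G _).mpr
        (isProperOver_of_isProper _ (isClosed_sectSupp G _ _))
      let τ := Φ.toPresheafFiber V v (EtShriek.lowerShriekPre π G) ⟨t, hmem⟩
      have h1 : (stalkShriekIso π η).hom.app G ((EtCoh.stalk η).map ((extZeroToShriek π).app G) z) = τ := by
        refine shriekToFibre_injective π η G (funext fun u' => ?_)
        simp only [z, map_sum]
        rw [Finset.sum_eq_single u']
        · rw [germ_extZeroToShriek]
          refine (eq_of_heq ((shriekToFibre_zeroExt π G η u' u' B (w u') t).1 rfl)).trans ?_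
          exact (shriekToFibre_germ π η G u' V v ⟨t, hmem⟩).symm
        · intro u _ hu
          rw [germ_extZeroToShriek]
          exact (shriekToFibre_zeroExt π G η u u' B (w u) t).2 hu.symm
        · exact fun hu => absurd (Finset.mem_univ u') hu
      have h2 : (EtCoh.stalk η).map (e.hom.app G) z =
          (EtCoh.stalk η).map ((restrPushAdj π).unit.app F) (Φ.toPresheafFiber V v F.obj s) := by
        have h3 : (EtCoh.stalk η).map ((extZeroToShriek π).app G) z =
            (stalkShriekIso π η).inv.app G τ := by
          rw [← h1, ← ConcreteCategory.comp_apply, Iso.hom_inv_id_app]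
          rfl
        show (EtCoh.stalk η).map ((extZeroToShriek π).app G ≫ EtShriek.lowerShriekToPush π G) z = _
        rw [Functor.map_comp, ConcreteCategory.comp_apply, h3]
        show (EtCoh.stalk η).map (EtShriek.lowerShriekToPush π G)
          (Φ.presheafFiber.map (CategoryTheory.toSheafify X.smallEtaleTopology (EtShriek.lowerShriekPre π G)) τ) = _
        have h4 : CategoryTheory.toSheafify X.smallEtaleTopology (EtShriek.lowerShriekPre π G) ≫
            (EtShriek.lowerShriekToPush π G).hom = EtShriek.lowerShriekPreι π G :=
          ((sheafificationAdjunction X.smallEtaleTopology AddCommGrpCat.{u + 1}).homEquiv_unit _ _ _).symm.trans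
            (Equiv.apply_symm_apply _ _)
        refine (ConcreteCategory.congr_hom (Φ.presheafFiber.map_comp _ _).symm τ).trans ?_
        refine (congrArg (fun k => (ConcreteCategory.hom (Φ.presheafFiber.map k)) τ) h4).trans ?_
        refine (GrothendieckTopology.Point.toPresheafFiber_naturality_apply ..).trans ?_
        exact (GrothendieckTopology.Point.toPresheafFiber_naturality_apply
          Φ ((restrPushAdj π).unit.app F).hom V v s).symm
      show (EtCoh.stalk η).map φ (Φ.toPresheafFiber V v F.obj s) = d • Φ.toPresheafFiber V v F.obj s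
      rw [show φ = (restrPushAdj π).unit.app F ≫ e.inv.app G ≫ (EtShriek.extZeroAdj π).counit.app F from rfl,
        Functor.map_comp, Functor.map_comp, ConcreteCategory.comp_apply, ConcreteCategory.comp_apply]
      refine (congrArg (fun q => (EtCoh.stalk η).map ((EtShriek.extZeroAdj π).counit.app F)
        ((EtCoh.stalk η).map (e.inv.app G) q)) h2.symm).trans ?_
      rw [← ConcreteCategory.comp_apply ((EtCoh.stalk η).map (e.hom.app G)), ← Functor.map_comp,
        Iso.hom_inv_id_app, CategoryTheory.Functor.map_id, ConcreteCategory.id_apply]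
      simp only [z, map_sum]
      rw [Finset.sum_eq_card_nsmul (b := Φ.toPresheafFiber V v F.obj s), Finset.card_univ,
        ← Nat.card_eq_fintype_card, hcard, hd]
      intro u _
      refine (congrArg (fun k => k t) (germ_restrStalkMap π η u F B (w u))).trans ?_
      refine (GrothendieckTopology.Point.toPresheafFiber_w_apply ..).trans ?_
      have hv : Φ.fiber.map h (fiberIncl u (w u)) = v := Over.OverMorphism.ext (bcLift_left_fst π η u _ _)
      exact congrArg (fun w' => Φ.toPresheafFiber V w' F.obj s) hv
  exact (cancel_epi (equalizer.ι φ (d • 𝟙 F))).mp (equalizer.condition φ _)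

end Groth.Agent.Et18
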