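import Groth.Agent.Et18.FiniteFibreApps

/-!
# The degree zero base change map on stalks
-/

universe u v' u'

open CategoryTheory CategoryTheory.Limits AlgebraicGeometry Opposite

set_option backward.isDefEq.respectTransparency.types false
set_option backward.isDefEq.respectTransparency false

namespace Groth.Agent.Et18

variable {X Y X' Y' : Scheme.{u}}

/-- A map between two products is bijective if it is componentwise so. -/
lemma bijective_of_pi_comm {ι ι' : Type*} {P Q : Type*} {A : ι → Type*} {B : ι' → Type*}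
    (Φ : P → ∀ i, A i) (Φ' : Q → ∀ i, B i) (hΦ : Function.Bijective Φ) (hΦ' : Function.Bijective Φ')
    (e : ι' → ι) (he : Function.Bijective e) (τ : ∀ i, A (e i) → B i)
    (hτ : ∀ i, Function.Bijective (τ i)) (φ : P → Q)
    (comm : ∀ p i, Φ' (φ p) i = τ i (Φ p (e i))) : Function.Bijective φ := by
  let T : (∀ i, A i) ≃ (∀ i, B i) := (Equiv.piCongrLeft A (Equiv.ofBijective e he)).symm.trans
    (Equiv.piCongrRight fun i => Equiv.ofBijective _ (hτ i))
  refine (Function.Bijective.of_comp_iff' hΦ' φ).mp ?_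
  rw [show Φ' ∘ φ = T ∘ Φ from funext fun p => funext fun i => comm p i]
  exact T.bijective.comp hΦ

section ToPull

variable (g : X ⟶ Y) {Ω : Type u} [Field Ω] [IsSepClosed Ω] (η : Spec (CommRingCat.of Ω) ⟶ Y)

instance isIso_fibrePointHom (ξ : FibrePts g η) : IsIso (fibrePointHom g η ξ) := by
  have : ∀ V, IsIso ((fibreFiberHom g η ξ).app V) := fun V =>
    (isIso_iff_bijective _).mpr (bcLiftEquiv g η ξ V).bijective
  have : IsIso (fibreFiberHom g η ξ) := NatIso.isIso_of_isIso_app _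
  refine ⟨⟨⟨inv (fibreFiberHom g η ξ)⟩, ?_, ?_⟩⟩
  · exact GrothendieckTopology.Point.hom_ext (IsIso.inv_hom_id (fibreFiberHom g η ξ))
  · exact GrothendieckTopology.Point.hom_ext (IsIso.hom_inv_id (fibreFiberHom g η ξ))

/-- The stalk of a sheaf maps to the stalk of its inverse image. -/
noncomputable def toPull (ξ : FibrePts g η) (G : EtCoh.Ab Y) :
    (EtCoh.stalk η).obj G ⟶ (EtCoh.stalk ξ.1).obj ((EtCoh.pull g).obj G) :=
  (EtCoh.stalk η).map ((EtCoh.pullPushAdj g).unit.app G) ≫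
    (fibreNat g η AddCommGrpCat.{u + 1} ξ).app ((EtCoh.pull g).obj G)

lemma toPresheafFiber_toPull (ξ : FibrePts g η) (G : EtCoh.Ab Y) (V : Y.Etale)
    (v : (Scheme.pointSmallEtale η).fiber.obj V) :
    (Scheme.pointSmallEtale η).toPresheafFiber V v G.obj ≫ toPull g η ξ G =
      ((EtCoh.pullPushAdj g).unit.app G).hom.app (op V) ≫
        (Scheme.pointSmallEtale ξ.1).toPresheafFiber ((EtCoh.bc g).obj V) (bcLift g η ξ V v)
          ((EtCoh.pull g).obj G).obj := by
  unfold toPull
  refine (Category.assoc _ _ _).symm.trans ?_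
  refine (congrArg (fun t => t ≫ _) ((Scheme.pointSmallEtale η).toPresheafFiber_naturality
    ((EtCoh.pullPushAdj g).unit.app G).hom V v)).trans ?_
  refine (Category.assoc _ _ _).trans ?_
  exact congrArg _ (toPresheafFiber_fibreNat g η AddCommGrpCat.{u + 1} ξ ((EtCoh.pull g).obj G) V v)

theorem isIso_toPull (ξ : FibrePts g η) (G : EtCoh.Ab Y) : IsIso (toPull g η ξ G) := by
  let Φ := Scheme.pointSmallEtale ξ.1
  let adj := EtCoh.pullPushAdj g
  let c := Φ.sheafFiberComapIso (EtCoh.bc g) (EtCoh.coverPreserving_bc g) AddCommGrpCat.{u + 1}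
  let s := (fibrePointHom g η ξ).sheafFiber (A := AddCommGrpCat.{u + 1})
  have : toPull g η ξ G = s.app G ≫ c.hom.app G := by
    unfold toPull fibreNat pushFiberMap
    refine (Category.assoc _ _ _).symm.trans ?_
    refine (congrArg (fun t => t ≫ _) (s.naturality (adj.unit.app G))).trans ?_
    refine (Category.assoc _ _ _).trans (congrArg (fun t => s.app G ≫ t) ?_)
    refine (Category.assoc _ _ _).symm.trans ?_
    refine (congrArg (fun t => t ≫ _) (c.hom.naturality (adj.unit.app G))).trans ?_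
    refine (Category.assoc _ _ _).trans ?_
    change c.hom.app G ≫ Φ.sheafFiber.map ((EtCoh.pull g).map (adj.unit.app G)) ≫
      Φ.sheafFiber.map (adj.counit.app _) = c.hom.app G
    rw [← Functor.map_comp, adj.left_triangle_components, CategoryTheory.Functor.map_id]
    exact Category.comp_id _
  rw [this]
  have : IsIso s := by
    refine ⟨(inv (fibrePointHom g η ξ)).sheafFiber (A := AddCommGrpCat.{u + 1}), ?_, ?_⟩
    · rw [← GrothendieckTopology.Point.Hom.sheafFiber_comp, IsIso.inv_hom_id,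
        GrothendieckTopology.Point.Hom.sheafFiber_id]
    · rw [← GrothendieckTopology.Point.Hom.sheafFiber_comp, IsIso.hom_inv_id,
        GrothendieckTopology.Point.Hom.sheafFiber_id]
  infer_instance

end ToPull

variable (f : X ⟶ Y) (g : Y' ⟶ Y) (f' : X' ⟶ Y') (g' : X' ⟶ X) (w : g' ≫ f = f' ≫ g)

/-- The comparison of the two iterated base changes. -/
noncomputable def bcSquareHom (V : Y.Etale) :
    (EtCoh.bc f').obj ((EtCoh.bc g).obj V) ⟶ (EtCoh.bc g').obj ((EtCoh.bc f).obj V) :=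
  (MorphismProperty.Over.pullbackComp (P := EtCoh.etaleMP) (Q := ⊤) f' g).inv.app V ≫
    (MorphismProperty.Over.pullbackCongr (P := EtCoh.etaleMP) (Q := ⊤) w).inv.app V ≫
      (MorphismProperty.Over.pullbackComp (P := EtCoh.etaleMP) (Q := ⊤) g' f).hom.app V

lemma unit_baseChange0 (F : EtCoh.Ab X) (V : Y.Etale) :
    ((EtCoh.pullPushAdj g).unit.app ((EtCoh.push f).obj F)).hom.app (op V) ≫
        (EtCoh.baseChange0 f g f' g' w F).hom.app (op ((EtCoh.bc g).obj V)) =
      ((EtCoh.pullPushAdj g').unit.app F).hom.app (op ((EtCoh.bc f).obj V)) ≫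
        ((EtCoh.pull g').obj F).obj.map (bcSquareHom f g f' g' w V).op := by
  have h := ((EtCoh.pullPushAdj g).homEquiv _ _).apply_symm_apply
    ((EtCoh.push f).map ((EtCoh.pullPushAdj g').unit.app F) ≫ (EtCoh.pushComp f g').hom.app _ ≫
      (EtCoh.pushCongr w).hom.app _ ≫ (EtCoh.pushComp g f').inv.app _)
  rw [Adjunction.homEquiv_unit] at h
  have h2 := congrArg (fun t => t.hom.app (op V)) h
  refine Eq.trans h2 ?_
  unfold bcSquareHom
  simp [EtCoh.pushComp, EtCoh.pushCongr, Functor.map_comp, Category.assoc]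

lemma pullbackCongr_inv_fst {A B : Scheme.{u}} {k k' : A ⟶ B} (h : k = k') (V : B.Etale) :
    ((MorphismProperty.Over.pullbackCongr (P := EtCoh.etaleMP) (Q := ⊤) h).inv.app V).left ≫
        pullback.fst V.hom k = pullback.fst V.hom k' := by
  subst h
  simp [MorphismProperty.Over.pullbackCongr]
  exact Category.id_comp _

lemma bcSquareHom_fst (V : Y.Etale) :
    (bcSquareHom f g f' g' w V).left ≫
        (pullback.fst ((EtCoh.bc f).obj V).hom g' : _ ⟶ ((EtCoh.bc f).obj V).left) ≫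
          pullback.fst V.hom f =
      (pullback.fst ((EtCoh.bc g).obj V).hom f' : _ ⟶ ((EtCoh.bc g).obj V).left) ≫
        pullback.fst V.hom g := by
  let C₁ := MorphismProperty.Over.pullbackComp (P := EtCoh.etaleMP) (Q := ⊤) f' g
  let C₂ := MorphismProperty.Over.pullbackComp (P := EtCoh.etaleMP) (Q := ⊤) g' f
  let K := (MorphismProperty.Over.pullbackCongr (P := EtCoh.etaleMP) (Q := ⊤) w).inv.app V
  have a₁ := MorphismProperty.Over.pullbackComp_left_fst_fst (P := EtCoh.etaleMP) (Q := ⊤) f' g V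
  have a₂ := MorphismProperty.Over.pullbackComp_left_fst_fst (P := EtCoh.etaleMP) (Q := ⊤) g' f V
  have e₁ : (C₁.inv.app V).left ≫ (C₁.hom.app V).left = 𝟙 _ :=
    congrArg (fun t => t.left) (C₁.inv_hom_id_app V)
  have step₁ : ((C₁.inv.app V).left ≫ K.left ≫ (C₂.hom.app V).left) ≫
      pullback.fst (pullback.snd V.hom f) g' ≫ pullback.fst V.hom f =
        (C₁.inv.app V).left ≫ pullback.fst V.hom (f' ≫ g) :=
    (Category.assoc _ _ _).trans (congrArg (fun t => (C₁.inv.app V).left ≫ t)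
      ((Category.assoc _ _ _).trans ((congrArg (fun t => K.left ≫ t) a₂).trans
        (pullbackCongr_inv_fst w V))))
  refine step₁.trans ((congrArg (fun t => (C₁.inv.app V).left ≫ t) a₁.symm).trans ?_)
  exact (Category.assoc _ _ _).symm.trans ((congrArg (fun t => t ≫ _) e₁).trans (Category.id_comp _))

variable {Ω : Type u} [Field Ω] [IsSepClosed Ω] (η' : Spec (CommRingCat.of Ω) ⟶ Y')

/-- The point of the lower fibre below a point of the upper fibre. -/
noncomputable def fibreMap (ξ' : FibrePts f' η') : FibrePts f (η' ≫ g) :=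
  ⟨ξ'.1 ≫ g', by rw [Category.assoc, w, ← Category.assoc, ξ'.2]⟩

lemma fiber_map_bcSquareHom (ξ' : FibrePts f' η') (V : Y.Etale)
    (v : (Scheme.pointSmallEtale (η' ≫ g)).fiber.obj V) :
    (Scheme.pointSmallEtale ξ'.1).fiber.map (bcSquareHom f g f' g' w V)
        (bcLift f' η' ξ' _ (bcLift g (η' ≫ g) ⟨η', rfl⟩ V v)) =
      bcLift g' (ξ'.1 ≫ g') ⟨ξ'.1, rfl⟩ _
        (bcLift f (η' ≫ g) (fibreMap f g f' g' w η' ξ') V v) := by
  refine (bcLiftEquiv g' _ ⟨ξ'.1, rfl⟩ _).symm.injective ?_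
  refine (bcLiftEquiv f _ (fibreMap f g f' g' w η' ξ') V).symm.injective ?_
  refine Over.OverMorphism.ext ?_
  change (((bcLift f' η' ξ' _ (bcLift g (η' ≫ g) ⟨η', rfl⟩ V v)).left ≫
      (bcSquareHom f g f' g' w V).left) ≫
        (pullback.fst ((EtCoh.bc f).obj V).hom g' : _ ⟶ ((EtCoh.bc f).obj V).left)) ≫
          pullback.fst V.hom f =
    ((bcLift g' (ξ'.1 ≫ g') ⟨ξ'.1, rfl⟩ _
        (bcLift f (η' ≫ g) (fibreMap f g f' g' w η' ξ') V v)).left ≫
      (pullback.fst ((EtCoh.bc f).obj V).hom g' : _ ⟶ ((EtCoh.bc f).obj V).left)) ≫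
        pullback.fst V.hom f
  simp only [Category.assoc]
  rw [bcSquareHom_fst]
  simp [bcLift]

/-- Compatibility of the stalk maps with base change. -/
theorem baseChange0_fibreNat (F : EtCoh.Ab X) (ξ' : FibrePts f' η') :
    toPull g (η' ≫ g) ⟨η', rfl⟩ ((EtCoh.push f).obj F) ≫
      (EtCoh.stalk η').map (EtCoh.baseChange0 f g f' g' w F) ≫
        (fibreNat f' η' AddCommGrpCat.{u + 1} ξ').app ((EtCoh.pull g').obj F) =
      (fibreNat f (η' ≫ g) AddCommGrpCat.{u + 1} (fibreMap f g f' g' w η' ξ')).app F ≫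
        toPull g' (ξ'.1 ≫ g') ⟨ξ'.1, rfl⟩ F := by
  refine (Scheme.pointSmallEtale (η' ≫ g)).presheafFiber_hom_ext fun V v => ?_
  erw [reassoc_of% toPresheafFiber_toPull g (η' ≫ g) ⟨η', rfl⟩ ((EtCoh.push f).obj F) V v,
    reassoc_of% toPresheafFiber_fibreNat f (η' ≫ g) AddCommGrpCat.{u + 1}
      (fibreMap f g f' g' w η' ξ') F V v,
    toPresheafFiber_toPull g' (ξ'.1 ≫ g') ⟨ξ'.1, rfl⟩ F]
  erw [(Scheme.pointSmallEtale η').toPresheafFiber_naturality_assoc]
  erw [toPresheafFiber_fibreNat f' η' AddCommGrpCat.{u + 1} ξ' ((EtCoh.pull g').obj F)]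
  erw [reassoc_of% unit_baseChange0 f g f' g' w F V]
  erw [GrothendieckTopology.Point.toPresheafFiber_w]
  rw [fiber_map_bcSquareHom f g f' g' w η' ξ' V v]

omit [IsSepClosed Ω] in
lemma fibreMap_bijective (h : IsPullback g' f' f g) :
    Function.Bijective (fibreMap f g f' g' h.w η') := by
  refine ⟨fun a b hab => Subtype.ext (h.hom_ext (congrArg Subtype.val hab) (a.2.trans b.2.symm)),
    fun ξ => ⟨⟨h.lift ξ.1 η' ξ.2, h.lift_snd _ _ _⟩, Subtype.ext (h.lift_fst _ _ _)⟩⟩

/-- Base change along a finite morphism. -/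
theorem isIso_baseChange0_of_isFinite [IsFinite f] (h : IsPullback g' f' f g) (F : EtCoh.Ab X) :
    IsIso (EtCoh.baseChange0 f g f' g' h.w F) := by
  haveI : IsFinite f' := MorphismProperty.of_isPullback (P := @IsFinite) h inferInstance
  refine isIso_of_stalks_family (ι := ULift.{u + 1} Y') (fun y => algPoint Y' y.down)
    (fun y => ⟨⟨y⟩, algPoint_default Y' y⟩) _ fun y => (ConcreteCategory.isIso_iff_bijective _).mpr ?_
  let η' := algPoint Y' y.down
  have h1 := (ConcreteCategory.isIso_iff_bijective _).mp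
    (isIso_toPull g (η' ≫ g) ⟨η', rfl⟩ ((EtCoh.push f).obj F))
  let b := (EtCoh.stalk η').map (EtCoh.baseChange0 f g f' g' h.w F)
  let t := toPull g (η' ≫ g) ⟨η', rfl⟩ ((EtCoh.push f).obj F)
  refine (Function.Bijective.of_comp_iff (fun p => b p) h1).mp ?_
  refine bijective_of_pi_comm _ _ (fibreNat_bijective f (η' ≫ g) AddCommGrpCat.{u + 1} F)
    (fibreNat_bijective f' η' AddCommGrpCat.{u + 1} ((EtCoh.pull g').obj F))
    _ (fibreMap_bijective f g f' g' η' h)
    (fun ξ' => toPull g' (ξ'.1 ≫ g') ⟨ξ'.1, rfl⟩ F)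
    (fun ξ' => (ConcreteCategory.isIso_iff_bijective _).mp
      (isIso_toPull g' (ξ'.1 ≫ g') ⟨ξ'.1, rfl⟩ F)) _ fun p ξ' => ?_
  have := ConcreteCategory.congr_hom (baseChange0_fibreNat f g f' g' h.w η' F ξ') p
  rw [ConcreteCategory.comp_apply, ConcreteCategory.comp_apply, ConcreteCategory.comp_apply] at this
  exact this

end Groth.Agent.Et18
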