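import Groth.Agent.Et18.IsoLocus
import Groth.Agent.Et18.BaseChange0Stalk
import Groth.Agent.Et18.FinitePush
import Groth.Agent.Et18.Recollement
import Groth.Agent.H8Lim.FinitePresentation
import Mathlib.LinearAlgebra.LinearIndependent.Lemmas
import Mathlib.AlgebraicGeometry.Morphisms.FlatMono

/-!
# Direct images of constructible sheaves along finite morphisms of finite presentation
-/

universe u

open CategoryTheory CategoryTheory.Limits AlgebraicGeometry Opposite Topology

set_option backward.isDefEq.respectTransparency.types false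
set_option backward.isDefEq.respectTransparency false

namespace Groth.Agent.Et18

variable {X Y : Scheme.{u}}

/-- A constructible set is covered by finitely many immersions with constructible ranges. -/
theorem exists_immersions_cover [CompactSpace X] [QuasiSeparatedSpace X] {C : Set X}
    (hC : IsConstructible C) :
    ∃ (κ : Type u) (_ : Fintype κ) (T : κ → Scheme.{u}) (g : ∀ i, T i ⟶ X),
      (∀ i, IsImmersion (g i)) ∧ (∀ i, CompactSpace (T i)) ∧ (∀ i, QuasiSeparatedSpace (T i)) ∧
      (⋃ i, Set.range (g i)) = C := by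
  classical
  obtain ⟨I, _, _, S, hS, hSu, -, -, hST⟩ := H8Top.exists_stratification (fun _ : Fin 1 => C) (fun _ => hC)
  choose T g hg hr using fun i : {i : I // S i ⊆ C} => exists_immersion_range (hS i.1).1
  refine ⟨ULift.{u} {i : I // S i ⊆ C}, inferInstance, fun i => T i.down, fun i => g i.down,
    fun i => hg i.down, fun i => ⟨?_⟩, fun i => ?_, ?_⟩
  · obtain ⟨i⟩ := i
    haveI := hg i
    rw [(g i).isEmbedding.isCompact_iff, Set.image_univ, hr]
    exact H8Lim.isCompact_of_isLocallyConstructible (hS i.1).2.isLocallyConstructible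
  · obtain ⟨i⟩ := i
    haveI := hg i
    exact quasiSeparatedSpace_of_quasiSeparated (g i)
  · refine Set.Subset.antisymm (Set.iUnion_subset fun i => (hr i.down).trans_le i.down.2) fun x hx => ?_
    obtain ⟨i, hi⟩ := Set.mem_iUnion.mp (hSu.symm ▸ Set.mem_univ x : x ∈ ⋃ i, S i)
    exact Set.mem_iUnion.mpr ⟨⟨⟨i, hST i 0 ⟨x, hi, hx⟩⟩⟩, (hr ⟨i, _⟩).symm ▸ hi⟩

/-- Constructibility on a disjoint union. -/
theorem isConstructible_of_sigma {κ : Type u} [Fintype κ] (T : κ → Scheme.{u}) {G : EtCoh.Ab (∐ T)}
    (h : ∀ i, EtPBC.IsConstructible ((EtCoh.pull (Sigma.ι T i)).obj G)) : EtPBC.IsConstructible G := by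
  refine isConstructible_of_cover (fun i => (Sigma.ι T i).opensRange) (fun x => ?_) fun i => ?_
  · obtain ⟨i, y, hy⟩ := (sigmaOpenCover T).exists_eq x
    exact ⟨i, y, hy⟩
  · have e : (Sigma.ι T i).isoOpensRange.inv ≫ Sigma.ι T i = (Sigma.ι T i).opensRange.ι :=
      Scheme.Hom.isoOpensRange_inv_comp _
    exact isConstructible_of_iso (isConstructible_pull (Sigma.ι T i).isoOpensRange.inv (h i))
      (((EtCore.pullComp _ (Sigma.ι T i)).app G).symm ≪≫ (EtCore.pullCongr e).app G)

/-- Disjoint unions of quasi-separated schemes are quasi-separated. -/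
theorem quasiSeparatedSpace_sigma {κ : Type u} (T : κ → Scheme.{u}) [∀ i, QuasiSeparatedSpace (T i)]
    [Fintype κ] : QuasiSeparatedSpace ↥(∐ T) := by
  refine ⟨fun U V hU hUc hV hVc => ?_⟩
  let j : ∀ i, T i → ↥(∐ T) := fun i x => sigmaMk T ⟨i, x⟩
  have hj : ∀ i, IsClosedEmbedding (j i) := fun i =>
    (sigmaMk T).isClosedEmbedding.comp IsClosedEmbedding.sigmaMk
  have e : U ∩ V = ⋃ i, j i '' (j i ⁻¹' U ∩ j i ⁻¹' V) := by
    ext x
    obtain ⟨⟨i, t⟩, rfl⟩ := (sigmaMk T).surjective x
    refine ⟨fun h => Set.mem_iUnion.mpr ⟨i, t, h, rfl⟩, fun h => ?_⟩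
    obtain ⟨k, s, hs, he⟩ := Set.mem_iUnion.mp h
    exact he ▸ hs
  rw [e]
  exact isCompact_iUnion fun i => (QuasiSeparatedSpace.inter_isCompact _ _
    (hU.preimage (hj i).continuous) ((hj i).isCompact_preimage hUc)
    (hV.preimage (hj i).continuous) ((hj i).isCompact_preimage hVc)).image (hj i).continuous

/-- Direct images along finitely presented closed immersions. -/
theorem isConstructible_push_closedImmersion [CompactSpace X] [QuasiSeparatedSpace X] {Z : Scheme.{u}}
    (s : Z ⟶ X) [IsClosedImmersion s] [LocallyOfFinitePresentation s] {G : EtCoh.Ab Z}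
    (hG : EtPBC.IsConstructible G) : EtPBC.IsConstructible ((EtCoh.push s).obj G) := by
  have hc : IsConstructible (Set.range s) := by
    have := s.isLocallyConstructible_image IsLocallyConstructible.univ
    rw [Set.image_univ] at this
    exact this.isConstructible
  let O : X.Opens := ⟨(Set.range s)ᶜ, s.isClosedEmbedding.isClosed_range.isOpen_compl⟩
  have hr : Set.range O.ι = (Set.range s)ᶜ := Scheme.Opens.range_ι O
  let T : Bool → Scheme.{u} := fun b => if b then Z else O.toScheme
  haveI : ∀ i : Option PUnit.{1}, IsImmersion (match (motive := ∀ i : Option PUnit.{1},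
      (i.elim O.toScheme fun _ => Z) ⟶ X) i with
      | none => O.ι
      | some _ => s) := by
    rintro (_ | _)
    · exact (inferInstance : IsImmersion O.ι)
    · exact (inferInstance : IsImmersion s)
  refine isConstructible_of_immersions (ι := Option PUnit.{1})
    (fun i => i.elim O.toScheme fun _ => Z)
    (fun i => match i with
      | none => O.ι
      | some _ => s) ?_ ?_ fun i => ?_
  · rintro (_ | _)
    · exact hr ▸ hc.compl
    · exact hc
  · refine Set.eq_univ_of_forall fun x => ?_
    by_cases hx : x ∈ Set.range s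
    · exact Set.mem_iUnion.mpr ⟨some PUnit.unit, hx⟩
    · exact Set.mem_iUnion.mpr ⟨none, hr.symm ▸ hx⟩
  · match i with
    | none => exact isConstructible_of_isZero (isZero_pull_push_compl hr G)
    | some _ =>
      haveI : IsIso ((EtCoh.pullPushAdj s).counit.app G) := inferInstance
      exact isConstructible_of_iso hG (asIso ((EtCoh.pullPushAdj s).counit.app G)).symm

/-- A morphism from a reduced point into a closed subscheme. -/
lemma exists_lift_of_mem_closed {T W : Scheme.{u}} {Ω : Type u} [Field Ω]
    (v : Spec (CommRingCat.of Ω) ⟶ T) (i : W ⟶ T) [IsClosedImmersion i] (h : v default ∈ Set.range i) :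
    ∃ v', v' ≫ i = v := by
  haveI : Surjective (pullback.fst v i) := ⟨fun p => by
    obtain ⟨w, hw⟩ := h
    rw [Subsingleton.elim p default]
    obtain ⟨z, hz, -⟩ := Scheme.Pullback.exists_preimage_pullback (f := v) (g := i) default w hw.symm
    exact ⟨z, hz⟩⟩
  haveI : IsIso (pullback.fst v i) := isIso_of_isClosedImmersion_of_surjective _
  exact ⟨inv (pullback.fst v i) ≫ pullback.snd v i, by
    rw [Category.assoc, ← pullback.condition, IsIso.inv_hom_id_assoc]⟩

/-- At most `N` geometric points of each fibre of `f` lie in the support of `F`. -/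
def SuppBound (f : X ⟶ Y) (F : EtCoh.Ab X) (N : ℕ) : Prop :=
  ∀ (K : Type u) [Field K] [IsAlgClosed K] (η : Spec (CommRingCat.of K) ⟶ Y)
    (e : Fin (N + 1) → FibrePts f η), Function.Injective e → ∃ i, (e i).1 default ∉ EtPBC.supp F

/-- The inductive step and the base. -/
theorem isConstructible_push_of_suppBound : ∀ (N : ℕ) {X Y : Scheme.{u}} [CompactSpace Y]
    [QuasiSeparatedSpace Y] (f : X ⟶ Y) [IsFinite f] [LocallyOfFinitePresentation f] {F : EtCoh.Ab X},
    EtPBC.IsConstructible F → SuppBound f F N → EtPBC.IsConstructible ((EtCoh.push f).obj F)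
  | 0, X, Y, _, _, f, _, _, F, _, hb => by
    refine isConstructible_of_isZero ((EtCoh.push f).map_isZero (isZero_of_stalks fun x => ?_))
    refine isZero_stalk_of_not_mem_supp _ ?_
    rw [sepPoint_default]
    obtain ⟨i, hi⟩ := hb _ (algPoint X x ≫ f) (fun _ => ⟨algPoint X x, rfl⟩)
      fun a b _ => Subsingleton.elim (α := Fin 1) a b
    rwa [algPoint_default] at hi
  | N + 1, X, Y, _, _, f, _, _, F, hF, hb => by
    classical
    haveI : CompactSpace X := QuasiCompact.compactSpace_of_compactSpace f
    haveI : QuasiSeparatedSpace X := quasiSeparatedSpace_of_quasiSeparated f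
    have hC : IsConstructible (EtPBC.supp F) := (isLocallyConstructible_supp hF).isConstructible
    obtain ⟨κ₁, _, T₁, g₁, hg₁, hT₁c, hT₁q, hu₁⟩ := exists_immersions_cover hC
    have hD : IsConstructible (f '' EtPBC.supp F)ᶜ :=
      (f.isLocallyConstructible_image (isLocallyConstructible_supp hF)).isConstructible.compl
    obtain ⟨κ₂, _, T₂, g₂, hg₂, hT₂c, hT₂q, hu₂⟩ := exists_immersions_cover hD
    let T : κ₁ ⊕ κ₂ → Scheme.{u} := Sum.elim T₁ T₂
    let h : ∀ i, T i ⟶ Y := fun i => match i with
      | .inl a => g₁ a ≫ f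
      | .inr b => g₂ b
    haveI : ∀ i, CompactSpace (T i) := fun i => by cases i <;> [exact hT₁c _; exact hT₂c _]
    haveI : ∀ i, QuasiSeparatedSpace (T i) := fun i => by cases i <;> [exact hT₁q _; exact hT₂q _]
    haveI : CompactSpace ↥(∐ T) := (sigmaMk T).compactSpace
    haveI : QuasiSeparatedSpace ↥(∐ T) := quasiSeparatedSpace_sigma T
    haveI : Surjective (Sigma.desc h) := ⟨fun y => by
      have : ∃ i t, h i t = y := by
        by_cases hy : y ∈ f '' EtPBC.supp F
        · obtain ⟨x, hx, rfl⟩ := hy
          obtain ⟨a, t, rfl⟩ := Set.mem_iUnion.mp (hu₁.symm ▸ hx : x ∈ ⋃ i, Set.range (g₁ i))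
          exact ⟨.inl a, t, rfl⟩
        · obtain ⟨b, t, rfl⟩ := Set.mem_iUnion.mp (hu₂.symm ▸ hy : y ∈ ⋃ i, Set.range (g₂ i))
          exact ⟨.inr b, t, rfl⟩
      obtain ⟨i, t, ht⟩ := this
      refine ⟨Sigma.ι T i t, ?_⟩
      rw [← Scheme.Hom.comp_apply]
      exact (congrArg (fun r : T i ⟶ Y => r t) (Sigma.ι_desc h i)).trans ht⟩
    refine isConstructible_of_pull_surjective (Sigma.desc h) (isConstructible_of_sigma T fun i => ?_)
    refine isConstructible_of_iso ?_
      ((EtCore.pullCongr (Sigma.ι_desc h i).symm).app _ ≪≫ (EtCore.pullComp _ (Sigma.desc h)).app _)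
    let sq := IsPullback.of_hasPullback f (h i)
    haveI := isIso_baseChange0_of_isFinite f (h i) (pullback.snd f (h i)) (pullback.fst f (h i)) sq F
    refine isConstructible_of_iso ?_
      (asIso (EtCoh.baseChange0 f (h i) (pullback.snd f (h i)) (pullback.fst f (h i)) sq.w F)).symm
    match i with
    | .inr b =>
      let F' : EtCoh.Ab (pullback f (g₂ b)) := (EtCoh.pull (pullback.fst f (g₂ b))).obj F
      have hsupp : EtPBC.supp F' = pullback.fst f (g₂ b) ⁻¹' EtPBC.supp F := supp_pull _ F
      refine isConstructible_of_isZero ((EtCoh.push _).map_isZero (isZero_of_stalks fun z => ?_))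
      refine isZero_stalk_of_not_mem_supp _ ?_
      rw [sepPoint_default]
      intro hz
      have h1 : pullback.fst f (g₂ b) z ∈ EtPBC.supp F := by
        have := hsupp.le (show z ∈ EtPBC.supp F' from hz)
        exact this
      have h2 : g₂ b (pullback.snd f (g₂ b) z) ∈ (f '' EtPBC.supp F)ᶜ :=
        hu₂.le (Set.mem_iUnion.mpr ⟨b, _, rfl⟩)
      exact h2 ⟨_, h1, congrArg (fun r : pullback f (g₂ b) ⟶ Y => r z) pullback.condition⟩
    | .inl a =>
      let f' := pullback.snd f (g₁ a ≫ f)
      let p := pullback.fst f (g₁ a ≫ f)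
      let F' : EtCoh.Ab (pullback f (g₁ a ≫ f)) := (EtCoh.pull p).obj F
      have hF' : EtPBC.IsConstructible F' := isConstructible_pull _ hF
      have hsupp : EtPBC.supp F' = p ⁻¹' EtPBC.supp F := supp_pull _ F
      let s : T₁ a ⟶ pullback f (g₁ a ≫ f) := pullback.lift (g₁ a) (𝟙 _) (by rw [Category.id_comp])
      have hsf : s ≫ f' = 𝟙 _ := pullback.lift_snd _ _ _
      haveI : IsClosedImmersion s := by
        haveI : IsClosedImmersion (s ≫ f') := hsf.symm ▸ inferInstance
        exact IsClosedImmersion.of_comp s f'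
      haveI : LocallyOfFinitePresentation (s ≫ f') := hsf.symm ▸ inferInstance
      haveI : LocallyOfFinitePresentation s := H8Lim.lfp_cancel_right s f'
      haveI : CompactSpace ↥(pullback f (g₁ a ≫ f)) :=
        haveI : CompactSpace (T₁ a) := hT₁c a
        QuasiCompact.compactSpace_of_compactSpace f'
      haveI : QuasiSeparatedSpace ↥(pullback f (g₁ a ≫ f)) :=
        haveI : QuasiSeparatedSpace (T₁ a) := hT₁q a
        quasiSeparatedSpace_of_quasiSeparated f'
      haveI : CompactSpace (T₁ a) := hT₁c a
      haveI : QuasiSeparatedSpace (T₁ a) := hT₁q a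
      let P := (EtCoh.push s).obj ((EtCoh.pull s).obj F')
      let η : F' ⟶ P := (EtCoh.pullPushAdj s).unit.app F'
      have hP : EtPBC.IsConstructible P := isConstructible_push_closedImmersion s (isConstructible_pull s hF')
      have hK := (isConstructible_kernel_cokernel η hF' hP).1
      haveI : IsIso ((EtCoh.pull s).map η) := isIso_pull_map_unit s F'
      haveI hepi : Epi η := by
        let O : (pullback f (g₁ a ≫ f)).Opens :=
          ⟨(Set.range s)ᶜ, s.isClosedEmbedding.isClosed_range.isOpen_compl⟩
        refine Preadditive.epi_of_isZero_cokernel _ (isZero_of_stalks fun z => ?_)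
        haveI : Epi ((EtCoh.stalk (sepPoint _ z)).map η) := by
          by_cases hz : z ∈ Set.range s
          · obtain ⟨t, rfl⟩ := hz
            obtain ⟨v, hv⟩ := exists_lift_of_mem_closed (sepPoint _ (s t)) s
              ⟨t, (sepPoint_default _ _).symm⟩
            haveI := (NatIso.isIso_map_iff (stalkPullIso s v) η).mp
              (inferInstanceAs (IsIso ((EtCoh.stalk v).map ((EtCoh.pull s).map η))))
            rw [← hv]
            infer_instance
          · have hzO : IsZero ((EtCoh.stalk (sepPoint _ z)).obj P) :=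
              isZero_stalk_push_of_disjoint s _ _ O
                (show sepPoint _ z default ∈ O by rw [sepPoint_default]; exact hz) disjoint_compl_left
            exact ⟨fun a b _ => hzO.eq_of_src a b⟩
        exact (isZero_cokernel_of_epi ((EtCoh.stalk (sepPoint _ z)).map η)).of_iso
          (PreservesCokernel.iso (EtCoh.stalk (sepPoint _ z)) η)
      have hbd : SuppBound f' (kernel η) N := by
        intro K _ _ ρ e he
        by_contra hall
        simp only [not_exists, not_not] at hall
        have hker : ∀ j, (e j).1 default ∈ EtPBC.supp F' := fun j => by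
          by_contra hj
          refine (mem_supp_iff _ (e j).1 rfl).mp (hall j) ?_
          haveI : Mono ((EtCoh.stalk (e j).1).map (kernel.ι η)) := inferInstance
          exact IsZero.of_mono ((EtCoh.stalk (e j).1).map (kernel.ι η)) (isZero_stalk_of_not_mem_supp _ hj)
        have hne : ∀ j, (e j).1 ≠ ρ ≫ s := fun j hj => by
          refine (mem_supp_iff _ (e j).1 rfl).mp (hall j) ?_
          haveI : IsIso ((EtCoh.stalk (e j).1).map η) := by
            rw [hj]
            exact (NatIso.isIso_map_iff (stalkPullIso s ρ) η).mp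
              (inferInstanceAs (IsIso ((EtCoh.stalk ρ).map ((EtCoh.pull s).map η))))
          exact (isZero_kernel_of_mono ((EtCoh.stalk (e j).1).map η)).of_iso
            (PreservesKernel.iso (EtCoh.stalk (e j).1) η)
        let e' : Fin (N + 1 + 1) → FibrePts f (ρ ≫ g₁ a ≫ f) := Fin.cons ⟨ρ ≫ g₁ a, Category.assoc _ _ _⟩
          fun j => ⟨(e j).1 ≫ p, by rw [Category.assoc, pullback.condition, ← Category.assoc, (e j).2]⟩
        obtain ⟨j, hj⟩ := hb K (ρ ≫ g₁ a ≫ f) e' (Fin.cons_injective_iff.mpr ⟨fun ⟨j, hj⟩ => hne j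
            (pullback.hom_ext ((congrArg Subtype.val hj).trans (by rw [Category.assoc, pullback.lift_fst]))
              ((e j).2.trans (by rw [Category.assoc, pullback.lift_snd, Category.comp_id]))),
          fun j k hjk => he (Subtype.ext (pullback.hom_ext (congrArg Subtype.val hjk) ((e j).2.trans (e k).2.symm)))⟩)
        · refine Fin.cases (fun hj => ?_) (fun j hj => ?_) j hj
          · exact hj (hu₁.le (Set.mem_iUnion.mpr ⟨a, ρ default, rfl⟩))
          · exact hj (hsupp.le (hker j))
      have ih := isConstructible_push_of_suppBound N f' hK hbd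
      have hS : (ShortComplex.mk (kernel.ι η) η (kernel.condition η)).ShortExact :=
        { exact := ShortComplex.exact_kernel η }
      haveI := push_preservesHomology_of_integral f'
      haveI := (EtCoh.push f').preservesFiniteColimits_of_preservesHomology
      haveI := (EtCoh.push f').preservesFiniteLimits_of_preservesHomology
      refine isConstructible_extension (hS.map_of_exact (EtCoh.push f')) ih ?_
      exact isConstructible_of_iso
        (isConstructible_push_closedImmersion (𝟙 (T₁ a)) (isConstructible_pull s hF'))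
        (((EtCoh.pushCongr hsf.symm).app _) ≪≫ ((EtCoh.pushComp f' s).app _).symm)

/-- Over an affine base the fibres are bounded. -/
theorem exists_suppBound [IsAffine Y] (f : X ⟶ Y) [IsFinite f] (F : EtCoh.Ab X) :
    ∃ N, SuppBound f F N := by
  classical
  haveI : IsAffine X := isAffine_of_isAffineHom f
  let φ := f.appTop.hom
  have hfin : φ.Finite := f.finite_appTop
  letI := φ.toAlgebra
  haveI : Module.Finite Γ(Y, ⊤) Γ(X, ⊤) := hfin
  obtain ⟨G, hG⟩ := (inferInstance : Module.Finite Γ(Y, ⊤) Γ(X, ⊤)).fg_top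
  refine ⟨G.card, fun K _ _ η e he => ?_⟩
  by_contra hall
  let χ : Fin (G.card + 1) → (Γ(X, ⊤) →* Γ(Spec (CommRingCat.of K), ⊤)) :=
    fun i => (e i).1.appTop.hom.toMonoidHom
  let L : CommRingCat.of K ≅ Γ(Spec (CommRingCat.of K), ⊤) := (Scheme.ΓSpecIso _).symm
  let χ' : Fin (G.card + 1) → (Γ(X, ⊤) →* K) :=
    fun i => (L.inv.hom.comp (e i).1.appTop.hom).toMonoidHom
  have hinj : Function.Injective χ' := fun i j hij => by
    refine he (Subtype.ext (ext_of_isAffine (CommRingCat.hom_ext (RingHom.ext fun b => ?_))))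
    have h1 := DFunLike.congr_fun hij b
    exact (ConcreteCategory.bijective_of_isIso L.inv).1 h1
  have hli := (linearIndependent_monoidHom Γ(X, ⊤) K).comp χ' hinj
  have hbase : ∀ i (c : Γ(Y, ⊤)) (b : Γ(X, ⊤)), χ' i (c • b) = (L.inv (η.appTop c)) * χ' i b := by
    intro i c b
    rw [Algebra.smul_def, map_mul]
    congr 1
    show L.inv ((e i).1.appTop (f.appTop c)) = _
    refine congrArg (fun t => L.inv t) ?_
    show (f.appTop ≫ (e i).1.appTop) c = η.appTop c
    rw [← Scheme.Hom.comp_appTop, (e i).2]
  let Φ : (Fin (G.card + 1) → K) →ₗ[K] (G → K) :=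
    LinearMap.pi fun g => ∑ i, (χ' i g.1) • LinearMap.proj i
  obtain ⟨c, hc, hc0⟩ : ∃ c, Φ c = 0 ∧ c ≠ 0 := by
    by_contra hne
    push Not at hne
    have := LinearMap.finrank_le_finrank_of_injective (f := Φ)
      ((injective_iff_map_eq_zero Φ).mpr fun c hc => hne c hc)
    simp at this
  refine hc0 (funext fun i => Fintype.linearIndependent_iff.mp hli c (funext fun b => ?_) i)
  have hb : b ∈ Submodule.span Γ(Y, ⊤) (G : Set Γ(X, ⊤)) := hG ▸ trivial
  simp only [Finset.sum_apply, Pi.smul_apply, Function.comp_apply, smul_eq_mul, Pi.zero_apply]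
  induction hb using Submodule.span_induction with
  | mem g hg =>
    have := congrFun hc ⟨g, hg⟩
    simpa [Φ, mul_comm] using this
  | zero => simp [χ']
  | add a b _ _ ha hb =>
    have : ∀ i, χ' i (a + b) = χ' i a + χ' i b := fun i => map_add (L.inv.hom.comp (e i).1.appTop.hom) a b
    simp only [this, mul_add, Finset.sum_add_distrib, ha, hb, add_zero]
  | smul r a _ ha =>
    simp only [hbase, mul_left_comm _ (L.inv (η.appTop r)), ← Finset.mul_sum, ha, mul_zero]

/-- **Finite direct images of constructible sheaves are constructible.** -/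
theorem isConstructible_push_of_finitePresentation (f : X ⟶ Y) [IsFinite f] [LocallyOfFinitePresentation f]
    {F : EtCoh.Ab X} (hF : EtPBC.IsConstructible F) : EtPBC.IsConstructible ((EtCoh.push f).obj F) := by
  refine isConstructible_of_cover (fun V : Y.affineOpens => V.1) (fun y => ?_) fun V => ?_
  · obtain ⟨V, hV, hyV, -⟩ := exists_isAffineOpen_mem_and_subset (X := Y) (x := y) (U := ⊤) trivial
    exact ⟨⟨V, hV⟩, hyV⟩
  haveI : IsAffine V.1.toScheme := V.2
  let sq := IsPullback.of_hasPullback f V.1.ι
  haveI := isIso_baseChange0_of_isFinite f V.1.ι (pullback.snd f V.1.ι) (pullback.fst f V.1.ι) sq F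
  refine isConstructible_of_iso ?_
    (asIso (EtCoh.baseChange0 f V.1.ι (pullback.snd f V.1.ι) (pullback.fst f V.1.ι) sq.w F)).symm
  obtain ⟨N, hN⟩ := exists_suppBound (pullback.snd f V.1.ι) ((EtCoh.pull (pullback.fst f V.1.ι)).obj F)
  exact isConstructible_push_of_suppBound N _ (isConstructible_pull _ hF) hN

end Groth.Agent.Et18
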