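import Groth.Agent.CommAlg4.LangFixed
import Mathlib.FieldTheory.IsSepClosed
import Mathlib.FieldTheory.PurelyInseparable.Basic
import Mathlib.FieldTheory.IsAlgClosed.AlgebraicClosure
import Mathlib.LinearAlgebra.Matrix.NonsingularInverse

/-!
# q-linear endomorphisms over separably closed fields
-/

universe u v

namespace Groth.Agent.Et18.QLinear

open Module

variable {k : Type u} [Field k] [IsSepClosed k] {p : ℕ} [hp : Fact p.Prime] [CharP k p] {r : ℕ}
  (hr : 0 < r) {V : Type v} [AddCommGroup V] [Module k V] [FiniteDimensional k V] (φ : V →+ V)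
  (hφ : ∀ (c : k) (v : V), φ (c • v) = c ^ (p ^ r) • φ v)

include hr in
lemma two_le : 2 ≤ p ^ r := hp.out.two_le.trans (Nat.le_self_pow hr.ne' p)

include hr in
lemma exists_sub_pow (a : k) : ∃ c : k, c - c ^ (p ^ r) = a := by
  obtain ⟨x, hx⟩ := IsSepClosed.exists_root_C_mul_X_pow_add_C_mul_X_add_C' p (p ^ r) (-1 : k) 1 (-a)
    (dvd_pow_self p hr.ne') (two_le hr) one_ne_zero
  exact ⟨x, by linear_combination hx⟩

omit [IsSepClosed k] [FiniteDimensional k V] in
include hφ in
lemma iterate_smul (n : ℕ) (c : k) (v : V) : φ^[n] (c • v) = c ^ ((p ^ r) ^ n) • φ^[n] v := by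
  induction n with
  | zero => simp
  | succ n ih => rw [Function.iterate_succ_apply', Function.iterate_succ_apply', ih, hφ, ← pow_mul, pow_succ]

include hr hφ in
/-- Fixed vectors span when the image does. -/
theorem span_fixed_eq_top (hss : Submodule.span k (Set.range φ) = ⊤) :
    Submodule.span k {v : V | φ v = v} = ⊤ := by
  classical
  let K := AlgebraicClosure k
  let α := algebraMap k K
  let e := Module.finBasis k V
  let q := p ^ r
  let A : Matrix (Fin (finrank k V)) (Fin (finrank k V)) k := Matrix.of fun i j => e.repr (φ (e j)) i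
  have hφe : ∀ v, φ v = ∑ j, (e.repr v j) ^ q • φ (e j) := fun v => by
    conv_lhs => rw [← e.sum_repr v]
    rw [map_sum]
    exact Finset.sum_congr rfl fun j _ => hφ _ _
  have hA : ∀ v, (e.repr (φ v) : _ → k) = A.mulVec fun j => (e.repr v j) ^ q := fun v => by
    ext i
    rw [hφe, map_sum, Finsupp.coe_finset_sum, Finset.sum_apply]
    refine Finset.sum_congr rfl fun j _ => ?_
    rw [map_smul, Finsupp.smul_apply, smul_eq_mul, mul_comm]
    rfl
  have hsp : Submodule.span k (Set.range fun j => φ (e j)) = ⊤ := by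
    rw [eq_top_iff, ← hss, Submodule.span_le]
    rintro _ ⟨v, rfl⟩
    rw [SetLike.mem_coe, hφe v]
    exact Submodule.sum_mem _ fun j _ => Submodule.smul_mem _ _ (Submodule.subset_span ⟨j, rfl⟩)
  choose B hB using fun l => (Submodule.mem_span_range_iff_exists_fun k).mp (hsp ▸ Submodule.mem_top (x := e l))
  have hAB : A * (Matrix.of fun j l => B l j) = 1 := by
    ext i l
    have h := congrArg (fun v => e.repr v i) (hB l)
    simp only [map_sum, map_smul, Finsupp.coe_finset_sum, Finset.sum_apply, Finsupp.smul_apply, smul_eq_mul,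
      e.repr_self, Finsupp.single_apply] at h
    rw [Matrix.mul_apply, Matrix.one_apply]
    simp only [A, Matrix.of_apply]
    rw [if_congr (eq_comm (a := i) (b := l)) rfl rfl, ← h]
    exact Finset.sum_congr rfl fun j _ => mul_comm _ _
  let AK := A.map α
  have hBA : ((Matrix.of fun j l => B l j).map α) * AK = 1 := by
    rw [← Matrix.map_mul, mul_eq_one_comm.mp hAB, Matrix.map_one _ (map_zero α) (map_one α)]
  haveI : CharP K p := charP_of_injective_algebraMap α.injective p
  let φK : (Fin (finrank k V) → K) →+ (Fin (finrank k V) → K) :=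
    { toFun := fun x => AK.mulVec fun j => x j ^ q
      map_zero' := by
        rw [show (fun j => (0 : Fin (finrank k V) → K) j ^ q) = 0 from
          funext fun j => zero_pow (pow_ne_zero r hp.out.ne_zero)]
        exact Matrix.mulVec_zero _
      map_add' := fun x y => by
        rw [show (fun j => (x + y) j ^ q) = (fun j => x j ^ q) + (fun j => y j ^ q) from
          funext fun j => add_pow_char_pow (x j) (y j) p r]
        exact Matrix.mulVec_add _ _ _ }
  have hφK : ∀ (a : K) x, φK (a • x) = a ^ q • φK x := fun a x => by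
    show AK.mulVec _ = a ^ q • AK.mulVec _
    rw [← Matrix.mulVec_smul]
    congr 1
    exact funext fun j => mul_pow a (x j) q
  have hinj : Function.Injective φK := (injective_iff_map_eq_zero φK).mpr fun x hx => by
    have h := congrArg (Matrix.mulVec ((Matrix.of fun j l => B l j).map α)) (show AK.mulVec _ = 0 from hx)
    rw [Matrix.mulVec_mulVec, hBA, Matrix.one_mulVec, Matrix.mulVec_zero] at h
    exact funext fun j => eq_zero_of_pow_eq_zero (congrFun h j)
  have hspan := CommAlg4.LangFixed.span_fixed_eq_top (two_le (p := p) hr) φK hφK hinj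
  have hdesc : ∀ x, φK x = x → ∃ y : Fin (finrank k V) → k, x = α ∘ y := by
    intro x hx
    have step : ∀ N, ∃ M : Matrix (Fin (finrank k V)) (Fin (finrank k V)) k,
        x = (M.map α).mulVec fun j => x j ^ (q ^ N) := by
      intro N
      induction N with
      | zero => exact ⟨1, by simp [Matrix.map_one _ (map_zero α) (map_one α)]⟩
      | succ N ih =>
        obtain ⟨M, hM⟩ := ih
        refine ⟨A * M.map (fun c => c ^ q), ?_⟩
        conv_lhs => rw [← hx]
        show AK.mulVec _ = _
        rw [Matrix.map_mul, ← Matrix.mulVec_mulVec]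
        congr 1
        funext j
        conv_lhs => rw [hM]
        simp only [Matrix.mulVec, dotProduct, Matrix.map_apply, q]
        rw [sum_pow_char_pow]
        refine Finset.sum_congr rfl fun l _ => ?_
        rw [mul_pow, map_pow, ← pow_mul, ← pow_succ]
    haveI : ExpChar k p := ExpChar.prime hp.out
    choose m hm using fun j => IsPurelyInseparable.pow_mem k p (x j)
    obtain ⟨M, hM⟩ := step (Finset.univ.sup m)
    have hj : ∀ j, ∃ y : k, α y = x j ^ (q ^ Finset.univ.sup m) := fun j => by
      obtain ⟨y, hy⟩ := hm j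
      have hle : m j ≤ r * Finset.univ.sup m :=
        (Finset.le_sup (Finset.mem_univ j)).trans (Nat.le_mul_of_pos_left _ hr)
      obtain ⟨d, hd⟩ := Nat.exists_eq_add_of_le hle
      refine ⟨y ^ p ^ d, ?_⟩
      rw [map_pow, hy, ← pow_mul, ← pow_add, ← hd, ← pow_mul]
    choose y hy using hj
    refine ⟨M.mulVec y, ?_⟩
    rw [hM, RingHom.map_mulVec α M y |> fun h => funext fun i => (show (α ∘ M.mulVec y) i = _ from h i)]
    simp only [Function.comp_def, hy]
  by_contra hne
  obtain ⟨f, hf0, hf⟩ := Submodule.exists_dual_map_eq_bot_of_lt_top (lt_top_iff_ne_top.mpr hne) inferInstance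
  apply hf0
  let L : (Fin (finrank k V) → K) →ₗ[K] K := ∑ i, α (f (e i)) • LinearMap.proj i
  have hL : L = 0 := by
    refine LinearMap.ext_on hspan fun x (hx : φK x = x) => ?_
    obtain ⟨y, rfl⟩ := hdesc x hx
    let v := ∑ i, y i • e i
    have hrep : (e.repr v : _ → k) = y := by
      rw [← e.equivFun_apply, show v = e.equivFun.symm y from (e.equivFun_symm_apply y).symm, LinearEquiv.apply_symm_apply]
    have hv : φ v = v := by
      refine e.repr.injective (DFunLike.coe_injective (funext fun i => α.injective ?_))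
      rw [hA, hrep, RingHom.map_mulVec]
      simp only [Function.comp_def, map_pow]
      exact congrFun hx i
    have hfv : f v = 0 := by
      have : f v ∈ Submodule.map f (Submodule.span k {v | φ v = v}) := ⟨v, Submodule.subset_span hv, rfl⟩
      rwa [hf, Submodule.mem_bot] at this
    simp only [v, map_sum, map_smul, smul_eq_mul] at hfv
    simp only [L, LinearMap.coe_sum, Finset.sum_apply, LinearMap.smul_apply, LinearMap.proj_apply, smul_eq_mul,
      Function.comp_apply, LinearMap.zero_apply, ← map_mul, ← map_sum]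
    rw [← map_zero α, ← hfv]
    exact congrArg α (Finset.sum_congr rfl fun i _ => mul_comm _ _)
  refine e.ext fun i => α.injective ?_
  have h := LinearMap.congr_fun hL (Pi.single i 1)
  simpa [L, Pi.single_apply] using h

include hr hφ in
/-- A fixed basis. -/
theorem exists_basis_fixed (hss : Submodule.span k (Set.range φ) = ⊤) :
    ∃ b : Basis (Fin (finrank k V)) k V, (∀ i, φ (b i) = b i) ∧
      ∀ (n : ℕ) (v : V), φ^[n] v = v ↔ ∀ i, b.repr v i ^ ((p ^ r) ^ n) = b.repr v i := by
  classical
  obtain ⟨s, hs, hsp, hli⟩ := exists_linearIndependent k {v : V | φ v = v}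
  rw [span_fixed_eq_top hr φ hφ hss] at hsp
  let b₀ := Basis.mk hli (by rw [Subtype.range_coe]; exact hsp.ge)
  let b := b₀.reindex (b₀.indexEquiv (Module.finBasis k V))
  have hb : ∀ i, φ (b i) = b i := fun i => by
    simp only [b, Basis.reindex_apply, b₀, Basis.mk_apply]
    exact hs (Subtype.coe_prop _)
  refine ⟨b, hb, fun n v => ?_⟩
  have key : φ^[n] v = ∑ i, (b.repr v i) ^ ((p ^ r) ^ n) • b i := by
    induction n with
    | zero => simpa using (b.sum_repr v).symm
    | succ n ih =>
      rw [Function.iterate_succ_apply', ih, map_sum]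
      refine Finset.sum_congr rfl fun i _ => ?_
      rw [hφ, hb i, ← pow_mul, pow_succ]
  rw [key]
  refine ⟨fun h i => ?_, fun h => ?_⟩
  · have := congrArg (fun w => b.repr w i) h
    rwa [b.repr_sum_self] at this
  · conv_rhs => rw [← b.sum_repr v]
    exact Finset.sum_congr rfl fun i _ => by rw [h i]

/-- The span of the image of an iterate. -/
abbrev imgSpan (n : ℕ) : Submodule k V := Submodule.span k (Set.range φ^[n])

include hφ in
omit [IsSepClosed k] [FiniteDimensional k V] in
lemma map_mem_imgSpan {n : ℕ} {w : V} (hw : w ∈ imgSpan (k := k) φ n) : φ w ∈ imgSpan (k := k) φ (n + 1) := by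
  induction hw using Submodule.span_induction with
  | mem x hx =>
    obtain ⟨a, rfl⟩ := hx
    exact Submodule.subset_span ⟨a, Function.iterate_succ_apply' φ n a⟩
  | zero => rw [map_zero]; exact zero_mem _
  | add x y _ _ hx hy => rw [map_add]; exact add_mem hx hy
  | smul c x _ hx => rw [hφ]; exact Submodule.smul_mem _ _ hx

include hr hφ in
/-- The semisimple part. -/
theorem semisimplePart :
    let W : Submodule k V := ⨅ n : ℕ, Submodule.span k (Set.range (φ^[n + 1]))
    ∃ (b : Basis (Fin (finrank k W)) k W) (N : ℕ), (∀ i, φ (b i : V) = (b i : V)) ∧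
      (∀ x, φ^[N] x ∈ W) ∧
      ∀ v : V, φ v = v → ∃ c : Fin (finrank k W) → k, (∀ i, c i ^ (p ^ r) = c i) ∧ v = ∑ i, c i • (b i : V) := by
  intro W
  classical
  have hanti : ∀ n, imgSpan (k := k) φ (n + 1) ≤ imgSpan φ n := fun n => by
    refine Submodule.span_mono ?_
    rintro _ ⟨a, rfl⟩
    exact ⟨φ a, (Function.iterate_succ_apply φ n a).symm⟩
  have hmono : Antitone (imgSpan (k := k) φ) := antitone_nat_of_succ_le hanti
  let P : ℕ → Prop := fun d => ∃ n, finrank k (imgSpan (k := k) φ (n + 1)) = d
  have hP : ∃ d, P d := ⟨_, 0, rfl⟩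
  obtain ⟨N, hN⟩ := Nat.find_spec hP
  have hst : ∀ n, N + 1 ≤ n → imgSpan (k := k) φ n = imgSpan φ (N + 1) := fun n hn =>
    Submodule.eq_of_le_of_finrank_le (hmono hn) (hN ▸ Nat.find_min' hP ⟨n - 1, by rw [Nat.sub_add_cancel (by omega)]⟩)
  have hW : W = imgSpan φ (N + 1) := le_antisymm (iInf_le _ N) (le_iInf fun n => by
    rcases le_total (N + 1) (n + 1) with h | h
    · exact (hst _ h).ge
    · exact hmono h)
  have hmap : ∀ w ∈ W, φ w ∈ W := fun w hw => by
    rw [hW] at hw ⊢
    exact (hst (N + 1 + 1) (by omega)).le (map_mem_imgSpan φ hφ hw)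
  let ψ : W →+ W := AddMonoidHom.mk' (fun w => ⟨φ w, hmap w w.2⟩) fun x y => Subtype.ext (map_add φ _ _)
  have hψ : ∀ (c : k) (w : W), ψ (c • w) = c ^ (p ^ r) • ψ w := fun c w => Subtype.ext (hφ c w)
  have hss : Submodule.span k (Set.range ψ) = ⊤ := by
    apply Submodule.map_injective_of_injective W.injective_subtype
    rw [Submodule.map_subtype_top, Submodule.map_span]
    refine le_antisymm (Submodule.span_le.mpr ?_) ?_
    · rintro _ ⟨_, ⟨w, rfl⟩, rfl⟩
      exact hmap w w.2
    · conv_lhs => rw [hW, ← hst (N + 1 + 1) (by omega)]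
      refine Submodule.span_mono ?_
      rintro _ ⟨a, rfl⟩
      exact ⟨ψ ⟨φ^[N + 1] a, hW ▸ Submodule.subset_span ⟨a, rfl⟩⟩, ⟨_, rfl⟩,
        (Function.iterate_succ_apply' φ (N + 1) a).symm⟩
  obtain ⟨b, hb, hfix⟩ := exists_basis_fixed hr ψ hψ hss
  refine ⟨b, N + 1, fun i => congrArg Subtype.val (hb i), fun x => hW ▸ Submodule.subset_span ⟨x, rfl⟩, fun v hv => ?_⟩
  have hvW : v ∈ W := hW ▸ Submodule.subset_span ⟨v, Function.iterate_fixed hv _⟩
  refine ⟨fun i => b.repr ⟨v, hvW⟩ i, fun i => ?_, ?_⟩
  · have := (hfix 1 ⟨v, hvW⟩).mp (Subtype.ext hv) i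
    rwa [pow_one] at this
  · have := congrArg Subtype.val (b.sum_repr ⟨v, hvW⟩).symm
    refine this.trans ?_
    rw [Submodule.coe_sum]
    rfl

include hr hφ in
/-- `1 - φ` is surjective. -/
theorem surjective_sub : Function.Surjective fun v : V => v - φ v := by
  intro v
  obtain ⟨b, N, hb, hN, -⟩ := semisimplePart hr φ hφ
  choose c hc using fun i => exists_sub_pow (p := p) hr (b.repr ⟨φ^[N] v, hN v⟩ i)
  refine ⟨(∑ i ∈ Finset.range N, φ^[i] v) + ∑ i, c i • (b i : V), ?_⟩
  show _ - φ _ = v
  rw [map_add, map_sum, map_sum, add_sub_add_comm]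
  have h1 : (∑ i ∈ Finset.range N, φ^[i] v) - ∑ i ∈ Finset.range N, φ (φ^[i] v) = v - φ^[N] v := by
    simp only [← Function.iterate_succ_apply' φ]
    rw [← Finset.sum_sub_distrib, Finset.sum_range_sub' (fun i => φ^[i] v)]
    rfl
  have h2 : ∑ i, c i • (b i : V) - ∑ i, φ (c i • (b i : V)) = φ^[N] v := by
    have := congrArg Subtype.val (b.sum_repr ⟨φ^[N] v, hN v⟩)
    simp only [hφ, hb, ← Finset.sum_sub_distrib, ← sub_smul, hc]
    rw [Submodule.coe_sum] at this
    exact this
  rw [h1, h2, sub_add_cancel]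

end Groth.Agent.Et18.QLinear
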