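import Groth.Agent.Et18.HpullComp
import Groth.Agent.Et18.GermBasics
import Groth.Agent.Et18.IntegralPush
import Groth.Agent.Et18.H0Lift.SetGerms
import Groth.Agent.S0642
import Groth.Prelude.Def_EtBCD
import Groth.Prelude.Def_EtAcyc

/-!
# Composition of acyclic morphisms
-/

set_option autoImplicit false
set_option linter.style.haveILetI false
set_option backward.isDefEq.respectTransparency.types false
set_option backward.isDefEq.respectTransparency false
set_option synthInstance.maxHeartbeats 400000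
set_option maxHeartbeats 800000

universe u

open CategoryTheory CategoryTheory.Limits AlgebraicGeometry Opposite

namespace Groth.Agent.Et18.AcyclicComp

variable {X Y Z : Scheme.{u}}

theorem isLTorsion_pull (f : X ⟶ Y) (L : Set ℕ) {F : EtCoh.Ab Y} (hF : EtAcyc.IsLTorsion L F) :
    EtAcyc.IsLTorsion L ((EtCoh.pull f).obj F) := by
  rw [isLTorsion_iff_stalks]
  intro Ω _ _ ξ t
  let e := (stalkPullIso f ξ).app F
  obtain ⟨m, hm, h0⟩ := (isLTorsion_iff_stalks F L).1 hF Ω (ξ ≫ f) (e.hom t)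
  refine ⟨m, hm, ?_⟩
  have := congrArg e.inv h0
  rw [map_nsmul, map_zero, ← ConcreteCategory.comp_apply, Iso.hom_inv_id] at this
  exact this

/-! ### Abelian sheaves -/

theorem Hpull_bijective_of_isIso (e : X ⟶ Y) [IsIso e] [PreservesFiniteLimits (EtCoh.pull e)]
    (F : EtCoh.Ab Y) (q : ℕ) : Function.Bijective (EtCore.Hpull e F q) :=
  S0642.result e F q

theorem compN_congr {f f' : X ⟶ Y} (h : f = f') {L : Set ℕ} {n : ℕ} (hf : EtAcyc.CompN f L n) :
    EtAcyc.CompN f' L n := h ▸ hf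

theorem compN_comp_iff (f : X ⟶ Y) (g : Y ⟶ Z) {L : Set ℕ} {n : ℕ} (hf : EtAcyc.CompN f L n) :
    EtAcyc.CompN (f ≫ g) L n ↔ EtAcyc.CompN g L n := by
  constructor
  · intro h F hF _
    obtain ⟨h1, h2⟩ := h F hF
    obtain ⟨k1, k2⟩ := hf _ (isLTorsion_pull g L hF)
    refine ⟨fun q hq => ?_, ?_⟩
    · have := (HpullComp.Hpull_bijective_iff f g q F).1.1 (h1 q hq)
      exact (Function.Bijective.of_comp_iff' (k1 q hq) _).1 this
    · have := (HpullComp.Hpull_bijective_iff f g (n + 1) F).2.1 h2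
      exact fun a b hab => this (congrArg (EtCore.Hpull f _ (n + 1)) hab)
  · intro h F hF _
    obtain ⟨h1, h2⟩ := h F hF
    obtain ⟨k1, k2⟩ := hf _ (isLTorsion_pull g L hF)
    exact ⟨fun q hq => (HpullComp.Hpull_bijective_iff f g q F).1.2 ((k1 q hq).comp (h1 q hq)),
      (HpullComp.Hpull_bijective_iff f g (n + 1) F).2.2 (k2.comp h2)⟩

theorem compN_of_isIso (e : X ⟶ Y) [IsIso e] (L : Set ℕ) (n : ℕ) : EtAcyc.CompN e L n := fun F _ _ =>
  ⟨fun q _ => Hpull_bijective_of_isIso e F q, (Hpull_bijective_of_isIso e F _).1⟩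

/-! ### The geometry -/

variable (g : X ⟶ Y) (h : Y ⟶ Z)

/-- `X ×_Z V ≅ X ×_Y (Y ×_Z V)`. -/
noncomputable abbrev prjIso (V : Z.Etale) :
    pullback ((EtCoh.bc h).obj V).hom g ≅ pullback V.hom (g ≫ h) :=
  pullbackLeftPullbackSndIso V.hom h g

theorem prj_comp (V : Z.Etale) :
    (prjIso g h V).inv ≫ EtAcyc.prj g ((EtCoh.bc h).obj V) ≫ EtAcyc.prj h V = EtAcyc.prj (g ≫ h) V :=
  pullbackLeftPullbackSndIso_inv_fst V.hom h g

theorem isAcyclicN_comp_iff {L : Set ℕ} {n : ℕ} (hg : EtAcyc.IsAcyclicN g L n) :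
    EtAcyc.IsAcyclicN h L n ↔ EtAcyc.IsAcyclicN (g ≫ h) L n := by
  refine forall_congr' fun V => ?_
  rw [← prj_comp g h V, compN_comp_iff _ _ (compN_of_isIso _ L n)]
  exact (compN_comp_iff _ _ (hg ((EtCoh.bc h).obj V))).symm

/-! ### Sheaves of sets -/

/-- Base change along the identity. -/
noncomputable def bcIdIso (X : Scheme.{u}) : EtCoh.bc (𝟙 X) ≅ 𝟭 X.Etale :=
  NatIso.ofComponents (fun V => MorphismProperty.Over.isoMk (asIso (pullback.fst V.hom (𝟙 X)))
    (by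
      show pullback.fst V.hom (𝟙 X) ≫ V.hom = pullback.snd V.hom (𝟙 X)
      rw [pullback.condition, Category.comp_id]))
    (fun {V W} f => by
      apply MorphismProperty.Over.Hom.ext
      show ((EtCoh.bc (𝟙 X)).map f).left ≫ pullback.fst W.hom (𝟙 X) = pullback.fst V.hom (𝟙 X) ≫ f.left
      exact pullback.lift_fst _ _ _)

/-- Direct image along the identity. -/
noncomputable def pushShId (X : Scheme.{u}) : EtDesc.pushSh (𝟙 X) ≅ 𝟭 (EtDesc.Sh X) :=
  Functor.sheafPushforwardContinuousId' (bcIdIso X) _ _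

theorem pushSh_isEquivalence (e : X ⟶ Y) [IsIso e] : (EtDesc.pushSh e).IsEquivalence :=
  (CategoryTheory.Equivalence.mk (EtDesc.pushSh e) (EtDesc.pushSh (inv e))
    ((EtDesc.pushCompSh (inv e) e ≪≫ EtBC.pushCongrSh (IsIso.hom_inv_id e) ≪≫ pushShId X).symm)
    (EtDesc.pushCompSh e (inv e) ≪≫ EtBC.pushCongrSh (IsIso.inv_hom_id e) ≪≫ pushShId Y)).isEquivalence_functor

theorem isIso_unit_of_isIso (e : X ⟶ Y) [IsIso e] (F : EtDesc.Sh Y) :
    IsIso ((EtDesc.adjSh e).unit.app F) := by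
  haveI := pushSh_isEquivalence e
  let E := (EtDesc.pushSh e).asEquivalence
  let i := Adjunction.leftAdjointUniq E.symm.toAdjunction (EtDesc.adjSh e)
  have := Adjunction.unit_leftAdjointUniq_hom_app E.symm.toAdjunction (EtDesc.adjSh e) F
  rw [← this]
  infer_instance

theorem unit_comp (f : X ⟶ Y) (g : Y ⟶ Z) (F : EtDesc.Sh Z) :
    (EtDesc.adjSh (f ≫ g)).unit.app F ≫ (EtDesc.pushSh (f ≫ g)).map ((EtDesc.pullCompSh f g).hom.app F) =
      ((EtDesc.adjSh g).unit.app F ≫ (EtDesc.pushSh g).map ((EtDesc.adjSh f).unit.app ((EtDesc.pullSh g).obj F))) ≫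
        (EtDesc.pushCompSh g f).hom.app _ := by
  refine (Adjunction.unit_leftAdjointUniq_hom_app (EtDesc.adjSh (f ≫ g))
    (((EtDesc.adjSh g).comp (EtDesc.adjSh f)).ofNatIsoRight (EtDesc.pushCompSh g f)) F).trans ?_
  simp [Adjunction.ofNatIsoRight, Adjunction.comp_unit_app]

theorem isIso_unit_comp_iff (f : X ⟶ Y) (g : Y ⟶ Z) (F : EtDesc.Sh Z)
    (hf : IsIso ((EtDesc.adjSh f).unit.app ((EtDesc.pullSh g).obj F))) :
    IsIso ((EtDesc.adjSh (f ≫ g)).unit.app F) ↔ IsIso ((EtDesc.adjSh g).unit.app F) := by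
  have h1 := unit_comp f g F
  constructor
  · intro h
    have h2 : IsIso (((EtDesc.adjSh g).unit.app F ≫
        (EtDesc.pushSh g).map ((EtDesc.adjSh f).unit.app ((EtDesc.pullSh g).obj F))) ≫
        (EtDesc.pushCompSh g f).hom.app _) := by
      rw [← h1]; infer_instance
    haveI h3 : IsIso ((EtDesc.adjSh g).unit.app F ≫
        (EtDesc.pushSh g).map ((EtDesc.adjSh f).unit.app ((EtDesc.pullSh g).obj F))) :=
      IsIso.of_isIso_comp_right _ ((EtDesc.pushCompSh g f).hom.app ((EtDesc.pullSh f).obj ((EtDesc.pullSh g).obj F)))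
    exact IsIso.of_isIso_comp_right _ ((EtDesc.pushSh g).map ((EtDesc.adjSh f).unit.app ((EtDesc.pullSh g).obj F)))
  · intro h
    have h2 : IsIso ((EtDesc.adjSh (f ≫ g)).unit.app F ≫
        (EtDesc.pushSh (f ≫ g)).map ((EtDesc.pullCompSh f g).hom.app F)) := by
      rw [h1]; infer_instance
    exact IsIso.of_isIso_comp_right _ ((EtDesc.pushSh (f ≫ g)).map ((EtDesc.pullCompSh f g).hom.app F))

theorem isZeroAcyclic_comp_iff (hg : EtAcyc.IsZeroAcyclic g) :
    EtAcyc.IsZeroAcyclic h ↔ EtAcyc.IsZeroAcyclic (g ≫ h) := by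
  refine forall_congr' fun V => forall_congr' fun F => ?_
  rw [← prj_comp g h V, isIso_unit_comp_iff _ _ _ (isIso_unit_of_isIso _ _)]
  exact (isIso_unit_comp_iff (EtAcyc.prj g ((EtCoh.bc h).obj V)) (EtAcyc.prj h V) F (hg ((EtCoh.bc h).obj V) _)).symm

end Groth.Agent.Et18.AcyclicComp
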