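import Groth.Agent.Et18.FilteredSections
import Groth.Agent.Et18.Presentation

/-!
# Constructible sheaves are compact
-/

universe v w u

open CategoryTheory CategoryTheory.Limits AlgebraicGeometry Opposite

set_option backward.isDefEq.respectTransparency.types false
set_option backward.isDefEq.respectTransparency false

namespace Groth.Agent.Et18

section

variable {C : Type*} [Category C] [Preadditive C] {J : Type w} [Category.{v} J] [IsFiltered J]
  {D : J ⥤ C}

/-- Morphisms out of `G` into the vertex of a cocone come from finite stages, uniquely. -/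
structure HomComm (c : Cocone D) (G : C) : Prop where
  surj : ∀ f : G ⟶ c.pt, ∃ (j : J) (g : G ⟶ D.obj j), g ≫ c.ι.app j = f
  inj : ∀ (j : J) (g : G ⟶ D.obj j), g ≫ c.ι.app j = 0 → ∃ (k : J) (a : j ⟶ k), g ≫ D.map a = 0

variable {c : Cocone D}

lemma HomComm.of_iso {G G' : C} (h : HomComm c G) (e : G ≅ G') : HomComm c G' where
  surj f := by
    obtain ⟨j, g, hg⟩ := h.surj (e.hom ≫ f)
    exact ⟨j, e.inv ≫ g, by rw [Category.assoc, hg, Iso.inv_hom_id_assoc]⟩
  inj j g hg := by
    obtain ⟨k, a, ha⟩ := h.inj j (e.hom ≫ g) (by rw [Category.assoc, hg, comp_zero])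
    exact ⟨k, a, by rw [← cancel_epi e.hom, ← Category.assoc, ha, comp_zero]⟩

lemma HomComm.biproduct {κ : Type} [Finite κ] (F : κ → C) [HasBiproduct F] (h : ∀ i, HomComm c (F i)) :
    HomComm c (⨁ F) where
  surj f := by
    classical
    cases nonempty_fintype κ
    choose j g hg using fun i => (h i).surj (biproduct.ι F i ≫ f)
    obtain ⟨k, hk⟩ := IsFiltered.sup_objs_exists (Finset.univ.image j)
    let a : ∀ i, j i ⟶ k := fun i => (hk (Finset.mem_image_of_mem j (Finset.mem_univ i))).some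
    refine ⟨k, biproduct.desc fun i => g i ≫ D.map (a i), biproduct.hom_ext' _ _ fun i => ?_⟩
    rw [biproduct.ι_desc_assoc, Category.assoc, c.w, hg]
  inj j g hg := by
    obtain ⟨k, a, ha⟩ := exists_stage (fun i k a => (biproduct.ι F i ≫ g) ≫ D.map a = 0)
      (fun i k a l b hk => by rw [D.map_comp, ← Category.assoc, hk, zero_comp])
      (fun i => (h i).inj j (biproduct.ι F i ≫ g) (by rw [Category.assoc, hg, comp_zero]))
    exact ⟨k, a, biproduct.hom_ext' _ _ fun i => by rw [← Category.assoc, ha i, comp_zero]⟩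

lemma HomComm.cokernel {A B : C} (φ : A ⟶ B) [HasCokernel φ] (hA : HomComm c A) (hB : HomComm c B) :
    HomComm c (cokernel φ) where
  surj f := by
    obtain ⟨j, g, hg⟩ := hB.surj (cokernel.π φ ≫ f)
    obtain ⟨k, a, ha⟩ := hA.inj j (φ ≫ g) (by rw [Category.assoc, hg, cokernel.condition_assoc, zero_comp])
    refine ⟨k, cokernel.desc φ (g ≫ D.map a) (by rw [← Category.assoc, ha]), coequalizer.hom_ext ?_⟩
    rw [← Category.assoc, cokernel.π_desc, Category.assoc, c.w, hg]
  inj j g hg := by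
    obtain ⟨k, a, ha⟩ := hB.inj j (cokernel.π φ ≫ g) (by rw [Category.assoc, hg, comp_zero])
    exact ⟨k, a, coequalizer.hom_ext (by rw [← Category.assoc, ha, comp_zero])⟩

lemma HomComm.inj' {G : C} (h : HomComm c G) {i j : J} (g : G ⟶ D.obj i) (g' : G ⟶ D.obj j)
    (e : g ≫ c.ι.app i = g' ≫ c.ι.app j) :
    ∃ (k : J) (a : i ⟶ k) (b : j ⟶ k), g ≫ D.map a = g' ≫ D.map b := by
  let l := IsFiltered.max i j
  obtain ⟨k, a, ha⟩ := h.inj l (g ≫ D.map (IsFiltered.leftToMax i j) - g' ≫ D.map (IsFiltered.rightToMax i j))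
    (by rw [Preadditive.sub_comp, Category.assoc, Category.assoc, c.w, c.w, e, sub_self])
  refine ⟨k, IsFiltered.leftToMax i j ≫ a, IsFiltered.rightToMax i j ≫ a, ?_⟩
  rw [Preadditive.sub_comp, sub_eq_zero] at ha
  simpa [D.map_comp] using ha

end

variable {X : Scheme.{u}}

/-- `Z/n` in the universe of étale sheaves. -/
abbrev MZ (n : ℕ) : AddCommGrpCat.{u + 1} := AddCommGrpCat.of (ULift.{u + 1} (ZMod n))

/-- The generator of `Z/n`. -/
abbrev gen (n : ℕ) : MZ.{u} n := ULift.up 1

/-- Morphisms out of `j_! Z/n` as morphisms into the sections. -/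
noncomputable def homEqv (W : X.Etale) (n : ℕ) (F : EtCoh.Ab X) :
    (EtPBC.extZeroConst W (ZMod n) ⟶ F) ≃ (MZ.{u} n ⟶ F.obj.obj (op W)) :=
  (constOverAdj W).homEquiv (MZ.{u} n) F

lemma homEqv_comp {F G : EtCoh.Ab X} (W : X.Etale) (n : ℕ) (f : EtPBC.extZeroConst W (ZMod n) ⟶ F)
    (φ : F ⟶ G) : homEqv W n G (f ≫ φ) = homEqv W n F f ≫ φ.hom.app (op W) :=
  (constOverAdj W).homEquiv_naturality_right f φ

/-- A morphism out of `j_! Z/n` as a section. -/
noncomputable def homSect {F : EtCoh.Ab X} (W : X.Etale) (n : ℕ)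
    (f : EtPBC.extZeroConst W (ZMod n) ⟶ F) : EtCoh.sect F W :=
  (homEqv W n F f).hom (gen n)

lemma homSect_comp {F G : EtCoh.Ab X} (W : X.Etale) (n : ℕ) (f : EtPBC.extZeroConst W (ZMod n) ⟶ F)
    (φ : F ⟶ G) : homSect W n (f ≫ φ) = φ.hom.app (op W) (homSect W n f) := by
  unfold homSect
  rw [homEqv_comp]
  rfl

lemma homSect_zero {F : EtCoh.Ab X} (W : X.Etale) (n : ℕ) :
    homSect W n (0 : EtPBC.extZeroConst W (ZMod n) ⟶ F) = 0 := by
  have h := homSect_comp W n (0 : EtPBC.extZeroConst W (ZMod n) ⟶ F) (0 : F ⟶ F)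
  rw [zero_comp] at h
  exact h

lemma exists_homSect_eq {F : EtCoh.Ab X} (W : X.Etale) (n : ℕ) (s : EtCoh.sect F W) (h : n • s = 0) :
    ∃ f : EtPBC.extZeroConst W (ZMod n) ⟶ F, homSect W n f = s := by
  let l : ZMod n →+ EtCoh.sect F W := ZMod.lift n ⟨zmultiplesHom _ s, by
    rw [zmultiplesHom_apply, natCast_zsmul]
    exact h⟩
  refine ⟨(homEqv W n F).symm (AddCommGrpCat.ofHom (l.comp AddEquiv.ulift.toAddMonoidHom)), ?_⟩
  unfold homSect
  rw [Equiv.apply_symm_apply]
  show l (1 : ZMod n) = s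
  have h1 : ((1 : ℤ) : ZMod n) = 1 := Int.cast_one
  rw [← h1, ZMod.lift_coe, zmultiplesHom_apply, one_zsmul]

lemma homSect_injective {F : EtCoh.Ab X} (W : X.Etale) (n : ℕ) :
    Function.Injective (homSect (F := F) W n) := fun f g h => by
  refine (homEqv W n F).injective (ConcreteCategory.hom_ext _ _ fun x => ?_)
  obtain ⟨m, hm⟩ := ZMod.intCast_surjective x.down
  have hx : x = m • gen.{u} n := by
    apply ULift.ext
    rw [ULift.smul_down, zsmul_one, hm]
  rw [hx]
  exact ((map_zsmul _ m _).trans (congrArg (fun t => m • t) h)).trans (map_zsmul _ m _).symm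

lemma nsmul_homSect {F : EtCoh.Ab X} (W : X.Etale) (n : ℕ) (f : EtPBC.extZeroConst W (ZMod n) ⟶ F) :
    n • homSect W n f = 0 :=
  (map_nsmul (homEqv W n F f).hom n (gen n)).symm.trans ((congrArg (homEqv W n F f).hom
    (ULift.ext _ _ (ZModModule.char_nsmul_eq_zero n (1 : ZMod n)) : n • gen.{u} n = 0)).trans (map_zero _))

variable {J : Type w} [Category.{v} J] [IsFiltered J]
  [HasColimitsOfShape J AddCommGrpCat.{u + 1}]
  [PreservesColimitsOfShape J (forget AddCommGrpCat.{u + 1})]
  {D : J ⥤ EtCoh.Ab X} {c : Cocone D}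

/-- `j_! Z/n` commutes with filtered colimits. -/
theorem homComm_extZeroConst (hc : IsColimit c) (W : X.Etale) [CompactSpace W.left]
    [QuasiSeparatedSpace W.left] (n : ℕ) : HomComm c (EtPBC.extZeroConst W (ZMod n)) := by
  have hl := isLocColim_of_isColimit c hc
  have key : ∀ (j : J) (s : EtCoh.sect (D.obj j) W), (c.ι.app j).hom.app (op W) s = 0 →
      ∃ (k : J) (a : j ⟶ k), (D.map a).hom.app (op W) s = 0 := fun j s hs => by
    let z : EtCoh.sect (D.obj j) W := 0
    have h0 : (c.ι.app j).hom.app (op W) s = (c.ι.app j).hom.app (op W) z := hs.trans (map_zero _).symm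
    obtain ⟨k, a, ha⟩ := hl.eventually_eq W (j := j) s z h0
    have ha' : (D.map a).hom.app (op W) s = (D.map a).hom.app (op W) z := ha
    exact ⟨k, a, ha'.trans (map_zero _)⟩
  refine ⟨fun f => ?_, fun j g hg => ?_⟩
  · obtain ⟨j, s, hs⟩ := hl.exists_lift W (homSect W n f)
    let s' : EtCoh.sect (D.obj j) W := s
    have hs' : (c.ι.app j).hom.app (op W) s' = homSect W n f := hs
    obtain ⟨k, a, ha⟩ := key j (n • s') ((map_nsmul ((c.ι.app j).hom.app (op W)).hom n s').trans
      ((congrArg (n • ·) hs').trans (nsmul_homSect W n f)))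
    obtain ⟨g, hg⟩ := exists_homSect_eq W n ((D.map a).hom.app (op W) s')
      ((map_nsmul ((D.map a).hom.app (op W)).hom n s').symm.trans ha)
    refine ⟨k, g, homSect_injective W n ?_⟩
    rw [homSect_comp, hg]
    exact (ConcreteCategory.congr_hom (congrArg (fun q => q.hom.app (op W)) (c.w a)) s').trans hs'
  · obtain ⟨k, a, ha⟩ := key j (homSect W n g) (by rw [← homSect_comp, hg, homSect_zero])
    refine ⟨k, a, homSect_injective W n ?_⟩
    rw [homSect_comp, homSect_zero]
    exact ha

/-- Constructible sheaves on qcqs schemes commute with filtered colimits. -/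
theorem homComm_of_isConstructible [CompactSpace X] [QuasiSeparatedSpace X] (hc : IsColimit c)
    {F : EtCoh.Ab X} (hF : EtPBC.IsConstructible F) : HomComm c F := by
  have hP : ∀ {G : EtCoh.Ab X}, EtPBC.IsConstructible G → ∀ (x : X)
      (a : (EtCoh.stalk (sepPoint X x)).obj G), ∃ n, 0 < n ∧ True ∧ n • a = 0 := fun {G} hG x a => by
    haveI := finite_stalk_of_isConstructible hG (sepPoint X x)
    exact ⟨_, Nat.card_pos, trivial, card_nsmul_eq_zero'⟩
  obtain ⟨a, d, b, e, ⟨iso⟩⟩ := exists_presentation (fun _ => True) hF (hP hF) fun a d => hP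
    (isConstructible_kernel_cokernel _ (isConstructible_biproduct _ fun i =>
      haveI : NeZero (d i).n := ⟨(d i).pos.ne'⟩
      isConstructible_extZeroConst _ (d i).isAffine _) hF).1
  have hW : ∀ (W : X.Etale), IsAffine W.left → ∀ n, HomComm c (EtPBC.extZeroConst W (ZMod n)) :=
    fun W hW n => by
      haveI := hW
      exact homComm_extZeroConst hc W n
  exact (HomComm.cokernel _ (HomComm.biproduct _ fun i => hW _ (e i).isAffine _)
    (HomComm.biproduct _ fun i => hW _ (d i).isAffine _)).of_iso iso.symm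

/-- `Hom(F, -)` preserves filtered colimits for constructible `F`. -/
theorem preservesColimit_coyoneda_of_isConstructible [CompactSpace X] [QuasiSeparatedSpace X]
    {J : Type u} [SmallCategory J] [IsFiltered J] {F : EtCoh.Ab X} (hF : EtPBC.IsConstructible F) :
    PreservesColimitsOfShape J (coyoneda.obj (op F)) where
  preservesColimit {D} := ⟨fun {c} hc => ⟨Types.FilteredColimit.isColimitOf _ _
    (fun f => by
      obtain ⟨j, g, hg⟩ := (homComm_of_isConstructible hc hF).surj f
      exact ⟨j, g, hg.symm⟩)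
    (fun i j g g' e => (homComm_of_isConstructible hc hF).inj' g g' e)⟩⟩

end Groth.Agent.Et18
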