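/-
Element-wise diagram chases for morphisms of cohomological delta-functors with values in abelian groups.
-/
import Groth.Prelude.Def_DeltaF
import Mathlib.Algebra.Category.Grp.Abelian
import Mathlib.Algebra.Category.Grp.EpiMono
import Mathlib.Algebra.Category.Grp.FilteredColimits
import Mathlib.Algebra.Category.Grp.Ulift
import Mathlib.Algebra.Homology.ShortComplex.Ab
import Mathlib.CategoryTheory.Limits.Preserves.Filtered
import Mathlib.CategoryTheory.Limits.ConcreteCategory.WithAlgebraicStructures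

universe v u w

open CategoryTheory CategoryTheory.Limits DeltaF

namespace Groth.Agent.Et18.DeltaIso

variable {C : Type u} [Category.{v} C] [Abelian C]

/-- The short exact sequence of a monomorphism and its cokernel. -/
noncomputable def cokerSC {A M : C} (u : A ⟶ M) : ShortComplex C :=
  ShortComplex.mk u (cokernel.π u) (cokernel.condition u)

lemma cokerSC_shortExact {A M : C} (u : A ⟶ M) [Mono u] : (cokerSC u).ShortExact where
  exact := ShortComplex.exact_of_g_is_cokernel _ (cokernelIsCokernel u)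
  mono_f := inferInstanceAs (Mono u)
  epi_g := inferInstanceAs (Epi (cokernel.π u))

variable {T T' : CohDeltaFunctor C AddCommGrpCat.{w} ℕ} (φ : T ⟶ T')

lemma zeroMono_injective (hT0 : T.ZeroMono) {A M : C} (u : A ⟶ M) [Mono u] :
    Function.Injective ((T.F 0).map u) := by
  have := hT0 (cokerSC u) (cokerSC_shortExact u)
  exact (AddCommGrpCat.mono_iff_injective _).1 this

lemma nat_apply (q : ℕ) {A M : C} (u : A ⟶ M) (x : (T.F q).obj A) :
    (φ.app q).app M ((T.F q).map u x) = (T'.F q).map u ((φ.app q).app A x) :=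
  ConcreteCategory.congr_hom ((φ.app q).naturality u) x

lemma comm_apply (S : ShortComplex C) (hS : S.ShortExact) (q : ℕ) (x : (T.F q).obj S.X₃) :
    (φ.app (q + 1)).app S.X₁ (T.δ S hS q (q + 1) rfl x) =
      T'.δ S hS q (q + 1) rfl ((φ.app q).app S.X₃ x) :=
  ConcreteCategory.congr_hom (φ.comm S hS q (q + 1) rfl) x

lemma exact₁_apply (S : ShortComplex C) (hS : S.ShortExact) (q : ℕ) (x : (T.F (q + 1)).obj S.X₁)
    (hx : (T.F (q + 1)).map S.f x = 0) : ∃ c, T.δ S hS q (q + 1) rfl c = x :=
  (ShortComplex.ab_exact_iff _).1 (T.exact₁ S hS q (q + 1) rfl) x hx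

lemma exact₃_apply (S : ShortComplex C) (hS : S.ShortExact) (q : ℕ) (x : (T.F q).obj S.X₃)
    (hx : T.δ S hS q (q + 1) rfl x = 0) : ∃ m, (T.F q).map S.g m = x :=
  (ShortComplex.ab_exact_iff _).1 (T.exact₃ S hS q (q + 1) rfl) x hx

lemma exact₂_apply (S : ShortComplex C) (hS : S.ShortExact) (q : ℕ) (x : (T.F q).obj S.X₂)
    (hx : (T.F q).map S.g x = 0) : ∃ a, (T.F q).map S.f a = x :=
  (ShortComplex.ab_exact_iff _).1 (T.exact₂ S hS q) x hx

lemma δg_apply (S : ShortComplex C) (hS : S.ShortExact) (q : ℕ) (m : (T.F q).obj S.X₂) :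
    T.δ S hS q (q + 1) rfl ((T.F q).map S.g m) = 0 :=
  ConcreteCategory.congr_hom (T.comp_δ S hS q (q + 1) rfl) m

lemma fg_apply (S : ShortComplex C) (q : ℕ) (a : (T.F q).obj S.X₁) :
    (T.F q).map S.g ((T.F q).map S.f a) = 0 := by
  rw [← ConcreteCategory.comp_apply, ← Functor.map_comp, S.zero, Functor.map_zero]
  rfl

/-- An element killed by a monomorphism and by `φ` is zero, if `φ` is bijective one degree below. -/
lemma eq_zero_of_killed (q : ℕ) (hq : ∀ A, Function.Bijective ((φ.app q).app A))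
    {A M : C} (u : A ⟶ M) [Mono u] (α : (T.F (q + 1)).obj A)
    (hu : (T.F (q + 1)).map u α = 0) (hα : (φ.app (q + 1)).app A α = 0) : α = 0 := by
  let S := cokerSC u
  have hS : S.ShortExact := cokerSC_shortExact u
  obtain ⟨c, rfl⟩ := exact₁_apply S hS q α hu
  have h1 : T'.δ S hS q (q + 1) rfl ((φ.app q).app S.X₃ c) = 0 :=
    (comm_apply φ S hS q c).symm.trans hα
  obtain ⟨m', hm'⟩ := exact₃_apply S hS q _ h1
  obtain ⟨m, rfl⟩ := (hq S.X₂).2 m'
  rw [← nat_apply] at hm'
  rw [← (hq S.X₃).1 hm']
  exact δg_apply S hS q m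

/-- An element killed by a monomorphism is in the image, if `φ` is surjective one degree below. -/
lemma exists_preimage_of_killed (q : ℕ) (hq : ∀ A, Function.Surjective ((φ.app q).app A))
    {A M : C} (u : A ⟶ M) [Mono u] (β : (T'.F (q + 1)).obj A)
    (hu : (T'.F (q + 1)).map u β = 0) : ∃ α, (φ.app (q + 1)).app A α = β := by
  let S := cokerSC u
  have hS : S.ShortExact := cokerSC_shortExact u
  obtain ⟨c', rfl⟩ := exact₁_apply S hS q β hu
  obtain ⟨c, rfl⟩ := hq S.X₃ c'
  exact ⟨_, comm_apply φ S hS q c⟩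

/-- In degree zero, injectivity descends along monomorphisms. -/
lemma zero_injective_of_mono (hT0 : T.ZeroMono) {A M : C} (u : A ⟶ M) [Mono u]
    (hM : Function.Injective ((φ.app 0).app M)) : Function.Injective ((φ.app 0).app A) := by
  intro a b hab
  apply zeroMono_injective hT0 u
  apply hM
  rw [nat_apply, nat_apply, hab]

/-- Degree-`q` lifting: an element of `T'^q A` agrees with an image after applying the monomorphism. -/
lemma exists_lift_mod (q : ℕ) {A M : C} (u : A ⟶ M) [Mono u]
    (hM : Function.Surjective ((φ.app q).app M))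
    (hC : Function.Injective ((φ.app q).app (cokernel u))) (β : (T'.F q).obj A) :
    ∃ α, (T'.F q).map u ((φ.app q).app A α) = (T'.F q).map u β := by
  have hS : (cokerSC u).ShortExact := cokerSC_shortExact u
  obtain ⟨m, hm⟩ := hM ((T'.F q).map u β)
  have h0 : (T'.F q).map (cokernel.π u) ((T'.F q).map u β) = 0 := fg_apply (cokerSC u) q β
  have h1 : (φ.app q).app _ ((T.F q).map (cokernel.π u) m) = (φ.app q).app (cokernel u) 0 := by
    rw [nat_apply, map_zero, hm, h0]
  obtain ⟨α, hα⟩ : ∃ α : (T.F q).obj A, (T.F q).map u α = m :=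
    exact₂_apply (cokerSC u) hS q m (hC h1)
  refine ⟨α, ?_⟩
  rw [← nat_apply, hα, hm]

lemma zero_surjective_of_mono (hT'0 : T'.ZeroMono) {A M : C} (u : A ⟶ M) [Mono u]
    (hM : Function.Surjective ((φ.app 0).app M))
    (hC : Function.Injective ((φ.app 0).app (cokernel u))) :
    Function.Surjective ((φ.app 0).app A) := fun β ↦ by
  obtain ⟨α, hα⟩ := exists_lift_mod φ 0 u hM hC β
  exact ⟨α, zeroMono_injective hT'0 u hα⟩

lemma succ_surjective_of_mono (q : ℕ) (hq : ∀ A, Function.Surjective ((φ.app q).app A))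
    {A M : C} (u : A ⟶ M) [Mono u]
    (hM : Function.Surjective ((φ.app (q + 1)).app M))
    (hC : Function.Injective ((φ.app (q + 1)).app (cokernel u))) :
    Function.Surjective ((φ.app (q + 1)).app A) := fun β ↦ by
  obtain ⟨α, hα⟩ := exists_lift_mod φ (q + 1) u hM hC β
  obtain ⟨α', hα'⟩ := exists_preimage_of_killed φ q hq u (β - (φ.app (q + 1)).app A α)
    (by rw [map_sub, hα, sub_self])
  exact ⟨α + α', by rw [map_add, hα', add_sub_cancel]⟩

lemma succ_injective_of_mono (q : ℕ) (hq : ∀ A, Function.Bijective ((φ.app q).app A))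
    {A M : C} (u : A ⟶ M) [Mono u] (hM : Function.Injective ((φ.app (q + 1)).app M)) :
    Function.Injective ((φ.app (q + 1)).app A) :=
  (injective_iff_map_eq_zero ((φ.app (q + 1)).app A).hom).2 fun α hα ↦
    eq_zero_of_killed φ q hq u α
      (hM (by rw [nat_apply, hα, map_zero, map_zero])) hα

section FilteredColimit

variable {J : Type v} [SmallCategory J] [IsFiltered J]

/-- In a filtered colimit of abelian groups (in an arbitrary universe) a representative of zero
becomes zero at a later stage. -/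
lemma colimit_eq_zero {K : J ⥤ AddCommGrpCat.{w}} {c : Cocone K} (hc : IsColimit c) (j : J)
    (x : K.obj j) (hx : c.ι.app j x = 0) : ∃ (k : J) (f : j ⟶ k), K.map f x = 0 := by
  have hc' := isColimitOfPreserves AddCommGrpCat.uliftFunctor.{v, w} hc
  have : PreservesFilteredColimitsOfSize.{v, v} (forget AddCommGrpCat.{max w v}) :=
    preservesFilteredColimitsOfSize_shrink.{v, max w v, v, max w v} _
  have h := (Concrete.isColimit_rep_eq_iff_exists _ hc' (i := j) (j := j) (ULift.up x) (0 : _)).1 (by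
    rw [map_zero]
    change ULift.up ((c.ι.app j) x) = 0
    rw [hx]; rfl)
  obtain ⟨k, f, g, hfg⟩ := h
  refine ⟨k, f, ?_⟩
  rw [map_zero] at hfg
  exact congrArg ULift.down hfg

lemma colimit_exists_rep {K : J ⥤ AddCommGrpCat.{w}} {c : Cocone K} (hc : IsColimit c)
    (x : c.pt) : ∃ (j : J) (y : K.obj j), c.ι.app j y = x := by
  have hc' := isColimitOfPreserves AddCommGrpCat.uliftFunctor.{v, w} hc
  have : PreservesFilteredColimitsOfSize.{v, v} (forget AddCommGrpCat.{max w v}) :=
    preservesFilteredColimitsOfSize_shrink.{v, max w v, v, max w v} _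
  obtain ⟨j, y, hy⟩ := Concrete.isColimit_exists_rep _ hc' (ULift.up x)
  exact ⟨j, y.down, congrArg ULift.down hy⟩

lemma injective_of_colimit [∀ n, PreservesFilteredColimitsOfSize.{v, v} (T.F n)] (q : ℕ)
    {K : J ⥤ C} {c : Cocone K} (hc : IsColimit c)
    [∀ n, PreservesFilteredColimitsOfSize.{v, v} (T'.F n)]
    (h : ∀ j, Function.Injective ((φ.app q).app (K.obj j))) :
    Function.Injective ((φ.app q).app c.pt) := by
  have h1 := isColimitOfPreserves (T.F q) hc
  have h2 := isColimitOfPreserves (T'.F q) hc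
  refine (injective_iff_map_eq_zero ((φ.app q).app c.pt).hom).2 fun x hx ↦ ?_
  obtain ⟨j, y, rfl⟩ := colimit_exists_rep h1 x
  have h3 : (T'.F q).map (c.ι.app j) ((φ.app q).app (K.obj j) y) = 0 := by
    rw [← nat_apply]; exact hx
  obtain ⟨k, f, hf⟩ := colimit_eq_zero h2 j ((φ.app q).app (K.obj j) y) h3
  have h4 : (T.F q).map (K.map f) y = 0 := by
    apply h k
    rw [nat_apply, map_zero]
    exact hf
  calc (T.F q).map (c.ι.app j) y
      = (T.F q).map (K.map f ≫ c.ι.app k) y := by rw [c.w]
    _ = 0 := by rw [Functor.map_comp, ConcreteCategory.comp_apply, h4, map_zero]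

lemma surjective_of_colimit [∀ n, PreservesFilteredColimitsOfSize.{v, v} (T'.F n)] (q : ℕ)
    {K : J ⥤ C} {c : Cocone K} (hc : IsColimit c)
    (h : ∀ j, Function.Surjective ((φ.app q).app (K.obj j))) :
    Function.Surjective ((φ.app q).app c.pt) := fun x ↦ by
  have h2 := isColimitOfPreserves (T'.F q) hc
  obtain ⟨j, y, rfl⟩ := colimit_exists_rep h2 x
  obtain ⟨z, rfl⟩ := h j y
  exact ⟨(T.F q).map (c.ι.app j) z, nat_apply φ q _ z⟩

end FilteredColimit

lemma injective_of_iso (q : ℕ) {A B : C} (e : A ≅ B)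
    (h : Function.Injective ((φ.app q).app A)) : Function.Injective ((φ.app q).app B) :=
  fun a b hab ↦ by
    have : (T.F q).map e.inv a = (T.F q).map e.inv b := h (by rw [nat_apply, nat_apply, hab])
    have := congrArg ((T.F q).map e.hom) this
    rw [← ConcreteCategory.comp_apply, ← ConcreteCategory.comp_apply, ← Functor.map_comp,
      e.inv_hom_id, CategoryTheory.Functor.map_id] at this
    exact this

lemma surjective_of_iso (q : ℕ) {A B : C} (e : A ≅ B)
    (h : Function.Surjective ((φ.app q).app A)) : Function.Surjective ((φ.app q).app B) :=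
  fun b ↦ by
    obtain ⟨a, ha⟩ := h ((T'.F q).map e.inv b)
    refine ⟨(T.F q).map e.hom a, ?_⟩
    rw [nat_apply, ha, ← ConcreteCategory.comp_apply, ← Functor.map_comp, e.inv_hom_id,
      CategoryTheory.Functor.map_id]
    rfl

end Groth.Agent.Et18.DeltaIso
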