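/-
Cohomology in positive degree is effaceable among constructible sheaves: the kernel of multiplication
by `n` on an injective sheaf is acyclic, and it is a filtered colimit of constructible sheaves.
-/
import Groth.Agent.Et18.DeltaIso
import Groth.Agent.Et18.ConsColim
import Groth.Agent.Et18.ConsCompact
import Groth.Agent.Et18.TorsionColim
import Groth.Agent.Et18.ExtZeroGeneral
import Groth.Agent.Et18.ExtZero
import Groth.Agent.EtCechLib.Qcqs

set_option autoImplicit false
set_option linter.all false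
set_option backward.isDefEq.respectTransparency.types false
set_option backward.isDefEq.respectTransparency false
set_option backward.defeqAttrib.useBackward true
set_option maxHeartbeats 1000000
set_option synthInstance.maxHeartbeats 400000

universe u

open CategoryTheory CategoryTheory.Limits CategoryTheory.Abelian AlgebraicGeometry Opposite

noncomputable section

namespace Groth.Agent.Et18.Effaceable

variable {X : Scheme.{u}}

lemma cst_map_nsmul {Y : Scheme.{u}} (A : AddCommGrpCat.{u + 1}) (m : ℕ) :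
    (cst Y).map (m • 𝟙 A) = m • 𝟙 ((cst Y).obj A) := by
  rw [Functor.map_nsmul, CategoryTheory.Functor.map_id]

lemma mono_nsmul_cst {Y : Scheme.{u}} (m : ℕ) (hm : m ≠ 0) :
    Mono (m • 𝟙 (EtCoh.const Y ℤ) : EtCoh.const Y ℤ ⟶ EtCoh.const Y ℤ) := by
  let A : AddCommGrpCat.{u + 1} := AddCommGrpCat.of (ULift.{u + 1} ℤ)
  have : Mono (m • 𝟙 A : A ⟶ A) := by
    rw [AddCommGrpCat.mono_iff_injective]
    intro a b h
    change m • a = m • b at h
    have h' := congrArg ULift.down h
    change m • a.down = m • b.down at h'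
    exact ULift.down_injective (smul_right_injective ℤ hm h')
  show Mono (m • 𝟙 ((cst Y).obj A) : (cst Y).obj A ⟶ (cst Y).obj A)
  rw [← cst_map_nsmul A m]
  infer_instance

lemma mono_nsmul_extZeroConst (W : X.Etale) (m : ℕ) (hm : m ≠ 0) :
    Mono (m • 𝟙 (EtPBC.extZeroConst W ℤ) : EtPBC.extZeroConst W ℤ ⟶ _) := by
  haveI : Etale W.hom := W.prop
  haveI : EtShriek.JCont W.hom := jCont W.hom
  obtain ⟨e⟩ := nonempty_extZeroConst_iso W ℤ
  haveI := mono_nsmul_cst (Y := W.left) m hm
  haveI : (EtShriek.extZero W.hom).Additive := Functor.additive_of_preserves_binary_products _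
  have h2 : Mono ((EtShriek.extZero W.hom).map (m • 𝟙 (EtCoh.const W.left ℤ))) := inferInstance
  rw [Functor.map_nsmul, CategoryTheory.Functor.map_id] at h2
  have h3 : m • 𝟙 (EtPBC.extZeroConst W ℤ) = e.hom ≫ (m • 𝟙 _) ≫ e.inv := by
    rw [Preadditive.nsmul_comp, Preadditive.comp_nsmul, Category.id_comp, e.hom_inv_id]
  rw [h3]
  infer_instance

lemma nsmul_app {F : EtCoh.Ab X} (m : ℕ) (V : X.Etale) (s : EtCoh.sect F V) :
    ((m • 𝟙 F : F ⟶ F)).hom.app (op V) s = m • s := by
  induction m with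
  | zero => rw [zero_nsmul, zero_nsmul]; rfl
  | succ m ih => rw [succ_nsmul, succ_nsmul]; exact congrArg (fun z => z + s) ih

theorem exists_nsmul_eq (J : EtCoh.Ab X) [Injective J] (m : ℕ) (hm : m ≠ 0) (W : X.Etale)
    (s : EtCoh.sect J W) : ∃ t : EtCoh.sect J W, m • t = s := by
  obtain ⟨f, rfl⟩ := exists_homSect_eq W 0 s (zero_nsmul s)
  haveI := mono_nsmul_extZeroConst W m hm
  let g : EtPBC.extZeroConst W (ZMod 0) ⟶ J :=
    Injective.factorThru f (m • 𝟙 (EtPBC.extZeroConst W ℤ))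
  have hg : (m • 𝟙 (EtPBC.extZeroConst W (ZMod 0))) ≫ g = f :=
    Injective.comp_factorThru f (m • 𝟙 (EtPBC.extZeroConst W ℤ))
  refine ⟨homSect W 0 g, ?_⟩
  rw [← hg, Preadditive.nsmul_comp, Category.id_comp,
    show m • g = g ≫ (m • 𝟙 J) by rw [Preadditive.comp_nsmul, Category.comp_id],
    homSect_comp, nsmul_app]

theorem epi_nsmul (J : EtCoh.Ab X) [Injective J] (m : ℕ) (hm : m ≠ 0) : Epi (m • 𝟙 J : J ⟶ J) := by
  refine epi_of_stalks _ fun x t => ?_
  obtain ⟨W, w, s, rfl⟩ :=
    (Scheme.pointSmallEtale (sepPoint X x)).toPresheafFiber_jointly_surjective (P := J.obj) t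
  obtain ⟨r, rfl⟩ := exists_nsmul_eq J m hm W s
  refine ⟨(Scheme.pointSmallEtale (sepPoint X x)).toPresheafFiber W w J.obj r, ?_⟩
  rw [← nsmul_app]
  exact ((Scheme.pointSmallEtale (sepPoint X x)).toPresheafFiber_naturality_apply (m • 𝟙 J : J ⟶ J).hom W w r)

/-- The kernel of a multiplication on an injective sheaf is acyclic. -/
theorem subsingleton_H_kernel (J : EtCoh.Ab X) [Injective J] (m : ℕ) (hm : m ≠ 0) (q : ℕ)
    (hq : 0 < q) : Subsingleton (EtCoh.H X (kernel (m • 𝟙 J : J ⟶ J)) q) := by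
  haveI := epi_nsmul J m hm
  let S := ShortComplex.mk (kernel.ι (m • 𝟙 J)) (m • 𝟙 J : J ⟶ J) (kernel.condition _)
  have hS : S.ShortExact :=
    { exact := ShortComplex.exact_kernel (m • 𝟙 J)
      mono_f := inferInstanceAs (Mono (kernel.ι (m • 𝟙 J)))
      epi_g := inferInstanceAs (Epi (m • 𝟙 J)) }
  obtain ⟨q, rfl⟩ := Nat.exists_eq_succ_of_ne_zero hq.ne'
  have key : ∀ z : EtCoh.H X S.X₁ (q + 1), z = 0 := fun z => by
    haveI : Injective S.X₂ := inferInstanceAs (Injective J)
    obtain ⟨y, rfl⟩ := Ext.covariant_sequence_exact₁ _ hS z (Ext.eq_zero_of_injective _) rfl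
    rcases q with _ | q
    · obtain ⟨f, rfl⟩ := (Ext.mk₀_bijective (EtCoh.const X ℤ) J).2 y
      haveI := mono_nsmul_cst (Y := X) m hm
      let g := Injective.factorThru f (m • 𝟙 (EtCoh.const X ℤ))
      have hg : g ≫ S.g = f := by
        change g ≫ (m • 𝟙 J) = f
        rw [Preadditive.comp_nsmul, Category.comp_id]
        conv_rhs => rw [← Injective.comp_factorThru f (m • 𝟙 (EtCoh.const X ℤ))]
        rw [Preadditive.nsmul_comp, Category.id_comp]
      rw [← hg, ← Ext.mk₀_comp_mk₀, Ext.comp_assoc_of_second_deg_zero, hS.comp_extClass,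
        Ext.comp_zero]
    · rw [Ext.eq_zero_of_injective y, Ext.zero_comp]
  exact ⟨fun a b => (key a).trans (key b).symm⟩

theorem exists_pos_nsmul_id [CompactSpace X] [QuasiSeparatedSpace X] {F : EtCoh.Ab X}
    (hF : EtPBC.IsConstructible F) : ∃ m : ℕ, m ≠ 0 ∧ m • 𝟙 F = 0 := by
  have hT : EtAcyc.IsLTorsion Set.univ F := by
    rw [isLTorsion_iff_stalks]
    intro Ω _ _ ξ t
    haveI := finite_stalk_of_isConstructible hF ξ
    exact ⟨_, ⟨Nat.card_pos, fun p _ _ => trivial⟩, card_nsmul_eq_zero'⟩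
  obtain ⟨j, g, hg⟩ := (homComm_of_isConstructible (TorsionColim.isColimit Set.univ F hT) hF).surj (𝟙 F)
  refine ⟨j.val, j.prop.1.ne', ?_⟩
  let g' : F ⟶ kernel (j.val • 𝟙 F) := g
  have hg' : g' ≫ kernel.ι (j.val • 𝟙 F) = 𝟙 F := hg
  calc j.val • 𝟙 F = (g' ≫ kernel.ι (j.val • 𝟙 F)) ≫ (j.val • 𝟙 F) := by
        rw [hg', Category.id_comp]
    _ = 0 := by rw [Category.assoc, kernel.condition, comp_zero]

/-- Effaceability. -/
theorem exists_mono_map_eq_zero [CompactSpace X] [QuasiSeparatedSpace X] (F : EtCoh.Ab X)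
    (hF : EtPBC.IsConstructible F) (q : ℕ) (hq : 0 < q) (α : EtCoh.H X F q) :
    ∃ (G : EtCoh.Ab X) (u : F ⟶ G), EtPBC.IsConstructible G ∧ Mono u ∧
      (EtCoh.HF X q).map u α = 0 := by
  obtain ⟨m, hm, hmF⟩ := exists_pos_nsmul_id hF
  let J := Injective.under F
  let K := kernel (m • 𝟙 J : J ⟶ J)
  let i : F ⟶ K := kernel.lift _ (Injective.ι F) (by
    rw [Preadditive.comp_nsmul, Category.comp_id, ← Category.id_comp (Injective.ι F),
      ← Preadditive.nsmul_comp, hmF, zero_comp])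
  have hi : Mono i := by
    haveI : Mono (i ≫ kernel.ι _) := by
      rw [kernel.lift_ι]; infer_instance
    exact mono_of_mono i (kernel.ι _)
  have hK : EtCoh.IsTorsion K := by
    rw [TorsionColim.isTorsion_iff, isLTorsion_iff_stalks]
    intro Ω _ _ ξ t
    refine ⟨m, ⟨Nat.pos_of_ne_zero hm, fun p _ _ => trivial⟩, ?_⟩
    have h0 : m • 𝟙 K = 0 := by
      rw [← cancel_mono (kernel.ι (m • 𝟙 J : J ⟶ J)), Preadditive.nsmul_comp, Category.id_comp,
        zero_comp]
      exact (by rw [Preadditive.comp_nsmul, Category.comp_id] :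
        kernel.ι (m • 𝟙 J : J ⟶ J) ≫ (m • 𝟙 J) = m • kernel.ι (m • 𝟙 J : J ⟶ J)).symm.trans
          (kernel.condition _)
    haveI : (EtCoh.stalk ξ).Additive := Functor.additive_of_preserves_binary_products _
    have h1 := congrArg (fun φ => φ t) ((Functor.map_nsmul (F := EtCoh.stalk ξ) (f := 𝟙 K) (n := m)).symm.trans
      ((congrArg (EtCoh.stalk ξ).map h0).trans ((EtCoh.stalk ξ).map_zero _ _)))
    rw [CategoryTheory.Functor.map_id] at h1
    exact h1
  obtain ⟨hc⟩ := ColimCons.nonempty_isColimit (F := K) hK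
  obtain ⟨p, g, hg⟩ := (homComm_of_isConstructible hc hF).surj i
  have := EtCechLib.preservesColimitsOfShape_HF (X := X) q (ColimCons.Idx K)
  have h0 : (EtCoh.HF X q).map ((ColimCons.cocone K).ι.app p) ((EtCoh.HF X q).map g α) = 0 := by
    haveI := subsingleton_H_kernel J m hm q hq
    exact Subsingleton.elim (α := EtCoh.H X K q) _ _
  obtain ⟨r, a, hr⟩ := DeltaIso.colimit_eq_zero (isColimitOfPreserves (EtCoh.HF X q) hc) p
    ((EtCoh.HF X q).map g α) h0
  refine ⟨(ColimCons.D K).obj r, g ≫ (ColimCons.D K).map a, ColimCons.isConstructible_obj r, ?_, ?_⟩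
  · haveI : Mono ((g ≫ (ColimCons.D K).map a) ≫ (ColimCons.cocone K).ι.app r) := by
      rw [Category.assoc, (ColimCons.cocone K).w, hg]; exact hi
    exact mono_of_mono _ ((ColimCons.cocone K).ι.app r)
  · rw [Functor.map_comp, ConcreteCategory.comp_apply]
    exact hr

end Groth.Agent.Et18.Effaceable
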