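import Groth.Prelude.Def_EtBase
import Mathlib.CategoryTheory.Sites.Limits
import Mathlib.Algebra.Category.Grp.Limits
import Mathlib.Algebra.Category.Grp.EpiMono

/-!
# Subfunctors with the same sections are isomorphic
-/

universe u

open CategoryTheory CategoryTheory.Limits AlgebraicGeometry Opposite

set_option backward.isDefEq.respectTransparency.types false
set_option backward.isDefEq.respectTransparency false

namespace Groth.Agent.Et18

variable {Z : Scheme.{u}}

lemma app_injective_of_mono {A B : EtCoh.Ab Z} (a : A ⟶ B) [Mono a] (V : Z.Etaleᵒᵖ) :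
    Function.Injective (a.hom.app V) := by
  haveI : Mono a.hom := (sheafToPresheaf Z.smallEtaleTopology AddCommGrpCat.{u + 1}).map_mono a
  exact (AddCommGrpCat.mono_iff_injective _).mp inferInstance

/-- A morphism of sheaves factors through a monomorphism if its sections do. -/
theorem exists_fac_of_range {A B C : EtCoh.Ab Z} (a : A ⟶ C) (b : B ⟶ C) [Mono b]
    (h : ∀ V, Set.range (a.hom.app V) ⊆ Set.range (b.hom.app V)) : ∃ k : A ⟶ B, k ≫ b = a := by
  choose k hk using fun (V : Z.Etaleᵒᵖ) (x : A.obj.obj V) => h V ⟨x, rfl⟩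
  let k' : ∀ V, A.obj.obj V ⟶ B.obj.obj V := fun V => AddCommGrpCat.ofHom
    (AddMonoidHom.mk' (k V) fun x y => app_injective_of_mono b V (by
      rw [hk, map_add, map_add, hk, hk]))
  refine ⟨⟨{ app := k', naturality := fun V V' f => ?_ }⟩, ?_⟩
  · ext x
    refine app_injective_of_mono b V' ?_
    change b.hom.app V' (k V' (A.obj.map f x)) = b.hom.app V' (B.obj.map f (k V x))
    rw [hk, NatTrans.naturality_apply b.hom, hk, NatTrans.naturality_apply a.hom]
  · refine Sheaf.hom_ext (NatTrans.ext (funext fun V => ?_))
    ext x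
    exact hk V x

/-- Two monomorphisms into the same functor with the same sections: a unique compatible
isomorphism. -/
theorem existsUnique_iso_of_ranges {C : Type*} [Category* C] {G₁ G₂ H : C ⥤ EtCoh.Ab Z}
    (α : G₁ ⟶ H) (β : G₂ ⟶ H) [∀ F, Mono (α.app F)] [∀ F, Mono (β.app F)]
    (h : ∀ F V, Set.range ((α.app F).hom.app V) = Set.range ((β.app F).hom.app V)) :
    ∃! φ : G₁ ≅ G₂, φ.hom ≫ β = α := by
  choose k hk using fun F => exists_fac_of_range (α.app F) (β.app F) fun V => (h F V).le
  choose l hl using fun F => exists_fac_of_range (β.app F) (α.app F) fun V => (h F V).ge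
  let φ : G₁ ≅ G₂ := NatIso.ofComponents (fun F =>
    { hom := k F
      inv := l F
      hom_inv_id := by rw [← cancel_mono (α.app F), Category.assoc, hl, hk, Category.id_comp]
      inv_hom_id := by rw [← cancel_mono (β.app F), Category.assoc, hk, hl, Category.id_comp] })
    (fun {F G} a => by
      change G₁.map a ≫ k G = k F ≫ G₂.map a
      rw [← cancel_mono (β.app G), Category.assoc, Category.assoc, hk, α.naturality, β.naturality,
        ← Category.assoc, hk])
  refine ⟨φ, NatTrans.ext (funext hk), fun ψ hψ => ?_⟩
  ext F : 3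
  rw [← cancel_mono (β.app F)]
  exact (congrArg (fun t => t.app F) hψ).trans (hk F).symm

end Groth.Agent.Et18
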