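import Mathlib.CategoryTheory.Sites.Point.Conservative
import Mathlib.CategoryTheory.Functor.TypeValuedFlat
import Mathlib.CategoryTheory.Functor.OfSequence
import Mathlib.CategoryTheory.Limits.FilteredColimitCommutesFiniteLimit
import Mathlib.CategoryTheory.Filtered.Small
import Mathlib.Topology.Compactness.Compact
import Mathlib.Topology.Constructions

/-!
# Deligne's completeness theorem

A site with finite limits, in which there is a class `A` of objects, stable under fibre products,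
covering every object, and on which every covering sieve contains a finite covering family
of objects of `A`, has enough points.
-/

universe w v

open CategoryTheory Limits Opposite

set_option backward.isDefEq.respectTransparency false

namespace Groth.Agent.Et18.Deligne

variable {C : Type w} [Category.{v} C] (J : GrothendieckTopology C) (A : ObjectProperty C)

/-- The hypotheses of Deligne's theorem. -/
structure Coherent : Prop where
  exists_pullback : ∀ ⦃X Y Z : C⦄ (f : X ⟶ Z) (g : Y ⟶ Z), A X → A Y → A Z →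
    ∃ (P : C) (p : P ⟶ X) (q : P ⟶ Y), A P ∧ IsPullback p q f g
  exists_finite : ∀ ⦃X : C⦄ (R : Sieve X), A X → R ∈ J X →
    ∃ (n : ℕ) (Y : Fin n → C) (f : ∀ k, Y k ⟶ X), (∀ k, A (Y k)) ∧ (∀ k, R (f k)) ∧
      Sieve.ofArrows Y f ∈ J X
  exists_mem : ∀ ⦃X : C⦄ (R : Sieve X), R ∉ J X →
    ∃ (Y : C) (f : Y ⟶ X), A Y ∧ R.pullback f ∉ J Y

variable {J A} {X : C} (R : Sieve X)

/-- A pro-object over `X` avoiding the sieve `R`. -/
structure Stage (J : GrothendieckTopology C) (A : ObjectProperty C) (R : Sieve X) where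
  P : Type (max w v)
  [ord : Preorder P]
  [dir : IsDirectedOrder P]
  [ne : Nonempty P]
  obj : P → C
  mem : ∀ j, A (obj j)
  tr : ∀ {i j : P}, i ≤ j → (obj j ⟶ obj i)
  tr_refl : ∀ i, tr (le_refl i) = 𝟙 (obj i)
  tr_comp : ∀ {i j k : P} (h : i ≤ j) (h' : j ≤ k), tr h' ≫ tr h = tr (h.trans h')
  str : ∀ j, obj j ⟶ X
  tr_str : ∀ {i j : P} (h : i ≤ j), tr h ≫ str i = str j
  notCov : ∀ j, R.pullback (str j) ∉ J (obj j)

attribute [instance] Stage.ord Stage.dir Stage.ne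

variable {R}

/-- The initial stage. -/
def Stage.init (Y : C) (f : Y ⟶ X) (hY : A Y) (hf : R.pullback f ∉ J Y) : Stage J A R where
  P := PUnit
  obj _ := Y
  mem _ := hY
  tr _ := 𝟙 Y
  tr_refl _ := rfl
  tr_comp _ _ := Category.id_comp _
  str _ := f
  tr_str _ := Category.id_comp _
  notCov _ := hf

variable (D : Stage J A R)

/-- A finite covering family of one of the terms of `D`. -/
structure Task where
  idx : D.P
  n : ℕ
  Y : Fin n → C
  f : ∀ k, Y k ⟶ D.obj idx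
  mem : ∀ k, A (Y k)
  cov : Sieve.ofArrows Y f ∈ J (D.obj idx)

/-- Indices of the next stage. -/
abbrev NextP : Type (max w v) :=
  { jF : D.P × Finset (Task D) // ∀ t ∈ jF.2, t.idx ≤ jF.1 }

lemma Task.pos (t : Task D) : 0 < t.n := by
  by_contra h
  have h0 : t.n = 0 := by omega
  refine D.notCov t.idx (J.superset_covering ?_ t.cov)
  rw [Sieve.generate_le_iff, Presieve.ofArrows_le_iff]
  intro k
  exact absurd k.2 (by omega)

/-- The sieve of morphisms to `D.obj j` lifting to the chosen members of the families. -/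
def liftSieve (κ : ∀ t : Task D, Fin t.n) (e : NextP D) : Sieve (D.obj e.1.1) where
  arrows Y g := ∀ t (ht : t ∈ e.1.2), ∃ l : Y ⟶ t.Y (κ t), l ≫ t.f (κ t) = g ≫ D.tr (e.2 t ht)
  downward_closed := fun {Y Z g} hg h t ht => by
    obtain ⟨l, hl⟩ := hg t ht
    exact ⟨h ≫ l, by rw [Category.assoc, hl, Category.assoc]⟩

/-- The choice `κ` is admissible at `e`. -/
def Good (e : NextP D) (κ : ∀ t : Task D, Fin t.n) : Prop :=
  ∃ (Y : C) (g : Y ⟶ D.obj e.1.1), liftSieve D κ e g ∧ R.pullback (g ≫ D.str e.1.1) ∉ J Y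

lemma exists_good (e : NextP D) : ∃ κ, Good D e κ := by
  classical
  by_contra h
  simp only [Good, not_exists, not_and, not_not] at h
  obtain ⟨⟨j, F⟩, hF⟩ := e
  refine D.notCov j ?_
  -- the common refinement of the families in `F`
  let S : Sieve (D.obj j) := F.attach.inf fun t => (Sieve.ofArrows t.1.Y t.1.f).pullback (D.tr (hF _ t.2))
  have hS : S ∈ J (D.obj j) := by
    refine Finset.inf_induction (p := fun S => S ∈ J (D.obj j)) (J.top_mem _)
      (fun a ha b hb => J.intersection_covering ha hb) fun t _ => J.pullback_stable _ t.1.cov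
  refine J.transitive hS _ fun Y g hg => ?_
  have hg' : ∀ t (ht : t ∈ F), ∃ (k : Fin t.n) (l : Y ⟶ t.Y k), l ≫ t.f k = g ≫ D.tr (hF t ht) := by
    intro t ht
    have hle : S ≤ (Sieve.ofArrows t.Y t.f).pullback (D.tr (hF t ht)) :=
      Finset.inf_le (f := fun t : {x // x ∈ F} => (Sieve.ofArrows t.1.Y t.1.f).pullback (D.tr (hF _ t.2)))
        (Finset.mem_attach F ⟨t, ht⟩)
    obtain ⟨Z, a, b, ⟨k⟩, hk⟩ := hle _ hg
    exact ⟨k, a, hk⟩
  choose k l hl using hg'
  let κ : ∀ t : Task D, Fin t.n := fun t => if ht : t ∈ F then k t ht else ⟨0, t.pos D⟩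
  have := h κ Y g (fun t ht => by
    have hκ : κ t = k t ht := dif_pos ht
    rw [hκ]
    exact ⟨l t ht, hl t ht⟩)
  simpa [Sieve.pullback_comp] using this

lemma Good.mono {e e' : NextP D} (h₁ : e.1.1 ≤ e'.1.1) (h₂ : e.1.2 ⊆ e'.1.2)
    {κ : ∀ t : Task D, Fin t.n} (h : Good D e' κ) : Good D e κ := by
  obtain ⟨Y, g, hg, hn⟩ := h
  refine ⟨Y, g ≫ D.tr h₁, fun t ht => ?_, ?_⟩
  · obtain ⟨l, hl⟩ := hg t (h₂ ht)
    exact ⟨l, by rw [hl, Category.assoc, D.tr_comp]⟩
  · rwa [Category.assoc, D.tr_str]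

lemma good_congr {e : NextP D} {κ κ' : ∀ t : Task D, Fin t.n} (h : ∀ t ∈ e.1.2, κ t = κ' t)
    (hg : Good D e κ) : Good D e κ' := by
  obtain ⟨Y, g, hg, hn⟩ := hg
  exact ⟨Y, g, fun t ht => h t ht ▸ hg t ht, hn⟩

lemma nextP_directed (e e' : NextP D) :
    ∃ e'' : NextP D, (e.1.1 ≤ e''.1.1 ∧ e.1.2 ⊆ e''.1.2) ∧ (e'.1.1 ≤ e''.1.1 ∧ e'.1.2 ⊆ e''.1.2) := by
  classical
  obtain ⟨j, hj, hj'⟩ := exists_ge_ge e.1.1 e'.1.1
  refine ⟨⟨(j, e.1.2 ∪ e'.1.2), ?_⟩, ⟨hj, Finset.subset_union_left⟩, ⟨hj', Finset.subset_union_right⟩⟩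
  intro t ht
  rcases Finset.mem_union.mp ht with ht | ht
  · exact (e.2 t ht).trans hj
  · exact (e'.2 t ht).trans hj'

/-- A simultaneous admissible choice exists, by compactness. -/
lemma exists_forall_good : ∃ κ : ∀ t : Task D, Fin t.n, ∀ e, Good D e κ := by
  classical
  have : Nonempty (NextP D) := ⟨⟨(Classical.arbitrary D.P, ∅), by simp⟩⟩
  have hclosed : ∀ e, IsClosed {κ | Good D e κ} := fun e => by
    have he : {κ | Good D e κ} = (fun κ : (∀ t : Task D, Fin t.n) => fun t : e.1.2 => κ t.1) ⁻¹'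
        ((fun κ : (∀ t : Task D, Fin t.n) => fun t : e.1.2 => κ t.1) '' {κ | Good D e κ}) := by
      refine subset_antisymm (Set.subset_preimage_image _ _) ?_
      rintro κ ⟨κ', hκ', h⟩
      exact good_congr D (fun t ht => congrFun h ⟨t, ht⟩) hκ'
    rw [he]
    exact (isClosed_discrete _).preimage (by fun_prop)
  have hne := IsCompact.nonempty_iInter_of_directed_nonempty_isCompact_isClosed
    (fun e => {κ | Good D e κ}) (fun e e' => ?_) (exists_good D) (fun e => (hclosed e).isCompact) hclosed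
  · obtain ⟨κ, hκ⟩ := hne
    exact ⟨κ, fun e => Set.mem_iInter.mp hκ e⟩
  · obtain ⟨e'', ⟨h₁, h₂⟩, h₁', h₂'⟩ := nextP_directed D e e'
    exact ⟨e'', fun κ => Good.mono D h₁ h₂, fun κ => Good.mono D h₁' h₂'⟩

/-- The chosen members. -/
noncomputable def kappa : ∀ t : Task D, Fin t.n := (exists_forall_good D).choose

lemma good_kappa (e : NextP D) : Good D e (kappa D) := (exists_forall_good D).choose_spec e

/-- A fibre product over `D.obj j` of the chosen members. -/
structure Comb (e : NextP D) where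
  Q : C
  mem : A Q
  q : Q ⟶ D.obj e.1.1
  proj : ∀ t ∈ e.1.2, (Q ⟶ t.Y (kappa D t))
  proj_f : ∀ t (ht : t ∈ e.1.2), proj t ht ≫ t.f (kappa D t) = q ≫ D.tr (e.2 t ht)
  exists_lift : ∀ ⦃Z : C⦄ (a : Z ⟶ D.obj e.1.1) (b : ∀ t ∈ e.1.2, (Z ⟶ t.Y (kappa D t))),
    (∀ t (ht : t ∈ e.1.2), b t ht ≫ t.f (kappa D t) = a ≫ D.tr (e.2 t ht)) →
      ∃ l : Z ⟶ Q, l ≫ q = a ∧ ∀ t ht, l ≫ proj t ht = b t ht
  hom_ext : ∀ ⦃Z : C⦄ (l l' : Z ⟶ Q), l ≫ q = l' ≫ q →
    (∀ t ht, l ≫ proj t ht = l' ≫ proj t ht) → l = l'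

lemma nonempty_comb (hA : Coherent J A) (e : NextP D) : Nonempty (Comb D e) := by
  classical
  obtain ⟨⟨j, F⟩, hF⟩ := e
  induction F using Finset.induction with
  | empty =>
    exact ⟨⟨D.obj j, D.mem j, 𝟙 _, fun t ht => absurd ht (by simp),
      fun t ht => absurd ht (by simp), fun Z a _ _ => ⟨a, Category.comp_id a, fun t ht => absurd ht (by simp)⟩,
      fun Z l l' h _ => by simpa using h⟩⟩
  | insert s F hs ih =>
    obtain ⟨c⟩ := ih (fun t ht => hF t (Finset.mem_insert_of_mem ht))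
    obtain ⟨P, p, r, hP, hpb⟩ := hA.exists_pullback (c.q ≫ D.tr (hF s (Finset.mem_insert_self s F)))
      (s.f (kappa D s)) c.mem (s.mem _) (D.mem _)
    have hmem : ∀ t ∈ insert s F, t ≠ s → t ∈ F := fun t ht hne =>
      (Finset.mem_insert.mp ht).resolve_left hne
    refine ⟨⟨P, hP, p ≫ c.q, fun t ht => if h : t = s then r ≫ eqToHom (by rw [h])
      else p ≫ c.proj t (hmem t ht h), fun t ht => ?_, fun Z a b hb => ?_, fun Z l l' h₁ h₂ => ?_⟩⟩
    · by_cases h : t = s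
      · subst h
        simp [hpb.w]
      · simp [h, c.proj_f]
    · obtain ⟨l, hl₁, hl₂⟩ := c.exists_lift a (fun t ht => b t (Finset.mem_insert_of_mem ht))
        (fun t ht => hb t _)
      refine ⟨hpb.lift l (b s (Finset.mem_insert_self s F)) (by rw [hb s _, ← Category.assoc, hl₁]),
        by rw [hpb.lift_fst_assoc, hl₁], fun t ht => ?_⟩
      by_cases h : t = s
      · subst h
        simp
      · simp [h, hl₂]
    · refine hpb.hom_ext (c.hom_ext _ _ (by simpa using h₁) fun t ht => ?_) ?_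
      · have hts : t ≠ s := fun h => hs (h ▸ ht)
        simpa [hts] using h₂ t (Finset.mem_insert_of_mem ht)
      · simpa using h₂ s (Finset.mem_insert_self s F)

variable (hA : Coherent J A)

/-- A chosen fibre product. -/
noncomputable def comb (e : NextP D) : Comb D e := (nonempty_comb D hA e).some

instance : Preorder (NextP D) :=
  Preorder.lift fun e : NextP D => ((e.1.1, e.1.2) : D.P × Finset (Task D))

lemma NextP.le_iff {e e' : NextP D} : e ≤ e' ↔ e.1.1 ≤ e'.1.1 ∧ e.1.2 ⊆ e'.1.2 := Iff.rfl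

lemma exists_tr {e e' : NextP D} (h : e ≤ e') :
    ∃ l : (comb D hA e').Q ⟶ (comb D hA e).Q, l ≫ (comb D hA e).q = (comb D hA e').q ≫ D.tr h.1 ∧
      ∀ t ht, l ≫ (comb D hA e).proj t ht = (comb D hA e').proj t (h.2 ht) :=
  (comb D hA e).exists_lift _ (fun t ht => (comb D hA e').proj t (h.2 ht))
    (fun t ht => by rw [(comb D hA e').proj_f, Category.assoc, D.tr_comp])

/-- The next stage. -/
@[reducible] noncomputable def Stage.next : Stage J A R where
  P := NextP D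
  dir := ⟨fun e e' => by
    obtain ⟨e'', h, h'⟩ := nextP_directed D e e'
    exact ⟨e'', h, h'⟩⟩
  ne := ⟨⟨(Classical.arbitrary D.P, ∅), by simp⟩⟩
  obj e := (comb D hA e).Q
  mem e := (comb D hA e).mem
  tr h := (exists_tr D hA h).choose
  tr_refl e := by
    obtain ⟨h₁, h₂⟩ := (exists_tr D hA (le_refl e)).choose_spec
    refine (comb D hA e).hom_ext _ _ ?_ fun t ht => ?_
    · rw [h₁, D.tr_refl, Category.comp_id, Category.id_comp]
    · rw [h₂, Category.id_comp]
  tr_comp {i j k} h h' := by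
    obtain ⟨a₁, a₂⟩ := (exists_tr D hA h).choose_spec
    obtain ⟨b₁, b₂⟩ := (exists_tr D hA h').choose_spec
    obtain ⟨c₁, c₂⟩ := (exists_tr D hA (h.trans h')).choose_spec
    refine (comb D hA i).hom_ext _ _ ?_ fun t ht => ?_
    · rw [Category.assoc, a₁, c₁, reassoc_of% b₁, D.tr_comp]
    · rw [Category.assoc, a₂, c₂, b₂]
  str e := (comb D hA e).q ≫ D.str e.1.1
  tr_str {i j} h := by
    rw [reassoc_of% (exists_tr D hA h).choose_spec.1, D.tr_str]
  notCov e := by
    obtain ⟨Y, g, hg, hn⟩ := good_kappa D e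
    choose b hb using hg
    obtain ⟨l, hl, -⟩ := (comb D hA e).exists_lift g b hb
    intro hcov
    refine hn ?_
    have := J.pullback_stable l hcov
    rwa [← Sieve.pullback_comp, ← Category.assoc, hl] at this

/-- The inclusion of indices into the next stage. -/
@[reducible] def lift (j : D.P) : (D.next hA).P := (⟨(j, ∅), by simp⟩ : NextP D)

lemma lift_mono {i j : D.P} (h : i ≤ j) : lift D hA i ≤ lift D hA j :=
  ⟨h, subset_rfl⟩

/-- The map from the next stage. -/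
noncomputable def down (j : D.P) : (D.next hA).obj (lift D hA j) ⟶ D.obj j :=
  (comb D hA (lift D hA j)).q

lemma down_str (j : D.P) : down D hA j ≫ D.str j = (D.next hA).str (lift D hA j) := rfl

lemma tr_down {i j : D.P} (h : i ≤ j) :
    (D.next hA).tr (lift_mono D hA h) ≫ down D hA i = down D hA j ≫ D.tr h :=
  (exists_tr D hA (lift_mono D hA h)).choose_spec.1

/-- Each family gets one of its members inverted in the next stage. -/
lemma exists_factor (t : Task D) :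
    ∃ (e : (D.next hA).P) (h : lift D hA t.idx ≤ e) (k : Fin t.n)
      (l : (D.next hA).obj e ⟶ t.Y k),
      l ≫ t.f k = (D.next hA).tr h ≫ down D hA t.idx := by
  classical
  let e : NextP D := ⟨(t.idx, {t}), by simp⟩
  have h : lift D hA t.idx ≤ e := ⟨le_rfl, Finset.empty_subset _⟩
  refine ⟨e, h, kappa D t, (comb D hA e).proj t (Finset.mem_singleton_self t), ?_⟩
  refine ((comb D hA e).proj_f t _).trans ?_
  exact (exists_tr D hA h).choose_spec.1.symm

/-! ### The fibre functor -/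

/-- The diagram of corepresentable functors of a stage. -/
noncomputable abbrev coyo : D.P ⥤ C ⥤ Type (max w v) where
  obj j := uliftCoyoneda.{w}.obj (op (D.obj j))
  map h := uliftCoyoneda.{w}.map (D.tr h.le).op
  map_id j := by rw [D.tr_refl]; simp
  map_comp h h' := by rw [← D.tr_comp h.le h'.le, op_comp, Functor.map_comp]

/-- The functor pro-represented by a stage. -/
noncomputable abbrev fib : C ⥤ Type (max w v) := colimit (coyo D)

/-- The cocone defining the transition map. -/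
noncomputable def fibMap : fib D ⟶ fib (D.next hA) :=
  colimit.desc (coyo D)
    { pt := fib (D.next hA)
      ι :=
        { app := fun j => uliftCoyoneda.{w}.map (down D hA j).op ≫
            colimit.ι (coyo (D.next hA)) (lift D hA j)
          naturality := fun i j h => by
            simp only [Functor.const_obj_obj, Functor.const_obj_map, Category.comp_id]
            rw [← colimit.w (coyo (D.next hA)) (homOfLE (lift_mono D hA h.le))]
            change uliftCoyoneda.{w}.map _ ≫ _ ≫ _ = _ ≫ uliftCoyoneda.{w}.map _ ≫ _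
            erw [← Category.assoc, ← Category.assoc, ← Functor.map_comp, ← Functor.map_comp,
              ← op_comp, ← op_comp, tr_down] } }

/-- The element of `fib` represented by a morphism. -/
noncomputable def cls {U : C} (j : D.P) (g : D.obj j ⟶ U) : (fib D).obj U :=
  (colimit.ι (coyo D) j).app U (ULift.up g : ULift.{w} (D.obj j ⟶ U))

lemma fib_map_cls {U V : C} (j : D.P) (g : D.obj j ⟶ U) (a : U ⟶ V) :
    (fib D).map a (cls D j g) = cls D j (g ≫ a) :=
  (NatTrans.naturality_apply (colimit.ι (coyo D) j) a (ULift.up g : ULift.{w} (D.obj j ⟶ U))).symm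

lemma fibMap_cls {U : C} (j : D.P) (g : D.obj j ⟶ U) :
    (fibMap D hA).app U (cls D j g) = cls (D.next hA) (lift D hA j) (down D hA j ≫ g) := by
  have h : colimit.ι (coyo D) j ≫ fibMap D hA =
      uliftCoyoneda.{w}.map (down D hA j).op ≫ colimit.ι (coyo (D.next hA)) (lift D hA j) :=
    colimit.ι_desc _ _
  exact ConcreteCategory.congr_hom (NatTrans.congr_app h U) (ULift.up g : ULift.{w} (D.obj j ⟶ U))

lemma cls_tr {U : C} {i j : D.P} (h : i ≤ j) (g : D.obj i ⟶ U) :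
    cls D i g = cls D j (D.tr h ≫ g) :=
  (ConcreteCategory.congr_hom (NatTrans.congr_app (colimit.w (coyo D) (homOfLE h)) U) (ULift.up g : ULift.{w} (D.obj i ⟶ U))).symm

lemma cls_surj {U : C} (x : (fib D).obj U) : ∃ (j : D.P) (g : D.obj j ⟶ U), cls D j g = x := by
  obtain ⟨j, ⟨g⟩, h⟩ := Types.jointly_surjective_of_isColimit
    (isColimitOfPreserves ((evaluation C (Type (max w v))).obj U) (colimit.isColimit (coyo D))) x
  exact ⟨j, g, h⟩

lemma cls_eq_iff {U : C} {i j : D.P} (g : D.obj i ⟶ U) (g' : D.obj j ⟶ U) :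
    cls D i g = cls D j g' ↔
      ∃ (k : D.P) (hi : i ≤ k) (hj : j ≤ k), D.tr hi ≫ g = D.tr hj ≫ g' := by
  constructor
  · intro h
    obtain ⟨k, hi, hj, hk⟩ := (Types.FilteredColimit.isColimit_eq_iff _
      (isColimitOfPreserves ((evaluation C (Type (max w v))).obj U) (colimit.isColimit (coyo D)))).mp h
    exact ⟨k, hi.le, hj.le, congrArg ULift.down hk⟩
  · rintro ⟨k, hi, hj, hk⟩
    rw [cls_tr D hi, cls_tr D hj, hk]

instance [HasFiniteLimits C] : PreservesFiniteLimits (fib D) := by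
  have : ∀ (Sh : Type) [SmallCategory Sh] [FinCategory Sh],
      PreservesLimitsOfShape Sh (coyo D).flip := fun Sh _ _ => by
    refine preservesLimitsOfShape_of_evaluation _ _ fun j => ?_
    exact preservesLimitsOfShape_of_natIso (flipCompEvaluation (coyo D) j).symm
  have : PreservesFiniteLimits (coyo D).flip := ⟨fun Sh _ _ => this Sh⟩
  exact preservesFiniteLimits_of_natIso (colimitIsoFlipCompColim (coyo D)).symm

/-! ### The point -/

variable (Y₀ : C) (f₀ : Y₀ ⟶ X) (hY₀ : A Y₀) (hf₀ : R.pullback f₀ ∉ J Y₀)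

/-- The tower of stages. -/
noncomputable def stage : ℕ → Stage J A R
  | 0 => Stage.init Y₀ f₀ hY₀ hf₀
  | n + 1 => (stage n).next hA

/-- The tower of fibre functors. -/
noncomputable def tower : ℕ ⥤ C ⥤ Type (max w v) :=
  Functor.ofSequence (X := fun n => fib (stage hA Y₀ f₀ hY₀ hf₀ n))
    (fun n => fibMap (stage hA Y₀ f₀ hY₀ hf₀ n) hA)

lemma tower_map_succ (n : ℕ) : (tower hA Y₀ f₀ hY₀ hf₀).map (homOfLE (Nat.le_add_right n 1)) =
    fibMap (stage hA Y₀ f₀ hY₀ hf₀ n) hA :=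
  Functor.ofSequence_map_homOfLE_succ _ n

/-- The fibre functor of the point. -/
noncomputable abbrev limFib : C ⥤ Type (max w v) := colimit (tower hA Y₀ f₀ hY₀ hf₀)

instance [HasFiniteLimits C] : PreservesFiniteLimits (limFib hA Y₀ f₀ hY₀ hf₀) := by
  have : ∀ (Sh : Type) [SmallCategory Sh] [FinCategory Sh],
      PreservesLimitsOfShape Sh (tower hA Y₀ f₀ hY₀ hf₀).flip := fun Sh _ _ => by
    refine preservesLimitsOfShape_of_evaluation _ _ fun j => ?_
    have : PreservesFiniteLimits ((tower hA Y₀ f₀ hY₀ hf₀).obj j) :=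
      inferInstanceAs (PreservesFiniteLimits (fib (stage hA Y₀ f₀ hY₀ hf₀ j)))
    exact preservesLimitsOfShape_of_natIso (flipCompEvaluation _ j).symm
  have : PreservesFiniteLimits (tower hA Y₀ f₀ hY₀ hf₀).flip := ⟨fun Sh _ _ => this Sh⟩
  exact preservesFiniteLimits_of_natIso (colimitIsoFlipCompColim _).symm

/-- The image in the point of a class at stage `n`. -/
noncomputable def pclass {U : C} (n : ℕ) (x : (fib (stage hA Y₀ f₀ hY₀ hf₀ n)).obj U) :
    (limFib hA Y₀ f₀ hY₀ hf₀).obj U :=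
  (colimit.ι (tower hA Y₀ f₀ hY₀ hf₀) n).app U x

lemma pclass_succ {U : C} (n : ℕ) (x : (fib (stage hA Y₀ f₀ hY₀ hf₀ n)).obj U) :
    pclass hA Y₀ f₀ hY₀ hf₀ n x =
      pclass hA Y₀ f₀ hY₀ hf₀ (n + 1) ((fibMap (stage hA Y₀ f₀ hY₀ hf₀ n) hA).app U x) := by
  have h := colimit.w (tower hA Y₀ f₀ hY₀ hf₀) (homOfLE (Nat.le_add_right n 1))
  rw [tower_map_succ] at h
  exact (ConcreteCategory.congr_hom (NatTrans.congr_app h U) x).symm

lemma pclass_map {U V : C} (n : ℕ) (x : (fib (stage hA Y₀ f₀ hY₀ hf₀ n)).obj U) (a : U ⟶ V) :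
    (limFib hA Y₀ f₀ hY₀ hf₀).map a (pclass hA Y₀ f₀ hY₀ hf₀ n x) =
      pclass hA Y₀ f₀ hY₀ hf₀ n ((fib _).map a x) :=
  (NatTrans.naturality_apply (colimit.ι (tower hA Y₀ f₀ hY₀ hf₀) n) a x).symm

lemma pclass_surj {U : C} (x : (limFib hA Y₀ f₀ hY₀ hf₀).obj U) :
    ∃ (n : ℕ) (j : (stage hA Y₀ f₀ hY₀ hf₀ n).P) (g : (stage hA Y₀ f₀ hY₀ hf₀ n).obj j ⟶ U),
      pclass hA Y₀ f₀ hY₀ hf₀ n (cls _ j g) = x := by
  obtain ⟨n, y, h⟩ := Types.jointly_surjective_of_isColimit
    (isColimitOfPreserves ((evaluation C (Type (max w v))).obj U)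
      (colimit.isColimit (tower hA Y₀ f₀ hY₀ hf₀))) x
  obtain ⟨j, g, rfl⟩ := cls_surj _ y
  exact ⟨n, j, g, h⟩

/-- The point of the site avoiding the sieve. -/
noncomputable def point [HasFiniteLimits C] : GrothendieckTopology.Point.{max w v} J where
  fiber := limFib hA Y₀ f₀ hY₀ hf₀
  isCofiltered := Functor.isCofiltered_elements _
  initiallySmall := by
    have : EssentiallySmall.{max w v} (limFib hA Y₀ f₀ hY₀ hf₀).Elements :=
      essentiallySmall_of_small_of_locallySmall _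
    exact initiallySmall_of_essentiallySmall _
  jointly_surjective {U} S hS x := by
    obtain ⟨n, j, g, rfl⟩ := pclass_surj hA Y₀ f₀ hY₀ hf₀ x
    obtain ⟨m, Y, a, hY, ha, hcov⟩ := hA.exists_finite (S.pullback g)
      ((stage hA Y₀ f₀ hY₀ hf₀ n).mem j) (J.pullback_stable g hS)
    obtain ⟨e, he, k, l, hl⟩ := exists_factor (stage hA Y₀ f₀ hY₀ hf₀ n) hA ⟨j, m, Y, a, hY, hcov⟩
    refine ⟨Y k, a k ≫ g, ha k, pclass hA Y₀ f₀ hY₀ hf₀ (n + 1) (cls (stage hA Y₀ f₀ hY₀ hf₀ (n + 1)) e l), ?_⟩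
    rw [pclass_map, pclass_succ hA Y₀ f₀ hY₀ hf₀ n]
    congr 1
    rw [fib_map_cls, fibMap_cls]
    change cls ((stage hA Y₀ f₀ hY₀ hf₀ n).next hA) e _ = _
    rw [cls_tr _ he, reassoc_of% hl]

/-- The distinguished element, at stage `n`. -/
lemma exists_base : ∀ n, ∃ x : (fib (stage hA Y₀ f₀ hY₀ hf₀ n)).obj X,
    (∀ j, cls _ j ((stage hA Y₀ f₀ hY₀ hf₀ n).str j) = x) ∧
      pclass hA Y₀ f₀ hY₀ hf₀ n x =
        pclass hA Y₀ f₀ hY₀ hf₀ 0 (cls (Stage.init Y₀ f₀ hY₀ hf₀) PUnit.unit f₀) := by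
  intro n
  induction n with
  | zero =>
    exact ⟨cls (Stage.init Y₀ f₀ hY₀ hf₀) PUnit.unit f₀, fun _ => rfl, rfl⟩
  | succ n ih =>
    obtain ⟨x, hx, hx'⟩ := ih
    have ⟨j₀⟩ := (stage hA Y₀ f₀ hY₀ hf₀ n).ne
    refine ⟨(fibMap (stage hA Y₀ f₀ hY₀ hf₀ n) hA).app X x, fun e => ?_,
      by rw [← hx', pclass_succ hA Y₀ f₀ hY₀ hf₀ n]⟩
    rw [← hx j₀, fibMap_cls, down_str]
    obtain ⟨k, hk, hk'⟩ := exists_ge_ge e (lift (stage hA Y₀ f₀ hY₀ hf₀ n) hA j₀)
    exact (cls_eq_iff _ _ _).mpr ⟨k, hk, hk',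
      (Stage.tr_str _ hk).trans (Stage.tr_str _ hk').symm⟩

lemma point_avoids [HasFiniteLimits C] {Z : C} (a : Z ⟶ X) (ha : R a)
    (y : (point hA Y₀ f₀ hY₀ hf₀).fiber.obj Z) :
    (point hA Y₀ f₀ hY₀ hf₀).fiber.map a y ≠
      pclass hA Y₀ f₀ hY₀ hf₀ 0 (cls (Stage.init Y₀ f₀ hY₀ hf₀) PUnit.unit f₀) := by
  intro h
  obtain ⟨n, j, g, rfl⟩ := pclass_surj hA Y₀ f₀ hY₀ hf₀ y
  obtain ⟨x, hx, hx'⟩ := exists_base hA Y₀ f₀ hY₀ hf₀ n
  change (limFib hA Y₀ f₀ hY₀ hf₀).map a _ = _ at h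
  rw [pclass_map, fib_map_cls, ← hx'] at h
  -- an equality in the tower is realised at some later stage
  obtain ⟨m, hm, hm', he⟩ := (Types.FilteredColimit.isColimit_eq_iff _
    (isColimitOfPreserves ((evaluation C (Type (max w v))).obj X)
      (colimit.isColimit (tower hA Y₀ f₀ hY₀ hf₀)))).mp h
  obtain ⟨j', g', hg'⟩ := cls_surj (stage hA Y₀ f₀ hY₀ hf₀ m)
    (((tower hA Y₀ f₀ hY₀ hf₀).map hm).app Z (cls _ j g))
  obtain ⟨x₁, hx₁, hx₁'⟩ := exists_base hA Y₀ f₀ hY₀ hf₀ m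
  have e₁ : cls (stage hA Y₀ f₀ hY₀ hf₀ m) j' (g' ≫ a) =
      ((tower hA Y₀ f₀ hY₀ hf₀).map hm).app X (cls _ j (g ≫ a)) := by
    rw [← fib_map_cls, hg', ← fib_map_cls _ j g a]
    exact (NatTrans.naturality_apply ((tower hA Y₀ f₀ hY₀ hf₀).map hm) a _).symm
  have e₂ : ∀ q, n ≤ q → ∀ hq : (n : ℕ) ⟶ q, ∀ x' : (fib (stage hA Y₀ f₀ hY₀ hf₀ q)).obj X,
      (∀ i, cls _ i ((stage hA Y₀ f₀ hY₀ hf₀ q).str i) = x') →
      ((tower hA Y₀ f₀ hY₀ hf₀).map hq).app X x = x' := by
    intro q hnq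
    induction hnq with
    | refl =>
      intro hq x' hx'q
      rw [Subsingleton.elim hq (𝟙 n), CategoryTheory.Functor.map_id]
      exact (hx (Classical.arbitrary _)).symm.trans (hx'q _)
    | @step q hnq ih =>
      intro hq x' hx'q
      obtain ⟨xq, hxq, -⟩ := exists_base hA Y₀ f₀ hY₀ hf₀ q
      have ⟨j₀⟩ := (stage hA Y₀ f₀ hY₀ hf₀ q).ne
      rw [Subsingleton.elim hq (homOfLE hnq ≫ homOfLE (Nat.le_add_right q 1)), Functor.map_comp,
        tower_map_succ]
      change (fibMap (stage hA Y₀ f₀ hY₀ hf₀ q) hA).app X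
        (((tower hA Y₀ f₀ hY₀ hf₀).map (homOfLE hnq)).app X x) = x'
      rw [ih (homOfLE hnq) xq hxq, ← hxq j₀, fibMap_cls, down_str]
      exact hx'q _
  have hfin : cls (stage hA Y₀ f₀ hY₀ hf₀ m) j' (g' ≫ a) =
      cls (stage hA Y₀ f₀ hY₀ hf₀ m) j' ((stage hA Y₀ f₀ hY₀ hf₀ m).str j') := by
    rw [e₁, hx₁ j', ← e₂ m hm'.le hm' x₁ hx₁]
    exact he
  obtain ⟨k, hk, hk', hkeq⟩ := (cls_eq_iff _ _ _).mp hfin
  refine (stage hA Y₀ f₀ hY₀ hf₀ m).notCov k ?_
  rw [← Stage.tr_str _ hk', ← hkeq, ← Category.assoc]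
  have hR : R (((stage hA Y₀ f₀ hY₀ hf₀ m).tr hk ≫ g') ≫ a) := R.downward_closed ha _
  rw [Sieve.pullback_eq_top_of_mem R hR]
  exact J.top_mem _

include hA in
/-- Deligne's theorem: such a site has enough points. -/
theorem hasEnoughPoints [HasFiniteLimits C] [HasSheafify J (Type (max w v))] :
    GrothendieckTopology.HasEnoughPoints.{max w v} J := by
  let ι := Σ (X : C) (R : { R : Sieve X // R ∉ J X }), { p : Σ Y : C, (Y ⟶ X) // A p.1 ∧ R.1.pullback p.2 ∉ J p.1 }
  let pts : ι → GrothendieckTopology.Point.{max w v} J := fun i =>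
    point hA i.2.2.1.1 i.2.2.1.2 i.2.2.2.1 i.2.2.2.2
  refine ⟨⟨ObjectProperty.ofObj pts, inferInstance, .mk' fun X S hS => ?_⟩⟩
  by_contra hn
  obtain ⟨Y, f, hY, hf⟩ := hA.exists_mem S hn
  let i : ι := ⟨X, ⟨S, hn⟩, ⟨⟨Y, f⟩, hY, hf⟩⟩
  obtain ⟨Z, g, hg, y, hy⟩ := hS ⟨pts i, ⟨i⟩⟩
    (pclass hA Y f hY hf 0 (cls (Stage.init Y f hY hf) PUnit.unit f))
  exact point_avoids hA Y f hY hf g hg y hy

end Groth.Agent.Et18.Deligne
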