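import Mathlib.Algebra.Homology.DerivedCategory.Ext.ExactSequences
import Mathlib.Algebra.Homology.DerivedCategory.TStructure
import Mathlib.Algebra.Homology.DerivedCategory.FullyFaithful
import Mathlib.Algebra.Homology.ShortComplex.ExactFunctor
import Mathlib.CategoryTheory.Triangulated.TStructure.TruncLTGE

/-!
# Classes in `Ext¹` are realised by extensions
-/

set_option autoImplicit false

universe w v u

open CategoryTheory CategoryTheory.Limits CategoryTheory.Abelian Pretriangulated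

namespace Groth.Agent.Et18.ExtRealize

variable {C : Type u} [Category.{v} C] [Abelian C] [HasExt.{w} C]

attribute [local instance] HasDerivedCategory.standard

open DerivedCategory in
/-- Every element of `Ext E P 1` is the class of an extension. -/
theorem exists_extClass_eq {P E : C} (η : Ext E P 1) :
    ∃ (X : C) (u : P ⟶ X) (v : X ⟶ E) (w : u ≫ v = 0)
      (h : (ShortComplex.mk u v w).ShortExact), h.extClass = η := by
  let F := singleFunctor C 0
  let δ : F.obj E ⟶ (F.obj P)⟦(1 : ℤ)⟧ := η.hom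
  obtain ⟨Z, f, g, hT⟩ := distinguished_cocone_triangle₂ δ
  have hle : Z.IsLE 0 := DerivedCategory.TStructure.t.isLE₂ _ hT 0
    (inferInstanceAs ((F.obj P).IsLE 0)) (inferInstanceAs ((F.obj E).IsLE 0))
  have hge : Z.IsGE 0 := DerivedCategory.TStructure.t.isGE₂ _ hT 0
    (inferInstanceAs ((F.obj P).IsGE 0)) (inferInstanceAs ((F.obj E).IsGE 0))
  obtain ⟨X, ⟨e⟩⟩ := exists_iso_singleFunctor_obj_of_isGE_of_isLE Z 0
  obtain ⟨u, hu⟩ := F.map_surjective (f ≫ e.hom)
  obtain ⟨v, hv⟩ := F.map_surjective (e.inv ≫ g)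
  let T : Triangle (DerivedCategory C) := Triangle.mk (F.map u) (F.map v) δ
  have hT' : T ∈ distTriang (DerivedCategory C) := by
    refine isomorphic_distinguished _ hT _ (Triangle.isoMk _ _ (Iso.refl _) e.symm (Iso.refl _) ?_ ?_ ?_)
    · show F.map u ≫ e.inv = 𝟙 (F.obj P) ≫ f
      rw [hu, Category.assoc, e.hom_inv_id, Category.comp_id, Category.id_comp]
    · show F.map v ≫ 𝟙 (F.obj E) = e.inv ≫ g
      rw [hv, Category.comp_id]
    · show δ ≫ (𝟙 (F.obj P))⟦(1 : ℤ)⟧' = 𝟙 (F.obj E) ≫ δ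
      rw [CategoryTheory.Functor.map_id, Category.comp_id, Category.id_comp]
  have w0 : u ≫ v = 0 := F.map_injective (by
    rw [F.map_comp, F.map_zero]
    exact comp_distTriang_mor_zero₁₂ T hT')
  let H := homologyFunctor C 0
  let α := singleFunctorCompHomologyFunctorIso C 0
  have hnat : ∀ {A B : C} (φ : A ⟶ B), H.map (F.map φ) ≫ α.hom.app B = α.hom.app A ≫ φ :=
    fun φ => α.hom.naturality φ
  have hmono : Mono u := by
    have h1 : Mono (H.map T.mor₁) := (HomologySequence.mono_homologyMap_mor₁_iff T hT' (-1) 0).2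
      ((isZero_of_isGE (F.obj E) 0 (-1) (by omega)).eq_of_src _ _)
    have h2 : u = α.inv.app P ≫ H.map (F.map u) ≫ α.hom.app X :=
      ((congrArg (α.inv.app P ≫ ·) (hnat u)).trans ((α.app P).inv_hom_id_assoc u)).symm
    rw [h2]
    have h1' : Mono (H.map (F.map u)) := h1
    have h4 : Mono (H.map (F.map u) ≫ α.hom.app X) := mono_comp' h1' inferInstance
    exact mono_comp' inferInstance h4
  have hepi : Epi v := by
    have h1 : Epi (H.map T.mor₂) := (HomologySequence.epi_homologyMap_mor₂_iff T hT' 0 1).2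
      ((isZero_of_isLE (F.obj P) 0 1 (by omega)).eq_of_tgt _ _)
    have h2 : v = α.inv.app X ≫ H.map (F.map v) ≫ α.hom.app E :=
      ((congrArg (α.inv.app X ≫ ·) (hnat v)).trans ((α.app X).inv_hom_id_assoc v)).symm
    rw [h2]
    have h1' : Epi (H.map (F.map v)) := h1
    have h4 : Epi (H.map (F.map v) ≫ α.hom.app E) := epi_comp' h1' inferInstance
    exact epi_comp' inferInstance h4
  have hex : (ShortComplex.mk u v w0).Exact := by
    refine (ShortComplex.exact_iff_of_iso ?_).1 (HomologySequence.exact₂ T hT' 0)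
    exact ShortComplex.isoMk (α.app P) (α.app X) (α.app E) (hnat u).symm (hnat v).symm
  have h : (ShortComplex.mk u v w0).ShortExact := { exact := hex, mono_f := hmono, epi_g := hepi }
  refine ⟨X, u, v, w0, h, ?_⟩
  obtain ⟨c, hc1, hc2⟩ := complete_distinguished_triangle_morphism h.singleTriangle T
    h.singleTriangle_distinguished hT' (𝟙 _) (𝟙 _)
    (show F.map u ≫ 𝟙 _ = 𝟙 _ ≫ F.map u by simp)
  obtain ⟨τ, rfl⟩ := F.map_surjective c
  have hτ : τ = 𝟙 E := by
    rw [← cancel_epi v]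
    refine F.map_injective ?_
    rw [F.map_comp, Category.comp_id]
    exact hc1.trans (Category.id_comp _)
  subst hτ
  refine Ext.ext ?_
  rw [ShortComplex.ShortExact.extClass_hom]
  have h3 : h.singleδ ≫ (𝟙 (F.obj P))⟦(1 : ℤ)⟧' = F.map (𝟙 E) ≫ δ := hc2
  rw [CategoryTheory.Functor.map_id, Category.comp_id, CategoryTheory.Functor.map_id, Category.id_comp] at h3
  exact h3

/-- Extensions map compatibly with their classes. -/
theorem exists_hom_of_extClass_eq {S₁ S₂ : ShortComplex C} (h₁ : S₁.ShortExact) (h₂ : S₂.ShortExact)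
    (a : S₁.X₁ ⟶ S₂.X₁) (c : S₁.X₃ ⟶ S₂.X₃)
    (h : h₁.extClass.comp (Ext.mk₀ a) (add_zero 1) = (Ext.mk₀ c).comp h₂.extClass (zero_add 1)) :
    ∃ b : S₁.X₂ ⟶ S₂.X₂, S₁.f ≫ b = a ≫ S₂.f ∧ S₁.g ≫ c = b ≫ S₂.g := by
  let F := DerivedCategory.singleFunctor C 0
  have h' := congrArg Ext.hom h
  simp only [Ext.comp_hom, Ext.mk₀_hom, ShortComplex.ShortExact.extClass_hom, ShiftedHom.comp_mk₀,
    ShiftedHom.mk₀_comp] at h'
  obtain ⟨b, hb1, hb2⟩ := complete_distinguished_triangle_morphism₂ h₁.singleTriangle h₂.singleTriangle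
    h₁.singleTriangle_distinguished h₂.singleTriangle_distinguished (F.map a) (F.map c) h'
  obtain ⟨β, rfl⟩ := F.map_surjective b
  refine ⟨β, F.map_injective ?_, F.map_injective ?_⟩
  · rw [F.map_comp, F.map_comp]
    exact hb1
  · rw [F.map_comp, F.map_comp]
    exact hb2

/-- Existence of blended extensions. -/
theorem exists_blended {P F R E Q : C} (a : P ⟶ F) (b : F ⟶ R) (wF : a ≫ b = 0)
    (hF : (ShortComplex.mk a b wF).ShortExact) (c : R ⟶ E) (d : E ⟶ Q) (wE : c ≫ d = 0)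
    (hE : (ShortComplex.mk c d wE).ShortExact)
    (h0 : hE.extClass.comp hF.extClass (rfl : 1 + 1 = 2) = 0) :
    ∃ (X : C) (i : F ⟶ X) (p : X ⟶ E), i ≫ p = b ≫ c ∧
        (∃ w : (a ≫ i) ≫ p = 0, (ShortComplex.mk (a ≫ i) p w).ShortExact) ∧
        (∃ w : i ≫ (p ≫ d) = 0, (ShortComplex.mk i (p ≫ d) w).ShortExact) := by
  obtain ⟨η, hη⟩ : ∃ η : Ext E P 1, (Ext.mk₀ c).comp η (zero_add 1) = hF.extClass :=
    Ext.contravariant_sequence_exact₁ hE P hF.extClass rfl h0
  obtain ⟨X, u, v, w, hX, rfl⟩ := exists_extClass_eq η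
  obtain ⟨i, hi1, hi2⟩ : ∃ i : F ⟶ X, a ≫ i = u ∧ b ≫ c = i ≫ v := by
    obtain ⟨i, hi1, hi2⟩ := exists_hom_of_extClass_eq hF hX (𝟙 P) c (by
      rw [Ext.comp_mk₀_id]
      exact hη.symm)
    exact ⟨i, hi1.trans (Category.id_comp u), hi2⟩
  subst hi1
  refine ⟨X, i, v, hi2.symm, ⟨w, hX⟩, ?_, ?_⟩
  · rw [← Category.assoc, ← hi2, Category.assoc, wE, comp_zero]
  have hmu : Mono (a ≫ i) := hX.mono_f
  have hmc : Mono c := hE.mono_f
  have hev : Epi v := hX.epi_g
  have hed : Epi d := hE.epi_g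
  have heb : Epi b := hF.epi_g
  have hi : Mono i := by
    refine Preadditive.mono_of_cancel_zero _ fun {T} x hx => ?_
    have h1 : x ≫ b = 0 := by
      rw [← cancel_mono c, Category.assoc, hi2, reassoc_of% hx, zero_comp, zero_comp]
    obtain ⟨y, hy⟩ := KernelFork.IsLimit.lift' hF.fIsKernel x h1
    have hy : y ≫ a = x := hy
    rw [← hy, Category.assoc] at hx
    rw [← hy, (cancel_mono (a ≫ i)).1 (hx.trans zero_comp.symm), zero_comp]
  refine { exact := ?_, mono_f := hi, epi_g := epi_comp v d }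
  rw [ShortComplex.exact_iff_exact_up_to_refinements]
  intro T x hx
  have hx : x ≫ v ≫ d = 0 := hx
  obtain ⟨T₁, π, hπ, r, hr⟩ := hE.exact.exact_up_to_refinements (x ≫ v) (by simpa using hx)
  have hr : π ≫ x ≫ v = r ≫ c := hr
  obtain ⟨T₂, π', hπ', y, hy⟩ := surjective_up_to_refinements_of_epi b r
  have h1 : (π' ≫ π ≫ x - y ≫ i) ≫ v = 0 := by
    simp only [Preadditive.sub_comp, Category.assoc]
    rw [hr, ← Category.assoc π' r c, hy, Category.assoc, hi2, sub_self]
  obtain ⟨T₃, π'', hπ'', p, hp⟩ := hX.exact.exact_up_to_refinements (π' ≫ π ≫ x - y ≫ i) h1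
  have hp : π'' ≫ (π' ≫ π ≫ x - y ≫ i) = p ≫ a ≫ i := hp
  refine ⟨T₃, π'' ≫ π' ≫ π, inferInstance, π'' ≫ y + p ≫ a, ?_⟩
  rw [Preadditive.comp_sub] at hp
  change (π'' ≫ π' ≫ π) ≫ x = (π'' ≫ y + p ≫ a) ≫ i
  simp only [Preadditive.add_comp, Category.assoc, ← hp]
  abel

end Groth.Agent.Et18.ExtRealize
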