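import Groth.Agent.CliffStr.Global
import Groth.Agent.CSA.LGModules
import Mathlib.RingTheory.Flat.LocallyFree
import Mathlib.RingTheory.Unramified.Finite
import Mathlib.RingTheory.LocalProperties.FinitePresentation
import Mathlib.RingTheory.Etale.Basic

/-!
# The even Clifford algebra of a regular form of even rank over its centre
-/

set_option autoImplicit false
universe u v w

open CliffordAlgebra TensorProduct

noncomputable section

namespace Groth.Agent.Et18.EvenAz

open CliffStr (NearArf Fills pol exists_near even_central_mem_range algebraMap_inj eq_top_of_mulLeft_contract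
  ι_mul_sub_involute_mul commute_even pair_commute_of_rel cliffBasis)

/-- Finite projective faithful algebras with enough sandwiches are Azumaya. -/
theorem isAzumaya_of_surjective {S : Type u} [CommRing S] (B : Type w) [Ring B] [Algebra S B] [Module.Finite S B]
    [Module.Projective S B] [FaithfulSMul S B] (h : Function.Surjective (AlgHom.mulLeftRight S B)) :
    IsAzumaya S B := by
  obtain ⟨_, _⟩ := CSA.finite_projective_linearMap (R := S) B B
  haveI : Module.Finite S (Module.End S B) := ‹_›
  haveI : Module.Projective S (Module.End S B) := ‹_›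
  haveI : Module.Finite S Bᵐᵒᵖ := Module.Finite.equiv (MulOpposite.opLinearEquiv S : B ≃ₗ[S] Bᵐᵒᵖ)
  haveI : Module.Projective S Bᵐᵒᵖ := Module.Projective.of_equiv (MulOpposite.opLinearEquiv S : B ≃ₗ[S] Bᵐᵒᵖ)
  refine { bij := ?_ }
  refine Module.bijective_of_surjective_of_rankAtStalk_eq (φ := (AlgHom.mulLeftRight S B).toLinearMap) h fun m _ => ?_
  rw [Module.rankAtStalk_tensorProduct, Pi.mul_apply, CSA.rankAtStalk_end,
    ← congrFun (Module.rankAtStalk_eq_of_equiv (MulOpposite.opLinearEquiv S : B ≃ₗ[S] Bᵐᵒᵖ))]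

/-- A map with kernel and cokernel killed by an element of `S` becomes bijective at `S`. -/
theorem localizedMap_bijective {R : Type u} [CommRing R] (S : Submonoid R) {M : Type v} {N : Type w}
    [AddCommGroup M] [Module R M] [AddCommGroup N] [Module R N] (θ : M →ₗ[R] N) {r : R} (hr : r ∈ S)
    (hk : ∀ x, θ x = 0 → r • x = 0) (hs : ∀ y, ∃ x, θ x = r • y) :
    Function.Bijective (IsLocalizedModule.map S (LocalizedModule.mkLinearMap S M)
      (LocalizedModule.mkLinearMap S N) θ) := by
  let f := LocalizedModule.mkLinearMap S M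
  let g := LocalizedModule.mkLinearMap S N
  refine ⟨(injective_iff_map_eq_zero _).2 fun x hx => ?_, fun y => ?_⟩
  · obtain ⟨⟨a, s⟩, ha⟩ := IsLocalizedModule.surj S f x
    have h1 : g (θ a) = 0 := by
      have h2 := congrArg (IsLocalizedModule.map S f g θ) ha
      rw [IsLocalizedModule.map_apply, Submonoid.smul_def, LinearMap.map_smul_of_tower, hx, smul_zero] at h2
      exact h2.symm
    obtain ⟨c, hc⟩ := (IsLocalizedModule.eq_zero_iff S g).1 h1
    rw [Submonoid.smul_def, ← map_smul] at hc
    have h3 : f (r • ((c : R) • a)) = 0 := by rw [hk _ hc, map_zero]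
    rw [map_smul, map_smul, ← ha, Submonoid.smul_def, smul_smul, smul_smul] at h3
    exact (IsLocalizedModule.smul_inj f (⟨r * c * s, S.mul_mem (S.mul_mem hr c.2) s.2⟩ : S) x 0).1
      (h3.trans (smul_zero _).symm)
  · obtain ⟨⟨b, s⟩, hb⟩ := IsLocalizedModule.surj S g y
    obtain ⟨x, hx⟩ := hs b
    refine ⟨IsLocalizedModule.mk' f x (⟨r, hr⟩ * s), ?_⟩
    rw [IsLocalizedModule.map_mk', IsLocalizedModule.mk'_eq_iff, hx, map_smul, ← hb, Submonoid.smul_def,
      Submonoid.smul_def, smul_smul]
    rfl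

/-- An algebra which is locally quadratic with invertible discriminant is formally unramified. -/
theorem formallyUnramified_of_quadratic {R : Type u} [CommRing R] {S : Type v} [CommRing S] [Algebra R S]
    (s : Set R) (hs : Ideal.span s = ⊤)
    (h : ∀ r ∈ s, ∃ (t e : R) (Y : S), Y * Y - t • Y = algebraMap R S e ∧
      (algebraMap R S t - 2 * Y) * (algebraMap R S t - 2 * Y) = algebraMap R S r ∧
      ∀ x : S, ∃ a c : R, r • x = a • (1 : S) + c • Y) :
    Algebra.FormallyUnramified R S := by
  suffices h : ∀ x : S, KaehlerDifferential.D R S x = 0 by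
    refine ⟨subsingleton_of_forall_eq 0 fun d => ?_⟩
    have hd : d ∈ Submodule.span S (Set.range (KaehlerDifferential.D R S)) := by
      rw [KaehlerDifferential.span_range_derivation]; trivial
    rwa [show Set.range (KaehlerDifferential.D R S) = {0} from
      Set.eq_singleton_iff_unique_mem.2 ⟨⟨0, map_zero _⟩, by rintro _ ⟨x, rfl⟩; exact h x⟩,
      Submodule.span_zero_singleton, Submodule.mem_bot] at hd
  intro x
  let J : Ideal R := LinearMap.ker (LinearMap.toSpanSingleton R _ (KaehlerDifferential.D R S x))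
  have hJ : (1 : R) ∈ J := by
    refine (Ideal.eq_top_iff_one _).1 (eq_top_iff.2 ?_)
    refine ((Ideal.span_pow_eq_top _ hs 2).ge.trans (Ideal.span_le.2 ?_))
    rintro _ ⟨r, hr, rfl⟩
    obtain ⟨t, e, Y, hY, hw, hx⟩ := h r hr
    have h1 := congrArg (KaehlerDifferential.D R S) hY
    rw [map_sub, Derivation.leibniz, Derivation.map_smul, Derivation.map_algebraMap,
      ← IsScalarTower.algebraMap_smul S t] at h1
    have h2 : (algebraMap R S t - 2 * Y) • KaehlerDifferential.D R S Y = 0 := by
      rw [← neg_eq_zero, ← h1, ← neg_smul, ← add_smul, ← sub_smul]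
      congr 1
      ring
    have hDY : r • KaehlerDifferential.D R S Y = 0 := by
      rw [← IsScalarTower.algebraMap_smul S r, ← hw, mul_smul, h2, smul_zero]
    obtain ⟨a, c, hac⟩ := hx x
    simp only [SetLike.mem_coe, J, LinearMap.mem_ker, LinearMap.toSpanSingleton_apply]
    rw [sq, mul_smul, ← Derivation.map_smul, hac, map_add, Derivation.map_smul, Derivation.map_smul,
      Derivation.map_one_eq_zero, smul_zero, zero_add, smul_comm, hDY, smul_zero]
  simpa [J] using hJ

variable {R : Type u} [CommRing R] [Nontrivial R] {M : Type v} [AddCommGroup M] [Module R M] [Module.Free R M] [Module.Finite R M]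
  {Q : QuadraticForm R M}

section rel

variable {t r : R} {y : CliffordAlgebra Q} (hy : NearArf Q t r y)

include hy

theorem swap (v : M) :
    ι Q v * (algebraMap R _ t - 2 * y) = -((algebraMap R _ t - 2 * y) * ι Q v) := by
  rw [mul_sub, sub_mul, two_mul, mul_add, add_mul, hy.rel, ← Algebra.commutes, sub_mul]
  abel

theorem conj_involute (a : CliffordAlgebra Q) :
    (algebraMap R _ t - 2 * y) * a = involute a * (algebraMap R _ t - 2 * y) := by
  induction a using CliffordAlgebra.induction with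
  | algebraMap c => rw [AlgHom.commutes, ← Algebra.commutes c]
  | ι x => rw [involute_ι, neg_mul, swap hy, neg_neg]
  | mul a c ha hc => rw [map_mul, ← mul_assoc, ha, mul_assoc, hc, ← mul_assoc]
  | add a c ha hc => rw [map_add, mul_add, ha, hc, add_mul]

theorem sq_sub_mem (b : Module.Basis (Fin (Module.finrank R M)) R M) (hQ : QuadGrp.IsRegular Q) :
    ∃ e : R, y * y - algebraMap R _ t * y = algebraMap R _ e := by
  refine even_central_mem_range b hQ (sub_mem (by simpa using SetLike.mul_mem_graded hy.even hy.even)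
    (by rw [← Algebra.smul_def]; exact Submodule.smul_mem _ _ hy.even)) fun x => ?_
  rw [mul_sub, sub_mul, ← mul_assoc, hy.rel, mul_assoc, hy.rel, ← mul_assoc, ← mul_assoc (ι Q x),
    ← Algebra.commutes t (ι Q x), mul_assoc (algebraMap R _ t) (ι Q x), hy.rel, ← mul_assoc]
  rw [← sub_mul, ← sub_mul]
  congr 1
  noncomm_ring [Algebra.commutes t y]

end rel

variable {m : ℕ} (hM : Module.finrank R M = 2 * m) (hQ : QuadGrp.IsRegular Q)

/-- The ideal spanned by the near Arf elements' squares. -/
def nearSet (Q : QuadraticForm R M) : Set R := {r | ∃ t y, NearArf Q t r y}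

include hM hQ in
theorem span_nearSet : Ideal.span (nearSet Q) = ⊤ := by
  by_contra h
  obtain ⟨p, hp, hle⟩ := Ideal.exists_le_maximal _ h
  obtain ⟨t, r, y, -, hr, hy⟩ := exists_near hM hQ p
  exact hr (hle (Ideal.subset_span ⟨t, y, hy⟩))

include hM hQ in
theorem fills : Fills R (CliffordAlgebra Q) := by
  let S := (AlgHom.mulLeftRight R (CliffordAlgebra Q)).range
  let b := Module.finBasis R M
  let J : Ideal R := (Subalgebra.toSubmodule S).comap
    (LinearMap.toSpanSingleton R (Module.End R (CliffordAlgebra Q)) (involute (Q := Q)).toLinearMap)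
  have hJ : (1 : R) ∈ J := by
    refine (?_ : Ideal.span (nearSet Q) ≤ J) (span_nearSet hM hQ ▸ Submodule.mem_top)
    rw [Ideal.span_le]
    rintro r ⟨t, y, hy⟩
    refine ⟨(algebraMap R (CliffordAlgebra Q) t - 2 * y) ⊗ₜ MulOpposite.op (algebraMap R _ t - 2 * y),
      LinearMap.ext fun a => ?_⟩
    show AlgHom.mulLeftRight R (CliffordAlgebra Q) _ a = _
    rw [AlgHom.mulLeftRight_apply, MulOpposite.unop_op, conj_involute hy, mul_assoc, hy.sq, ← Algebra.commutes,
      ← Algebra.smul_def]
    rfl
  have hinv : (involute (Q := Q)).toLinearMap ∈ S := by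
    simpa [J] using hJ
  have htop := eq_top_of_mulLeft_contract (S := S) (b := b)
    (fun a => ⟨a ⊗ₜ 1, LinearMap.ext fun x => by simp⟩) fun i => by
      obtain ⟨v, hv⟩ := hQ.2 (b.coord i)
      have e : contractLeft (Q := Q) (b.coord i) = LinearMap.mulLeft R (ι Q v) -
          LinearMap.mulRight R (ι Q v) * (involute (Q := Q)).toLinearMap := LinearMap.ext fun x => by
        rw [← hv, show QuadraticMap.polarBilin Q v = pol Q v from rfl, ← ι_mul_sub_involute_mul]
        rfl
      rw [e]
      exact sub_mem ⟨ι Q v ⊗ₜ 1, LinearMap.ext fun x => by simp⟩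
        (mul_mem ⟨1 ⊗ₜ MulOpposite.op (ι Q v), LinearMap.ext fun x => by simp⟩ hinv)
  intro f
  exact (htop ▸ Algebra.mem_top : f ∈ S)

/-- The even subalgebra. -/
abbrev C0 (Q : QuadraticForm R M) : Subalgebra R (CliffordAlgebra Q) := CliffordAlgebra.even Q

/-- Its centre. -/
abbrev Z (Q : QuadraticForm R M) : Subalgebra R (C0 Q) := Subalgebra.center R (C0 Q)

omit [Module.Free R M] [Module.Finite R M] in
theorem even_of_mem {a : CliffordAlgebra Q} (h : a ∈ C0 Q) : a ∈ evenOdd Q 0 := by
  rwa [← Subalgebra.mem_toSubmodule, CliffordAlgebra.even_toSubmodule] at h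

omit [Module.Free R M] [Module.Finite R M] in
theorem mem_of_even {a : CliffordAlgebra Q} (h : a ∈ evenOdd Q 0) : a ∈ C0 Q := by
  rwa [← Subalgebra.mem_toSubmodule, CliffordAlgebra.even_toSubmodule]

/-- The central element of a near Arf element. -/
def cen {t r : R} {y : CliffordAlgebra Q} (hy : NearArf Q t r y) : Z Q :=
  ⟨⟨y, mem_of_even hy.even⟩, Subalgebra.mem_center_iff.2 fun a =>
    Subtype.ext (commute_even (pair_commute_of_rel hy.rel) (even_of_mem a.2))⟩

omit [Module.Free R M] [Module.Finite R M] in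
theorem commutes_pairs (x : Z Q) (v w : M) :
    ι Q v * ι Q w * ((x : C0 Q) : CliffordAlgebra Q) = ((x : C0 Q) : CliffordAlgebra Q) * (ι Q v * ι Q w) :=
  congrArg Subtype.val (Subalgebra.mem_center_iff.1 x.2 ⟨ι Q v * ι Q w, mem_of_even (ι_mul_ι_mem_evenOdd_zero Q v w)⟩)

include hM hQ in
/-- After multiplication by `r` the centre is spanned by `1` and the near Arf element. -/
theorem exists_coeffs (hm : 1 ≤ m) {t r : R} {y : CliffordAlgebra Q} (hy : NearArf Q t r y) (x : Z Q) :
    ∃ a c : R, r • x = a • (1 : Z Q) + c • cen hy := by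
  let b := Module.finBasis R M
  have hne : 0 < Module.finrank R M := by omega
  set x₀ : CliffordAlgebra Q := ((x : C0 Q) : CliffordAlgebra Q)
  have h0 : x₀ ∈ evenOdd Q 0 := even_of_mem (x : C0 Q).2
  set W := algebraMap R (CliffordAlgebra Q) t - 2 * y
  let δ : M → CliffordAlgebra Q := fun v => ι Q v * x₀ - x₀ * ι Q v
  have hδ : ∀ v v' : M, δ v * ι Q v' + ι Q v * δ v' = 0 := fun v v' => by
    simp only [δ, sub_mul, mul_sub, ← mul_assoc]
    rw [mul_assoc x₀ (ι Q v), show x₀ * (ι Q v * ι Q v') = ι Q v * ι Q v' * x₀ from (commutes_pairs x v v').symm]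
    abel
  let ε : M → CliffordAlgebra Q := fun v => W * δ v
  have hε : ∀ v v' : M, ε v * ι Q v' = ι Q v * ε v' := fun v v' => by
    simp only [ε]
    rw [mul_assoc, eq_neg_of_add_eq_zero_left (hδ v v'), ← mul_assoc (ι Q v), swap hy, mul_neg, neg_mul, mul_assoc]
  obtain ⟨u, hu⟩ := hQ.2 (b.coord ⟨0, hne⟩)
  let v₀ := b ⟨0, hne⟩
  have huv : ι Q u * ι Q v₀ + ι Q v₀ * ι Q u = 1 := by
    rw [ι_mul_ι_add_swap, show QuadraticMap.polar Q u v₀ = 1 from (LinearMap.congr_fun hu v₀).trans (by simp [v₀]),
      map_one]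
  let β := ε u * ι Q v₀ + ε v₀ * ι Q u
  have hεβ : ∀ v, ε v = ι Q v * β := fun v => by
    show ε v = ι Q v * (ε u * ι Q v₀ + ε v₀ * ι Q u)
    rw [mul_add, ← mul_assoc (ι Q v) (ε u), ← mul_assoc (ι Q v) (ε v₀), ← hε v u, ← hε v v₀, mul_assoc (ε v),
      mul_assoc (ε v), ← mul_add, huv, mul_one]
  have hβ : ∀ x', ι Q x' * β = β * ι Q x' := fun x' => by
    have e1 : ∀ v : M, ι Q v * (β * ι Q x' - ι Q x' * β) = 0 := fun v => by
      rw [mul_sub, ← mul_assoc, ← hεβ, hε, hεβ, sub_self]
    have e2 : (ι Q u * ι Q v₀ + ι Q v₀ * ι Q u) * (β * ι Q x' - ι Q x' * β) = 0 := by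
      rw [add_mul, mul_assoc, mul_assoc, e1, e1, mul_zero, mul_zero, add_zero]
    rw [huv, one_mul, sub_eq_zero] at e2
    exact e2.symm
  have hW0 : W ∈ evenOdd Q 0 := by
    simp only [W, two_mul]
    exact sub_mem (CliffStr.algebraMap_mem_even t) (add_mem hy.even hy.even)
  have hε1 : ∀ v, ε v ∈ evenOdd Q 1 := fun v => by
    simpa [ε, δ] using SetLike.mul_mem_graded hW0 (sub_mem (CliffStr.ι_mul_mem_odd v h0) (CliffStr.mul_ι_mem_odd v h0))
  have hβ0 : β ∈ evenOdd Q 0 :=
    add_mem (by simpa [show (1 : ZMod 2) + 1 = 0 from rfl] using SetLike.mul_mem_graded (hε1 u) (ι_mem_evenOdd_one Q v₀))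
      (by simpa [show (1 : ZMod 2) + 1 = 0 from rfl] using SetLike.mul_mem_graded (hε1 v₀) (ι_mem_evenOdd_one Q u))
  obtain ⟨c, hc⟩ := even_central_mem_range b hQ hβ0 hβ
  have hδc : ∀ v, r • δ v = c • (W * ι Q v) := fun v => by
    have h1 : W * δ v = c • ι Q v := by
      rw [show W * δ v = ι Q v * β from hεβ v, hc, ← Algebra.commutes, ← Algebra.smul_def]
    rw [Algebra.smul_def, ← hy.sq, mul_assoc, h1, mul_smul_comm]
  obtain ⟨a, ha⟩ := even_central_mem_range b hQ
    (sub_mem (Submodule.smul_mem _ r h0) (Submodule.smul_mem _ c hy.even)) fun v => by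
    rw [← sub_eq_zero, mul_sub, sub_mul, mul_smul_comm, mul_smul_comm, smul_mul_assoc, smul_mul_assoc,
      sub_sub_sub_comm, ← smul_sub, ← smul_sub, show ι Q v * x₀ - x₀ * ι Q v = δ v from rfl, hδc, hy.rel, sub_eq_zero]
    refine congrArg (c • ·) ?_
    simp only [W, sub_mul, two_mul, add_mul]
    abel
  refine ⟨a, c, Subtype.ext (Subtype.ext ?_)⟩
  show r • x₀ = a • (1 : CliffordAlgebra Q) + c • y
  rw [← Algebra.algebraMap_eq_smul_one, ← ha, sub_add_cancel]

include hM hQ in
theorem coeffs_killed (hm : 1 ≤ m) {t r : R} {y : CliffordAlgebra Q} (hy : NearArf Q t r y) {a c : R}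
    (he : a • (1 : Z Q) + c • cen hy = 0) : r * a = 0 ∧ r * c = 0 := by
  let b := Module.finBasis R M
  obtain ⟨u, hu⟩ := hQ.2 (b.coord ⟨0, by omega⟩)
  let v := b ⟨0, by omega⟩
  have h0 : algebraMap R (CliffordAlgebra Q) a + c • y = 0 := by
    rw [Algebra.algebraMap_eq_smul_one]
    exact congrArg (fun z : Z Q => ((z : C0 Q) : CliffordAlgebra Q)) he
  have e1 : ∀ x, (r * c) • ι Q x = 0 := fun x => by
    have h1 := congrArg (fun s => (algebraMap R _ t - 2 * y) * (ι Q x * s - s * ι Q x)) h0
    simp only [mul_add, add_mul, mul_zero, zero_mul, sub_zero, mul_smul_comm, smul_mul_assoc, hy.rel,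
      ← Algebra.commutes a (ι Q x)] at h1
    rw [add_sub_add_left_eq_sub, ← smul_sub, ← sub_mul, sub_sub, ← two_mul, mul_smul_comm, ← mul_assoc,
      hy.sq, ← Algebra.smul_def, smul_smul, mul_comm] at h1
    exact h1
  have hc : r * c = 0 := by
    refine algebraMap_inj (Q := Q) ?_
    rw [Algebra.algebraMap_eq_smul_one, ← map_one (algebraMap R (CliffordAlgebra Q)),
      ← show QuadraticMap.polar Q u v = 1 from (LinearMap.congr_fun hu v).trans (by simp [v]), ← ι_mul_ι_add_swap,
      smul_add, ← smul_mul_assoc, ← smul_mul_assoc, e1, e1, zero_mul, zero_mul, add_zero]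
  refine ⟨algebraMap_inj (Q := Q) ?_, hc⟩
  have h2 := congrArg (r • ·) h0
  simp only [smul_add, smul_zero, smul_smul, hc, zero_smul, add_zero] at h2
  rwa [map_mul, ← Algebra.smul_def]

section centre

variable (hm : 1 ≤ m)
include hM hQ hm

theorem finite_centre : Module.Finite R (Z Q) := by
  obtain ⟨s, hs, h1⟩ := Submodule.mem_span_finite_of_mem_span
    ((span_nearSet hM hQ).symm ▸ Submodule.mem_top : (1 : R) ∈ Ideal.span (nearSet Q))
  choose t y hy using fun i : (s : Set R) => hs i.2
  refine ⟨?_⟩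
  classical
  let T : Finset (Z Q) := insert 1 (s.attach.image fun i => cen (hy i))
  refine ⟨T, eq_top_iff.2 fun x _ => ?_⟩
  let J : Ideal R := (Submodule.span R (T : Set (Z Q))).comap (LinearMap.toSpanSingleton R (Z Q) x)
  have hJ : (1 : R) ∈ J := by
    refine Submodule.span_le.2 (fun i hi => ?_) h1
    obtain ⟨a, c, hac⟩ := exists_coeffs hM hQ hm (hy ⟨i, hi⟩) x
    show i • x ∈ Submodule.span R (T : Set (Z Q))
    rw [hac]
    exact add_mem (Submodule.smul_mem _ _ (Submodule.subset_span (by simp [T])))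
      (Submodule.smul_mem _ _ (Submodule.subset_span (by
        simp only [T, Finset.coe_insert, Finset.coe_image, Set.mem_insert_iff]
        exact Or.inr ⟨⟨i, hi⟩, Finset.mem_attach _ _, rfl⟩)))
  simpa [J] using hJ

omit hM hQ hm in
/-- The frame at a near Arf element. -/
def frame {t r : R} {y : CliffordAlgebra Q} (hy : NearArf Q t r y) : (Fin 2 → R) →ₗ[R] Z Q :=
  Fintype.linearCombination R ![1, cen hy]

theorem frame_kills {t r : R} {y : CliffordAlgebra Q} (hy : NearArf Q t r y) :
    (∀ v, frame hy v = 0 → r • v = 0) ∧ ∀ x, ∃ v, frame hy v = r • x := by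
  refine ⟨fun v hv => ?_, fun x => ?_⟩
  · obtain ⟨h0, h1⟩ := coeffs_killed hM hQ hm hy (a := v 0) (c := v 1) (by
      simpa [frame, Fintype.linearCombination_apply, Fin.sum_univ_two] using hv)
    ext i
    fin_cases i <;> simpa
  · obtain ⟨a, c, hac⟩ := exists_coeffs hM hQ hm hy x
    exact ⟨![a, c], by rw [hac]; simp [frame, Fintype.linearCombination_apply, Fin.sum_univ_two]⟩

theorem finitePresentation_centre : Module.FinitePresentation R (Z Q) := by
  refine Module.FinitePresentation.of_localizationSpan (nearSet Q) (span_nearSet hM hQ) fun ⟨r, t, y, hy⟩ => ?_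
  obtain ⟨h1, h2⟩ := frame_kills hM hQ hm hy
  let e := LinearEquiv.ofBijective (IsLocalizedModule.mapExtendScalars (Submonoid.powers r)
    (LocalizedModule.mkLinearMap _ (Fin 2 → R)) (LocalizedModule.mkLinearMap _ (Z Q)) (Localization.Away r)
    (frame hy)) (localizedMap_bijective _ _ (Submonoid.mem_powers r) h1 h2)
  exact Module.FinitePresentation.of_equiv e

theorem free_rank_localized (p : Ideal R) [p.IsPrime] :
    Module.Free (Localization.AtPrime p) (LocalizedModule.AtPrime p (Z Q)) ∧
      Module.finrank (Localization.AtPrime p) (LocalizedModule.AtPrime p (Z Q)) = 2 := by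
  haveI : Nontrivial R := ⟨⟨0, 1, fun h => ‹p.IsPrime›.ne_top ((Ideal.eq_top_iff_one p).2 (h ▸ p.zero_mem))⟩⟩
  obtain ⟨t, r, y, -, hr, hy⟩ := exists_near hM hQ p
  obtain ⟨h1, h2⟩ := frame_kills hM hQ hm hy
  let e := LinearEquiv.ofBijective (IsLocalizedModule.mapExtendScalars p.primeCompl
    (LocalizedModule.mkLinearMap _ (Fin 2 → R)) (LocalizedModule.mkLinearMap _ (Z Q)) (Localization.AtPrime p)
    (frame hy)) (localizedMap_bijective _ _ hr h1 h2)
  haveI := Module.free_of_isLocalizedModule (Rₛ := Localization.AtPrime p) p.primeCompl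
    (LocalizedModule.mkLinearMap p.primeCompl (Fin 2 → R))
  refine ⟨Module.Free.of_equiv e, ?_⟩
  rw [← e.finrank_eq, Module.finrank_of_isLocalizedModule_of_free (Localization.AtPrime p) p.primeCompl
    (LocalizedModule.mkLinearMap p.primeCompl (Fin 2 → R)), Module.finrank_fin_fun]

theorem rankAtStalk_centre (p : PrimeSpectrum R) : Module.rankAtStalk (R := R) (Z Q) p = 2 :=
  (free_rank_localized hM hQ hm p.asIdeal).2

theorem projective_centre : Module.Projective R (Z Q) := by
  haveI := finitePresentation_centre hM hQ hm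
  exact Module.projective_of_localization_maximal fun I _ => by
    haveI := (free_rank_localized hM hQ hm I).1
    infer_instance

theorem formallyUnramified_centre : Algebra.FormallyUnramified R (Z Q) := by
  let b := Module.finBasis R M
  refine formallyUnramified_of_quadratic (nearSet Q) (span_nearSet hM hQ) fun r ⟨t, y, hy⟩ => ?_
  obtain ⟨e, he⟩ := sq_sub_mem hy b hQ
  refine ⟨t, e, cen hy, ?_, ?_, fun x => exists_coeffs hM hQ hm hy x⟩
  · refine Subtype.ext (Subtype.ext ?_)
    show y * y - t • y = algebraMap R (CliffordAlgebra Q) e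
    rw [Algebra.smul_def, he]
  · exact Subtype.ext (Subtype.ext hy.sq)

theorem etale_centre : Algebra.Etale R (Z Q) := by
  haveI := finitePresentation_centre hM hQ hm
  haveI := projective_centre hM hQ hm
  haveI := formallyUnramified_centre hM hQ hm
  haveI : Algebra.FinitePresentation R (Z Q) := inferInstance
  haveI : Module.Flat R (Z Q) := Module.Flat.of_projective
  exact Algebra.Etale.of_formallyUnramified_of_flat

end centre

section azumaya

/-- The projection on the even part. -/
def p0 (Q : QuadraticForm R M) : CliffordAlgebra Q →ₗ[R] C0 Q :=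
  (Submodule.projectionOnto _ _ (CliffordAlgebra.evenOdd_isCompl (Q := Q)) :
    CliffordAlgebra Q →ₗ[R] evenOdd Q 0)

/-- The odd component. -/
def p1 (Q : QuadraticForm R M) : CliffordAlgebra Q →ₗ[R] CliffordAlgebra Q :=
  LinearMap.id - (C0 Q).val.toLinearMap ∘ₗ p0 Q

theorem p0_even {a : CliffordAlgebra Q} (h : a ∈ evenOdd Q 0) : ((p0 Q a : C0 Q) : CliffordAlgebra Q) = a :=
  congrArg Subtype.val (Submodule.projectionOnto_apply_left (CliffordAlgebra.evenOdd_isCompl (Q := Q)) ⟨a, h⟩)

theorem p0_odd {a : CliffordAlgebra Q} (h : a ∈ evenOdd Q 1) : p0 Q a = 0 :=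
  Submodule.projectionOnto_apply_right (CliffordAlgebra.evenOdd_isCompl (Q := Q)) ⟨a, h⟩

theorem p1_odd (a : CliffordAlgebra Q) : p1 Q a ∈ evenOdd Q 1 := by
  obtain ⟨a0, h0, a1, h1, rfl⟩ := CliffStr.exists_even_odd a
  show a0 + a1 - ((p0 Q (a0 + a1) : C0 Q) : CliffordAlgebra Q) ∈ _
  rw [map_add, p0_odd h1, add_zero, p0_even h0, add_sub_cancel_left]
  exact h1

theorem finite_projective_C0 : Module.Finite R (C0 Q) ∧ Module.Projective R (C0 Q) := by
  haveI := Module.Finite.of_basis (cliffBasis (Q := Q) (Module.finBasis R M))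
  haveI := Module.Free.of_basis (cliffBasis (Q := Q) (Module.finBasis R M))
  have h : ∀ a : C0 Q, p0 Q (a : CliffordAlgebra Q) = a := fun a => Subtype.ext (p0_even (even_of_mem a.2))
  exact ⟨Module.Finite.of_surjective (p0 Q) fun a => ⟨a, h a⟩,
    Module.Projective.of_split (C0 Q).val.toLinearMap (p0 Q) (LinearMap.ext h)⟩

/-- The even subalgebra as an algebra over its centre. -/
@[reducible] def centreAlgebra : Algebra (Z Q) (C0 Q) :=
  (Z Q).val.toRingHom.toAlgebra' (fun c x => (Subalgebra.mem_center_iff.mp c.2 x).symm)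

attribute [local instance 10000] centreAlgebra

/-- The module structure underlying `centreAlgebra`. -/
@[reducible] def centreModule : Module (Z Q) (C0 Q) := (centreAlgebra (Q := Q)).toModule

attribute [local instance 10000] centreModule

/-- The module structure on the opposite algebra. -/
@[reducible] def centreModuleOp : Module (Z Q) (C0 Q)ᵐᵒᵖ :=
  @MulOpposite.instModule (Z Q) (C0 Q) _ _ (centreModule (Q := Q))

attribute [local instance 10000] centreModuleOp

/-- The scalar action underlying `centreAlgebra`. -/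
@[reducible] def centreSMul : SMul (Z Q) (C0 Q) := (centreAlgebra (Q := Q)).toSMul

attribute [local instance 10000] centreSMul

theorem hsmul (c : Z Q) (x : C0 Q) : c • x = (c : C0 Q) * x := rfl

include hM hQ in
theorem surjective_mulLeftRight : Function.Surjective (AlgHom.mulLeftRight (Z Q) (C0 Q)) := by
  intro f
  have hc : ∀ (c : R) (x : C0 Q), f (c • x) = c • f x := fun c x => by
    have e : ∀ z : C0 Q, c • z = (algebraMap R (Z Q) c) • z := fun z => by rw [hsmul, Algebra.smul_def]; rfl
    rw [e, e, map_smul]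
  let f' : C0 Q →ₗ[R] C0 Q := { toFun := f, map_add' := map_add f, map_smul' := hc }
  let F : Module.End R (CliffordAlgebra Q) := (C0 Q).val.toLinearMap ∘ₗ f' ∘ₗ p0 Q
  obtain ⟨T, hT⟩ := fills hM hQ F
  let L := AlgHom.mulLeftRight R (CliffordAlgebra Q)
  have key : ∀ T : CliffordAlgebra Q ⊗[R] (CliffordAlgebra Q)ᵐᵒᵖ,
      ∃ (U : C0 Q ⊗[Z Q] (C0 Q)ᵐᵒᵖ) (G : CliffordAlgebra Q →ₗ[R] CliffordAlgebra Q),
        (∀ x : C0 Q, ((p0 Q (L T x) : C0 Q) : CliffordAlgebra Q) =
          ((AlgHom.mulLeftRight (Z Q) (C0 Q) U x : C0 Q) : CliffordAlgebra Q) + G x) ∧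
        ∀ {t r : R} {y : CliffordAlgebra Q}, NearArf Q t r y → ∀ x, G (y * x) = (algebraMap R _ t - y) * G x := by
    intro T
    induction T using TensorProduct.induction_on with
    | zero => exact ⟨0, 0, fun x => by simp, fun _ x => by simp⟩
    | add T T' hT hT' =>
      obtain ⟨U, G, h1, h2⟩ := hT
      obtain ⟨U', G', h1', h2'⟩ := hT'
      refine ⟨U + U', G + G', fun x => ?_, fun hy x => by simp [h2 hy, h2' hy, mul_add]⟩
      simp only [map_add, LinearMap.add_apply, Subalgebra.coe_add, h1, h1']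
      abel
    | tmul a b' =>
      obtain ⟨b, rfl⟩ := MulOpposite.op_surjective b'
      refine ⟨p0 Q a ⊗ₜ MulOpposite.op (p0 Q b), LinearMap.mulLeft R (p1 Q a) * LinearMap.mulRight R (p1 Q b),
        fun x => ?_, fun {t r y} hy x => ?_⟩
      · have hx := even_of_mem x.2
        have ha0 := even_of_mem (p0 Q a).2
        have hb0 := even_of_mem (p0 Q b).2
        have e : L (a ⊗ₜ MulOpposite.op b) (x : CliffordAlgebra Q) =
            (((p0 Q a : C0 Q) : CliffordAlgebra Q) * x * (p0 Q b : C0 Q) + p1 Q a * (x * p1 Q b)) +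
              (((p0 Q a : C0 Q) : CliffordAlgebra Q) * x * p1 Q b + p1 Q a * x * (p0 Q b : C0 Q)) := by
          rw [AlgHom.mulLeftRight_apply, MulOpposite.unop_op]
          simp only [p1, LinearMap.sub_apply, LinearMap.id_apply, LinearMap.comp_apply, AlgHom.toLinearMap_apply,
            Subalgebra.coe_val]
          noncomm_ring
        have h2 : (1 : ZMod 2) + 1 = 0 := rfl
        have o1 : ((p0 Q a : C0 Q) : CliffordAlgebra Q) * x * p1 Q b + p1 Q a * x * (p0 Q b : C0 Q) ∈ evenOdd Q 1 :=
          add_mem (by simpa using SetLike.mul_mem_graded (SetLike.mul_mem_graded ha0 hx) (p1_odd b))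
            (by simpa using SetLike.mul_mem_graded (SetLike.mul_mem_graded (p1_odd a) hx) hb0)
        have o0 : ((p0 Q a : C0 Q) : CliffordAlgebra Q) * x * (p0 Q b : C0 Q) + p1 Q a * (x * p1 Q b) ∈ evenOdd Q 0 :=
          add_mem (by simpa using SetLike.mul_mem_graded (SetLike.mul_mem_graded ha0 hx) hb0)
            (by simpa [h2] using SetLike.mul_mem_graded (p1_odd a) (SetLike.mul_mem_graded hx (p1_odd b)))
        rw [e, map_add, p0_odd o1, add_zero, p0_even o0, AlgHom.mulLeftRight_apply, MulOpposite.unop_op]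
        simp
      · simp only [Module.End.mul_apply, LinearMap.mulLeft_apply, LinearMap.mulRight_apply]
        rw [mul_assoc y, ← mul_assoc (p1 Q a), CliffStr.odd_mul_rel hy.rel (p1_odd a), mul_assoc]
  obtain ⟨U, G, h1, h2⟩ := key T
  refine ⟨U, LinearMap.ext fun x => Subtype.ext ?_⟩
  let d : C0 Q →ₗ[Z Q] C0 Q := f - AlgHom.mulLeftRight (Z Q) (C0 Q) U
  have hd : ∀ x : C0 Q, ((d x : C0 Q) : CliffordAlgebra Q) = G x := fun x => by
    have h3 := h1 x
    rw [show L T = F from hT] at h3
    have h4 : ((p0 Q (F x) : C0 Q) : CliffordAlgebra Q) = (f x : C0 Q) := by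
      rw [show F (x : CliffordAlgebra Q) = ((f' (p0 Q (x : CliffordAlgebra Q)) : C0 Q) : CliffordAlgebra Q) from rfl,
        p0_even (even_of_mem (f' (p0 Q (x : CliffordAlgebra Q))).2)]
      exact congrArg (fun z => ((f z : C0 Q) : CliffordAlgebra Q)) (Subtype.ext (p0_even (even_of_mem x.2)))
    simp only [d, LinearMap.sub_apply, Subalgebra.coe_sub, ← h4, h3]
    abel
  have hzero : G (x : CliffordAlgebra Q) = 0 := by
    let J : Ideal R := LinearMap.ker (LinearMap.toSpanSingleton R _ (G (x : CliffordAlgebra Q)))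
    have hJ : (1 : R) ∈ J := by
      refine (Ideal.span_le.2 ?_ : Ideal.span (nearSet Q) ≤ J) (span_nearSet hM hQ ▸ Submodule.mem_top)
      rintro r ⟨t, y, hy⟩
      have e1 : (algebraMap R _ t - y) * G (x : CliffordAlgebra Q) = y * G (x : CliffordAlgebra Q) := by
        have e2 := congrArg (fun z : C0 Q => (z : CliffordAlgebra Q)) (map_smul d (cen hy) x)
        simp only [hsmul, Subalgebra.coe_mul, hd] at e2
        rwa [show (((cen hy : Z Q) : C0 Q) : CliffordAlgebra Q) = y from rfl, h2 hy] at e2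
      have e3 : (algebraMap R _ t - 2 * y) * G (x : CliffordAlgebra Q) = 0 := by
        rw [two_mul, ← sub_sub, sub_mul, e1, sub_self]
      show r • G (x : CliffordAlgebra Q) = 0
      rw [Algebra.smul_def, ← hy.sq, mul_assoc, e3, mul_zero]
    simpa [J] using hJ
  rw [← hd, ZeroMemClass.coe_eq_zero] at hzero
  exact (congrArg Subtype.val (sub_eq_zero.1 hzero)).symm

include hM hQ in
theorem azumaya_even (hm : 1 ≤ m) : IsAzumaya (Z Q) (C0 Q) := by
  obtain ⟨_, _⟩ := finite_projective_C0 (Q := Q)
  haveI : IsScalarTower R (Z Q) (C0 Q) := ⟨fun c z x => by rw [hsmul, hsmul, Subalgebra.coe_smul, smul_mul_assoc]⟩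
  haveI := etale_centre hM hQ hm
  haveI : Module.Finite (Z Q) (C0 Q) := Module.Finite.of_restrictScalars_finite R _ _
  haveI : Module.Projective (Z Q) (C0 Q) := Algebra.FormallyUnramified.projective_of_restrictScalars R (Z Q) (C0 Q)
  haveI : FaithfulSMul (Z Q) (C0 Q) := ⟨fun {c c'} h => Subtype.ext (by simpa [hsmul] using h 1)⟩
  exact isAzumaya_of_surjective (C0 Q) (surjective_mulLeftRight hM hQ)

end azumaya

end Groth.Agent.Et18.EvenAz
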