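import Mathlib.FieldTheory.IsAlgClosed.AlgebraicClosure
import Mathlib.RingTheory.Smooth.Flat
import Groth.Agent.CliffStr.Split
import Groth.Agent.Sect5.Basic

/-!
# Even forms with invertible polar determinant are split étale locally
-/

set_option autoImplicit false
universe u v

open CliffordAlgebra TensorProduct Matrix AlgebraicGeometry CategoryTheory

noncomputable section

namespace Groth.Agent.Et18.EvenSplit

open QuadLib (cf cf_mk pm pm_cf MatEqs cf_correct qv_eq_zero_iff cf_sub ut cf_ut ut_mem)
open CliffStr (Arf perp arf_bot arf_step exists_pair_of_regular exists_hyperbolic pol_zero pol_apply isRegular_of_det)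

section field

variable {K : Type u} [Field K] [IsAlgClosed K] {M : Type v} [AddCommGroup M] [Module K M] [Module.Free K M]
  [Module.Finite K M] {Q : QuadraticForm K M}

/-- A regular form of rank `2 m` over an algebraically closed field has `m` orthogonal hyperbolic pairs. -/
theorem exists_split_vectors {m : ℕ} (hM : Module.finrank K M = 2 * m) (hQ : QuadGrp.IsRegular Q) :
    ∃ v : Fin m → Fin 2 → M, (∀ i k, Q (v i k) = 0) ∧
      (∀ i, QuadraticMap.polar Q (v i 0) (v i 1) = 1) ∧
      ∀ i k j l, i ≠ j → QuadraticMap.polar Q (v i k) (v j l) = 0 := by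
  have hex : ∀ k : ℕ, k ≤ m → ∃ (P : Submodule K M) (z : CliffordAlgebra Q) (v : Fin k → Fin 2 → M), Arf Q P z ∧
      Module.finrank K (perp Q P) + 2 * k = 2 * m ∧ (∀ i a, v i a ∈ P) ∧ (∀ i a, Q (v i a) = 0) ∧
      (∀ i, QuadraticMap.polar Q (v i 0) (v i 1) = 1) ∧
      (∀ i a j c, i ≠ j → QuadraticMap.polar Q (v i a) (v j c) = 0) := by
    intro k
    induction k with
    | zero =>
      refine fun _ => ⟨⊥, 0, fun i => i.elim0, arf_bot Q, ?_, fun i => i.elim0, fun i => i.elim0, fun i => i.elim0,
        fun i => i.elim0⟩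
      have : perp Q (⊥ : Submodule K M) = ⊤ := eq_top_iff.2 fun w _ p hp => by
        rw [(Submodule.mem_bot K).1 hp, ← pol_apply, pol_zero, LinearMap.zero_apply]
      rw [this, finrank_top, mul_zero, add_zero, hM]
    | succ k ih =>
      intro hk
      obtain ⟨P, z, v, h, hr, hvP, hv0, hv1, hvo⟩ := ih (by omega)
      obtain ⟨e, he, f, hf, hef, hu⟩ := exists_pair_of_regular hQ h (by omega)
      obtain ⟨h', ⟨φ⟩⟩ := arf_step h he hf hef hu
      obtain ⟨e', f', hse, hsf, he0, hf0, hef'⟩ := exists_hyperbolic hef hu
      have hsub : Submodule.span K ({e, f} : Set M) ≤ perp Q P := Submodule.span_le.2 (by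
        rintro x (rfl | rfl)
        exacts [he, hf])
      have hnew : ∀ a : Fin 2, (![e', f'] a) ∈ Submodule.span K ({e, f} : Set M) := fun a => by
        fin_cases a
        exacts [hse, hsf]
      refine ⟨_, _, Fin.snoc v ![e', f'], h', ?_, ?_, ?_, ?_, ?_⟩
      · rw [← φ.finrank_eq, Module.finrank_prod, Module.finrank_prod, Module.finrank_self] at hr
        omega
      · intro i a
        induction i using Fin.lastCases with
        | last => rw [Fin.snoc_last]; exact Submodule.mem_sup_right (hnew a)
        | cast i => rw [Fin.snoc_castSucc]; exact Submodule.mem_sup_left (hvP i a)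
      · intro i a
        induction i using Fin.lastCases with
        | last => rw [Fin.snoc_last]; fin_cases a <;> assumption
        | cast i => rw [Fin.snoc_castSucc]; exact hv0 i a
      · intro i
        induction i using Fin.lastCases with
        | last => rw [Fin.snoc_last]; exact hef'
        | cast i => rw [Fin.snoc_castSucc]; exact hv1 i
      · intro i a j c hij
        induction i using Fin.lastCases with
        | last =>
          induction j using Fin.lastCases with
          | last => exact absurd rfl hij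
          | cast j =>
            rw [Fin.snoc_last, Fin.snoc_castSucc, QuadraticMap.polar_comm]
            exact hsub (hnew a) _ (hvP j c)
        | cast i =>
          induction j using Fin.lastCases with
          | last => rw [Fin.snoc_last, Fin.snoc_castSucc]; exact hsub (hnew c) _ (hvP i a)
          | cast j =>
            rw [Fin.snoc_castSucc, Fin.snoc_castSucc]
            exact hvo i a j c fun e => hij (by rw [e])
  obtain ⟨-, -, v, -, -, -, h0, h1, ho⟩ := hex m le_rfl
  exact ⟨v, h0, h1, ho⟩

end field

section split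

variable (m : ℕ)

/-- The upper triangular matrix of the split form. -/
def splitMat (R : Type u) [CommRing R] : Matrix (Fin (m + m)) (Fin (m + m)) R :=
  Matrix.reindex finSumFinEquiv finSumFinEquiv (Matrix.fromBlocks 0 1 0 0)

theorem splitMat_map {R : Type u} [CommRing R] {A : Type u} [CommRing A] (f : R →+* A) :
    (splitMat m R).map f = splitMat m A := by
  rw [splitMat, splitMat, Matrix.reindex_apply, Matrix.reindex_apply, ← Matrix.submatrix_map, Matrix.fromBlocks_map,
    Matrix.map_zero _ (map_zero f), Matrix.map_one _ (map_zero f) (map_one f)]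

theorem splitMat_symm_sq (R : Type u) [CommRing R] :
    (splitMat m R + (splitMat m R).transpose) * (splitMat m R + (splitMat m R).transpose) = 1 := by
  simp only [splitMat, Matrix.reindex_apply, Matrix.transpose_submatrix, Matrix.fromBlocks_transpose]
  have key : ∀ A B : Matrix (Fin m ⊕ Fin m) (Fin m ⊕ Fin m) R,
      A.submatrix finSumFinEquiv.symm finSumFinEquiv.symm + B.submatrix finSumFinEquiv.symm finSumFinEquiv.symm =
        (A + B).submatrix finSumFinEquiv.symm finSumFinEquiv.symm := fun A B => rfl
  rw [key, Matrix.submatrix_mul_equiv, Matrix.fromBlocks_add, Matrix.fromBlocks_multiply]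
  simp

theorem isUnit_det_split (R : Type u) [CommRing R] :
    IsUnit (splitMat m R + (splitMat m R).transpose).det :=
  Matrix.isUnit_det_of_left_inverse (splitMat_symm_sq m R)

theorem qv_split {R : Type u} [CommRing R] (y : Fin (m + m) → R) :
    y ⬝ᵥ (splitMat m R *ᵥ y) =
      ∑ j : Fin m, y (finSumFinEquiv (Sum.inl j)) * y (finSumFinEquiv (Sum.inr j)) := by
  rw [splitMat, Matrix.reindex_apply, Matrix.submatrix_mulVec_equiv, Equiv.symm_symm, dotProduct,
    ← finSumFinEquiv.sum_comp, Fintype.sum_sum_type]
  simp [Matrix.mulVec, dotProduct, Fintype.sum_sum_type, Matrix.one_apply, -finSumFinEquiv_apply_left,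
    -finSumFinEquiv_apply_right]

end split

section isom

variable {n : ℕ} {R : Type u} [CommRing R] (B S : Matrix (Fin n) (Fin n) R)

/-- Equations of the isometries from `S` to `B`. -/
def isomEqs : MatEqs R n (Sym2 (Fin n)) where
  E A _ _ G s := cf (G.transpose * B.map (algebraMap R A) * G) s - cf (S.map (algebraMap R A)) s
  map A A' _ _ _ _ φ G s := by
    rw [map_sub]
    have e1 := congrFun (QuadLib.map_cf φ.toRingHom (G.transpose * B.map (algebraMap R A) * G)) s
    have e2 := congrFun (QuadLib.map_cf φ.toRingHom (S.map (algebraMap R A))) s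
    simp only [Function.comp_apply, RingHom.coe_coe, AlgHom.toRingHom_eq_coe] at e1 e2
    rw [e1, e2, Matrix.map_mul, Matrix.map_mul, Matrix.transpose_map, Matrix.map_map, Matrix.map_map]
    simp [Function.comp_def]

variable {B S}

theorem isomEqs_smooth (hS : IsUnit (S + S.transpose).det) : Algebra.Smooth R (isomEqs B S).Coord := by
  refine MatEqs.smooth_of_lift _ fun A _ _ I hI G₀ => ?_
  classical
  choose g hg using fun i j => Ideal.Quotient.mk_surjective (G₀.1 i j)
  let G : Matrix (Fin n) (Fin n) A := Matrix.of g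
  have hG : G.map (Ideal.Quotient.mk I) = G₀.1 := by ext i j; exact hg i j
  set BA := B.map (algebraMap R A)
  set SA := S.map (algebraMap R A)
  set K := G.transpose * BA * G
  have hK : ∀ s, cf K s - cf SA s ∈ I := fun s => by
    rw [← Ideal.Quotient.eq_zero_iff_mem]
    have := (isomEqs B S).map A (A ⧸ I) (Ideal.Quotient.mkₐ R I) G s
    rw [show G.map (Ideal.Quotient.mkₐ R I) = G₀.1 from hG, G₀.2.2 s] at this
    exact this
  set P := SA + SA.transpose
  have hP : IsUnit P.det := by
    have : P = (algebraMap R A).mapMatrix (S + S.transpose) := by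
      rw [RingHom.mapMatrix_apply, Matrix.map_add _ (map_add _), Matrix.transpose_map]
    rw [this, ← RingHom.map_det]
    exact hS.map _
  set η := P⁻¹ * ut (cf SA - cf K)
  have hη : ∀ i j, η i j ∈ I := fun i j => by
    show (P⁻¹ * ut (cf SA - cf K)) i j ∈ I
    rw [Matrix.mul_apply]
    refine I.sum_mem fun l _ => I.mul_mem_left _ (ut_mem _ I (fun s => ?_) _ _)
    rw [Pi.sub_apply, ← neg_sub]
    exact I.neg_mem (hK s)
  have hη1 : (K + K.transpose) * η = P * η := by
    rw [← sub_eq_zero, ← Matrix.sub_mul, ← pm_cf, show P = pm (cf SA) from (pm_cf SA).symm]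
    ext i j
    rw [Matrix.mul_apply, Matrix.zero_apply]
    refine Finset.sum_eq_zero fun k _ => QuadLib.mul_eq_zero_of_sq hI ?_ (hη k j)
    simp only [pm, Matrix.sub_apply, Matrix.of_apply]
    split_ifs
    · rw [← mul_sub]; exact I.mul_mem_left _ (hK _)
    · exact hK _
  have hcf : cf ((G * (1 + η)).transpose * BA * (G * (1 + η))) = cf SA := by
    have h := cf_correct hI K 1 η hη (fun s => by simp)
    simp only [Matrix.transpose_one, Matrix.one_mul, Matrix.mul_one, hη1] at h
    rw [show (G * (1 + η)).transpose * BA * (G * (1 + η)) = (1 + η).transpose * K * (1 + η) by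
      rw [Matrix.transpose_mul]; simp only [K, Matrix.mul_assoc], h, Matrix.mul_nonsing_inv_cancel_left _ _ hP,
      cf_ut, add_sub_cancel]
  have hη0 : η.map (Ideal.Quotient.mk I) = 0 := by
    ext a d; exact Ideal.Quotient.eq_zero_iff_mem.2 (hη a d)
  have hmap : (G * (1 + η)).map (Ideal.Quotient.mk I) = G₀.1 := by
    rw [Matrix.map_mul, Matrix.map_add _ (map_add _), hη0, add_zero, Matrix.map_one _ (map_zero _) (map_one _),
      Matrix.mul_one, hG]
  refine ⟨⟨G * (1 + η), ?_, fun s => ?_⟩, hmap⟩
  · have h := G₀.2.1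
    rw [← hmap, ← RingHom.mapMatrix_apply, ← RingHom.map_det] at h
    haveI : IsLocalHom (Ideal.Quotient.mk I) := ⟨fun a ha => by
      obtain ⟨b, hb⟩ := ha.exists_right_inv
      obtain ⟨c, rfl⟩ := Ideal.Quotient.mk_surjective b
      have h2 : a * c - 1 ∈ I := by
        rw [← Ideal.Quotient.eq_zero_iff_mem, map_sub, map_mul, map_one, hb, sub_self]
      refine IsUnit.of_mul_eq_one (c * (2 - a * c)) ?_
      linear_combination -(QuadLib.mul_eq_zero_of_sq hI h2 h2)⟩
    exact isUnit_of_map_unit (Ideal.Quotient.mk I) _ h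
  · show cf _ s - cf _ s = 0
    rw [hcf, sub_self]

end isom

section main

variable {m : ℕ}

/-- Over an algebraically closed field a form with invertible polar determinant is split. -/
theorem exists_matrix_field {K : Type u} [Field K] [IsAlgClosed K] (B : Matrix (Fin (m + m)) (Fin (m + m)) K)
    (hB : IsUnit (B + B.transpose).det) :
    ∃ G : Matrix (Fin (m + m)) (Fin (m + m)) K, IsUnit G.det ∧
      cf (G.transpose * B * G) = cf (splitMat m K) := by
  let Q : QuadraticForm K (Fin (m + m) → K) := Matrix.toQuadraticForm' B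
  let β : (Fin (m + m) → K) →ₗ[K] (Fin (m + m) → K) →ₗ[K] K := Matrix.toLinearMap₂' K B
  have hQ : ∀ x, Q x = β x x := fun x => rfl
  have hpol : ∀ x y, QuadraticMap.polar Q x y = β x y + β y x := fun x y => by
    simp only [QuadraticMap.polar, hQ, map_add, LinearMap.add_apply]
    abel
  have hreg : QuadGrp.IsRegular Q := by
    refine isRegular_of_det (Pi.basisFun K (Fin (m + m))) ?_
    convert hB
    ext i j
    simp [QuadLib.polarMat, hpol, β, Matrix.toLinearMap₂'_apply', Matrix.mulVec_single_one]
  obtain ⟨v, h0, h1, ho⟩ := exists_split_vectors (M := Fin (m + m) → K) (m := m) (by simp [two_mul]) hreg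
  let col : Fin (m + m) → Fin (m + m) → K := fun i =>
    Sum.elim (fun k => v k 0) (fun k => v k 1) (finSumFinEquiv.symm i)
  let G : Matrix (Fin (m + m)) (Fin (m + m)) K := Matrix.of fun a i => col i a
  have hent : ∀ i j, (G.transpose * B * G) i j = β (col i) (col j) := fun i j => by
    rw [Matrix.toLinearMap₂'_apply', Matrix.dotProduct_mulVec, Matrix.mul_apply, dotProduct]
    simp [G, Matrix.mul_apply, Matrix.vecMul, dotProduct]
  have hcf : cf (G.transpose * B * G) = cf (splitMat m K) := by
    funext s
    induction s using Sym2.ind with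
    | _ i j =>
      rw [cf_mk, cf_mk]
      obtain ⟨a, rfl⟩ := finSumFinEquiv.surjective i
      obtain ⟨c, rfl⟩ := finSumFinEquiv.surjective j
      simp only [finSumFinEquiv.apply_eq_iff_eq, hent, ← hQ, ← hpol, col, Equiv.symm_apply_apply, splitMat,
        Matrix.reindex_apply, Matrix.submatrix_apply]
      rcases a with a | a <;> rcases c with c | c <;> simp only [Sum.elim_inl, Sum.elim_inr, Sum.inl.injEq,
        Sum.inr.injEq, reduceCtorEq, if_false, Matrix.fromBlocks_apply₁₁, Matrix.fromBlocks_apply₁₂,
        Matrix.fromBlocks_apply₂₁, Matrix.fromBlocks_apply₂₂, Matrix.zero_apply, add_zero, zero_add]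
      · split_ifs with h
        · exact h0 _ _
        · exact ho _ _ _ _ h
      · rcases eq_or_ne a c with rfl | h
        · rw [h1, Matrix.one_apply_eq]
        · rw [ho _ _ _ _ h, Matrix.one_apply_ne h]
      · rcases eq_or_ne a c with rfl | h
        · rw [QuadraticMap.polar_comm, h1, Matrix.one_apply_eq]
        · rw [ho _ _ _ _ h, Matrix.one_apply_ne h.symm]
      · split_ifs with h
        · exact h0 _ _
        · exact ho _ _ _ _ h
  refine ⟨G, ?_, hcf⟩
  have h := congrArg (fun c => IsUnit (pm c).det) hcf
  simp only [pm_cf] at h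
  have hu := h ▸ isUnit_det_split m K
  rw [show G.transpose * B * G + (G.transpose * B * G).transpose = G.transpose * (B + B.transpose) * G by
    simp [Matrix.transpose_mul, Matrix.mul_add, Matrix.add_mul, Matrix.mul_assoc], Matrix.det_mul] at hu
  exact (IsUnit.mul_iff.1 hu).2

/-- A form with invertible polar determinant is split over an étale faithfully flat algebra. -/
theorem exists_etale_split {R : Type u} [CommRing R] (B : Matrix (Fin (m + m)) (Fin (m + m)) R)
    (hB : IsUnit (B + B.transpose).det) :
    ∃ (R' : Type u) (_ : CommRing R') (_ : Algebra R R'), Algebra.Etale R R' ∧ Module.FaithfullyFlat R R' ∧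
      ∃ G : Matrix (Fin (m + m)) (Fin (m + m)) R', IsUnit G.det ∧
        cf (G.transpose * B.map (algebraMap R R') * G) = cf (splitMat m R') := by
  let Eq₁ := isomEqs B (splitMat m R)
  let C := Eq₁.Coord
  haveI : Algebra.Smooth R C := isomEqs_smooth (isUnit_det_split m R)
  let φ : CommRingCat.of R ⟶ CommRingCat.of C := CommRingCat.ofHom (algebraMap R C)
  haveI : Smooth (Spec.map φ) := by
    rw [HasRingHomProperty.Spec_iff (P := @Smooth), CommRingCat.hom_ofHom, RingHom.smooth_algebraMap]
    infer_instance
  haveI : Surjective (Spec.map φ) := ⟨fun P₀ => by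
    obtain ⟨P, rfl⟩ : ∃ P : PrimeSpectrum R, P = P₀ := ⟨P₀, rfl⟩
    let K := AlgebraicClosure P.asIdeal.ResidueField
    obtain ⟨G, hG1, hG2⟩ := exists_matrix_field (m := m) (B.map (algebraMap R K)) (by
      rw [← Matrix.transpose_map, ← Matrix.map_add _ (map_add _), ← RingHom.mapMatrix_apply, ← RingHom.map_det]
      exact hB.map _)
    let ψ : C →ₐ[R] K := (Eq₁.equiv K).symm ⟨G, hG1, fun s => by
      show cf _ s - cf _ s = 0
      rw [hG2, splitMat_map, sub_self]⟩
    refine ⟨(⟨RingHom.ker ψ.toRingHom, RingHom.ker_isPrime _⟩ : PrimeSpectrum C), PrimeSpectrum.ext ?_⟩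
    ext r
    show ψ (algebraMap R C r) = 0 ↔ _
    rw [AlgHom.commutes, IsScalarTower.algebraMap_apply R P.asIdeal.ResidueField K,
      map_eq_zero, Ideal.algebraMap_residueField_eq_zero]⟩
  obtain ⟨R', _, _, h1, h2, h, hh⟩ := Sect5.exists_ff_etale_section (Spec.map φ)
  refine ⟨R', inferInstance, inferInstance, h1, h2, ?_⟩
  obtain ⟨g, rfl⟩ : ∃ g, Spec.map g = h := ⟨_, Spec.map_preimage h⟩
  rw [← Spec.map_comp, Spec.map_inj] at hh
  let ψ : C →ₐ[R] R' := { g.hom with commutes' := fun r => congrArg (fun f => f.hom r) hh }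
  refine ⟨(Eq₁.equiv R' ψ).1, (Eq₁.equiv R' ψ).2.1, funext fun s => ?_⟩
  have := (Eq₁.equiv R' ψ).2.2 s
  rw [← splitMat_map m (algebraMap R R'), ← sub_eq_zero]
  exact this

end main

end Groth.Agent.Et18.EvenSplit
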