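import Groth.Agent.Et18.StalkIndep
import Groth.Agent.Et18.StrataApps
import Groth.Agent.Et18.ConstNhd
import Mathlib.AlgebraicGeometry.Noetherian
import Mathlib.Topology.NoetherianSpace
import Mathlib.Topology.Sober
import Groth.Agent.Et18.ShriekEtale
import Mathlib.AlgebraicGeometry.Morphisms.QuasiFinite

/-!
# Generic local constancy on locally noetherian schemes
-/

universe u

open CategoryTheory CategoryTheory.Limits AlgebraicGeometry Opposite Topology

set_option backward.isDefEq.respectTransparency.types false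
set_option backward.isDefEq.respectTransparency false

namespace Groth.Agent.Et18

variable {X : Scheme.{u}}

/-- Injectivity of a morphism out of a constant sheaf spreads to specializations. -/
theorem not_mem_supp_kernel_of_specializes {A : AddCommGrpCat.{u + 1}} {G : EtCoh.Ab X}
    (ψ : (cst X).obj A ⟶ G) {w z : X} (hz : w ⤳ z) (hw : w ∉ EtPBC.supp (kernel ψ)) :
    z ∉ EtPBC.supp (kernel ψ) := by
  intro hmem
  let ξ := sepPoint X z
  rw [mem_supp_iff _ ξ (sepPoint_default X z)] at hmem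
  have hinjη : ∀ {Ω : Type u} [Field Ω] [IsSepClosed Ω] (η : Spec (CommRingCat.of Ω) ⟶ X),
      η default = w → Function.Injective ((EtCoh.stalk η).map ψ) := fun η hη => by
    have h0 : IsZero ((EtCoh.stalk η).obj (kernel ψ)) := by
      by_contra hne
      exact hw ((mem_supp_iff _ η hη).mpr hne)
    rw [← AddCommGrpCat.mono_iff_injective]
    exact Preadditive.mono_of_isZero_kernel _ (h0.of_iso (PreservesKernel.iso (EtCoh.stalk η) ψ).symm)
  refine hmem ?_
  refine IsZero.of_iso ?_ (PreservesKernel.iso (EtCoh.stalk ξ) ψ)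
  have hinj : Function.Injective ((EtCoh.stalk ξ).map ψ) := by
    refine (injective_iff_map_eq_zero _).mpr fun a ha => ?_
    obtain ⟨m, rfl⟩ := (cstGerm_bijective ξ A).2 a
    let Φ := Scheme.pointSmallEtale ξ
    have hsec : Φ.toPresheafFiber (EtCoh.top X) (topPt ξ) G.obj
        (ψ.hom.app (op (EtCoh.top X)) (cstSec A (EtCoh.top X) m)) =
        Φ.toPresheafFiber (EtCoh.top X) (topPt ξ) G.obj 0 := by
      rw [map_zero, ← ha]
      exact (Φ.toPresheafFiber_naturality_apply ψ.hom _ _ _).symm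
    obtain ⟨W, g, v, -, hW⟩ := (Φ.toPresheafFiber_eq_iff' (P := G.obj) _ _ _ _).mp hsec
    haveI : Etale W.hom := W.prop
    have hzW : z ∈ Set.range W.hom := ⟨fiberPt v, (hom_fiberPt v).trans (sepPoint_default X z)⟩
    obtain ⟨y, hy⟩ := hz.mem_open W.hom.isOpenMap.isOpen_range hzW
    let η := sepPoint X w
    obtain ⟨v', -⟩ := exists_fiber_point η W y (hy.trans (sepPoint_default X w).symm)
    have hres : ψ.hom.app (op W) (cstSec A W m) = 0 := by
      rw [← cstSec_res A g]
      exact (NatTrans.naturality_apply ψ.hom g.op _).trans (hW.trans (map_zero _))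
    have h0 : (EtCoh.stalk η).map ψ (cstGerm η A m) = 0 := by
      rw [← cstSec_germ η A W v']
      refine ((Scheme.pointSmallEtale η).toPresheafFiber_naturality_apply ψ.hom W v' _).trans ?_
      exact (congrArg _ hres).trans (map_zero _)
    have hm : cstGerm η A m = 0 := (injective_iff_map_eq_zero _).mp (hinjη η (sepPoint_default X w)) _ h0
    rw [(injective_iff_map_eq_zero _).mp (cstGerm_bijective η A).1 m hm, map_zero]
  rw [← AddCommGrpCat.mono_iff_injective] at hinj
  exact isZero_kernel_of_mono _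

/-- Over a locally noetherian scheme with generic point `η`, a point over `η` of an étale scheme is
generic in a neighbourhood. -/
theorem exists_generic_nhd [IsLocallyNoetherian X] (η : X) (hη : ∀ x, η ⤳ x) (W : X.Etale) (w : W.left)
    (hw : W.hom w = η) : ∃ O : W.left.Opens, w ∈ O ∧ ∀ z ∈ O, w ⤳ z := by
  haveI : Etale W.hom := W.prop
  haveI : IsLocallyNoetherian W.left := @LocallyOfFiniteType.isLocallyNoetherian _ X W.hom _ ‹_›
  have hmax : ∀ g : W.left, g ⤳ w → g = w := fun g hg => by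
    have h1 : W.hom g = η := ((hg.map W.hom.continuous).trans (specializes_of_eq hw)).antisymm (hη _) |>.eq
    have hd := W.hom.isDiscrete_preimage_singleton η
    haveI := isDiscrete_iff_discreteTopology.mp hd
    have : (⟨g, h1⟩ : W.hom ⁻¹' {η}) ⤳ ⟨w, hw⟩ := (subtype_specializes_iff _ _).mpr hg
    exact congrArg Subtype.val this.eq
  obtain ⟨O₁, hO₁, hwO₁, -⟩ := exists_isAffineOpen_mem_and_subset (X := W.left) (x := w) (U := ⊤) trivial
  haveI : IsAffine O₁.toScheme := hO₁
  haveI : IsLocallyNoetherian O₁.toScheme := LocallyOfFiniteType.isLocallyNoetherian O₁.ι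
  haveI : IsNoetherian O₁.toScheme := ⟨⟩
  let S := O₁.toScheme
  let w₁ : S := ⟨w, hwO₁⟩
  let C : Set S := ⋃₀ {Z ∈ irreducibleComponents S | w₁ ∉ Z}
  have hC : IsClosed C := by
    rw [show C = ⋃ Z ∈ {Z ∈ irreducibleComponents S | w₁ ∉ Z}, Z from Set.sUnion_eq_biUnion]
    exact (TopologicalSpace.NoetherianSpace.finite_irreducibleComponents.subset
      fun Z hZ => hZ.1).isClosed_biUnion fun Z hZ => isClosed_of_mem_irreducibleComponents Z hZ.1
  refine ⟨O₁.ι ''ᵁ ⟨Cᶜ, hC.isOpen_compl⟩, ⟨w₁, ?_, rfl⟩, ?_⟩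
  · rintro ⟨Z, hZ, hwZ⟩
    exact hZ.2 hwZ
  · rintro _ ⟨z, hz, rfl⟩
    have hz' : w₁ ∈ irreducibleComponent z := by_contra fun h =>
      hz ⟨_, ⟨irreducibleComponent_mem_irreducibleComponents z, h⟩, mem_irreducibleComponent⟩
    obtain ⟨g, hg⟩ := QuasiSober.sober (isIrreducible_irreducibleComponent (x := z))
      isClosed_irreducibleComponent
    have hgw : g ⤳ w₁ := hg.specializes hz'
    have hgz : g ⤳ z := hg.specializes mem_irreducibleComponent
    have := hmax g.1 (hgw.map O₁.ι.continuous)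
    exact this ▸ hgz.map O₁.ι.continuous

/-- If all stalks have the same finite number of elements and there is a generic point, the sheaf
is finite locally constant near the generic point. -/
theorem exists_open_isFLC_of_card [IsLocallyNoetherian X] (η : X) (hη : ∀ x, η ⤳ x) (F : EtCoh.Ab X)
    (n : ℕ) (hn : n ≠ 0) (hcard : ∀ x : X, Nat.card ((EtCoh.stalk (sepPoint X x)).obj F) = n) :
    ∃ O : X.Opens, η ∈ O ∧ EtCoh.IsFiniteLocallyConstant ((EtCoh.pull O.ι).obj F) := by
  let ξ := sepPoint X η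
  haveI : Finite ((EtCoh.stalk ξ).obj F) := Nat.finite_of_card_ne_zero ((hcard η).trans_ne hn)
  obtain ⟨W, v, hv, ψ, hψ⟩ := exists_nhd_isIso_stalk ξ (G := F)
  haveI : Etale W.hom := W.prop
  let M := (EtCoh.stalk ξ).obj F
  let w := v default
  have hw : W.hom w = η := (congrArg (fun t : Spec (CommRingCat.of _) ⟶ X => t default) hv).trans
    (sepPoint_default X η)
  obtain ⟨O, hwO, hspec⟩ := exists_generic_nhd η hη W w hw
  have hker : w ∉ EtPBC.supp (kernel ψ) := fun h => by
    refine (mem_supp_iff _ v rfl).mp h ?_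
    exact IsZero.of_iso (isZero_kernel_of_mono _) (PreservesKernel.iso (EtCoh.stalk v) ψ)
  have hiso : IsIso ((EtCoh.pull O.ι).map ψ) := isIso_of_stalks _ fun y => by
    let y' := sepPoint O.toScheme y
    refine (NatIso.isIso_map_iff (stalkPullIso O.ι y') ψ).mpr ?_
    have hy : (y' ≫ O.ι) default = y.1 := congrArg O.ι (sepPoint_default _ y)
    let ξy := y' ≫ O.ι
    have hinj : Function.Injective ((EtCoh.stalk ξy).map ψ) := by
      have h0 := not_mem_supp_kernel_of_specializes ψ (hspec y.1 y.2) hker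
      rw [← AddCommGrpCat.mono_iff_injective]
      refine Preadditive.mono_of_isZero_kernel _ (IsZero.of_iso ?_ (PreservesKernel.iso (EtCoh.stalk ξy) ψ).symm)
      by_contra hne
      exact h0 ((mem_supp_iff _ ξy hy).mpr hne)
    have hc1 : Nat.card ((EtCoh.stalk ξy).obj ((cst W.left).obj M)) = n := by
      rw [← hcard η]
      exact Nat.card_congr (Equiv.ofBijective _ (cstGerm_bijective ξy M)).symm
    have hc2 : Nat.card ((EtCoh.stalk ξy).obj ((EtCoh.pull W.hom).obj F)) = n := by
      obtain ⟨e⟩ := nonempty_stalk_iso_of_eq (ξy ≫ W.hom) (sepPoint X ((ξy ≫ W.hom) default))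
        (sepPoint_default X _).symm F
      rw [← hcard ((ξy ≫ W.hom) default)]
      exact Nat.card_congr ((((stalkPullIso W.hom ξy).app F) ≪≫ e).addCommGroupIsoToAddEquiv.toEquiv)
    haveI : Finite ((EtCoh.stalk ξy).obj ((EtCoh.pull W.hom).obj F)) :=
      Nat.finite_of_card_ne_zero (hc2.trans_ne hn)
    exact (ConcreteCategory.isIso_iff_bijective _).mpr
      ((Nat.bijective_iff_injective_and_card _).mpr ⟨hinj, hc1.trans hc2.symm⟩)
  refine ⟨⟨W.hom '' (O : Set W.left), W.hom.isOpenMap _ O.2⟩, ⟨w, hwO, hw⟩, ?_⟩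
  refine isFLC_iff.mpr (LocTriv.of_nhds fun y => ?_)
  obtain ⟨z, hz, hzy⟩ := y.2
  let U : X.Opens := ⟨W.hom '' (O : Set W.left), W.hom.isOpenMap _ O.2⟩
  have hsub : Set.range (O.ι ≫ W.hom) ⊆ Set.range U.ι := by
    rw [Scheme.Opens.range_ι]
    rintro _ ⟨t, rfl⟩
    exact ⟨t.1, t.2, rfl⟩
  let k := IsOpenImmersion.lift U.ι (O.ι ≫ W.hom) hsub
  have hk : k ≫ U.ι = O.ι ≫ W.hom := IsOpenImmersion.lift_fac _ _ _
  haveI : Etale (k ≫ U.ι) := hk ▸ inferInstance
  haveI : Etale k := Etale.of_comp k U.ι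
  refine ⟨Scheme.Etale.mk k, ⟨z, hz⟩, U.ι.isOpenEmbedding.injective ?_, isFLC_iff.mp ?_⟩
  · exact (congrArg (fun t : O.toScheme ⟶ X => t ⟨z, hz⟩) hk).trans hzy
  · haveI := hiso
    refine isFLC_of_iso (isFLC_cst (X := O.toScheme) M) ?_
    exact ((EtCore.pullConstIso O.ι).app M).symm ≪≫ asIso ((EtCoh.pull O.ι).map ψ) ≪≫
      ((EtCore.pullComp O.ι W.hom).app F).symm ≪≫ (EtCore.pullCongr hk.symm).app F ≪≫
      (EtCore.pullComp k U.ι).app F

/-- Constructible sets containing a generic point contain a neighbourhood of it. -/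
theorem exists_open_subset_of_isConstructible {Z : Type*} [TopologicalSpace Z] {η : Z} (hη : ∀ x, η ⤳ x)
    {s : Set Z} (hs : IsLocallyConstructible s) (hmem : η ∈ s) :
    ∃ O : Set Z, IsOpen O ∧ η ∈ O ∧ O ⊆ s := by
  obtain ⟨U, hU, hUo, hc⟩ := hs η
  obtain ⟨P, hPf, hPo, hPp⟩ := H8Top.exists_pattern hc
  let η' : U := ⟨η, mem_of_mem_nhds hU⟩
  have hη' : ∀ x : U, η' ⤳ x := fun x => (subtype_specializes_iff _ _).mpr (hη x.1)
  let O : Set U := ⋂ p ∈ {p ∈ P | η' ∈ p}, p
  have hOo : IsOpen O := (hPf.subset fun p hp => hp.1).isOpen_biInter fun p hp => (hPo p hp.1).1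
  refine ⟨Subtype.val '' O, hUo.isOpenMap_subtype_val _ hOo,
    ⟨η', Set.mem_iInter₂.mpr fun p hp => hp.2, rfl⟩, ?_⟩
  rintro _ ⟨y, hy, rfl⟩
  exact (hPp η' y fun p hp => ⟨fun h => Set.mem_iInter₂.mp hy p ⟨hp, h⟩,
    fun h => (hη' y).mem_open (hPo p hp).1 h⟩).mp hmem

end Groth.Agent.Et18
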