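import Groth.Agent.Et18.EtaleNormal
import Groth.Agent.Et18.ConstNhd
import Groth.Agent.Et18.GenericFLC
import Mathlib.RingTheory.LocalProperties.IntegrallyClosed
import Mathlib.AlgebraicGeometry.Morphisms.UniversallyOpen
import Mathlib.AlgebraicGeometry.Morphisms.QuasiFinite
import Mathlib.AlgebraicGeometry.FunctionField

/-!
# Étale neighbourhoods on a normal integral scheme with algebraically closed function field

Every point of an étale scheme over such a scheme has a neighbourhood whose generic fibre is a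
single point, hence the spectrum of the function field.
-/

set_option autoImplicit false

universe u

open CategoryTheory CategoryTheory.Limits AlgebraicGeometry Opposite

set_option backward.isDefEq.respectTransparency.types false
set_option backward.isDefEq.respectTransparency false

namespace Groth.Agent.Et18.AlgClosedGeneric

/-- Affine pieces of a normal integral scheme are integrally closed. -/
theorem isIntegrallyClosed_sections (Y : Scheme.{u}) [IsIntegral Y]
    (hnorm : ∀ y : Y, IsIntegrallyClosed (Y.presheaf.stalk y)) {U : Y.Opens} (hU : IsAffineOpen U)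
    [Nonempty U.toScheme] : IsIntegrallyClosed Γ(Y, U) := by
  refine IsIntegrallyClosed.of_localization_maximal fun P _ hP => ?_
  let y : U := hU.isoSpec.inv ⟨P, inferInstance⟩
  letI : Algebra Γ(Y, U) (Y.presheaf.stalk y.1) := TopCat.Presheaf.algebra_section_stalk Y.presheaf y
  have hy : hU.primeIdealOf y = ⟨P, inferInstance⟩ := by
    have h := congrArg (fun k : Spec Γ(Y, U) ⟶ Spec Γ(Y, U) => k ⟨P, inferInstance⟩) hU.isoSpec.inv_hom_id
    exact h
  have : IsLocalization.AtPrime (Y.presheaf.stalk y.1) P := by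
    have := hU.isLocalization_stalk y
    rwa [hy] at this
  have := hnorm y.1
  exact IsIntegrallyClosed.of_equiv
    (IsLocalization.algEquiv P.primeCompl (Y.presheaf.stalk y.1) (Localization.AtPrime P)).toRingEquiv

/-- Local rings of étale schemes over a normal integral scheme are domains. -/
theorem isDomain_stalk (Y : Scheme.{u}) [IsIntegral Y]
    (hnorm : ∀ y : Y, IsIntegrallyClosed (Y.presheaf.stalk y)) {W : Scheme.{u}} (f : W ⟶ Y) [Etale f]
    (w : W) : IsDomain (W.presheaf.stalk w) := by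
  obtain ⟨_, ⟨(U : Y.Opens), hU, rfl⟩, hwU, -⟩ :=
    Y.isBasis_affineOpens.exists_subset_of_mem_open (Set.mem_univ (f w)) isOpen_univ
  obtain ⟨_, ⟨(V : W.Opens), hV, rfl⟩, hwV, hVU⟩ :=
    W.isBasis_affineOpens.exists_subset_of_mem_open (show w ∈ ((f ⁻¹ᵁ U : W.Opens) : Set W) from hwU)
      (f ⁻¹ᵁ U).isOpen
  haveI : Nonempty U.toScheme := ⟨⟨f w, hwU⟩⟩
  haveI := isIntegrallyClosed_sections Y hnorm hU
  letI : Algebra Γ(Y, U) Γ(W, V) := (f.appLE U V hVU).hom.toAlgebra
  haveI : Algebra.Etale Γ(Y, U) Γ(W, V) :=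
    RingHom.etale_algebraMap.1 (HasRingHomProperty.appLE (P := @Etale) f inferInstance ⟨U, hU⟩ ⟨V, hV⟩ hVU)
  let q := hV.primeIdealOf ⟨w, hwV⟩
  obtain ⟨h, -⟩ := normal_localization_of_etale Γ(Y, U) Γ(W, V) q.asIdeal
  letI : Algebra Γ(W, V) (W.presheaf.stalk w) := TopCat.Presheaf.algebra_section_stalk W.presheaf (⟨w, hwV⟩ : V)
  have := hV.isLocalization_stalk ⟨w, hwV⟩
  exact (IsLocalization.algEquiv q.asIdeal.primeCompl (W.presheaf.stalk w)
    (Localization.AtPrime q.asIdeal)).toRingEquiv.toMulEquiv.isDomain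

/-- A point of an étale scheme over a normal integral scheme has a neighbourhood with exactly one
point over the generic point. -/
theorem exists_nhd_one_generic (Y : Scheme.{u}) [IsIntegral Y]
    (hnorm : ∀ y : Y, IsIntegrallyClosed (Y.presheaf.stalk y)) {W : Scheme.{u}} (f : W ⟶ Y) [Etale f]
    (w : W) : ∃ O : W.Opens, w ∈ O ∧ ∃! z : W, z ∈ O ∧ f z = genericPoint Y := by
  let η := genericPoint Y
  have hdisc := isDiscrete_iff_discreteTopology.mp (f.isDiscrete_preimage_singleton η)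
  have hmax : ∀ a b : W, f a = η → f b = η → a ⤳ b → a = b := fun a b ha hb hab => by
    have : (⟨a, ha⟩ : f ⁻¹' {η}) ⤳ ⟨b, hb⟩ := (subtype_specializes_iff _ _).mpr hab
    exact congrArg Subtype.val this.eq
  obtain ⟨z₀, hz₀w, hz₀⟩ := Flat.generalizingMap f (a := w) (b := η) (genericPoint_specializes _)
  have hdom := isDomain_stalk Y hnorm f w
  have huniq : ∀ z : W, f z = η → z ⤳ w → z = z₀ := fun z hz hzw => by
    let s := W.fromSpecStalk w
    have hs : ∀ a : W, a ⤳ w → a ∈ Set.range s := fun a ha => by rw [Scheme.range_fromSpecStalk]; exact ha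
    obtain ⟨p, rfl⟩ := hs z hzw
    obtain ⟨p₀, rfl⟩ := hs z₀ hz₀w
    let b : Spec (W.presheaf.stalk w) := ⟨⊥, Ideal.isPrime_bot⟩
    have hb : ∀ q : Spec (W.presheaf.stalk w), b ⤳ q := fun q =>
      (PrimeSpectrum.le_iff_specializes b q).1 bot_le
    have hfb : f (s b) = η := by
      refine ((((hb p).map s.continuous).map f.continuous).trans (specializes_of_eq hz)).antisymm
        (genericPoint_specializes _) |>.eq
    exact (hmax _ _ hfb hz ((hb p).map s.continuous)).symm.trans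
      (hmax _ _ hfb hz₀ ((hb p₀).map s.continuous))
  obtain ⟨_, ⟨(U : Y.Opens), hU, rfl⟩, hwU, -⟩ :=
    Y.isBasis_affineOpens.exists_subset_of_mem_open (Set.mem_univ (f w)) isOpen_univ
  obtain ⟨_, ⟨(V : W.Opens), hV, rfl⟩, hwV, hVU⟩ :=
    W.isBasis_affineOpens.exists_subset_of_mem_open (show w ∈ ((f ⁻¹ᵁ U : W.Opens) : Set W) from hwU)
      (f ⁻¹ᵁ U).isOpen
  have hηU : η ∈ U := (genericPoint_specializes (f w)).mem_open U.isOpen hwU
  let fV : V.toScheme ⟶ U.toScheme := f.resLE U V hVU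
  haveI : IsAffine V.toScheme := hV
  haveI : IsAffine U.toScheme := hU
  haveI : LocallyQuasiFinite fV := inferInstance
  haveI : QuasiCompact fV := inferInstance
  have hfin : {z : W | z ∈ V ∧ f z = η}.Finite := by
    refine ((fV.finite_preimage_singleton ⟨η, hηU⟩).image V.ι).subset fun z hz => ?_
    refine ⟨⟨z, hz.1⟩, Subtype.ext ?_, rfl⟩
    exact (congrArg (fun k : V.toScheme ⟶ Y => k ⟨z, hz.1⟩) (Scheme.Hom.resLE_comp_ι f hVU)).trans hz.2
  let C : Set W := ⋃ z ∈ {z : W | z ∈ V ∧ f z = η ∧ z ≠ z₀}, closure {z}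
  have hC : IsClosed C :=
    (hfin.subset fun z hz => ⟨hz.1, hz.2.1⟩).isClosed_biUnion fun _ _ => isClosed_closure
  have hwC : w ∉ C := fun h => by
    obtain ⟨z, ⟨-, hz, hne⟩, hzw⟩ := Set.mem_iUnion₂.1 h
    exact hne (huniq z hz (specializes_iff_mem_closure.2 hzw))
  let O : W.Opens := V ⊓ ⟨Cᶜ, hC.isOpen_compl⟩
  have hz₀O : z₀ ∈ O := hz₀w.mem_open O.isOpen ⟨hwV, hwC⟩
  refine ⟨O, ⟨hwV, hwC⟩, z₀, ⟨hz₀O, hz₀⟩, fun z hz => by_contra fun hne => ?_⟩
  exact hz.1.2 (Set.mem_iUnion₂.2 ⟨z, ⟨hz.1.1, hz.2, hne⟩, subset_closure rfl⟩)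

/-- An étale scheme with a single point over an algebraically closed field is that field. -/
theorem isIso_of_subsingleton {K : Type u} [Field K] [IsAlgClosed K] {P : Scheme.{u}}
    (π : P ⟶ Spec (CommRingCat.of K)) [Etale π] [Subsingleton P] [Nonempty P] : IsIso π := by
  obtain ⟨y⟩ := ‹Nonempty P›
  obtain ⟨_, ⟨(V : P.Opens), hV, rfl⟩, hy, -⟩ :=
    P.isBasis_affineOpens.exists_subset_of_mem_open (Set.mem_univ y) isOpen_univ
  obtain rfl : V = ⊤ := eq_top_iff.2 fun z _ => Subsingleton.elim y z ▸ hy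
  haveI : IsAffine ((⊤ : P.Opens) : Scheme.{u}) := hV
  haveI : IsAffine P := IsAffine.of_isIso P.topIso.inv
  obtain ⟨φ, hφ⟩ := Spec.map_surjective (P.isoSpec.inv ≫ π)
  letI : Algebra K Γ(P, ⊤) := φ.hom.toAlgebra
  haveI : Algebra.Etale K Γ(P, ⊤) := by
    have h : Etale (Spec.map φ) := hφ ▸ inferInstance
    exact RingHom.etale_algebraMap.1 ((HasRingHomProperty.Spec_iff (P := @Etale)).1 h)
  haveI := Algebra.FormallyUnramified.finite_of_free K Γ(P, ⊤)
  haveI : IsArtinianRing Γ(P, ⊤) := IsArtinianRing.of_finite K _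
  haveI : IsReduced Γ(P, ⊤) := Algebra.FormallyUnramified.isReduced_of_field K _
  haveI : Subsingleton (PrimeSpectrum Γ(P, ⊤)) :=
    (P.isoSpec.inv.homeomorph.toEquiv.subsingleton : Subsingleton (Spec Γ(P, ⊤)))
  haveI : Nontrivial Γ(P, ⊤) :=
    PrimeSpectrum.nontrivial (P.isoSpec.hom y : PrimeSpectrum Γ(P, ⊤))
  have hf : IsField Γ(P, ⊤) := by
    refine ⟨exists_pair_ne _, mul_comm, fun {x} hx => ?_⟩
    by_cases hu : IsUnit x
    · exact hu.exists_right_inv
    · obtain ⟨M, hM, hxM⟩ := exists_max_ideal_of_mem_nonunits hu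
      exact absurd (IsReduced.eq_zero x (nilpotent_iff_mem_prime.2 fun J hJ => by
        have e : M = J := congrArg PrimeSpectrum.asIdeal
          (Subsingleton.elim (⟨M, hM.isPrime⟩ : PrimeSpectrum Γ(P, ⊤)) ⟨J, hJ⟩)
        exact e ▸ hxM)) hx
  letI := hf.toField
  have : IsIso φ := (ConcreteCategory.isIso_iff_bijective φ).2
    (IsAlgClosed.algebraMap_bijective_of_isIntegral (k := K) (K := Γ(P, ⊤)))
  exact IsIso.of_isIso_fac_left hφ.symm

end Groth.Agent.Et18.AlgClosedGeneric
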