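import Groth.Agent.EGA43.HenselCompare.Model
import Mathlib.RingTheory.MvPowerSeries.Substitution
import Mathlib.RingTheory.PowerSeries.Order
import Mathlib.RingTheory.Nullstellensatz
import Mathlib.Algebra.DualNumber

/-!
# Non-degenerate quadratic singularities of hypersurfaces via the Jacobian ideal
-/

set_option autoImplicit false
set_option linter.unusedSectionVars false
universe u

open MvPowerSeries VanCyc Finsupp
open scoped Matrix

namespace Groth.Agent.Et18.NondegIff

open EGA43.HenselCompare

variable {k : Type u} [Field k] {N : ℕ}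

local notation "PS" => MvPowerSeries (Fin N) k

theorem hasSubst_line (v : Fin N → k) :
    HasSubst (fun i => (MvPowerSeries.C (v i) * MvPowerSeries.X () : PowerSeries k)) :=
  hasSubst_of_constantCoeff_zero fun i => by simp

/-- Restriction of a series to the line through `v`. -/
noncomputable def line (v : Fin N → k) : PS →ₐ[k] PowerSeries k :=
  substAlgHom (hasSubst_line v)

theorem line_X (v : Fin N → k) (i : Fin N) : line v (MvPowerSeries.X i) = PowerSeries.C (v i) * PowerSeries.X :=
  substAlgHom_X (hasSubst_line v) i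

theorem line_C (v : Fin N → k) (c : k) : line v (MvPowerSeries.C c) = PowerSeries.C c :=
  (line v).commutes c

theorem line_mem {v : Fin N → k} {j : ℕ} {p : PS} (hp : p ∈ IsLocalRing.maximalIdeal PS ^ j) :
    ∃ s, line v p = PowerSeries.X ^ j * s := by
  have h : (IsLocalRing.maximalIdeal PS).map (line v) ≤ Ideal.span {PowerSeries.X} := by
    refine Ideal.map_le_iff_le_comap.2 fun q hq => ?_
    rw [Ideal.mem_comap, ← sum_X_mul_divVar q (mem_maximalIdeal_iff.1 hq), map_sum]
    refine Ideal.sum_mem _ fun i _ => ?_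
    rw [map_mul, line_X]
    exact Ideal.mul_mem_right _ _ (Ideal.mul_mem_left _ _ (Ideal.mem_span_singleton_self _))
  have := Ideal.mem_map_of_mem (line v) hp
  rw [Ideal.map_pow] at this
  obtain ⟨s, hs⟩ := Ideal.mem_span_singleton'.1
    (show line v p ∈ Ideal.span {PowerSeries.X ^ j} by rw [← Ideal.span_singleton_pow]; exact Ideal.pow_right_mono h j this)
  exact ⟨s, by rw [← hs, mul_comm]⟩

theorem constantCoeff_line (v : Fin N → k) (p : PS) :
    PowerSeries.constantCoeff (line v p) = MvPowerSeries.constantCoeff p := by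
  obtain ⟨s, hs⟩ := line_mem (v := v) (j := 1) (p := p - MvPowerSeries.C (MvPowerSeries.constantCoeff p))
    (by rw [pow_one, mem_maximalIdeal_iff]; simp)
  have h2 := congrArg PowerSeries.constantCoeff hs
  rw [map_sub, line_C, map_sub, PowerSeries.constantCoeff_C, map_mul, map_pow, PowerSeries.constantCoeff_X, pow_one,
    zero_mul, sub_eq_zero] at h2
  exact h2

theorem line_mem_one {v : Fin N → k} {p : PS} (hp : MvPowerSeries.constantCoeff p = 0) :
    ∃ s, line v p = PowerSeries.X * s ∧
      PowerSeries.constantCoeff s = ∑ j, v j * MvPowerSeries.constantCoeff (divVar j p) := by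
  refine ⟨∑ j, PowerSeries.C (v j) * line v (divVar j p), ?_, ?_⟩
  · conv_lhs => rw [← sum_X_mul_divVar p hp]
    rw [map_sum, Finset.mul_sum]
    exact Finset.sum_congr rfl fun j _ => by rw [map_mul, line_X]; ring
  · simp [map_sum, constantCoeff_line]

theorem quadEval_smul' {S : Type u} [CommRing S] (q : Fin N → Fin N → S) (t : S) (w : Fin N → S) :
    quadEval q (fun i => t * w i) = t ^ 2 * quadEval q w := by
  simp only [quadEval, Finset.mul_sum]
  refine Finset.sum_congr rfl fun i _ => Finset.sum_congr rfl fun j _ => ?_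
  split_ifs <;> ring

theorem map_quadEval' {S T : Type u} [CommRing S] [CommRing T] (g : S →+* T) (a : Fin N → Fin N → S) (v : Fin N → S) :
    g (quadEval a v) = quadEval (fun i j => g (a i j)) (fun i => g (v i)) :=
  map_quadEval g a v

/-- the second order term on a line -/
theorem line_quad {F : PS} (hF : NoLowTerms F) (v : Fin N → k) :
    ∃ s, line v F = PowerSeries.X ^ 2 * s ∧ PowerSeries.constantCoeff s = quadEval (quadPart F) v := by
  have hr := mem_pow_of_ordGE (ordGE_sub_quadPart hF)
  rw [map_zero, add_zero] at hr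
  obtain ⟨r, hr⟩ := line_mem (v := v) hr
  have hq : line v (qSeries (quadPart F)) =
      PowerSeries.X ^ 2 * quadEval (fun i j => PowerSeries.C (quadPart F i j)) (fun i => PowerSeries.C (v i)) := by
    rw [qSeries]
    refine (map_quadEval' (line v).toRingHom _ _).trans ?_
    rw [← quadEval_smul']
    simp [cTab, line_C, line_X, mul_comm]
  refine ⟨quadEval (fun i j => PowerSeries.C (quadPart F i j)) (fun i => PowerSeries.C (v i)) + PowerSeries.X * r,
    ?_, ?_⟩
  · rw [map_sub, sub_eq_iff_eq_add] at hr
    rw [hr, hq]; ring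
  · rw [map_add, map_mul, PowerSeries.constantCoeff_X, zero_mul, add_zero, map_quadEval']
    simp

/-- Non-degeneracy of the quadratic part is an invariant of the quotient. -/
theorem quadNondeg_of_algEquiv (hN : 0 < N) {F G : PS} (hF : NoLowTerms F) (hG : NondegQuadSeries G)
    (φ : (PS ⧸ Ideal.span {G}) ≃ₐ[k] (PS ⧸ Ideal.span {F})) : QuadNondeg (quadPart F) := by
  classical
  choose u hu using fun i => Ideal.Quotient.mk_surjective (φ (Ideal.Quotient.mk _ (MvPowerSeries.X i)))
  have hu0 : ∀ i, MvPowerSeries.constantCoeff (u i) = 0 := by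
    intro i
    by_contra h
    have hunit : IsUnit (φ (Ideal.Quotient.mk (Ideal.span {G}) (MvPowerSeries.X i))) := by
      rw [← hu]
      exact (MvPowerSeries.isUnit_iff_constantCoeff.2 (isUnit_iff_ne_zero.2 h)).map _
    have h2 : IsUnit (Ideal.Quotient.mk (Ideal.span {G}) (MvPowerSeries.X i)) := by
      simpa using hunit.map φ.symm
    obtain ⟨w, hw⟩ := h2.exists_right_inv
    obtain ⟨w, rfl⟩ := Ideal.Quotient.mk_surjective w
    rw [← map_mul, ← map_one (Ideal.Quotient.mk (Ideal.span {G})), Ideal.Quotient.eq, Ideal.mem_span_singleton'] at hw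
    obtain ⟨c, hc⟩ := hw
    simpa [hG.1.1] using congrArg MvPowerSeries.constantCoeff hc
  let U : Matrix (Fin N) (Fin N) k := Matrix.of fun i j => MvPowerSeries.constantCoeff (divVar j (u i))
  let Φ : PS →ₐ[k] (PS ⧸ Ideal.span {F}) := φ.toAlgHom.comp (Ideal.Quotient.mkₐ k _)
  let mk := Ideal.Quotient.mk (Ideal.span {F})
  have hΦX : ∀ i, Φ (MvPowerSeries.X i) = mk (u i) := fun i => (hu i).symm
  -- images of elements of the maximal ideal
  have hΦm : (IsLocalRing.maximalIdeal PS).map Φ ≤ (IsLocalRing.maximalIdeal PS).map mk := by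
    refine Ideal.map_le_iff_le_comap.2 fun q hq => ?_
    rw [Ideal.mem_comap, ← sum_X_mul_divVar q (mem_maximalIdeal_iff.1 hq), map_sum]
    refine Ideal.sum_mem _ fun i _ => ?_
    rw [map_mul, hΦX]
    exact Ideal.mul_mem_right _ _ (Ideal.mem_map_of_mem _ (mem_maximalIdeal_iff.2 (hu0 i)))
  choose qF hqF hqF0 using line_quad hF
  choose s hs hs0 using fun v i => line_mem_one (v := v) (hu0 i)
  have hUv : ∀ v, (fun i => PowerSeries.constantCoeff (s v i)) = U *ᵥ v := fun v => funext fun i => by
    rw [hs0]
    exact Finset.sum_congr rfl fun j _ => mul_comm _ _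
  -- `U` is invertible
  have hUdet : IsUnit U.det := by
    choose w hw using fun j => Ideal.Quotient.mk_surjective (φ.symm (mk (MvPowerSeries.X j)))
    have hw' : ∀ j, Φ (w j) = mk (MvPowerSeries.X j) := fun j => by
      show φ (Ideal.Quotient.mk _ (w j)) = _
      rw [hw, φ.apply_symm_apply]
    have hw0 : ∀ j, MvPowerSeries.constantCoeff (w j) = 0 := fun j => by
      by_contra h
      have h2 : IsUnit (mk (MvPowerSeries.X j)) :=
        hw' j ▸ ((MvPowerSeries.isUnit_iff_constantCoeff.2 (isUnit_iff_ne_zero.2 h)).map Φ)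
      obtain ⟨z, hz⟩ := h2.exists_right_inv
      obtain ⟨z, rfl⟩ := Ideal.Quotient.mk_surjective z
      rw [← map_mul, ← map_one mk, Ideal.Quotient.eq, Ideal.mem_span_singleton'] at hz
      obtain ⟨c, hc⟩ := hz
      simpa [hF.1] using congrArg MvPowerSeries.constantCoeff hc
    choose e he using fun j l => Ideal.Quotient.mk_surjective (Φ (divVar l (w j)))
    have hE : ∀ j, ∃ c, c * F = ∑ l, u l * e j l - MvPowerSeries.X j := by
      intro j
      refine Ideal.mem_span_singleton'.1 (Ideal.Quotient.eq.1 ?_)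
      show mk (∑ l, u l * e j l) = mk (MvPowerSeries.X j)
      rw [← hw', map_sum]
      conv_rhs => rw [← sum_X_mul_divVar (w j) (hw0 j), map_sum]
      exact Finset.sum_congr rfl fun l _ => by rw [map_mul, map_mul, hΦX, he]
    choose c hc using hE
    let E : Matrix (Fin N) (Fin N) k := Matrix.of fun j l => MvPowerSeries.constantCoeff (e j l)
    have hEU : E * U = 1 := by
      refine Matrix.toLin'.injective (LinearMap.ext fun v => ?_)
      rw [Matrix.toLin'_apply, Matrix.toLin'_apply, Matrix.one_mulVec, ← Matrix.mulVec_mulVec, ← hUv]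
      funext j
      have h := congrArg (line v) (hc j)
      rw [map_mul, hqF, map_sub, map_sum, line_X] at h
      simp only [map_mul, hs] at h
      have h' : PowerSeries.X * (line v (c j) * (PowerSeries.X * qF v)) =
          PowerSeries.X * (∑ l, s v l * line v (e j l) - PowerSeries.C (v j)) := by
        rw [mul_sub, Finset.mul_sum]
        convert! h using 1
        · ring
        · simp only [mul_assoc]; congr 1; exact mul_comm _ _
      have h2 := congrArg PowerSeries.constantCoeff (mul_left_cancel₀ PowerSeries.X_ne_zero h')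
      simp only [map_mul, PowerSeries.constantCoeff_X, zero_mul, mul_zero, map_sub, map_sum, PowerSeries.constantCoeff_C,
        constantCoeff_line] at h2
      rw [eq_comm, sub_eq_zero] at h2
      rw [← h2]
      simp [E, Matrix.mulVec, dotProduct, mul_comm]
    exact IsUnit.of_mul_eq_one_right E.det (by rw [← Matrix.det_mul, hEU, Matrix.det_one])
  -- the relation
  have hrG := mem_pow_of_ordGE (ordGE_sub_quadPart hG.1)
  rw [map_zero, add_zero] at hrG
  have hΦr : Φ (G - qSeries (quadPart G)) ∈ (IsLocalRing.maximalIdeal PS ^ 3).map mk := by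
    have := Ideal.mem_map_of_mem Φ hrG
    rw [Ideal.map_pow] at this
    rw [Ideal.map_pow]
    exact Ideal.pow_right_mono hΦm 3 this
  obtain ⟨r, hr, hrΦ⟩ := (Ideal.mem_map_iff_of_surjective _ Ideal.Quotient.mk_surjective).1 hΦr
  have hq : Φ (qSeries (quadPart G)) = mk (quadEval (cTab (quadPart G)) u) := by
    rw [qSeries]
    refine (map_quadEval' Φ.toRingHom _ _).trans ((map_quadEval' mk _ _).trans ?_).symm
    congr 1
    · funext i j
      exact (Φ.commutes _).symm
    · funext i
      exact (hΦX i).symm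
  have h0 : Φ G = 0 := by
    show φ (Ideal.Quotient.mk _ G) = 0
    rw [Ideal.Quotient.eq_zero_iff_mem.2 (Ideal.mem_span_singleton_self G), map_zero]
  rw [map_sub, h0, hq, zero_sub] at hrΦ
  obtain ⟨c, hc⟩ : ∃ c, c * F = r + quadEval (cTab (quadPart G)) u := by
    refine Ideal.mem_span_singleton'.1 (Ideal.Quotient.eq_zero_iff_mem.1 ?_)
    show mk (r + quadEval (cTab (quadPart G)) u) = 0
    rw [map_add, hrΦ, neg_add_cancel]
  have key : ∀ v, MvPowerSeries.constantCoeff c * quadEval (quadPart F) v = quadEval (quadPart G) (U *ᵥ v) := by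
    intro v
    obtain ⟨t, ht⟩ := line_mem (v := v) hr
    have h := congrArg (line v) hc
    have hq' : line v (quadEval (cTab (quadPart G)) u) =
        PowerSeries.X ^ 2 * quadEval (fun i j => PowerSeries.C (quadPart G i j)) (s v) := by
      rw [← quadEval_smul']
      refine (map_quadEval' (line v).toRingHom _ _).trans ?_
      simp [cTab, line_C, hs]
    rw [map_mul, map_add, hqF, ht, hq'] at h
    have h' : PowerSeries.X ^ 2 * (line v c * qF v) = PowerSeries.X ^ 2 *
        (PowerSeries.X * t + quadEval (fun i j => PowerSeries.C (quadPart G i j)) (s v)) := by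
      linear_combination h
    have h2 := congrArg PowerSeries.constantCoeff (mul_left_cancel₀ (pow_ne_zero 2 PowerSeries.X_ne_zero) h')
    rw [map_mul, map_add, map_mul, PowerSeries.constantCoeff_X, zero_mul, zero_add, constantCoeff_line, hqF0,
      map_quadEval'] at h2
    rw [h2, ← hUv]
    simp
  have hbil : Uᵀ * polarMatrix (quadPart G) * U = MvPowerSeries.constantCoeff c • polarMatrix (quadPart F) := by
    refine Matrix.ext fun i j => ?_
    have h1 := key (Pi.single i 1 + Pi.single j 1)
    rw [Matrix.mulVec_add, quadEval_add, quadEval_add] at h1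
    have h2 : MvPowerSeries.constantCoeff c * (Pi.single i 1 ⬝ᵥ (polarMatrix (quadPart F) *ᵥ Pi.single j 1)) =
        (U *ᵥ Pi.single i 1) ⬝ᵥ (polarMatrix (quadPart G) *ᵥ (U *ᵥ Pi.single j 1)) := by
      linear_combination h1 - key (Pi.single i 1) - key (Pi.single j 1)
    simp only [Matrix.mulVec_single_one, Matrix.col_apply, single_dotProduct, one_mul] at h2
    rw [Matrix.mul_assoc, Matrix.smul_apply, smul_eq_mul, h2, Matrix.mul_apply]
    simp only [Matrix.transpose_apply, Matrix.mul_apply, dotProduct, Matrix.mulVec, Matrix.col_apply]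
  have hdet : IsUnit (MvPowerSeries.constantCoeff c • polarMatrix (quadPart F)).det := by
    rw [← hbil, Matrix.det_mul, Matrix.det_mul, Matrix.det_transpose]
    exact (hUdet.mul hG.2).mul hUdet
  rw [Matrix.det_smul] at hdet
  exact isUnit_of_mul_isUnit_right hdet

/-- The main equivalence at a translated point. -/
theorem main_origin (P : MvPolynomial (Fin N) k) (hN : 0 < N) {n : ℕ} (hn : n + 1 = N)
    (hlow : NoLowTerms (P : PS)) {S : Type u} [CommRing S] [Algebra k S] (π : MvPolynomial (Fin N) k →ₐ[k] S)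
    (hπ : Function.Surjective π) (hπP : RingHom.ker π = Ideal.span {P}) (M : Ideal S) [M.IsPrime]
    (hM : M = (MvPolynomial.idealOfVars (Fin N) k).map π) :
    (Ideal.span (Set.range fun i => π (MvPolynomial.pderiv i P))).map (algebraMap S (Localization.AtPrime M)) =
        IsLocalRing.maximalIdeal (Localization.AtPrime M) ↔
      IsNondegQuadSing k (Localization.AtPrime M) n := by
  classical
  subst hn
  let O := Localization.AtPrime M
  let mX := MvPolynomial.idealOfVars (Fin (n + 1)) k
  let H := polarMatrix (quadPart (P : MvPowerSeries (Fin (n + 1)) k))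
  have hP2 : P ∈ mX ^ 2 := by
    rw [MvPolynomial.mem_pow_idealOfVars_iff']
    intro d hd
    rw [← MvPolynomial.coeff_coe]
    rcases (show degree d = 0 ∨ degree d = 1 by omega) with h | h
    · rw [(Finsupp.degree_eq_zero_iff d).1 h, coeff_zero_eq_constantCoeff_apply, hlow.1]
    · obtain ⟨a, rfl⟩ := exists_eq_single h
      exact hlow.2 a
  have hlin : ∀ i, MvPolynomial.pderiv i P - ∑ j, MvPolynomial.C (H i j) * MvPolynomial.X j ∈ mX ^ 2 := by
    intro i
    have hcoe : ((MvPolynomial.pderiv i P : MvPolynomial (Fin (n + 1)) k) : MvPowerSeries (Fin (n + 1)) k) =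
        MvPowerSeries.pderiv k i (P : MvPowerSeries (Fin (n + 1)) k) :=
      MvPowerSeries.ext fun d => by
        rw [MvPolynomial.coeff_coe, MvPolynomial.coeff_pderiv, MvPowerSeries.coeff_pderiv, MvPolynomial.coeff_coe]
    rw [MvPolynomial.mem_pow_idealOfVars_iff']
    intro d hd
    rcases (show degree d = 0 ∨ degree d = 1 by omega) with h | h
    · rw [(Finsupp.degree_eq_zero_iff d).1 h, MvPolynomial.coeff_sub, ← MvPolynomial.coeff_coe, hcoe,
        coeff_zero_eq_constantCoeff_apply, constantCoeff_pderiv_eq, hlow.2 i, zero_sub, neg_eq_zero,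
        MvPolynomial.coeff_sum]
      exact Finset.sum_eq_zero fun j _ => by
        rw [MvPolynomial.coeff_C_mul]; simp
    · obtain ⟨a, rfl⟩ := exists_eq_single h
      rw [MvPolynomial.coeff_sub, ← MvPolynomial.coeff_coe, hcoe, coeff_single_pderiv, sub_eq_zero,
        MvPolynomial.coeff_sum]
      simp [MvPolynomial.coeff_X', Finsupp.single_left_inj, H]
  let θ : MvPolynomial (Fin (n + 1)) k →+* O := (algebraMap S O).comp π.toRingHom
  have hJ : (Ideal.span (Set.range fun i => π (MvPolynomial.pderiv i P))).map (algebraMap S O) =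
      Ideal.span (Set.range fun i => θ (MvPolynomial.pderiv i P)) := by
    rw [Ideal.map_span, ← Set.range_comp]; rfl
  have hmax : IsLocalRing.maximalIdeal O = mX.map θ := by
    rw [← Localization.AtPrime.map_eq_maximalIdeal]
    exact (congrArg (Ideal.map (algebraMap S O)) hM).trans (Ideal.map_map π.toRingHom (algebraMap S O))
  have iff1 : (Ideal.span (Set.range fun i => π (MvPolynomial.pderiv i P))).map (algebraMap S O) =
      IsLocalRing.maximalIdeal O ↔ IsUnit H.det := by
    rw [hJ]
    constructor
    · intro h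
      by_contra hd
      obtain ⟨v, hv, hHv⟩ := Matrix.exists_mulVec_eq_zero_iff.2 (by rwa [isUnit_iff_ne_zero, not_not] at hd)
      let χ : MvPolynomial (Fin (n + 1)) k →ₐ[k] DualNumber k := MvPolynomial.aeval fun i => TrivSqZeroExt.inr (v i)
      have hχm : mX.map χ ≤ RingHom.ker (TrivSqZeroExt.fstHom k k k) := by
        rw [Ideal.map_span]
        exact Ideal.span_le.2 fun x ⟨_, ⟨i, rfl⟩, hx⟩ => by subst hx; simp [χ]
      have hχ2 : ∀ x ∈ mX ^ 2, χ x = 0 := by
        intro x hx
        have := Ideal.pow_right_mono hχm 2 (by rw [← Ideal.map_pow]; exact Ideal.mem_map_of_mem χ hx)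
        rw [show (2 : ℕ) = 1 + 1 from rfl, Submodule.pow_succ, Submodule.pow_one] at this
        refine Submodule.mul_induction_on this (fun a ha b hb => ?_) (fun a b ha hb => by rw [ha, hb, add_zero])
        exact TrivSqZeroExt.ext (by simp [show a.fst = 0 from ha])
          (by simp [show a.fst = 0 from ha, show b.fst = 0 from hb])
      have hle : RingHom.ker π.toRingHom ≤ RingHom.ker χ.toRingHom := by
        show RingHom.ker π ≤ _
        rw [hπP, Ideal.span_singleton_le_iff_mem]
        exact hχ2 P hP2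
      let χ' : S →ₐ[k] DualNumber k := AlgHom.liftOfSurjective π hπ χ hle
      have hχ' : ∀ p, χ' (π p) = χ p := AlgHom.liftOfSurjective_apply _ _ _ _
      have hu : ∀ s : M.primeCompl, IsUnit (χ' s) := by
        rintro ⟨s, hs⟩
        obtain ⟨p, rfl⟩ := hπ s
        show IsUnit (χ' (π p))
        rw [hχ', TrivSqZeroExt.isUnit_iff_isUnit_fst, isUnit_iff_ne_zero]
        intro h0
        refine hs (hM ▸ Ideal.mem_map_of_mem π ?_)
        rw [← pow_one (MvPolynomial.idealOfVars (Fin (n + 1)) k), MvPolynomial.mem_pow_idealOfVars_iff']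
        intro d hd
        rw [(Finsupp.degree_eq_zero_iff d).1 (by omega), ← MvPolynomial.constantCoeff_eq]
        rw [← h0]
        have : (TrivSqZeroExt.fstHom k k k).comp χ = MvPolynomial.aeval (fun _ => (0 : k)) :=
          MvPolynomial.algHom_ext fun i => by simp [χ]
        have h3 := AlgHom.congr_fun this p
        rw [show (TrivSqZeroExt.fstHom k k k).comp χ p = (χ p).fst from rfl] at h3
        rw [h3, MvPolynomial.aeval_zero']
        rfl
      let χL : O →+* DualNumber k := IsLocalization.lift (M := M.primeCompl) (g := χ'.toRingHom) hu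
      have hχL : ∀ p, χL (θ p) = χ p := fun p => (IsLocalization.lift_eq _ (π p)).trans (hχ' p)
      have hz : ∀ i, χ (MvPolynomial.pderiv i P) = 0 := fun i => by
        have h2 := hχ2 _ (hlin i)
        rw [map_sub, sub_eq_zero] at h2
        rw [h2, map_sum]
        have h4 : ∑ j, χ (MvPolynomial.C (H i j) * MvPolynomial.X j) = TrivSqZeroExt.inr ((H *ᵥ v) i) := by
          refine TrivSqZeroExt.ext ?_ ?_
          · simp [χ, TrivSqZeroExt.fst_sum, TrivSqZeroExt.algebraMap_eq_inl]
          · simp [χ, TrivSqZeroExt.snd_sum, Matrix.mulVec, dotProduct, mul_comm, TrivSqZeroExt.algebraMap_eq_inl]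
        rw [h4, hHv]; simp
      obtain ⟨j, hj⟩ := Function.ne_iff.1 hv
      have hmem : θ (MvPolynomial.X j) ∈ Ideal.span (Set.range fun i => θ (MvPolynomial.pderiv i P)) := by
        rw [h, hmax]
        exact Ideal.mem_map_of_mem _ (Ideal.subset_span ⟨j, rfl⟩)
      have h5 := Ideal.mem_map_of_mem χL hmem
      rw [Ideal.map_span, ← Set.range_comp] at h5
      have h6 : Ideal.span (Set.range (χL ∘ fun i => θ (MvPolynomial.pderiv i P))) = ⊥ :=
        Ideal.span_eq_bot.2 fun x ⟨i, hi⟩ => by rw [← hi]; exact (hχL _).trans (hz i)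
      rw [h6, Submodule.mem_bot, hχL] at h5
      exact hj (by simpa [χ] using congrArg TrivSqZeroExt.snd h5)
    · intro hd
      let J := Ideal.span (Set.range fun i => θ (MvPolynomial.pderiv i P))
      have hJle : J ≤ IsLocalRing.maximalIdeal O := by
        rw [hmax]
        refine Ideal.span_le.2 fun x ⟨i, hi⟩ => hi ▸ Ideal.mem_map_of_mem θ ?_
        have h1 : ∑ j, MvPolynomial.C (H i j) * MvPolynomial.X j ∈ mX :=
          Ideal.sum_mem _ fun j _ => Ideal.mul_mem_left _ _ (Ideal.subset_span ⟨j, rfl⟩)
        simpa using add_mem (Ideal.pow_le_self two_ne_zero (hlin i)) h1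
      refine le_antisymm hJle (Submodule.le_of_le_smul_of_le_jacobson_bot
        (I := IsLocalRing.maximalIdeal O) ?_
        (IsLocalRing.maximalIdeal_le_jacobson _) ?_)
      · rw [hmax]
        exact Ideal.FG.map (Submodule.fg_span (Set.finite_range _)) θ
      · rw [hmax]
        refine Ideal.map_le_iff_le_comap.2 (Ideal.span_le.2 ?_)
        rintro _ ⟨l, rfl⟩
        have e : ∀ i, θ (∑ j, MvPolynomial.C (H i j) * MvPolynomial.X j) ∈ J ⊔ (mX.map θ) • (mX.map θ) := by
          intro i
          have h1 : θ (MvPolynomial.pderiv i P - ∑ j, MvPolynomial.C (H i j) * MvPolynomial.X j) ∈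
              (mX.map θ) • (mX.map θ) := by
            rw [smul_eq_mul, ← Ideal.map_mul, ← pow_two]
            exact Ideal.mem_map_of_mem θ (hlin i)
          rw [map_sub] at h1
          simpa using sub_mem (Ideal.mem_sup_left (T := (mX.map θ) • (mX.map θ))
            (Ideal.subset_span ⟨i, rfl⟩ : θ (MvPolynomial.pderiv i P) ∈ J)) (Ideal.mem_sup_right h1)
        show θ (MvPolynomial.X l) ∈ J ⊔ (mX.map θ) • (mX.map θ)
        have hX : (MvPolynomial.X l : MvPolynomial (Fin (n + 1)) k) =
            ∑ i, MvPolynomial.C (H⁻¹ l i) * ∑ j, MvPolynomial.C (H i j) * MvPolynomial.X j := by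
          simp only [Finset.mul_sum, ← mul_assoc, ← map_mul]
          rw [Finset.sum_comm]
          simp only [← Finset.sum_mul, ← map_sum, ← Matrix.mul_apply, Matrix.nonsing_inv_mul H hd, Matrix.one_apply]
          simp
        rw [hX, map_sum]
        exact Ideal.sum_mem _ fun i _ => by rw [map_mul]; exact Ideal.mul_mem_left _ _ (e i)
  obtain ⟨e, he⟩ := exists_completion_equiv P (by simpa using Ideal.pow_le_self two_ne_zero hP2) π hπ hπP M hM
  let e' : AdicCompletion (IsLocalRing.maximalIdeal O) O ≃ₐ[k]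
      (MvPowerSeries (Fin (n + 1)) k ⧸ Ideal.span {(P : MvPowerSeries (Fin (n + 1)) k)}) :=
    AlgEquiv.ofRingEquiv (f := e) fun c => by
      rw [IsScalarTower.algebraMap_apply k O (AdicCompletion (IsLocalRing.maximalIdeal O) O)]
      exact he c
  rw [iff1]
  constructor
  · exact fun hd => ⟨_, ⟨hlow, hd⟩, ⟨e'⟩⟩
  · rintro ⟨G, hG, ⟨eG⟩⟩
    exact quadNondeg_of_algEquiv hN hlow hG (eG.symm.trans e')

theorem pderiv_aeval_add (a : Fin N → k) (i : Fin N) (g : MvPolynomial (Fin N) k) :
    MvPolynomial.pderiv i (MvPolynomial.aeval (fun j => MvPolynomial.X j + MvPolynomial.C (a j)) g) =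
      MvPolynomial.aeval (fun j => MvPolynomial.X j + MvPolynomial.C (a j)) (MvPolynomial.pderiv i g) := by
  induction g using MvPolynomial.induction_on with
  | C c => simp
  | add p q hp hq => simp only [map_add, hp, hq]
  | mul_X p j hp =>
    simp only [map_mul, MvPolynomial.aeval_X, MvPolynomial.pderiv_mul, hp, map_add, MvPolynomial.pderiv_C,
      MvPolynomial.pderiv_X, add_zero]
    rcases eq_or_ne j i with h | h
    · subst h; simp
    · simp [h]

/-- Proof of the criterion at an arbitrary closed point of a hypersurface. -/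
theorem main [IsAlgClosed k] (n : ℕ) (f : MvPolynomial (Fin (n + 1)) k)
    (Q : Ideal (MvPolynomial (Fin (n + 1)) k ⧸ Ideal.span {f})) [Q.IsMaximal]
    (hQ : ∀ j, Ideal.Quotient.mk (Ideal.span {f}) (MvPolynomial.pderiv j f) ∈ Q) :
    Ideal.map (algebraMap (MvPolynomial (Fin (n + 1)) k ⧸ Ideal.span {f}) (Localization.AtPrime Q))
        (Ideal.span (Set.range fun j => Ideal.Quotient.mk (Ideal.span {f}) (MvPolynomial.pderiv j f))) =
      IsLocalRing.maximalIdeal (Localization.AtPrime Q) ↔
    IsNondegQuadSing k (Localization.AtPrime Q) n := by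
  haveI : (Q.comap (Ideal.Quotient.mk (Ideal.span {f}))).IsMaximal :=
    Ideal.comap_isMaximal_of_surjective _ Ideal.Quotient.mk_surjective
  obtain ⟨a, ha⟩ := MvPolynomial.isMaximal_iff_eq_vanishingIdeal_singleton.1
    (inferInstance : (Q.comap (Ideal.Quotient.mk (Ideal.span {f}))).IsMaximal)
  have hev : ∀ g, Ideal.Quotient.mk (Ideal.span {f}) g ∈ Q → MvPolynomial.eval a g = 0 := fun g hg => by
    have h : g ∈ Q.comap (Ideal.Quotient.mk (Ideal.span {f})) := hg
    rw [ha, MvPolynomial.mem_vanishingIdeal_singleton_iff] at h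
    exact h
  let τ : MvPolynomial (Fin (n + 1)) k →ₐ[k] MvPolynomial (Fin (n + 1)) k := MvPolynomial.aeval fun j => MvPolynomial.X j + MvPolynomial.C (a j)
  let τ' : MvPolynomial (Fin (n + 1)) k →ₐ[k] MvPolynomial (Fin (n + 1)) k := MvPolynomial.aeval fun j => MvPolynomial.X j - MvPolynomial.C (a j)
  have h1 : ∀ g, τ' (τ g) = g := fun g =>
    AlgHom.congr_fun (show τ'.comp τ = AlgHom.id k (MvPolynomial (Fin (n + 1)) k) from MvPolynomial.algHom_ext fun j => by simp [τ, τ']) g
  have h2 : ∀ g, τ (τ' g) = g := fun g =>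
    AlgHom.congr_fun (show τ.comp τ' = AlgHom.id k (MvPolynomial (Fin (n + 1)) k) from MvPolynomial.algHom_ext fun j => by simp [τ, τ']) g
  let π : MvPolynomial (Fin (n + 1)) k →ₐ[k] (MvPolynomial (Fin (n + 1)) k ⧸ Ideal.span {f}) := (Ideal.Quotient.mkₐ k _).comp τ'
  have hπ : Function.Surjective π := fun z => by
    obtain ⟨g, rfl⟩ := Ideal.Quotient.mk_surjective z
    exact ⟨τ g, congrArg (Ideal.Quotient.mk _) (h1 g)⟩
  have hπP : RingHom.ker π = Ideal.span {τ f} := by
    refine le_antisymm (fun g hg => ?_) ((Ideal.span_singleton_le_iff_mem _).2 ?_)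
    · obtain ⟨c, hc⟩ := Ideal.mem_span_singleton'.1 (Ideal.Quotient.eq_zero_iff_mem.1 (show
        Ideal.Quotient.mk (Ideal.span {f}) (τ' g) = 0 from hg))
      exact Ideal.mem_span_singleton'.2 ⟨τ c, by rw [← map_mul, hc, h2]⟩
    · show Ideal.Quotient.mk (Ideal.span {f}) (τ' (τ f)) = 0
      rw [h1]
      exact Ideal.Quotient.eq_zero_iff_mem.2 (Ideal.mem_span_singleton_self f)
  have hcc : ∀ g, MvPolynomial.constantCoeff (τ g) = MvPolynomial.eval a g := fun g => by
    refine RingHom.congr_fun (show (MvPolynomial.constantCoeff).comp τ.toRingHom = MvPolynomial.eval a from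
      MvPolynomial.ringHom_ext (fun c => by simp [τ]) fun j => by simp [τ]) g
  have hlow : NoLowTerms ((τ f : MvPolynomial (Fin (n + 1)) k) : MvPowerSeries (Fin (n + 1)) k) := by
    refine ⟨?_, fun i => ?_⟩
    · rw [← coeff_zero_eq_constantCoeff_apply, MvPolynomial.coeff_coe, ← MvPolynomial.constantCoeff_eq]
      exact (hcc f).trans (hev f (by rw [Ideal.Quotient.eq_zero_iff_mem.2 (Ideal.mem_span_singleton_self f)]; exact Q.zero_mem))
    · have h3 := congrArg MvPolynomial.constantCoeff (pderiv_aeval_add a i f)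
      rw [hcc, hev _ (hQ i), MvPolynomial.constantCoeff_eq, MvPolynomial.coeff_pderiv, zero_add] at h3
      simpa [τ] using h3
  have hM : Q = (MvPolynomial.idealOfVars (Fin (n + 1)) k).map π := by
    refine le_antisymm (fun z hz => ?_) ?_
    · obtain ⟨g, rfl⟩ := hπ z
      refine Ideal.mem_map_of_mem π ?_
      rw [← pow_one (MvPolynomial.idealOfVars (Fin (n + 1)) k), MvPolynomial.mem_pow_idealOfVars_iff']
      intro d hd
      rw [(Finsupp.degree_eq_zero_iff d).1 (by omega), ← MvPolynomial.constantCoeff_eq]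
      have h4 := hev (τ' g) hz
      rw [← hcc, h2] at h4
      exact h4
    · rw [Ideal.map_span, Ideal.span_le]
      rintro _ ⟨_, ⟨j, rfl⟩, rfl⟩
      show τ' (MvPolynomial.X j) ∈ Q.comap (Ideal.Quotient.mk (Ideal.span {f}))
      rw [ha, MvPolynomial.mem_vanishingIdeal_singleton_iff]
      simp [τ']
  have hgen : (fun j => π (MvPolynomial.pderiv j (τ f))) =
      fun j => Ideal.Quotient.mk (Ideal.span {f}) (MvPolynomial.pderiv j f) := funext fun j => by
    show Ideal.Quotient.mk _ (τ' (MvPolynomial.pderiv j (τ f))) = _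
    rw [pderiv_aeval_add]
    exact congrArg (Ideal.Quotient.mk _) (h1 _)
  have := main_origin (τ f) (Nat.succ_pos n) (n := n) rfl hlow π hπ hπP Q hM
  rw [hgen] at this
  exact this

end Groth.Agent.Et18.NondegIff
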