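import Groth.Agent.Et18.FinitePush
import Groth.Agent.Et18.EtalePieces
import Groth.Agent.HenselLib.Unique
import Mathlib.Algebra.Homology.DerivedCategory.Ext.EnoughProjectives
import Mathlib.FieldTheory.IsAlgClosed.AlgebraicClosure

/-!
# Étale sheaves on schemes integral over a strictly henselian local ring
-/

universe u

open CategoryTheory CategoryTheory.Limits AlgebraicGeometry Opposite

set_option backward.isDefEq.respectTransparency.types false
set_option backward.isDefEq.respectTransparency false

namespace Groth.Agent.Et18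

variable (R : Type u) [CommRing R] [HenselianLocalRing R]

/-- The geometric closed point of the spectrum of a local ring. -/
noncomputable abbrev closedGeomPt :
    Spec (CommRingCat.of (AlgebraicClosure (IsLocalRing.ResidueField R))) ⟶ Spec (CommRingCat.of R) :=
  Spec.map (CommRingCat.ofHom ((algebraMap (IsLocalRing.ResidueField R) _).comp (IsLocalRing.residue R)))

variable [IsSepClosed (IsLocalRing.ResidueField R)]

/-- Étale neighbourhoods of a closed geometric point have sections. -/
theorem exists_section_of_residue {K : Type u} [Field K] [IsSepClosed K]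
    (ρ : IsLocalRing.ResidueField R →+* K) (V : (Spec (CommRingCat.of R)).Etale)
    (v : (Scheme.pointSmallEtale
      (Spec.map (CommRingCat.ofHom (ρ.comp (IsLocalRing.residue R))))).fiber.obj V) :
    ∃ σ : EtCoh.top (Spec (CommRingCat.of R)) ⟶ V,
      Spec.map (CommRingCat.ofHom (ρ.comp (IsLocalRing.residue R))) ≫ σ.left =
        (v.left : _ ⟶ V.left) := by
  let k := IsLocalRing.ResidueField R
  letI : Algebra k K := ρ.toAlgebra
  letI : Algebra R K := (ρ.comp (IsLocalRing.residue R)).toAlgebra
  haveI : IsScalarTower R k K := .of_algebraMap_eq fun _ => rfl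
  let vl : Spec (CommRingCat.of K) ⟶ V.left := v.left
  have hvl : vl ≫ V.hom = Spec.map (CommRingCat.ofHom (ρ.comp (IsLocalRing.residue R))) := Over.w v
  have : Etale V.hom := V.prop
  obtain ⟨U, hU, hvU, -⟩ := exists_isAffineOpen_mem_and_subset (X := V.left)
    (x := vl default) (U := ⊤) trivial
  have : IsAffine U.toScheme := hU
  let v₁ : Spec (CommRingCat.of K) ⟶ U.toScheme := IsOpenImmersion.lift U.ι vl (by
    rintro _ ⟨t, rfl⟩
    exact ⟨⟨vl default, hvU⟩, congrArg vl (Subsingleton.elim default t)⟩)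
  have hv₁ : v₁ ≫ U.ι = vl := IsOpenImmersion.lift_fac _ _ _
  let q : U.toScheme ⟶ Spec (CommRingCat.of R) := U.ι ≫ V.hom
  let A : Type u := Γ(U.toScheme, ⊤)
  let φ : CommRingCat.of R ⟶ CommRingCat.of A := Spec.preimage (U.toScheme.isoSpec.inv ≫ q)
  have hφ : Spec.map φ = U.toScheme.isoSpec.inv ≫ q := Spec.map_preimage _
  have : Etale (Spec.map φ) := by rw [hφ]; infer_instance
  have hA : φ.hom.Etale := (HasRingHomProperty.Spec_iff (P := @Etale)).mp this
  algebraize [φ.hom]
  have : Algebra.Etale R A := RingHom.etale_algebraMap.mp hA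
  let g₀ : CommRingCat.of A ⟶ CommRingCat.of K := Spec.preimage (v₁ ≫ U.toScheme.isoSpec.hom)
  let c : CommRingCat.of R ⟶ CommRingCat.of K :=
    CommRingCat.ofHom ((algebraMap k K).comp (IsLocalRing.residue R))
  have hgc : φ ≫ g₀ = c := Spec.map_injective (by
    rw [Spec.map_comp, Spec.map_preimage, hφ, Category.assoc, Iso.hom_inv_id_assoc]
    change v₁ ≫ U.ι ≫ V.hom = _
    rw [← Category.assoc, hv₁]
    exact hvl)
  let g : A →ₐ[R] K :=
    { g₀.hom with commutes' := fun r => congrArg (fun t => t.hom r) hgc }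
  obtain ⟨g₁, hg₁⟩ := HenselLib.exists_factor_residueField (IsScalarTower.toAlgHom R k K) g
  obtain ⟨s, hs, -⟩ := HenselLib.existsUnique_to_residueField R g₁
  let sc : CommRingCat.of A ⟶ CommRingCat.of R := CommRingCat.ofHom s.toRingHom
  let σl : Spec (CommRingCat.of R) ⟶ V.left := Spec.map sc ≫ U.toScheme.isoSpec.inv ≫ U.ι
  have hφs : φ ≫ sc = 𝟙 _ := CommRingCat.hom_ext s.comp_algebraMap
  refine ⟨MorphismProperty.Over.homMk σl ?_, ?_⟩
  · change σl ≫ V.hom = 𝟙 _
    simp only [σl, Category.assoc]
    change Spec.map sc ≫ U.toScheme.isoSpec.inv ≫ q = _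
    rw [← hφ, ← Spec.map_comp, hφs, Spec.map_id]
  · change Spec.map c ≫ σl = vl
    have hsc : sc ≫ c = g₀ := CommRingCat.hom_ext (RingHom.ext fun a => by
      have h1 := AlgHom.congr_fun hg₁ a
      have h2 : algebraMap k K (IsLocalRing.residue R (s a)) = g a := by rw [hs a]; exact h1
      exact h2)
    simp only [σl]
    rw [← Spec.map_comp_assoc, hsc, Spec.map_preimage]
    simp only [Category.assoc, Iso.hom_inv_id_assoc, hv₁]

/-- Étale neighbourhoods of the closed geometric point have sections. -/
theorem exists_section_of_fiber (V : (Spec (CommRingCat.of R)).Etale)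
    (v : (Scheme.pointSmallEtale (closedGeomPt R)).fiber.obj V) :
    ∃ σ : EtCoh.top (Spec (CommRingCat.of R)) ⟶ V,
      closedGeomPt R ≫ σ.left = (v.left : _ ⟶ V.left) :=
  exists_section_of_residue R (algebraMap (IsLocalRing.ResidueField R) _) V v

/-- Global sections are the stalk at the closed geometric point. -/
theorem bijective_toPresheafFiber_top {A : Type*} [Category A] [HasColimitsOfSize.{u, u} A]
    {FA : A → A → Type*} {CA : A → Type*} [∀ X Y, FunLike (FA X Y) (CA X) (CA Y)]
    [ConcreteCategory A FA] [PreservesFilteredColimitsOfSize.{u, u} (forget A)]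
    {K : Type u} [Field K] [IsSepClosed K] (ρ : IsLocalRing.ResidueField R →+* K)
    (P : (Spec (CommRingCat.of R)).Etaleᵒᵖ ⥤ A) :
    Function.Bijective ((Scheme.pointSmallEtale
      (Spec.map (CommRingCat.ofHom (ρ.comp (IsLocalRing.residue R))))).toPresheafFiber
        (EtCoh.top (Spec (CommRingCat.of R)))
        (Over.homMk (Spec.map (CommRingCat.ofHom (ρ.comp (IsLocalRing.residue R))))
          (Category.comp_id _)) P) := by
  let Φ := Scheme.pointSmallEtale (Spec.map (CommRingCat.ofHom (ρ.comp (IsLocalRing.residue R))))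
  constructor
  · intro s t h
    rw [Φ.toPresheafFiber_eq_iff'] at h
    obtain ⟨V, a, v, -, hst⟩ := h
    obtain ⟨τ, -⟩ := exists_section_of_residue R ρ V v
    have hτ : τ ≫ a = 𝟙 _ := etaleHom_ext (by
      have h := Over.w (τ ≫ a).hom
      exact (Category.comp_id _).symm.trans (h.trans rfl))
    have h2 := congrArg (fun z => P.map τ.op z) hst
    simpa only [← ConcreteCategory.comp_apply, ← Functor.map_comp, ← op_comp, hτ, op_id,
      CategoryTheory.Functor.map_id, ConcreteCategory.id_apply] using h2
  · intro p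
    obtain ⟨V, v, t, rfl⟩ := Φ.toPresheafFiber_jointly_surjective p
    obtain ⟨σ, hσ⟩ := exists_section_of_residue R ρ V v
    refine ⟨P.map σ.op t, ?_⟩
    rw [GrothendieckTopology.Point.toPresheafFiber_w_apply]
    congr 3
    exact Over.OverMorphism.ext hσ

variable {R} {X : Scheme.{u}} (f : X ⟶ Spec (CommRingCat.of R))

/-- Global sections lift along epimorphisms. -/
theorem exists_lift_section [IsIntegralHom f] {F G : EtCoh.Ab X} (φ : F ⟶ G) [Epi φ]
    (s : G.obj.obj (op ((EtCoh.bc f).obj (EtCoh.top _)))) :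
    ∃ t : F.obj.obj (op ((EtCoh.bc f).obj (EtCoh.top _))), φ.hom.app _ t = s := by
  let Φ := Scheme.pointSmallEtale (closedGeomPt R)
  let PF := (EtCoh.push f).obj F
  let PG := (EtCoh.push f).obj G
  let ψ := (EtCoh.push f).map φ
  have := push_preservesEpimorphisms_of_propB f (propB_of_integral f)
  have : (EtCoh.stalk (closedGeomPt R)).IsLeftAdjoint :=
    ⟨_, ⟨Φ.skyscraperSheafAdjunction (A := AddCommGrpCat.{u + 1})⟩⟩
  have hsurj : Function.Surjective ((EtCoh.stalk (closedGeomPt R)).map ψ) :=
    (AddCommGrpCat.epi_iff_surjective _).mp inferInstance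
  let v₀ : Φ.fiber.obj (EtCoh.top (Spec (CommRingCat.of R))) :=
    Over.homMk (closedGeomPt R) (Category.comp_id _)
  obtain ⟨p, hp⟩ := hsurj (Φ.toPresheafFiber _ v₀ PG.obj s)
  obtain ⟨V, v, t, rfl⟩ := Φ.toPresheafFiber_jointly_surjective (P := PF.obj) p
  obtain ⟨σ, hσ⟩ := exists_section_of_fiber R V v
  have h1 : Φ.toPresheafFiber V v PG.obj (ψ.hom.app (op V) t) =
      Φ.toPresheafFiber _ v₀ PG.obj s :=
    ((Φ.toPresheafFiber_naturality_apply ψ.hom V v t).symm).trans hp
  have hσv : Φ.fiber.map σ v₀ = v := Over.OverMorphism.ext hσ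
  rw [← hσv, ← GrothendieckTopology.Point.toPresheafFiber_w_apply,
    Φ.toPresheafFiber_eq_iff'] at h1
  obtain ⟨V', a, v', -, hst⟩ := h1
  obtain ⟨τ, -⟩ := exists_section_of_fiber R V' v'
  have hτ : τ ≫ a = 𝟙 _ := etaleHom_ext (by
    have h := Over.w (τ ≫ a).hom
    exact (Category.comp_id _).symm.trans (h.trans rfl))
  refine ⟨PF.obj.map σ.op t, ?_⟩
  have h2 := congrArg (fun z => PG.obj.map τ.op z) hst
  simp only [← ConcreteCategory.comp_apply, ← Functor.map_comp, ← op_comp, reassoc_of% hτ, hτ, op_id,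
    CategoryTheory.Functor.map_id] at h2
  refine Eq.trans ?_ h2
  exact ((ConcreteCategory.comp_apply _ _ t).symm.trans
    (ConcreteCategory.congr_hom (ψ.hom.naturality σ.op) t)).trans (ConcreteCategory.comp_apply _ _ t)

/-- Over a strictly henselian base the constant sheaf `ℤ` is projective on integral schemes. -/
theorem projective_const [IsIntegralHom f] :
    Projective ((constantSheaf X.smallEtaleTopology AddCommGrpCat.{u + 1}).obj
      (AddCommGrpCat.of (ULift.{u + 1} ℤ))) := by
  let hT := EtCore.bcTopIsTerminal f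
  let adj := constantSheafAdj X.smallEtaleTopology AddCommGrpCat.{u + 1} hT
  refine ⟨fun {F G} g φ _ => ?_⟩
  obtain ⟨t, ht⟩ := exists_lift_section f φ
    (AddCommGrpCat.uliftZMultiplesAddEquiv _ (adj.homEquiv _ _ g))
  refine ⟨(adj.homEquiv _ _).symm ((AddCommGrpCat.uliftZMultiplesAddEquiv _).symm t), ?_⟩
  apply (adj.homEquiv _ _).injective
  rw [Adjunction.homEquiv_naturality_right, Equiv.apply_symm_apply]
  apply (AddCommGrpCat.uliftZMultiplesAddEquiv _).injective
  refine Eq.trans ?_ ht
  exact congrArg (φ.hom.app _) ((AddCommGrpCat.uliftZMultiplesAddEquiv _).apply_symm_apply t)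

include f in
/-- Higher cohomology vanishes on schemes integral over a strictly henselian local ring. -/
theorem subsingleton_H_of_integral [IsIntegralHom f] (F : EtCoh.Ab X) (j : ℕ) :
    Subsingleton (EtCoh.H X F (j + 1)) :=
  haveI := projective_const f
  subsingleton_of_forall_eq 0 fun x => Abelian.Ext.eq_zero_of_projective x

end Groth.Agent.Et18
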