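import Groth.Agent.Et18.Morse
import Mathlib.RingTheory.MvPowerSeries.Evaluation
import Mathlib.RingTheory.MvPowerSeries.LinearTopology
import Mathlib.RingTheory.AdicCompletion.Topology
import Mathlib.RingTheory.MvPowerSeries.PiTopology

/-! Translations `Xᵢ ↦ Xᵢ + cᵢ`, `cᵢ ∈ I`, of power series over an `I`-adically complete ring, and zeros of the
gradient of a series with non-degenerate quadratic part. -/

namespace Groth.Agent.Et18

open MvPowerSeries Finsupp VanCyc
open scoped Matrix

universe u

variable {A : Type u} [CommRing A] (I : Ideal A) {N : ℕ}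

lemma eq_zero_of_mem_pow [IsHausdorff I A] {x : A} (h : ∀ t, x ∈ I ^ t) : x = 0 :=
  IsHausdorff.haus' (I := I) x fun t => by
    rw [SModEq.zero, smul_eq_mul, Ideal.mul_top]
    exact h t

lemma eq_of_sub_mem_pow [IsHausdorff I A] {x y : A} (h : ∀ t, x - y ∈ I ^ t) : x = y :=
  sub_eq_zero.1 (eq_zero_of_mem_pow I h)

open scoped Topology MvPowerSeries.WithPiTopology in
theorem exists_translate [IsAdicComplete I A] (c : Fin N → A) (hc : ∀ i, c i ∈ I) :
    ∃ τ : MvPowerSeries (Fin N) A →ₐ[A] MvPowerSeries (Fin N) A, ∀ i, τ (X i) = X i + C (c i) := by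
  letI : TopologicalSpace A := I.adicTopology
  haveI : IsTopologicalRing A := I.ringFilterBasis.isTopologicalRing
  letI : UniformSpace A := IsTopologicalAddGroup.rightUniformSpace A
  haveI : IsUniformAddGroup A := isUniformAddGroup_of_addCommGroup
  have hI : IsAdic I := rfl
  obtain ⟨_, _⟩ := hI.isAdicComplete_iff.1 ‹_›
  have hbasis := hI.hasBasis_nhds_zero
  haveI : IsLinearTopology A A :=
    IsLinearTopology.mk_of_hasBasis' A hbasis (fun J r x hx => J.mul_mem_left r hx)
  haveI : IsLinearTopology Aᵐᵒᵖ A :=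
    IsLinearTopology.mk_of_hasBasis' Aᵐᵒᵖ hbasis (fun J r x hx => J.mul_mem_right _ hx)
  haveI : ContinuousSMul A (MvPowerSeries (Fin N) A) :=
    continuousSMul_of_algebraMap A (MvPowerSeries (Fin N) A) MvPowerSeries.WithPiTopology.continuous_C
  have ha : HasEval (fun i : Fin N => (X i + C (c i) : MvPowerSeries (Fin N) A)) := by
    refine ⟨fun i => LinearTopology.isTopologicallyNilpotent_of_constantCoeff ?_, by
      simp [Filter.cofinite_eq_bot]⟩
    rw [map_add, constantCoeff_X, constantCoeff_C, zero_add]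
    refine hbasis.tendsto_right_iff.2 fun t _ => ?_
    exact Filter.eventually_atTop.2 ⟨t, fun n hn => Ideal.pow_le_pow_right hn (Ideal.pow_mem_pow (hc i) n)⟩
  refine ⟨aeval ha, fun i => ?_⟩
  have e := aeval_coe ha (MvPolynomial.X i : MvPolynomial (Fin N) A)
  rwa [MvPolynomial.coe_X, MvPolynomial.aeval_X] at e

lemma eq_C_add_sum_divVar (F : MvPowerSeries (Fin N) A) :
    F = C (constantCoeff F) + ∑ j, X j * divVar j (F - C (constantCoeff F)) := by
  rw [sum_X_mul_divVar _ (by simp), add_sub_cancel]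

lemma algHom_decomp {S : Type*} [CommRing S] [Algebra A S] (ψ : MvPowerSeries (Fin N) A →ₐ[A] S)
    (F : MvPowerSeries (Fin N) A) :
    ψ F = algebraMap A S (constantCoeff F) +
      ∑ j, ψ (X j) * ψ (divVar j (F - C (constantCoeff F))) := by
  conv_lhs => rw [eq_C_add_sum_divVar F]
  simp [c_eq_algebraMap]

/-- the coefficient of a product is controlled by the lower coefficients of the second factor -/
lemma coeff_mul_mem {J K : Ideal A} {p x : MvPowerSeries (Fin N) A} {d : Fin N →₀ ℕ}
    (h0 : constantCoeff p * coeff d x ∈ J) (hx : ∀ e, degree e < degree d → coeff e x ∈ K)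
    (hK : K ≤ J) : coeff d (p * x) ∈ J := by
  classical
  rw [coeff_mul]
  refine J.sum_mem fun y hy => ?_
  rw [Finset.mem_antidiagonal] at hy
  have hdeg : degree y.1 + degree y.2 = degree d := by rw [← map_add, hy]
  by_cases h1 : y.1 = 0
  · rw [h1, zero_add] at hy
    rw [h1, hy, coeff_zero_eq_constantCoeff_apply]
    exact h0
  · have : degree y.1 ≠ 0 := fun h => h1 ((Finsupp.degree_eq_zero_iff _).1 h)
    exact J.mul_mem_left _ (hK (hx _ (by omega)))

/-- algebra maps into power series are determined by the images of the variables -/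
theorem algHom_ext_X [IsHausdorff I A] {ψ ψ' : MvPowerSeries (Fin N) A →ₐ[A] MvPowerSeries (Fin N) A}
    (h0 : ∀ i, constantCoeff (ψ (X i)) ∈ I) (h : ∀ i, ψ (X i) = ψ' (X i)) : ψ = ψ' := by
  have key : ∀ n t (d : Fin N →₀ ℕ), t + degree d = n → ∀ F, coeff d (ψ F - ψ' F) ∈ I ^ t := by
    intro n
    induction n using Nat.strong_induction_on with
    | _ n ih =>
      intro t d hn F
      rcases t with _ | t
      · rw [pow_zero, Ideal.one_eq_top]; exact Submodule.mem_top
      rw [algHom_decomp ψ F, algHom_decomp ψ' F, add_sub_add_left_eq_sub, ← Finset.sum_sub_distrib, map_sum]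
      refine Ideal.sum_mem _ fun j _ => ?_
      rw [← h j, ← mul_sub]
      refine coeff_mul_mem ?_ (K := I ^ (t + 1)) (fun e he => ih _ (by omega) _ e rfl _) le_rfl
      rw [pow_succ']
      exact Ideal.mul_mem_mul (h0 j) (ih (t + degree d) (by omega) t d rfl _)
  refine AlgHom.ext fun F => ?_
  ext d
  exact eq_of_sub_mem_pow I fun t => by rw [← map_sub]; exact key _ t d rfl F

variable {I}

/-- a translation is an automorphism -/
theorem exists_translate_equiv [IsAdicComplete I A] (c : Fin N → A) (hc : ∀ i, c i ∈ I) :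
    ∃ τ : MvPowerSeries (Fin N) A ≃ₐ[A] MvPowerSeries (Fin N) A, ∀ i, τ (X i) = X i + C (c i) := by
  obtain ⟨τ, hτ⟩ := exists_translate I c hc
  obtain ⟨τ', hτ'⟩ := exists_translate I (fun i => -c i) (fun i => I.neg_mem (hc i))
  have h1 : τ.comp τ' = AlgHom.id A _ := algHom_ext_X I (fun i => by
      simp [hτ, hτ', c_eq_algebraMap]) (fun i => by simp [hτ, hτ', c_eq_algebraMap])
  have h2 : τ'.comp τ = AlgHom.id A _ := algHom_ext_X I (fun i => by
      simp [hτ, hτ', c_eq_algebraMap]) (fun i => by simp [hτ, hτ', c_eq_algebraMap])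
  exact ⟨AlgEquiv.ofAlgHom τ τ' h1 h2, hτ⟩

/-- a translation does not change the coefficients modulo `I` -/
theorem coeff_translate_sub_mem {τ : MvPowerSeries (Fin N) A →ₐ[A] MvPowerSeries (Fin N) A} {c : Fin N → A}
    (hc : ∀ i, c i ∈ I) (hτ : ∀ i, τ (X i) = X i + C (c i)) (F : MvPowerSeries (Fin N) A) (d : Fin N →₀ ℕ) :
    coeff d (τ F - F) ∈ I := by
  induction hn : degree d using Nat.strong_induction_on generalizing d F with
  | _ n ih =>
    rw [algHom_decomp τ F]
    conv in (_ - F) => arg 2; rw [eq_C_add_sum_divVar F]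
    rw [← c_eq_algebraMap, add_sub_add_left_eq_sub, ← Finset.sum_sub_distrib, map_sum]
    refine Ideal.sum_mem _ fun j _ => ?_
    rw [hτ, add_mul, add_sub_right_comm, ← mul_sub, map_add, coeff_C_mul]
    refine I.add_mem (coeff_mul_mem ?_ (K := I) (fun e he => ih _ (by omega) _ e rfl) le_rfl)
      (I.mul_mem_right _ (hc j))
    rw [constantCoeff_X, zero_mul]
    exact I.zero_mem

section Eval

/-- an algebra map `A[[X]] → A` sending the variables into `I` -/
def IsEvalIn (I : Ideal A) (φ : MvPowerSeries (Fin N) A →ₐ[A] A) : Prop := ∀ i, φ (X i) ∈ I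

variable {φ φ' : MvPowerSeries (Fin N) A →ₐ[A] A}

lemma eval_decomp (φ : MvPowerSeries (Fin N) A →ₐ[A] A) (F : MvPowerSeries (Fin N) A) :
    φ F = constantCoeff F + ∑ j, φ (X j) * φ (divVar j (F - C (constantCoeff F))) := algHom_decomp φ F

lemma eval_sub_constantCoeff_mem (h : IsEvalIn I φ) (F : MvPowerSeries (Fin N) A) :
    φ F - constantCoeff F ∈ I := by
  rw [eval_decomp φ F, add_sub_cancel_left]
  exact I.sum_mem fun j _ => I.mul_mem_right _ (h j)

lemma eval_sub_mem_pow (h' : IsEvalIn I φ') {k : ℕ} (hd : ∀ i, φ (X i) - φ' (X i) ∈ I ^ k) :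
    ∀ t ≤ k, ∀ F, φ F - φ' F ∈ I ^ t := by
  intro t
  induction t with
  | zero => intro _ F; rw [pow_zero, Ideal.one_eq_top]; exact Submodule.mem_top
  | succ t ih =>
    intro ht F
    rw [eval_decomp φ F, eval_decomp φ' F, add_sub_add_left_eq_sub, ← Finset.sum_sub_distrib]
    refine Ideal.sum_mem _ fun j _ => ?_
    have : ∀ a b a' b' : A, a * b - a' * b' = (a - a') * b + a' * (b - b') := fun _ _ _ _ => by ring
    rw [this]
    refine Ideal.add_mem _ (Ideal.mul_mem_right _ _ (Ideal.pow_le_pow_right ht (hd j))) ?_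
    rw [pow_succ']
    exact Ideal.mul_mem_mul (h' j) (ih (by omega) _)

lemma eval_sub_linear_mem_pow (h : IsEvalIn I φ) (h' : IsEvalIn I φ') {k : ℕ}
    (hd : ∀ i, φ (X i) - φ' (X i) ∈ I ^ k) (F : MvPowerSeries (Fin N) A) :
    φ F - φ' F - ∑ j, coeff (single j 1) F * (φ (X j) - φ' (X j)) ∈ I ^ (k + 1) := by
  rw [eval_decomp φ F, eval_decomp φ' F, add_sub_add_left_eq_sub, ← Finset.sum_sub_distrib,
    ← Finset.sum_sub_distrib]
  refine Ideal.sum_mem _ fun j _ => ?_
  have hlin : coeff (single j 1) F = constantCoeff (divVar j (F - C (constantCoeff F))) := by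
    rw [constantCoeff_divVar, map_sub, coeff_C, if_neg (by simp), sub_zero]
  rw [hlin]
  generalize divVar j (F - C (constantCoeff F)) = G
  have : φ (X j) * φ G - φ' (X j) * φ' G - constantCoeff G * (φ (X j) - φ' (X j)) =
      (φ (X j) - φ' (X j)) * (φ G - constantCoeff G) + φ' (X j) * (φ G - φ' G) := by ring
  rw [this]
  refine Ideal.add_mem _ ?_ ?_
  · rw [pow_succ]; exact Ideal.mul_mem_mul (hd j) (eval_sub_constantCoeff_mem h G)
  · rw [pow_succ']; exact Ideal.mul_mem_mul (h' j) (eval_sub_mem_pow h' hd k le_rfl G)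

/-- linear terms of a translate are the values of the partial derivatives -/
theorem coeff_single_translate [IsHausdorff I A] {τ : MvPowerSeries (Fin N) A →ₐ[A] MvPowerSeries (Fin N) A}
    {c : Fin N → A} (hc : ∀ i, c i ∈ I) (hτ : ∀ i, τ (X i) = X i + C (c i))
    (F : MvPowerSeries (Fin N) A) (i : Fin N) :
    coeff (single i 1) (τ F) = constantCoeff (τ (pderiv A i F)) := by
  classical
  refine eq_of_sub_mem_pow I fun t => ?_
  induction t generalizing F with
  | zero => rw [pow_zero, Ideal.one_eq_top]; exact Submodule.mem_top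
  | succ t ih =>
    let D := fun j => divVar j (F - C (constantCoeff F))
    have hl : coeff (single i 1) (τ F) =
        constantCoeff (τ (D i)) + ∑ j, c j * coeff (single i 1) (τ (D j)) := by
      rw [algHom_decomp τ F, ← c_eq_algebraMap, map_add, coeff_C, if_neg (by simp), zero_add, map_sum]
      simp only [hτ, add_mul, map_add, coeff_C_mul, Finset.sum_add_distrib, D]
      congr 1
      refine (Finset.sum_congr rfl fun j _ => ?_).trans (Finset.sum_ite_eq Finset.univ i
        (fun j => constantCoeff (τ (divVar j (F - C (constantCoeff F))))) |>.trans (if_pos (Finset.mem_univ i)))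
      rw [mul_comm, coeff_single_mul (constantCoeff_X j), coeff_X]
      by_cases h : i = j
      · subst h; simp
      · simp [h, Finsupp.single_left_inj, Ne.symm h]
    have hr : pderiv A i F = D i + ∑ j, X j * pderiv A i (D j) := by
      conv_lhs => rw [eq_C_add_sum_divVar F]
      rw [map_add, pderiv_C, zero_add, map_sum]
      simp only [Derivation.leibniz, smul_eq_mul, pderiv_X, Finset.sum_add_distrib]
      rw [add_comm]
      congr 1
      simp [Pi.single_apply, D]
    rw [hl, hr, map_add, map_add, map_sum, map_sum, add_sub_add_left_eq_sub, ← Finset.sum_sub_distrib]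
    refine Ideal.sum_mem _ fun j _ => ?_
    rw [map_mul, map_mul, hτ, map_add, constantCoeff_X, constantCoeff_C, zero_add, ← mul_sub, pow_succ']
    exact Ideal.mul_mem_mul (hc j) (ih (D j))

end Eval

/-- the gradient of a series with non-degenerate quadratic part and small linear terms has a zero -/
theorem exists_gradient_zero [IsAdicComplete I A] (F : MvPowerSeries (Fin N) A)
    (hq : QuadNondeg (quadPart F)) (hl : ∀ i, coeff (single i 1) F ∈ I) :
    ∃ (c : Fin N → A) (τ : MvPowerSeries (Fin N) A ≃ₐ[A] MvPowerSeries (Fin N) A), (∀ i, c i ∈ I) ∧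
      (∀ i, τ (X i) = X i + C (c i)) ∧ ∀ i, coeff (single i 1) (τ F) = 0 := by
  classical
  choose T hT using fun c : {c : Fin N → A // ∀ i, c i ∈ I} => exists_translate_equiv c.1 c.2
  let ev : {c : Fin N → A // ∀ i, c i ∈ I} → (MvPowerSeries (Fin N) A →ₐ[A] A) := fun c =>
    AlgHom.mk' ((constantCoeff (σ := Fin N) (R := A)).comp (T c).toAlgHom.toRingHom)
      (fun a x => by
        change constantCoeff (T c (a • x)) = a • constantCoeff (T c x)
        rw [map_smul, constantCoeff_smul])
  have hev : ∀ c j, ev c (X j) = c.1 j := fun c j => by simp [ev, hT]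
  have hin : ∀ c, IsEvalIn I (ev c) := fun c j => by rw [hev]; exact c.2 j
  let g : {c : Fin N → A // ∀ i, c i ∈ I} → Fin N → A := fun c i => ev c (pderiv A i F)
  have hg0 : ∀ c i, g c i ∈ I := fun c i => by
    have h1 := I.add_mem (eval_sub_constantCoeff_mem (hin c) (pderiv A i F))
      (constantCoeff_pderiv_eq F i ▸ hl i)
    rwa [sub_add_cancel] at h1
  let B : Matrix (Fin N) (Fin N) A := (polarMatrix (quadPart F))⁻¹
  let next : {c : Fin N → A // ∀ i, c i ∈ I} → {c : Fin N → A // ∀ i, c i ∈ I} := fun c =>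
    ⟨fun i => c.1 i - (B *ᵥ g c) i,
      fun i => I.sub_mem (c.2 i)
        (show ∑ j, B i j * g c j ∈ I from I.sum_mem fun j _ => I.mul_mem_left _ (hg0 c j))⟩
  let s : ℕ → {c : Fin N → A // ∀ i, c i ∈ I} := fun k => next^[k] ⟨0, fun _ => I.zero_mem⟩
  have hs : ∀ k, s (k + 1) = next (s k) := fun k => Function.iterate_succ_apply' next k _
  have hδ : ∀ k, (∀ i, g (s k) i ∈ I ^ (k + 1)) → ∀ i, (s (k + 1)).1 i - (s k).1 i ∈ I ^ (k + 1) :=
    fun k h i => by
      rw [hs k]
      change (s k).1 i - (B *ᵥ g (s k)) i - (s k).1 i ∈ _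
      rw [sub_sub_cancel_left]
      exact Submodule.neg_mem _ (show ∑ j, B i j * g (s k) j ∈ I ^ (k + 1) from
        Ideal.sum_mem _ fun j _ => Ideal.mul_mem_left _ _ (h j))
  have hsmall : ∀ k i, g (s k) i ∈ I ^ (k + 1) := by
    intro k
    induction k with
    | zero => intro i; rw [zero_add, pow_one]; exact hg0 _ i
    | succ k ih =>
      intro i
      have h := eval_sub_linear_mem_pow (hin (s (k + 1))) (hin (s k)) (k := k + 1)
        (fun j => by rw [hev, hev]; exact hδ k ih j) (pderiv A i F)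
      simp only [coeff_single_pderiv, hev] at h
      have e : ∑ j, polarMatrix (quadPart F) i j * ((s (k + 1)).1 j - (s k).1 j) = -g (s k) i := by
        have e1 : (fun j => (s (k + 1)).1 j - (s k).1 j) = -(B *ᵥ g (s k)) := funext fun j => by
          rw [hs k]; exact sub_sub_cancel_left _ _
        change (polarMatrix (quadPart F) *ᵥ fun j => (s (k + 1)).1 j - (s k).1 j) i = _
        rw [e1, Matrix.mulVec_neg, Matrix.mulVec_mulVec, Matrix.mul_nonsing_inv _ hq, Matrix.one_mulVec]
        rfl
      rw [e, sub_neg_eq_add, sub_add_cancel] at h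
      exact h
  have hcauchy : ∀ i {m n : ℕ}, m ≤ n → (s m).1 i ≡ (s n).1 i [SMOD (I ^ m • ⊤ : Submodule A A)] := by
    intro i m n hmn
    rw [SModEq.sub_mem, smul_eq_mul, Ideal.mul_top]
    induction n, hmn using Nat.le_induction with
    | base => rw [sub_self]; exact Submodule.zero_mem _
    | succ n hn ih =>
      have := Submodule.sub_mem _ ih (Ideal.pow_le_pow_right (by omega) (hδ n (hsmall n) i))
      rwa [show (s m).1 i - (s n).1 i - ((s (n + 1)).1 i - (s n).1 i) =
        (s m).1 i - (s (n + 1)).1 i by ring] at this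
  choose L hL using fun i => IsPrecomplete.prec' (I := I) (fun m => (s m).1 i) (hcauchy i)
  have hL' : ∀ i m, L i - (s m).1 i ∈ I ^ m := fun i m => by
    have := (hL i m).symm
    rwa [SModEq.sub_mem, smul_eq_mul, Ideal.mul_top] at this
  have hLI : ∀ i, L i ∈ I := fun i => by
    have h := hL' i 1
    rw [pow_one] at h
    have := I.add_mem h ((s 1).2 i)
    rwa [sub_add_cancel] at this
  refine ⟨L, T ⟨L, hLI⟩, hLI, hT _, fun i => ?_⟩
  refine (coeff_single_translate (I := I) (τ := (T ⟨L, hLI⟩).toAlgHom) hLI (hT _) F i).trans ?_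
  refine eq_zero_of_mem_pow I fun t => ?_
  have h := Ideal.add_mem _
    (eval_sub_mem_pow (φ := ev ⟨L, hLI⟩) (hin (s t)) (fun j => by rw [hev, hev]; exact hL' j t) t le_rfl
      (pderiv A i F))
    (Ideal.pow_le_pow_right (Nat.le_succ t) (hsmall t i))
  rwa [sub_add_cancel] at h

/-- normal form `Q' + a'` over a complete local ring -/
theorem exists_algEquiv_quot_qSeries {A : Type u} [CommRing A] [IsLocalRing A]
    [IsAdicComplete (IsLocalRing.maximalIdeal A) A] (F : MvPowerSeries (Fin N) A)
    (hq : QuadNondeg (quadPart F)) (h0 : constantCoeff F ∈ IsLocalRing.maximalIdeal A)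
    (hl : ∀ i, coeff (single i 1) F ∈ IsLocalRing.maximalIdeal A) :
    ∃ (a' : A) (q' : Fin N → Fin N → A), a' ∈ IsLocalRing.maximalIdeal A ∧ QuadNondeg q' ∧
      Nonempty ((MvPowerSeries (Fin N) A ⧸ Ideal.span {F}) ≃ₐ[A]
        (MvPowerSeries (Fin N) A ⧸ Ideal.span {qSeries q' + C a'})) := by
  classical
  obtain ⟨c, τ, hc, hτ, hlin⟩ := exists_gradient_zero F hq hl
  have hcong := coeff_translate_sub_mem (τ := τ.toAlgHom) hc hτ F
  have ha : constantCoeff (τ F) ∈ IsLocalRing.maximalIdeal A := by
    have := Ideal.add_mem _ (hcong 0) h0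
    simpa using this
  have hq' : QuadNondeg (quadPart (τ F)) := by
    have e : (IsLocalRing.residue A).mapMatrix (polarMatrix (quadPart (τ F))) =
        (IsLocalRing.residue A).mapMatrix (polarMatrix (quadPart F)) := by
      ext i j
      simp only [RingHom.mapMatrix_apply, Matrix.map_apply]
      rw [← coeff_single_pderiv, ← coeff_single_pderiv, coeff_pderiv, coeff_pderiv]
      refine Ideal.Quotient.eq.2 ?_
      rw [← sub_mul]
      exact Ideal.mul_mem_right _ _ (by rw [← map_sub]; exact hcong _)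
    unfold QuadNondeg at hq ⊢
    refine isUnit_of_map_unit (IsLocalRing.residue A) _ ?_
    rw [RingHom.map_det, e, ← RingHom.map_det]
    exact hq.map _
  refine ⟨constantCoeff (τ F), quadPart (τ F), ha, hq', ?_⟩
  set f := τ F - C (constantCoeff (τ F)) with hf
  have hne : ∀ d : Fin N →₀ ℕ, d ≠ 0 → coeff d f = coeff d (τ F) := fun d hd => by
    rw [hf, map_sub, coeff_C, if_neg hd, sub_zero]
  have hlow : NoLowTerms f := ⟨by simp [hf], fun i => by rw [hne _ (by simp)]; exact hlin i⟩
  have hqp : quadPart f = quadPart (τ F) := by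
    funext i j
    unfold quadPart
    split_ifs
    · exact hne _ (by simp)
    · exact hne _ (by simp)
    · rfl
  have hord := ordGE_sub_quadPart hlow
  rw [hqp, map_zero, add_zero, hf, sub_sub, add_comm (C _)] at hord
  obtain ⟨_, _, _, _, ⟨e⟩⟩ := exists_subst_eq_qSeries_add (quadPart (τ F)) hq' (constantCoeff (τ F)) le_rfl hord
  exact ⟨(Ideal.quotientEquivAlg (Ideal.span {F}) (Ideal.span {τ F}) τ
    (by rw [Ideal.map_span, Set.image_singleton]; rfl)).trans e⟩

end Groth.Agent.Et18
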