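import Groth.Agent.Coherent.Chow

/-!
# Compactification up to a proper birational modification

Adapted from `Groth.Agent.Coherent.Chow`: only separatedness of the source is needed to immerse a
proper birational modification into a proper scheme over the base.
-/

set_option autoImplicit false

universe u

open CategoryTheory CategoryTheory.Limits AlgebraicGeometry Opposite TopologicalSpace
  HomogeneousLocalization

namespace Groth.Agent.Et18.ChowSep

open Groth.Agent.Coherent

variable {A : Type u} [CommRing A]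

set_option maxHeartbeats 1000000 in
theorem exists_compactification [IsNoetherianRing A] {Z : Scheme.{u}} [IsIntegral Z]
    (g : Z ⟶ Spec (CommRingCat.of A)) [IsSeparated g] [LocallyOfFiniteType g] [QuasiCompact g] :
    ∃ (Z' Zb : Scheme.{u}) (π : Z' ⟶ Z) (j : Z' ⟶ Zb) (gb : Zb ⟶ Spec (CommRingCat.of A))
      (U₀ : Z.Opens), IsIntegral Z' ∧ IsProper π ∧ (U₀ : Set Z).Nonempty ∧ IsIso (π ∣_ U₀) ∧
        IsOpenImmersion j ∧ IsIntegral Zb ∧ IsProper gb ∧ j ≫ gb = π ≫ g := by
  classical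
  have : IsLocallyNoetherian Z := LocallyOfFiniteType.isLocallyNoetherian g
  have : CompactSpace Z := QuasiCompact.compactSpace_of_compactSpace g
  have : AlgebraicGeometry.IsNoetherian Z := {}
  have : Z.IsSeparated := ⟨by
    rw [show terminal.from Z = g ≫ terminal.from _ from terminal.hom_ext _ _]; infer_instance⟩
  have hnb : ∀ z : Z, ∃ V : Z.Opens, IsAffineOpen V ∧ z ∈ V := fun z => by
    obtain ⟨V, hV, hz, -⟩ := Opens.isBasis_iff_nbhd.mp Z.isBasis_affineOpens (Opens.mem_top z)
    exact ⟨V, hV, hz⟩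
  choose V hV hzV using hnb
  obtain ⟨s, hs⟩ := CompactSpace.isCompact_univ.elim_finite_subcover (fun z : Z => (V z : Set Z))
    (fun z => (V z).2) (fun z _ => Set.mem_iUnion.2 ⟨z, hzV z⟩)
  let k := s.card
  let Ui : Fin k → Z.Opens := fun i => V (s.equivFin.symm i).1
  have hcov : ∀ z : Z, ∃ i, z ∈ Ui i := fun z => by
    obtain ⟨w, hw, hz⟩ := Set.mem_iUnion₂.1 (hs (Set.mem_univ z))
    exact ⟨s.equivFin ⟨w, hw⟩, by simpa [Ui] using hz⟩
  have hUaff : ∀ i, IsAffine (Ui i : Scheme.{u}) := fun i => hV _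
  have := IrreducibleSpace.isIrreducible_univ Z
  let U : Z.Opens := Finset.univ.inf Ui
  have hUne : genericPoint Z ∈ U := by
    have hgen : ∀ i, genericPoint Z ∈ Ui i := fun i =>
      (genericPoint_spec Z).mem_open_set_iff (Ui i).2 |>.2 (by
        exact ⟨_, trivial, hzV (s.equivFin.symm i).1⟩)
    change genericPoint Z ∈ ((Finset.univ.inf Ui : Z.Opens) : Set Z)
    rw [Opens.coe_finset_inf]
    simp only [Set.mem_iInter, Finset.mem_univ, Finset.inf_set_eq_iInter]
    exact fun i _ => hgen i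
  have hUle : ∀ i, U ≤ Ui i := fun i => Finset.inf_le (Finset.mem_univ i)
  choose N e he hew using fun i => exists_immersion_projSpace A ((Ui i).ι ≫ g)
  obtain ⟨P, p, j, q, hp, hrel, hj, hq⟩ := exists_tower (U.ι ≫ g) k N
    (fun i => Z.homOfLE (hUle i) ≫ e i) (fun i => by
      rw [Category.assoc, hew, Scheme.homOfLE_ι_assoc])
  let m : (U : Scheme.{u}) ⟶ pullback g p := pullback.lift U.ι j hj.symm
  let t : (U : Scheme.{u}) ⟶ m.image := m.toImage
  let π : m.image ⟶ Z := m.imageι ≫ pullback.fst g p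
  let r : m.image ⟶ P := m.imageι ≫ pullback.snd g p
  have ht : t ≫ π = U.ι := by rw [Scheme.Hom.toImage_imageι_assoc]; exact pullback.lift_fst _ _ _
  have htr : t ≫ r = j := by rw [Scheme.Hom.toImage_imageι_assoc]; exact pullback.lift_snd _ _ _
  have : IsProper (pullback.fst g p) :=
    MorphismProperty.of_isPullback (P := @IsProper) (IsPullback.of_hasPullback g p).flip hp
  have : QuasiCompact (pullback.snd g p) := inferInstance
  have : CompactSpace (U : Scheme.{u}) := isCompact_iff_compactSpace.mp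
    (NoetherianSpace.isCompact (U : Set Z))
  have : (pullback g p).IsSeparated := ⟨by
    rw [show terminal.from (pullback g p) = pullback.fst g p ≫ terminal.from Z from
      terminal.hom_ext _ _]
    infer_instance⟩
  have : QuasiCompact (m ≫ terminal.from _) := by
    rw [show m ≫ terminal.from _ = terminal.from (U : Scheme.{u}) from terminal.hom_ext _ _]
    exact (quasiCompact_iff_compactSpace _).mpr ‹_› 
  have : QuasiCompact m := QuasiCompact.of_comp m (terminal.from _)
  have : IsDominant t := inferInstanceAs (IsDominant m.toImage)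
  have hred : IsReduced m.image := isReduced_image m
  have hπ : IsProper π := inferInstanceAs (IsProper (m.imageι ≫ pullback.fst g p))
  have hr : QuasiCompact r := inferInstanceAs (QuasiCompact (m.imageι ≫ pullback.snd g p))
  have hZ'sep : m.image.IsSeparated := ⟨by
    rw [show terminal.from m.image = π ≫ terminal.from Z from terminal.hom_ext _ _]
    infer_instance⟩
  -- each `Z'_i → P` is an immersion
  have hQ : ∀ i, IsImmersion ((r ⁻¹ᵁ (q i ⁻¹ᵁ (e i).coborderRange)).ι ≫ r) := by
    intro i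
    let O := (e i).coborderRange
    let Q := q i ⁻¹ᵁ O
    let W := r ⁻¹ᵁ Q
    let a := (e i).liftCoborder
    have ha : a ≫ O.ι = e i := (e i).liftCoborder_ι
    have htW : Set.range t ⊆ (W : Set m.image) := by
      rintro _ ⟨x, rfl⟩
      change q i (r (t x)) ∈ O
      rw [← Scheme.Hom.comp_apply t r, htr, ← Scheme.Hom.comp_apply j (q i), (hq i).1, ← ha]
      exact (a (Z.homOfLE (hUle i) x)).2
    let sW : (U : Scheme.{u}) ⟶ W.toScheme :=
      IsOpenImmersion.lift W.ι t (by rwa [Scheme.Opens.range_ι])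
    have hsW : sW ≫ W.ι = t := IsOpenImmersion.lift_fac _ _ _
    have : IsDominant (sW ≫ W.ι) := by rw [hsW]; infer_instance
    have : IsDominant sW := IsDominant.of_comp_of_isOpenImmersion sW W.ι
    let mW : W.toScheme ⟶ O.toScheme := (r ≫ q i) ∣_ O
    have hmW : mW ≫ O.ι = W.ι ≫ r ≫ q i := morphismRestrict_ι (r ≫ q i) O
    have hcomp : sW ≫ mW = Z.homOfLE (hUle i) ≫ a := by
      rw [← cancel_mono O.ι, Category.assoc, Category.assoc, hmW, ha, reassoc_of% hsW,
        reassoc_of% htr, (hq i).1]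
    obtain ⟨φ, hφ⟩ := exists_lift_of_dominant sW mW a (Z.homOfLE (hUle i)) hcomp
    have hφπ : φ ≫ (Ui i).ι = W.ι ≫ π := by
      refine ext_of_isDominant sW ?_
      have h1 : sW ≫ φ = Z.homOfLE (hUle i) := by
        rw [← cancel_mono a, Category.assoc, hφ, hcomp]
      rw [reassoc_of% h1, Scheme.homOfLE_ι, reassoc_of% hsW, ht]
    let qQ : Q.toScheme ⟶ O.toScheme := q i ∣_ O
    have hqQ : qQ ≫ O.ι = Q.ι ≫ q i := morphismRestrict_ι (q i) O
    let rQ : W.toScheme ⟶ Q.toScheme := r ∣_ Q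
    have hrQ : rQ ≫ Q.ι = W.ι ≫ r := morphismRestrict_ι r Q
    let b : W.toScheme ⟶ pullback qQ a := pullback.lift rQ φ (by
      rw [hφ, ← cancel_mono O.ι, Category.assoc, hqQ, hmW, reassoc_of% hrQ])
    let γ : pullback qQ a ⟶ pullback g p :=
      pullback.lift (pullback.snd qQ a ≫ (Ui i).ι) (pullback.fst qQ a ≫ Q.ι) (by
        rw [Category.assoc, Category.assoc, ← hew i, ← (hq i).2, ← ha, ← reassoc_of% hqQ,
          Category.assoc, ← pullback.condition_assoc])
    have hbγ : b ≫ γ = W.ι ≫ m.imageι := by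
      apply pullback.hom_ext
      · rw [Category.assoc, pullback.lift_fst, pullback.lift_snd_assoc, hφπ, Category.assoc]
      · rw [Category.assoc, pullback.lift_snd, pullback.lift_fst_assoc, hrQ, Category.assoc]
    have : IsImmersion (b ≫ γ) := by rw [hbγ]; infer_instance
    have : IsImmersion b := IsImmersion.of_comp b γ
    have : IsImmersion (b ≫ pullback.fst qQ a ≫ Q.ι) := inferInstance
    have e1 : b ≫ pullback.fst qQ a ≫ Q.ι = W.ι ≫ r := by rw [pullback.lift_fst_assoc, hrQ]
    exact e1 ▸ this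
  have hrcov : ∀ w, ∃ i, r w ∈ q i ⁻¹ᵁ (e i).coborderRange := by
    intro w
    obtain ⟨i, hi⟩ := hcov (π w)
    refine ⟨i, ?_⟩
    let W := π ⁻¹ᵁ Ui i
    let sW : (U : Scheme.{u}) ⟶ W.toScheme :=
      IsOpenImmersion.lift W.ι t (by
        rw [Scheme.Opens.range_ι]
        rintro _ ⟨x, rfl⟩
        change π (t x) ∈ Ui i
        rw [← Scheme.Hom.comp_apply t π, ht]
        exact hUle i x.2)
    have hsW : sW ≫ W.ι = t := IsOpenImmersion.lift_fac _ _ _
    have : IsDominant (sW ≫ W.ι) := by rw [hsW]; infer_instance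
    have : IsDominant sW := IsDominant.of_comp_of_isOpenImmersion sW W.ι
    have := isProper_projSpace_toSpec (N i) A
    have : (CohB1.ProjSpace (N i) A).IsSeparated := ⟨by
      rw [show terminal.from (CohB1.ProjSpace (N i) A) =
        CohB1.ProjSpace.toSpec (N i) A ≫ terminal.from _ from terminal.hom_ext _ _]
      infer_instance⟩
    have h1 : sW ≫ (π ∣_ Ui i) = Z.homOfLE (hUle i) := by
      rw [← cancel_mono (Ui i).ι, Category.assoc, morphismRestrict_ι, reassoc_of% hsW, ht,
        Scheme.homOfLE_ι]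
    have heq : (π ∣_ Ui i) ≫ e i = W.ι ≫ r ≫ q i := by
      refine ext_of_isDominant sW ?_
      rw [reassoc_of% h1, reassoc_of% hsW, reassoc_of% htr, (hq i).1]
    change q i (r w) ∈ (e i).coborderRange
    have h2 : (W.ι ≫ r ≫ q i) ⟨w, hi⟩ = q i (r w) := rfl
    rw [← h2, ← heq]
    change (e i) ((π ∣_ Ui i) ⟨w, hi⟩) ∈ (e i).coborderRange
    have h3 := congrArg (fun F : (Ui i).toScheme ⟶ _ => F ((π ∣_ Ui i) ⟨w, hi⟩)) (e i).liftCoborder_ι
    exact h3 ▸ ((e i).liftCoborder ((π ∣_ Ui i) ⟨w, hi⟩)).2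
  -- `Z' → P` is an immersion
  let P' : P.Opens := ⨆ i, q i ⁻¹ᵁ (e i).coborderRange
  let r' : m.image ⟶ P'.toScheme := IsOpenImmersion.lift P'.ι r (by
    rw [Scheme.Opens.range_ι]
    rintro _ ⟨w, rfl⟩
    obtain ⟨i, hi⟩ := hrcov w
    exact Opens.mem_iSup.2 ⟨i, hi⟩)
  have hr' : r' ≫ P'.ι = r := IsOpenImmersion.lift_fac _ _ _
  have hrimm : IsImmersion r := by
    have : IsImmersion r' := by
      refine IsZariskiLocalAtTarget.of_iSup_eq_top (fun i => P'.ι ⁻¹ᵁ (q i ⁻¹ᵁ (e i).coborderRange))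
        (top_unique fun x _ => ?_) fun i => ?_
      · obtain ⟨i, hi⟩ := Opens.mem_iSup.1 x.2
        exact Opens.mem_iSup.2 ⟨i, hi⟩
      · have h1 := hQ i
        have e1 : r' ⁻¹ᵁ (P'.ι ⁻¹ᵁ (q i ⁻¹ᵁ (e i).coborderRange)) =
            r ⁻¹ᵁ (q i ⁻¹ᵁ (e i).coborderRange) := by rw [← hr']; rfl
        have h2 : IsImmersion ((r' ⁻¹ᵁ (P'.ι ⁻¹ᵁ (q i ⁻¹ᵁ (e i).coborderRange))).ι ≫ r) := by
          rw [e1]; exact h1
        have : IsImmersion ((r' ∣_ (P'.ι ⁻¹ᵁ (q i ⁻¹ᵁ (e i).coborderRange))) ≫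
            (P'.ι ⁻¹ᵁ (q i ⁻¹ᵁ (e i).coborderRange)).ι ≫ P'.ι) := by
          rw [morphismRestrict_ι_assoc, hr']
          exact h2
        exact IsImmersion.of_comp _ ((P'.ι ⁻¹ᵁ (q i ⁻¹ᵁ (e i).coborderRange)).ι ≫ P'.ι)
    rw [← hr']
    infer_instance
  have hirrU : IrreducibleSpace (U : Scheme.{u}) :=
    isIrreducible_iff_irreducibleSpace.1
      ⟨⟨_, hUne⟩, (IrreducibleSpace.isIrreducible_univ Z).2.open_subset U.2 (Set.subset_univ _)⟩
  have hirr : IrreducibleSpace m.image := by
    have h1 : _root_.IsPreirreducible (Set.univ : Set m.image) := by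
      rw [← (t.denseRange).closure_range, ← Set.image_univ]
      exact ((IrreducibleSpace.isIrreducible_univ _).2.image t t.continuous.continuousOn).closure
    exact { toPreirreducibleSpace := ⟨h1⟩, toNonempty := ⟨t ⟨_, hUne⟩⟩ }
  have : IsIntegral m.image := isIntegral_of_irreducibleSpace_of_isReduced _
  have : IsOpenImmersion r.toImage := inferInstance
  have : IsReduced r.image := isReduced_image r
  have : IrreducibleSpace r.image := by
    have h1 : _root_.IsPreirreducible (Set.univ : Set r.image) := by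
      rw [← (r.toImage.denseRange).closure_range, ← Set.image_univ]
      exact ((IrreducibleSpace.isIrreducible_univ _).2.image r.toImage
        r.toImage.continuous.continuousOn).closure
    exact { toPreirreducibleSpace := ⟨h1⟩, toNonempty := ⟨r.toImage (t ⟨_, hUne⟩)⟩ }
  have : IsIntegral r.image := isIntegral_of_irreducibleSpace_of_isReduced _
  refine ⟨m.image, r.image, π, r.toImage, r.imageι ≫ p, U, ‹IsIntegral m.image›, hπ, ⟨_, hUne⟩, ?_,
    ‹_›, ‹_›, inferInstance, ?_⟩
  · let s₀ : (U : Scheme.{u}) ⟶ (π ⁻¹ᵁ U : m.image.Opens) :=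
      IsOpenImmersion.lift (π ⁻¹ᵁ U).ι t (by
        rw [Scheme.Opens.range_ι]
        rintro _ ⟨x, rfl⟩
        change π (t x) ∈ U
        rw [← Scheme.Hom.comp_apply t π, ht]
        exact x.2)
    have hs₀ : s₀ ≫ (π ⁻¹ᵁ U).ι = t := IsOpenImmersion.lift_fac _ _ _
    have : IsDominant (s₀ ≫ (π ⁻¹ᵁ U).ι) := by rw [hs₀]; infer_instance
    have : IsDominant s₀ := IsDominant.of_comp_of_isOpenImmersion s₀ (π ⁻¹ᵁ U).ι
    have h1 : s₀ ≫ (π ∣_ U) = 𝟙 _ := by
      rw [← cancel_mono U.ι, Category.assoc, morphismRestrict_ι, reassoc_of% hs₀, ht,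
        Category.id_comp]
    refine ⟨s₀, ?_, h1⟩
    rw [← cancel_mono (π ⁻¹ᵁ U).ι, Category.id_comp]
    refine ext_of_isDominant s₀ ?_
    rw [Category.assoc, reassoc_of% h1]
  · rw [Scheme.Hom.toImage_imageι_assoc]
    simp only [π, r, Category.assoc, pullback.condition]

end Groth.Agent.Et18.ChowSep
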