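import Mathlib.CategoryTheory.Abelian.RightDerived
import Mathlib.Algebra.Homology.ShortComplex.ShortExact

/-!
# Objects of an adapted class are acyclic

`f` is an additive functor, `𝒪` a class of objects with enough monomorphisms, and `f` keeps every
acyclic bounded below complex of objects of `𝒪` acyclic. An injective resolution maps to a
resolution by objects of `𝒪`, and back.
-/

set_option autoImplicit false
set_option backward.isDefEq.respectTransparency false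

universe v v' u u'

open CategoryTheory CategoryTheory.Limits

namespace Groth.Agent.Et18.AdaptedClass

variable {A : Type u} [Category.{v} A] [Abelian A] [EnoughInjectives A] (𝒪 : ObjectProperty A)
  (h2 : ∀ X : A, ∃ (Y : A) (i : X ⟶ Y), 𝒪 Y ∧ Mono i)

/-- An object of the class containing an injective hull. -/
noncomputable def emb (Q : A) : A := (h2 (Injective.under Q)).choose

lemma emb_mem (Q : A) : 𝒪 (emb 𝒪 h2 Q) := (h2 (Injective.under Q)).choose_spec.choose_spec.1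

/-- The embedding, which factors through an injective object. -/
noncomputable def embι (Q : A) : Q ⟶ emb 𝒪 h2 Q :=
  Injective.ι Q ≫ (h2 (Injective.under Q)).choose_spec.choose

instance (Q : A) : Mono (embι 𝒪 h2 Q) :=
  haveI := (h2 (Injective.under Q)).choose_spec.choose_spec.2
  mono_comp _ _

lemma exists_extend {T I Q : A} (m : T ⟶ I) [Mono m] (g : T ⟶ Q) :
    ∃ φ : I ⟶ emb 𝒪 h2 Q, m ≫ φ = g ≫ embι 𝒪 h2 Q :=
  ⟨Injective.factorThru (g ≫ Injective.ι Q) m ≫ (h2 (Injective.under Q)).choose_spec.choose, by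
    rw [← Category.assoc, Injective.comp_factorThru, Category.assoc]; rfl⟩

lemma exists_extend_exact (S : ShortComplex A) (hS : S.Exact) {Q : A} (g : S.X₂ ⟶ Q)
    (hg : S.f ≫ g = 0) : ∃ φ : S.X₃ ⟶ emb 𝒪 h2 Q, S.g ≫ φ = g ≫ embι 𝒪 h2 Q :=
  ⟨hS.descToInjective (g ≫ Injective.ι Q) (by rw [reassoc_of% hg, zero_comp]) ≫
      (h2 (Injective.under Q)).choose_spec.choose, by
    rw [← Category.assoc, hS.comp_descToInjective, Category.assoc]; rfl⟩

variable (X : A)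

/-- The successive cosyzygies. -/
noncomputable def cosyz : ℕ → A
  | 0 => X
  | n + 1 => cokernel (embι 𝒪 h2 (cosyz n))

noncomputable abbrev res (n : ℕ) : A := emb 𝒪 h2 (cosyz 𝒪 h2 X n)

noncomputable abbrev resι (n : ℕ) : cosyz 𝒪 h2 X n ⟶ res 𝒪 h2 X n := embι 𝒪 h2 _

noncomputable def resπ (n : ℕ) : res 𝒪 h2 X n ⟶ cosyz 𝒪 h2 X (n + 1) := cokernel.π _

instance (n : ℕ) : Epi (resπ 𝒪 h2 X n) := by unfold resπ; infer_instance

instance (n : ℕ) : Mono (resι 𝒪 h2 X n) := inferInstanceAs (Mono (embι 𝒪 h2 _))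

@[reassoc (attr := simp)]
lemma resι_π (n : ℕ) : resι 𝒪 h2 X n ≫ resπ 𝒪 h2 X n = 0 := cokernel.condition _

/-- The differential of the resolution. -/
noncomputable def resD (n : ℕ) : res 𝒪 h2 X n ⟶ res 𝒪 h2 X (n + 1) :=
  resπ 𝒪 h2 X n ≫ resι 𝒪 h2 X (n + 1)

lemma resD_sq (n : ℕ) : resD 𝒪 h2 X n ≫ resD 𝒪 h2 X (n + 1) = 0 := by
  simp [resD]

lemma resι_resD : resι 𝒪 h2 X 0 ≫ resD 𝒪 h2 X 0 = 0 := by simp [resD]

lemma exact_resι (n : ℕ) :
    (ShortComplex.mk (resι 𝒪 h2 X n) (resD 𝒪 h2 X n) (by simp [resD])).Exact := by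
  let S := ShortComplex.mk (resι 𝒪 h2 X n) (resπ 𝒪 h2 X n) (resι_π 𝒪 h2 X n)
  have hS : S.Exact := ShortComplex.exact_cokernel _
  let φ : S ⟶ ShortComplex.mk (resι 𝒪 h2 X n) (resD 𝒪 h2 X n) (by simp [resD]) :=
    { τ₁ := 𝟙 _, τ₂ := 𝟙 _, τ₃ := resι 𝒪 h2 X (n + 1), comm₂₃ := by simp [S, resD] }
  exact (ShortComplex.exact_iff_of_epi_of_isIso_of_mono φ).1 hS

lemma exact_resD (n : ℕ) :
    (ShortComplex.mk (resD 𝒪 h2 X n) (resD 𝒪 h2 X (n + 1)) (resD_sq 𝒪 h2 X n)).Exact := by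
  let φ : ShortComplex.mk (resD 𝒪 h2 X n) (resD 𝒪 h2 X (n + 1)) (resD_sq 𝒪 h2 X n) ⟶
      ShortComplex.mk (resι 𝒪 h2 X (n + 1)) (resD 𝒪 h2 X (n + 1)) (by simp [resD]) :=
    { τ₁ := resπ 𝒪 h2 X n, τ₂ := 𝟙 _, τ₃ := 𝟙 _, comm₁₂ := by simp [resD] }
  exact (ShortComplex.exact_iff_of_epi_of_isIso_of_mono φ).2 (exact_resι 𝒪 h2 X (n + 1))

/-- The resolution. -/
noncomputable def resolution : CochainComplex A ℕ :=
  CochainComplex.of (res 𝒪 h2 X) (resD 𝒪 h2 X) (resD_sq 𝒪 h2 X)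

lemma resolution_d (n : ℕ) : (resolution 𝒪 h2 X).d n (n + 1) = resD 𝒪 h2 X n :=
  CochainComplex.of_d _ _ _

/-- The objects of the augmented resolution. -/
noncomputable def augX : ℕ → A
  | 0 => X
  | n + 1 => res 𝒪 h2 X n

noncomputable def augD : ∀ n, augX 𝒪 h2 X n ⟶ augX 𝒪 h2 X (n + 1)
  | 0 => resι 𝒪 h2 X 0
  | n + 1 => resD 𝒪 h2 X n

lemma augD_sq : ∀ n, augD 𝒪 h2 X n ≫ augD 𝒪 h2 X (n + 1) = 0
  | 0 => resι_resD 𝒪 h2 X
  | n + 1 => resD_sq 𝒪 h2 X n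

/-- The augmented resolution. -/
noncomputable def aug : CochainComplex A ℕ :=
  CochainComplex.of (augX 𝒪 h2 X) (augD 𝒪 h2 X) (augD_sq 𝒪 h2 X)

lemma aug_d (n : ℕ) : (aug 𝒪 h2 X).d n (n + 1) = augD 𝒪 h2 X n :=
  CochainComplex.of_d _ _ _

lemma aug_acyclic : (aug 𝒪 h2 X).Acyclic := fun n => by
  rcases n with _ | n
  · rw [HomologicalComplex.exactAt_iff' _ 0 0 1 (by simp) (by simp),
      ShortComplex.exact_iff_mono _ ((aug 𝒪 h2 X).shape 0 0 (by simp))]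
    change Mono ((aug 𝒪 h2 X).d 0 1)
    rw [aug_d 𝒪 h2 X 0]
    exact inferInstanceAs (Mono (resι 𝒪 h2 X 0))
  · rw [HomologicalComplex.exactAt_iff' _ n (n + 1) (n + 2) (by simp) (by simp)]
    refine ShortComplex.exact_of_iso (ShortComplex.isoMk (Iso.refl _) (Iso.refl _) (Iso.refl _) ?_ ?_) (S₁ :=
      ShortComplex.mk (augD 𝒪 h2 X n) (augD 𝒪 h2 X (n + 1)) (augD_sq 𝒪 h2 X n)) ?_
    · exact (Category.id_comp _).trans ((aug_d 𝒪 h2 X n).trans (Category.comp_id _).symm)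
    · exact (Category.id_comp _).trans ((aug_d 𝒪 h2 X (n + 1)).trans (Category.comp_id _).symm)
    · rcases n with _ | n
      · exact exact_resι 𝒪 h2 X 0
      · exact exact_resD 𝒪 h2 X n

lemma aug_mem (hX : 𝒪 X) : ∀ n, 𝒪 ((aug 𝒪 h2 X).X n)
  | 0 => hX
  | _ + 1 => emb_mem 𝒪 h2 _

lemma exact_augD : ∀ n, (ShortComplex.mk (augD 𝒪 h2 X n) (augD 𝒪 h2 X (n + 1))
    (augD_sq 𝒪 h2 X n)).Exact
  | 0 => exact_resι 𝒪 h2 X 0
  | n + 1 => exact_resD 𝒪 h2 X n

variable {X} (I : InjectiveResolution X)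

/-- The objects of the augmented injective resolution. -/
noncomputable def injX : ℕ → A
  | 0 => X
  | n + 1 => I.cocomplex.X n

noncomputable def injD : ∀ n, injX I n ⟶ injX I (n + 1)
  | 0 => I.ι.f 0
  | n + 1 => I.cocomplex.d n (n + 1)

lemma injD_sq : ∀ n, injD I n ≫ injD I (n + 1) = 0
  | 0 => I.ι_f_zero_comp_complex_d
  | n + 1 => I.cocomplex.d_comp_d _ _ _

lemma exact_injD : ∀ n, (ShortComplex.mk (injD I n) (injD I (n + 1)) (injD_sq I n)).Exact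
  | 0 => I.exact₀
  | n + 1 => I.exact_succ n

theorem exists_toRes : ∃ φ : I.cocomplex ⟶ resolution 𝒪 h2 X,
    I.ι.f 0 ≫ φ.f 0 = resι 𝒪 h2 X 0 := by
  haveI : Mono (injD I 0) := inferInstanceAs (Mono (I.ι.f 0))
  let b := exists_extend 𝒪 h2 (injD I 0) (𝟙 (cosyz 𝒪 h2 X 0) : injX I 0 ⟶ cosyz 𝒪 h2 X 0)
  have hb : injD I 0 ≫ b.choose ≫ resπ 𝒪 h2 X 0 = 0 := by
    rw [reassoc_of% b.choose_spec]
    exact (Category.id_comp _).trans (resι_π 𝒪 h2 X 0)
  let t : (n : ℕ) → { g : injX I (n + 1) ⟶ res 𝒪 h2 X n // injD I n ≫ g ≫ resπ 𝒪 h2 X n = 0 } :=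
    fun n => Nat.rec ⟨b.choose, hb⟩ (fun n ih =>
      ⟨(exists_extend_exact 𝒪 h2 _ (exact_injD I n) _ ih.2).choose, by
        exact (Category.assoc _ _ _).symm.trans ((congrArg (· ≫ resπ 𝒪 h2 X (n + 1))
          (exists_extend_exact 𝒪 h2 _ (exact_injD I n) _ ih.2).choose_spec).trans
          ((Category.assoc _ _ _).trans ((congrArg _ (resι_π 𝒪 h2 X (n + 1))).trans comp_zero)))⟩) n
  have ht : ∀ n, I.cocomplex.d n (n + 1) ≫ (t (n + 1)).1 = (t n).1 ≫ resD 𝒪 h2 X n := fun n =>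
    ((exists_extend_exact 𝒪 h2 _ (exact_injD I n) _ (t n).2).choose_spec).trans (Category.assoc _ _ _)
  refine ⟨{ f := fun n => (t n).1, comm' := ?_ }, b.choose_spec.trans (Category.id_comp _)⟩
  intro i j hij
  obtain rfl : i + 1 = j := hij
  rw [resolution_d]
  exact (ht i).symm

theorem exists_ofRes : ∃ ψ : resolution 𝒪 h2 X ⟶ I.cocomplex,
    resι 𝒪 h2 X 0 ≫ ψ.f 0 = I.ι.f 0 := by
  let b : res 𝒪 h2 X 0 ⟶ I.cocomplex.X 0 := Injective.factorThru (I.ι.f 0) (resι 𝒪 h2 X 0)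
  have hb₀ : resι 𝒪 h2 X 0 ≫ b = I.ι.f 0 := Injective.comp_factorThru _ _
  have hb : augD 𝒪 h2 X 0 ≫ b ≫ I.cocomplex.d 0 1 = 0 :=
    ((Category.assoc _ _ _).symm.trans (congrArg (· ≫ I.cocomplex.d 0 1) hb₀)).trans
      I.ι_f_zero_comp_complex_d
  let t : (n : ℕ) → { g : augX 𝒪 h2 X (n + 1) ⟶ I.cocomplex.X n //
      augD 𝒪 h2 X n ≫ g ≫ I.cocomplex.d n (n + 1) = 0 } :=
    fun n => Nat.rec ⟨b, hb⟩ (fun n ih =>
      ⟨(exact_augD 𝒪 h2 X n).descToInjective (ih.1 ≫ I.cocomplex.d n (n + 1)) ih.2, by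
        exact (Category.assoc _ _ _).symm.trans ((congrArg (· ≫ I.cocomplex.d (n + 1) (n + 2))
          ((exact_augD 𝒪 h2 X n).comp_descToInjective _ ih.2)).trans
          ((Category.assoc _ _ _).trans ((congrArg _ (I.cocomplex.d_comp_d _ _ _)).trans comp_zero)))⟩) n
  have ht : ∀ n, resD 𝒪 h2 X n ≫ (t (n + 1)).1 = (t n).1 ≫ I.cocomplex.d n (n + 1) := fun n =>
    (exact_augD 𝒪 h2 X n).comp_descToInjective _ (t n).2
  refine ⟨{ f := fun n => (t n).1, comm' := ?_ }, hb₀⟩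
  intro i j hij
  obtain rfl : i + 1 = j := hij
  rw [resolution_d]
  exact (ht i).symm

include h2 in
theorem isZero_rightDerived {B : Type u'} [Category.{v'} B] [Abelian B] (f : A ⥤ B) [f.Additive]
    (h1 : ∀ K : CochainComplex A ℕ, (∀ i, 𝒪 (K.X i)) → K.Acyclic →
      ((f.mapHomologicalComplex (ComplexShape.up ℕ)).obj K).Acyclic)
    (hX : 𝒪 X) (n : ℕ) : IsZero ((f.rightDerived (n + 1)).obj X) := by
  let I := InjectiveResolution.of X
  obtain ⟨φ, hφ⟩ := exists_toRes 𝒪 h2 I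
  obtain ⟨ψ, hψ⟩ := exists_ofRes 𝒪 h2 I
  let h : Homotopy (φ ≫ ψ) (𝟙 I.cocomplex) := InjectiveResolution.descHomotopy (𝟙 X) _ _
    (HomologicalComplex.from_single_hom_ext (by
      simp only [HomologicalComplex.comp_f, CategoryTheory.Functor.map_id, Category.id_comp]
      exact ((Category.assoc _ _ _).symm.trans (congrArg (· ≫ ψ.f 0) hφ)).trans hψ))
    (by simp)
  let K := (f.mapHomologicalComplex (ComplexShape.up ℕ)).obj (resolution 𝒪 h2 X)
  have hK : K.ExactAt (n + 1) := by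
    have h' := h1 (aug 𝒪 h2 X) (aug_mem 𝒪 h2 X hX) (aug_acyclic 𝒪 h2 X) (n + 2)
    rw [HomologicalComplex.exactAt_iff' _ (n + 1) (n + 2) (n + 3) (by simp) (by simp)] at h'
    rw [HomologicalComplex.exactAt_iff' _ n (n + 1) (n + 2) (by simp) (by simp)]
    refine ShortComplex.exact_of_iso (ShortComplex.isoMk
      (S₁ := ((f.mapHomologicalComplex (ComplexShape.up ℕ)).obj (aug 𝒪 h2 X)).sc' (n + 1) (n + 2) (n + 3))
      (S₂ := K.sc' n (n + 1) (n + 2)) (Iso.refl _) (Iso.refl _) (Iso.refl _) ?_ ?_) h'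
    · exact (Category.id_comp _).trans ((congrArg f.map ((resolution_d 𝒪 h2 X n).trans
        (aug_d 𝒪 h2 X (n + 1)).symm)).trans (Category.comp_id _).symm)
    · exact (Category.id_comp _).trans ((congrArg f.map ((resolution_d 𝒪 h2 X (n + 1)).trans
        (aug_d 𝒪 h2 X (n + 2)).symm)).trans (Category.comp_id _).symm)
  refine IsZero.of_iso ?_ (I.isoRightDerivedObj f (n + 1))
  have e : HomologicalComplex.homologyMap ((f.mapHomologicalComplex _).map φ) (n + 1) ≫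
      HomologicalComplex.homologyMap ((f.mapHomologicalComplex _).map ψ) (n + 1) = 𝟙 _ := by
    rw [← HomologicalComplex.homologyMap_comp, ← CategoryTheory.Functor.map_comp,
      (f.mapHomotopy h).homologyMap_eq, CategoryTheory.Functor.map_id, HomologicalComplex.homologyMap_id]
  exact (IsZero.iff_id_eq_zero _).2 (e.symm.trans (by
    rw [hK.isZero_homology.eq_of_tgt (HomologicalComplex.homologyMap _ _) 0, zero_comp]))

end Groth.Agent.Et18.AdaptedClass
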