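import Groth.Agent.Et18.GenericFLC
import Groth.Agent.Et18.ExtZeroGeneral

/-!
# Constructible sheaves on locally noetherian schemes
-/

universe u

open CategoryTheory CategoryTheory.Limits AlgebraicGeometry Opposite Topology

set_option backward.isDefEq.respectTransparency.types false
set_option backward.isDefEq.respectTransparency false

namespace Groth.Agent.Et18

variable {X : Scheme.{u}}

/-- Locally closed subsets of noetherian schemes are constructible. -/
lemma isConstructible_of_isLocallyClosed [IsNoetherian X] {L : Set X} (hL : IsLocallyClosed L) :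
    IsConstructible L :=
  H8Top.isConstructible_of_isLocallyClosed_isCompact hL (TopologicalSpace.NoetherianSpace.isCompact L)
    fun _ _ _ => TopologicalSpace.NoetherianSpace.isCompact _

/-- Pointwise criterion for constructibility. -/
theorem isConstructible_of_forall_point [IsLocallyNoetherian X] {F : EtCoh.Ab X}
    (h : ∀ x : X, ∃ (T : Scheme.{u}) (g : T ⟶ X), IsImmersion g ∧ x ∈ Set.range g ∧
      EtCoh.IsFiniteLocallyConstant ((EtCoh.pull g).obj F)) : EtPBC.IsConstructible F := by
  refine isConstructible_of_cover (fun U : X.affineOpens => U.1) (fun x => ?_) fun U => ?_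
  · obtain ⟨U, hU, hxU, -⟩ := exists_isAffineOpen_mem_and_subset (X := X) (x := x) (U := ⊤) trivial
    exact ⟨⟨U, hU⟩, hxU⟩
  haveI : IsAffine U.1.toScheme := U.2
  haveI : IsLocallyNoetherian U.1.toScheme := LocallyOfFiniteType.isLocallyNoetherian U.1.ι
  haveI : IsNoetherian U.1.toScheme := ⟨⟩
  choose T g hg hxg hF using h
  refine isConstructible_of_immersions (fun y : U.1.toScheme => pullback U.1.ι (g y.1))
    (fun y => pullback.fst U.1.ι (g y.1)) (fun y => ?_) (Set.eq_univ_of_forall fun y => ?_) fun y => ?_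
  · exact isConstructible_of_isLocallyClosed (Scheme.Hom.isLocallyClosed_range _)
  · refine Set.mem_iUnion.mpr ⟨y, ?_⟩
    rw [Scheme.Pullback.range_fst]
    exact hxg y.1
  · refine isConstructible_of_isFLC ?_
    exact isFLC_of_iso (isFLC_pull_comp (hF y.1) (pullback.snd U.1.ι (g y.1)))
      ((EtCore.pullCongr pullback.condition.symm).app F ≪≫ (EtCore.pullComp _ _).app F)

/-- The closure of a point, cut down to an open, as a subscheme. -/
lemma exists_immersion_closure (V : X.Opens) (x : X) :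
    ∃ (T : Scheme.{u}) (g : T ⟶ X), IsImmersion g ∧ Set.range g = (V : Set X) ∩ closure {x} :=
  exists_immersion_range (V.2.isLocallyClosed.inter isClosed_closure.isLocallyClosed)

/-- Constructibility on a locally noetherian scheme in terms of closures of points. -/
theorem isConstructible_iff_closures [IsLocallyNoetherian X] (F : EtCoh.Ab X) :
    EtPBC.IsConstructible F ↔
      ∀ x : X, ∃ (V : X.Opens) (T : Scheme.{u}) (g : T ⟶ X), IsImmersion g ∧ x ∈ V ∧
        Set.range g = (V : Set X) ∩ closure {x} ∧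
        EtCoh.IsFiniteLocallyConstant ((EtCoh.pull g).obj F) := by
  refine ⟨fun hF x => ?_, fun h => isConstructible_of_forall_point fun x => ?_⟩
  · obtain ⟨U, hU, hxU, -⟩ := exists_isAffineOpen_mem_and_subset (X := X) (x := x) (U := ⊤) trivial
    obtain ⟨ι, hι, T, g, hg, hc, hd, hu, hFi⟩ := (isConstructible_iff_affine F).mp hF U hU
    obtain ⟨i, hi⟩ := Set.mem_iUnion.mp (hu.symm ▸ Set.mem_univ (⟨x, hxU⟩ : U.toScheme) :
      (⟨x, hxU⟩ : U.toScheme) ∈ ⋃ i, Set.range (g i))
    obtain ⟨O, C, hO, hC, hOC⟩ := (g i ≫ U.ι).isLocallyClosed_range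
    have hx : x ∈ O ∩ C := hOC ▸ ⟨hi.choose, congrArg U.ι hi.choose_spec⟩
    obtain ⟨T', g', hg', hr'⟩ := exists_immersion_closure ⟨O, hO⟩ x
    refine ⟨⟨O, hO⟩, T', g', hg', hx.1, hr', ?_⟩
    have hsub : Set.range g' ⊆ Set.range (g i ≫ U.ι) := by
      rw [hr', hOC]
      exact Set.inter_subset_inter_right _ (hC.closure_subset_iff.mpr (Set.singleton_subset_iff.mpr hx.2))
    haveI : Surjective (pullback.fst g' (g i ≫ U.ι)) := ⟨fun q => by
      have : q ∈ Set.range (pullback.fst g' (g i ≫ U.ι)) := by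
        rw [Scheme.Pullback.range_fst]
        exact hsub ⟨q, rfl⟩
      exact this⟩
    refine isFLC_of_pull_immersion (pullback.fst g' (g i ≫ U.ι)) ?_
    refine isFLC_of_iso (isFLC_pull (hFi i) (pullback.snd g' (g i ≫ U.ι))) ?_
    exact (EtCoh.pull _).mapIso (((EtCore.pullComp (g i) U.ι).app F).symm) ≪≫
      ((EtCore.pullComp _ _).app F).symm ≪≫ (EtCore.pullCongr pullback.condition.symm).app F ≪≫
      (EtCore.pullComp _ _).app F
  · obtain ⟨V, T, g, hg, hxV, hr, hF⟩ := h x
    exact ⟨T, g, hg, hr ▸ ⟨hxV, subset_closure rfl⟩, hF⟩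

/-- The set of points over which the stalks have `n` elements. -/
def cardLocus (F : EtCoh.Ab X) (n : ℕ) : Set X :=
  {x | Nat.card ((EtCoh.stalk (sepPoint X x)).obj F) = n}

lemma cardLocus_eq (F : EtCoh.Ab X) (n : ℕ) :
    {x : X | ∃ (Ω : Type u) (_ : Field Ω) (_ : IsSepClosed Ω) (ξ : Spec (CommRingCat.of Ω) ⟶ X),
      Set.range ξ = {x} ∧ Nat.card ((EtCoh.stalk ξ).obj F) = n} = cardLocus F n := by
  ext x
  constructor
  · rintro ⟨Ω, _, _, ξ, hξ, h⟩
    have hx : ξ default = x := Set.mem_singleton_iff.mp (hξ ▸ Set.mem_range_self _)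
    obtain ⟨e⟩ := nonempty_stalk_iso_of_eq (sepPoint X x) ξ ((sepPoint_default X x).trans hx.symm) F
    exact (Nat.card_congr e.addCommGroupIsoToAddEquiv.toEquiv).trans h
  · intro h
    refine ⟨_, inferInstance, inferInstance, sepPoint X x,
      Set.eq_singleton_iff_unique_mem.mpr ⟨⟨default, sepPoint_default X x⟩, ?_⟩, h⟩
    rintro _ ⟨p, rfl⟩
    rw [Subsingleton.elim p default, sepPoint_default]

lemma cardLocus_pull {T : Scheme.{u}} (g : T ⟶ X) (F : EtCoh.Ab X) (n : ℕ) :
    cardLocus ((EtCoh.pull g).obj F) n = g ⁻¹' cardLocus F n := by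
  ext t
  obtain ⟨e⟩ := nonempty_stalk_iso_of_eq (sepPoint T t ≫ g) (sepPoint X (g t))
    ((congrArg g (sepPoint_default T t)).trans (sepPoint_default X _).symm) F
  have := Nat.card_congr (((stalkPullIso g (sepPoint T t)).app F ≪≫ e).addCommGroupIsoToAddEquiv.toEquiv)
  exact Eq.congr_left this

/-- The cardinality of the stalks of a finite locally constant sheaf is locally constant. -/
lemma isClopen_cardLocus {F : EtCoh.Ab X} (h : EtCoh.IsFiniteLocallyConstant F) (n : ℕ) :
    IsClopen (cardLocus F n) := by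
  have hloc : ∀ x : X, ∃ O : Set X, IsOpen O ∧ x ∈ O ∧
      ∀ x' ∈ O, x' ∈ cardLocus F n ↔ x ∈ cardLocus F n := fun x => by
    obtain ⟨U, y, A, hy, -, hU⟩ := isFLC_iff.mp h x
    haveI : Etale U.hom := U.prop
    refine ⟨Set.range U.hom, U.hom.isOpenMap.isOpen_range, ⟨y, hy⟩, ?_⟩
    have key : ∀ (z : X) (t : U.left), U.hom t = z → (z ∈ cardLocus F n ↔ Nat.card A = n) := fun z t ht => by
      obtain ⟨e⟩ := nonempty_stalk_iso' hU (sepPoint X z) t (ht.trans (sepPoint_default X z).symm)
      exact Eq.congr_left (Nat.card_congr e.addCommGroupIsoToAddEquiv.toEquiv)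
    rintro x' ⟨t, ht⟩
    exact (key x' t ht).trans (key x y hy).symm
  refine ⟨⟨isOpen_iff_forall_mem_open.mpr fun x hx => ?_⟩, isOpen_iff_forall_mem_open.mpr fun x hx => ?_⟩
  all_goals obtain ⟨O, hO, hxO, hiff⟩ := hloc x
  · exact ⟨O, fun x' hx' hs => hx ((hiff x' hx').mp hs), hO, hxO⟩
  · exact ⟨O, fun x' hx' => (hiff x' hx').mpr hx, hO, hxO⟩

/-- Level sets of the cardinality of stalks of constructible sheaves. -/
theorem isLocallyConstructible_cardLocus {F : EtCoh.Ab X} (hF : EtPBC.IsConstructible F) (n : ℕ) :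
    IsLocallyConstructible (cardLocus F n) := by
  refine IsLocallyConstructible.of_isOpenCover (U := fun U : X.affineOpens => U.1)
    (iSup_affineOpens_eq_top X) fun U => ?_
  have := (qcqs_of_isAffineOpen U.2).1
  have := (qcqs_of_isAffineOpen U.2).2
  obtain ⟨ι, hι, T, g, hg, hc, hd, hu, hFi⟩ := (isConstructible_iff_affine F).mp hF U.1 U.2
  have heq : cardLocus ((EtCoh.pull U.1.ι).obj F) n =
      ⋃ i, g i '' cardLocus ((EtCoh.pull (g i)).obj ((EtCoh.pull U.1.ι).obj F)) n := by
    simp only [cardLocus_pull (g _), Set.image_preimage_eq_inter_range]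
    rw [← Set.inter_iUnion, hu, Set.inter_univ]
  have key : IsLocallyConstructible (cardLocus ((EtCoh.pull U.1.ι).obj F) n) := by
    rw [heq]
    exact IsLocallyConstructible.iUnion fun i =>
      isLocallyConstructible_image (g i) (hc i)
        (isLocallyConstructible_of_isClopen (isClopen_cardLocus (hFi i) n))
  rw [cardLocus_pull] at key
  exact key

/-- Constructibility from constructible level sets. -/
theorem isConstructible_of_cardLocus [IsLocallyNoetherian X] {F : EtCoh.Ab X}
    (hfin : ∀ x : X, Finite ((EtCoh.stalk (sepPoint X x)).obj F))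
    (h : ∀ n, IsLocallyConstructible (cardLocus F n)) : EtPBC.IsConstructible F := by
  refine isConstructible_of_forall_point fun x => ?_
  obtain ⟨T, g, hg, hr⟩ := exists_immersion_closure (⊤ : X.Opens) x
  haveI : IsLocallyNoetherian T := LocallyOfFiniteType.isLocallyNoetherian g
  obtain ⟨η, hη⟩ : x ∈ Set.range g := hr ▸ ⟨trivial, subset_closure rfl⟩
  have hgen : ∀ t : T, η ⤳ t := fun t => by
    refine g.isEmbedding.isInducing.specializes_iff.mp ?_
    rw [hη]
    exact specializes_iff_mem_closure.mpr ((hr ▸ Set.mem_range_self t :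
      g t ∈ ((⊤ : X.Opens) : Set X) ∩ closure {x}).2)
  let n := Nat.card ((EtCoh.stalk (sepPoint X x)).obj F)
  haveI := hfin x
  have hlc : IsLocallyConstructible (cardLocus ((EtCoh.pull g).obj F) n) := by
    rw [cardLocus_pull]
    exact H8Lim.isLocallyConstructible_preimage g (h n)
  obtain ⟨O, hO, hηO, hOs⟩ := exists_open_subset_of_isConstructible hgen hlc
    (by rw [cardLocus_pull]; show g η ∈ cardLocus F n; rw [hη]; rfl)
  let P : T.Opens := ⟨O, hO⟩
  haveI : IsLocallyNoetherian P.toScheme := LocallyOfFiniteType.isLocallyNoetherian P.ι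
  obtain ⟨O', hη', hF'⟩ := exists_open_isFLC_of_card (X := P.toScheme) ⟨η, hηO⟩
    (fun t => (subtype_specializes_iff _ _).mpr (hgen t.1)) ((EtCoh.pull P.ι).obj ((EtCoh.pull g).obj F))
    n Nat.card_pos.ne' (fun t => by
      have : t ∈ cardLocus ((EtCoh.pull P.ι).obj ((EtCoh.pull g).obj F)) n := by
        rw [cardLocus_pull]; exact hOs t.2
      exact this)
  refine ⟨O'.toScheme, O'.ι ≫ P.ι ≫ g, inferInstance, ⟨⟨⟨η, hηO⟩, hη'⟩, hη⟩, ?_⟩
  exact isFLC_of_iso hF' ((EtCoh.pull O'.ι).mapIso ((EtCore.pullComp P.ι g).app F).symm ≪≫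
    ((EtCore.pullComp _ _).app F).symm)

end Groth.Agent.Et18
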