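import Groth.Agent.Et18.Presentation
import Groth.Agent.Et18.StrataNoetherian
import Groth.Agent.H8ProCons.Image

/-!
# Constructibility through iso loci; descent along surjections
-/

universe u

open CategoryTheory CategoryTheory.Limits AlgebraicGeometry Opposite Topology

set_option backward.isDefEq.respectTransparency.types false
set_option backward.isDefEq.respectTransparency false

namespace Groth.Agent.Et18

variable {U X Y : Scheme.{u}}

/-- A set with constructible preimage under a quasi-compact surjection is constructible. -/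
theorem isLocallyConstructible_of_preimage (f : X ⟶ Y) [QuasiCompact f] [Surjective f] {Z : Set Y}
    (h : IsLocallyConstructible (f ⁻¹' Z)) : IsLocallyConstructible Z := by
  rw [H8ProCons.isLocallyConstructible_iff_ind_and_pro] at h ⊢
  refine ⟨?_, ?_⟩
  · have := H8ProCons.isProConstructible_image f (H8ProCons.isIndConstructible_iff_compl.mp h.1)
    rw [← Set.preimage_compl, Set.image_preimage_eq _ f.surjective] at this
    exact H8ProCons.isIndConstructible_iff_compl.mpr this
  · have := H8ProCons.isProConstructible_image f h.2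
    rwa [Set.image_preimage_eq _ f.surjective] at this

/-- A stratum through a given point on which given retrocompact opens become clopen. -/
theorem exists_stratum_clopen [CompactSpace X] [QuasiSeparatedSpace X] (j : U ⟶ X) [Etale j]
    [IsSeparated j] [QuasiCompact j] (P : Set (Set U)) (hPf : P.Finite)
    (hP : ∀ O ∈ P, IsOpen O ∧ IsRetrocompact O) (x : X) :
    ∃ (T : Scheme.{u}) (g : T ⟶ X), IsImmersion g ∧ x ∈ Set.range g ∧ IsConstructible (Set.range g) ∧
      (∃ n, ConstLifts (pullback.snd j g) n) ∧ ∀ O ∈ P, IsClosed ((pullback.fst j g) ⁻¹' O) := by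
  classical
  haveI : CompactSpace U := QuasiCompact.compactSpace_of_compactSpace j
  let PP := insert (Set.univ : Set U) P
  haveI : Finite PP := (hPf.insert _).to_subtype
  have hPP : ∀ O : PP, IsOpen (O : Set U) ∧ IsRetrocompact (O : Set U) := by
    rintro ⟨O, rfl | hO⟩
    · exact ⟨isOpen_univ, .univ⟩
    · exact hP O hO
  let op' : PP → U.Opens := fun O => ⟨O.1, (hPP O).1⟩
  have hqc : ∀ O : PP, QuasiCompact ((op' O).ι ≫ j) := fun O => by
    haveI : QuasiCompact (op' O).ι :=
      quasiCompact_iff_isSpectralMap.mpr (IsRetrocompact_iff_isSpectralMap_subtypeVal.mp (hPP O).2)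
    infer_instance
  choose E hEo hEc _ hE using fun O : PP => fun k => exists_atLeast k ((op' O).ι ≫ j)
  have hm : ∀ O : PP, ∃ m, x ∈ E O m ∧ x ∉ E O (m + 1) := fun O => by
    haveI := hqc O
    haveI := finite_lifts_of_etale ((op' O).ι ≫ j) (sepPoint X x)
    cases nonempty_fintype {v : Spec (CommRingCat.of _) ⟶ (op' O).toScheme // v ≫ (op' O).ι ≫ j = sepPoint X x}
    have hex : ∃ k, x ∉ E O k := by
      refine ⟨Fintype.card {v : Spec (CommRingCat.of _) ⟶ (op' O).toScheme // v ≫ (op' O).ι ≫ j = sepPoint X x} + 1, fun hx => ?_⟩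
      obtain ⟨e, he⟩ := (hE O _ _ (sepPoint X x)).mpr (by rw [sepPoint_default]; exact hx)
      simpa using Fintype.card_le_of_injective e he
    have h0 : x ∈ E O 0 := by
      rw [← sepPoint_default X x, ← hE]
      exact ⟨Fin.elim0, fun a => a.elim0⟩
    obtain ⟨m, hm⟩ : ∃ m, Nat.find hex = m + 1 :=
      ⟨Nat.find hex - 1, (Nat.succ_pred_eq_of_ne_zero fun h => (h ▸ Nat.find_spec hex) h0).symm⟩
    exact ⟨m, by_contra fun h => Nat.find_min hex (hm ▸ m.lt_succ_self) h, hm ▸ Nat.find_spec hex⟩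
  choose m hm using hm
  let L : Set X := (⋂ O : PP, E O (m O)) ∩ (⋃ O : PP, E O (m O + 1))ᶜ
  have hLlc : IsLocallyClosed L :=
    (isOpen_iInter_of_finite fun O => hEo O (m O)).isLocallyClosed.inter
      (isOpen_iUnion fun O => hEo O (m O + 1)).isClosed_compl.isLocallyClosed
  have hLc : IsConstructible L :=
    (IsConstructible.iInter fun O => (hEc O _ (hqc O) ‹_›).isConstructible (hEo O _)).inter
      (IsConstructible.iUnion fun O => (hEc O _ (hqc O) ‹_›).isConstructible (hEo O _)).compl
  obtain ⟨T, g, hg, hr⟩ := exists_immersion_range hLlc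
  have hxL : x ∈ L := ⟨Set.mem_iInter.mpr fun O => (hm O).1, by
    simp only [Set.mem_compl_iff, Set.mem_iUnion, not_exists]
    exact fun O => (hm O).2⟩
  have hcount : ∀ O : PP, ConstLifts ((pullback.fst j g ⁻¹ᵁ op' O).ι ≫ pullback.snd j g) (m O) := by
    intro O Ω _ _ η
    have hη : g (η default) ∈ L := hr ▸ ⟨_, rfl⟩
    rw [hasLifts_preimage, hasLifts_preimage, hE, hE]
    exact ⟨Set.mem_iInter.mp hη.1 O, fun h => hη.2 (Set.mem_iUnion.mpr ⟨O, h⟩)⟩
  let O₀ : PP := ⟨Set.univ, Set.mem_insert _ _⟩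
  have hn : ConstLifts (pullback.snd j g) (m O₀) := fun Ω _ _ η => by
    have key : ∀ k, HasLifts (pullback.snd j g) η k ↔
        HasLifts ((pullback.fst j g ⁻¹ᵁ op' O₀).ι ≫ pullback.snd j g) η k := fun k => by
      constructor
      · rintro ⟨e, he⟩
        have : ∀ a, ∃ t, t ≫ (pullback.fst j g ⁻¹ᵁ op' O₀).ι = (e a).1 :=
          fun a => exists_lift_of_mem _ _ (by rw [Scheme.Opens.range_ι]; trivial)
        choose t ht using this
        exact ⟨fun a => ⟨t a, by rw [← Category.assoc, ht, (e a).2]⟩, fun a b hab => he (Subtype.ext (by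
          rw [← ht, ← ht]; exact congrArg (fun z => z.1 ≫ _) hab))⟩
      · rintro ⟨e, he⟩
        exact ⟨fun a => ⟨(e a).1 ≫ Scheme.Opens.ι _, (Category.assoc _ _ _).trans (e a).2⟩,
          fun a b hab => he (Subtype.ext ((cancel_mono (Scheme.Opens.ι _)).mp (congrArg Subtype.val hab)))⟩
    rw [key, key]
    exact hcount O₀ Ω η
  exact ⟨T, g, hg, hr ▸ hxL, hr ▸ hLc, ⟨_, hn⟩, fun O hO =>
    isClosed_of_constLifts (pullback.snd j g) hn (pullback.fst j g ⁻¹ᵁ op' ⟨O, Set.mem_insert_of_mem _ hO⟩)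
      (hcount ⟨O, Set.mem_insert_of_mem _ hO⟩)⟩

/-- The locus where a morphism is an isomorphism on stalks. -/
def isoLocus {F G : EtCoh.Ab X} (φ : F ⟶ G) : Set X :=
  (EtPBC.supp (kernel φ))ᶜ ∩ (EtPBC.supp (cokernel φ))ᶜ

lemma mem_isoLocus_iff {F G : EtCoh.Ab X} (φ : F ⟶ G) {Ω : Type u} [Field Ω] [IsSepClosed Ω]
    (ξ : Spec (CommRingCat.of Ω) ⟶ X) :
    ξ default ∈ isoLocus φ ↔ IsIso ((EtCoh.stalk ξ).map φ) := by
  have hk := (PreservesKernel.iso (EtCoh.stalk ξ) φ).isZero_iff
  have hc := (PreservesCokernel.iso (EtCoh.stalk ξ) φ).isZero_iff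
  simp only [isoLocus, Set.mem_inter_iff, Set.mem_compl_iff, mem_supp_iff _ ξ rfl, not_not, hk, hc]
  constructor
  · rintro ⟨h1, h2⟩
    haveI := Preadditive.mono_of_isZero_kernel _ h1
    haveI := Preadditive.epi_of_isZero_cokernel _ h2
    exact isIso_of_mono_of_epi _
  · intro h
    exact ⟨isZero_kernel_of_mono _, isZero_cokernel_of_epi _⟩

lemma preimage_isoLocus (f : Y ⟶ X) {F G : EtCoh.Ab X} (φ : F ⟶ G) :
    f ⁻¹' isoLocus φ = isoLocus ((EtCoh.pull f).map φ) := by
  ext y
  rw [← sepPoint_default Y y, mem_isoLocus_iff]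
  show (sepPoint Y y ≫ f) default ∈ isoLocus φ ↔ _
  rw [mem_isoLocus_iff]
  exact ((NatIso.isIso_map_iff (stalkPullIso f (sepPoint Y y)) φ)).symm

lemma isLocallyConstructible_isoLocus {F G : EtCoh.Ab X} (φ : F ⟶ G) (hF : EtPBC.IsConstructible F)
    (hG : EtPBC.IsConstructible G) : IsLocallyConstructible (isoLocus φ) :=
  (H8Lim.isLocallyConstructible_compl
      (isLocallyConstructible_supp (isConstructible_kernel_cokernel φ hF hG).1)).inter
    (H8Lim.isLocallyConstructible_compl
      (isLocallyConstructible_supp (isConstructible_kernel_cokernel φ hF hG).2))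

/-- Constructibility from finiteness of stalks and constructibility of iso loci. -/
theorem isConstructible_of_isoLoci [CompactSpace X] [QuasiSeparatedSpace X] {F : EtCoh.Ab X}
    (hfin : ∀ x : X, Finite ((EtCoh.stalk (sepPoint X x)).obj F))
    (hloc : ∀ (W : X.Etale), IsAffine W.left → ∀ (M : AddCommGrpCat.{u + 1}), Finite M →
      ∀ ψ : (cst W.left).obj M ⟶ (EtCoh.pull W.hom).obj F, IsLocallyConstructible (isoLocus ψ)) :
    EtPBC.IsConstructible F := by
  have key : ∀ x : X, ∃ (T : Scheme.{u}) (g : T ⟶ X), IsImmersion g ∧ x ∈ Set.range g ∧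
      IsConstructible (Set.range g) ∧ EtCoh.IsFiniteLocallyConstant ((EtCoh.pull g).obj F) := by
    intro x
    let ξ := sepPoint X x
    haveI := hfin x
    obtain ⟨W₀, v₀, hv₀, ψ₀, hψ₀⟩ := exists_nhd_isIso_stalk ξ (G := F)
    obtain ⟨O, hO, hwO, -⟩ := exists_isAffineOpen_mem_and_subset (X := W₀.left) (x := v₀ default) (U := ⊤) trivial
    haveI : Etale W₀.hom := W₀.prop
    haveI : IsAffine O.toScheme := hO
    let W : X.Etale := Scheme.Etale.mk (O.ι ≫ W₀.hom)
    let M := (EtCoh.stalk ξ).obj F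
    let ψ : (cst W.left).obj M ⟶ (EtCoh.pull W.hom).obj F :=
      (EtCore.pullConstIso O.ι).inv.app M ≫ (EtCoh.pull O.ι).map ψ₀ ≫ (EtCore.pullComp O.ι W₀.hom).inv.app F
    have hC := hloc W hO M ‹_› ψ
    obtain ⟨v, hv⟩ := exists_lift_of_mem v₀ O.ι (by rw [Scheme.Opens.range_ι]; exact hwO)
    have hvmem : v default ∈ isoLocus ψ := by
      refine (mem_isoLocus_iff ψ v).mpr ?_
      haveI : IsIso ((EtCoh.stalk v).map ((EtCoh.pull O.ι).map ψ₀)) := by
        refine (NatIso.isIso_map_iff (stalkPullIso O.ι v) ψ₀).mpr ?_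
        rw [hv]; exact hψ₀
      simp only [ψ, Functor.map_comp]
      infer_instance
    haveI : Etale W.hom := W.prop
    haveI : CompactSpace O.toScheme := isCompact_iff_compactSpace.mp hO.isCompact
    haveI : QuasiSeparatedSpace O.toScheme := (qcqs_of_isAffineOpen hO).2
    haveI : @IsSeparated O.toScheme X W.hom := IsSeparated.of_comp (O.ι ≫ W₀.hom) (terminal.from X)
    haveI : CompactSpace W.left := inferInstanceAs (CompactSpace O.toScheme)
    haveI : QuasiSeparatedSpace W.left := inferInstanceAs (QuasiSeparatedSpace O.toScheme)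
    haveI : QuasiSeparated (terminal.from X) := (quasiSeparatedSpace_iff_quasiSeparated X).mp inferInstance
    haveI : @QuasiCompact O.toScheme X W.hom := QuasiCompact.of_comp (O.ι ≫ W₀.hom) (terminal.from X)
    obtain ⟨P, hPf, hPo, hPp⟩ := H8Top.exists_pattern (s := isoLocus ψ) hC.isConstructible
    obtain ⟨T, g, hg, hxT, hTc, -, hcl⟩ :=
      @exists_stratum_clopen O.toScheme X ‹_› ‹_› W.hom ‹_› ‹_› ‹_› P hPf hPo x
    haveI : CompactSpace T := ⟨by
      rw [g.isEmbedding.isCompact_iff, Set.image_univ]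
      exact H8Lim.isCompact_of_isLocallyConstructible hTc.isLocallyConstructible⟩
    haveI : QuasiSeparatedSpace T := quasiSeparatedSpace_of_quasiSeparated g
    let π := pullback.fst W.hom g
    let D : Set ↥(pullback W.hom g) := π ⁻¹' isoLocus ψ
    haveI : CompactSpace ↥(pullback W.hom g) :=
      QuasiCompact.compactSpace_of_compactSpace (pullback.snd W.hom g)
    have hDclopen : IsClopen D := by
      have hp : ∀ p ∈ P, IsClopen (π ⁻¹' p) := fun p hp => ⟨hcl p hp, (hPo p hp).1.preimage π.continuous⟩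
      have hloc' : ∀ z, ∃ N : Set ↥(pullback W.hom g), IsOpen N ∧ z ∈ N ∧ ∀ z' ∈ N, z' ∈ D ↔ z ∈ D := by
        intro z
        classical
        refine ⟨⋂ p ∈ P, if π z ∈ p then π ⁻¹' p else (π ⁻¹' p)ᶜ, hPf.isOpen_biInter fun p hp' => ?_,
          Set.mem_iInter₂.mpr fun p _ => ?_, fun z' hz' => hPp (π z') (π z) fun p hp' => ?_⟩
        · split
          · exact (hp p hp').2
          · exact (hp p hp').1.isOpen_compl
        · split <;> assumption
        · have := Set.mem_iInter₂.mp hz' p hp'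
          split at this
          · exact iff_of_true this ‹_›
          · exact iff_of_false this ‹_›
      refine ⟨⟨isOpen_iff_forall_mem_open.mpr fun z hz => ?_⟩, isOpen_iff_forall_mem_open.mpr fun z hz => ?_⟩
      all_goals obtain ⟨N, hN, hzN, hiff⟩ := hloc' z
      · exact ⟨N, fun z' hz' hs => hz ((hiff z' hz').mp hs), hN, hzN⟩
      · exact ⟨N, fun z' hz' => (hiff z' hz').mpr hz, hN, hzN⟩
    let D' : (pullback W.hom g).Opens := ⟨D, hDclopen.2⟩
    let O' : T.Opens := ⟨pullback.snd W.hom g '' D,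
      (pullback.snd W.hom g).isOpenMap _ hDclopen.2⟩
    have hO'c : IsCompact (O' : Set T) :=
      hDclopen.1.isCompact.image (pullback.snd W.hom g).continuous
    obtain ⟨t, ht⟩ := hxT
    have hvW : v ≫ W.hom = ξ := by
      show v ≫ O.ι ≫ W₀.hom = ξ
      rw [← Category.assoc, hv, hv₀]
    have hWv : W.hom (v default) = g t := by
      rw [ht]
      exact (congrArg (fun q : Spec (CommRingCat.of _) ⟶ X => q default) hvW).trans (sepPoint_default X x)
    obtain ⟨z, hz1, hz2⟩ := Scheme.Pullback.exists_preimage_pullback (f := W.hom) (g := g) (v default) t hWv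
    have htO' : t ∈ O' := ⟨z, show π z ∈ isoLocus ψ from hz1 ▸ hvmem, hz2⟩
    refine ⟨O'.toScheme, O'.ι ≫ g, inferInstance, ⟨⟨t, htO'⟩, ht⟩, ?_, ?_⟩
    · rw [Scheme.Hom.comp_base, TopCat.coe_comp, Set.range_comp, Scheme.Opens.range_ι]
      exact (isLocallyConstructible_image g hTc.isLocallyConstructible
        (hO'c.isConstructible O'.2).isLocallyConstructible).isConstructible
    refine isFLC_iff.mpr (LocTriv.of_nhds fun q => ?_)
    obtain ⟨d, hd, hdq⟩ := q.2
    have hsub : Set.range (D'.ι ≫ pullback.snd W.hom g) ⊆ Set.range O'.ι := by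
      rw [Scheme.Opens.range_ι]
      rintro _ ⟨s, rfl⟩
      exact ⟨s.1, s.2, rfl⟩
    let k := IsOpenImmersion.lift O'.ι (D'.ι ≫ pullback.snd W.hom g) hsub
    have hk : k ≫ O'.ι = D'.ι ≫ pullback.snd W.hom g := IsOpenImmersion.lift_fac _ _ _
    haveI : Etale (k ≫ O'.ι) := hk ▸ inferInstance
    haveI : Etale k := Etale.of_comp k O'.ι
    refine ⟨Scheme.Etale.mk k, ⟨d, hd⟩, O'.ι.isOpenEmbedding.injective ?_, isFLC_iff.mp ?_⟩
    · exact (congrArg (fun r : D'.toScheme ⟶ T => r ⟨d, hd⟩) hk).trans hdq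
    · haveI : IsIso ((EtCoh.pull (D'.ι ≫ π)).map ψ) := isIso_of_stalks _ fun s => by
        refine (NatIso.isIso_map_iff (stalkPullIso (D'.ι ≫ π) (sepPoint _ s)) ψ).mpr ?_
        rw [← mem_isoLocus_iff]
        show (D'.ι ≫ π) (sepPoint _ s default) ∈ isoLocus ψ
        rw [sepPoint_default]
        exact s.2
      have hw : (D'.ι ≫ π) ≫ W.hom = k ≫ O'.ι ≫ g := by
        rw [← Category.assoc k, hk, Category.assoc, Category.assoc, pullback.condition]
      refine isFLC_of_iso (isFLC_cst (X := D'.toScheme) M) ?_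
      exact ((EtCore.pullConstIso (D'.ι ≫ π)).app M).symm ≪≫ asIso ((EtCoh.pull (D'.ι ≫ π)).map ψ) ≪≫
        ((EtCore.pullComp (D'.ι ≫ π) W.hom).app F).symm ≪≫ (EtCore.pullCongr hw).app F ≪≫
        (EtCore.pullComp k (O'.ι ≫ g)).app F
  choose T g hg hxT hTc hF using key
  refine isConstructible_of_immersions T g hTc
    (Set.eq_univ_of_forall fun x => Set.mem_iUnion.mpr ⟨x, hxT x⟩)
    fun x => isConstructible_of_isFLC (hF x)

/-- Constructibility descends along surjections of qcqs schemes. -/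
theorem isConstructible_of_pull_surjective [CompactSpace X] [QuasiSeparatedSpace X]
    [CompactSpace Y] [QuasiSeparatedSpace Y] (f : Y ⟶ X) [Surjective f] {F : EtCoh.Ab X}
    (h : EtPBC.IsConstructible ((EtCoh.pull f).obj F)) : EtPBC.IsConstructible F := by
  refine isConstructible_of_isoLoci (fun x => ?_) fun W hW M hM ψ => ?_
  · obtain ⟨y, hy⟩ := f.surjective x
    haveI := finite_stalk_of_isConstructible h (sepPoint Y y)
    obtain ⟨e⟩ := nonempty_stalk_iso_of_eq (sepPoint Y y ≫ f) (sepPoint X x)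
      ((congrArg f (sepPoint_default Y y)).trans (hy.trans (sepPoint_default X x).symm)) F
    exact Finite.of_equiv ((EtCoh.stalk (sepPoint Y y)).obj ((EtCoh.pull f).obj F))
      ((stalkPullIso f _).app F ≪≫ e).addCommGroupIsoToAddEquiv.toEquiv
  · haveI : QuasiCompact f := QuasiCompact.of_comp f (terminal.from X)
    let fW := pullback.fst W.hom f
    haveI : Surjective fW := inferInstanceAs (Surjective (pullback.fst W.hom f))
    haveI : QuasiCompact fW := inferInstanceAs (QuasiCompact (pullback.fst W.hom f))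
    refine isLocallyConstructible_of_preimage fW ?_
    rw [preimage_isoLocus]
    haveI := hM
    refine isLocallyConstructible_isoLocus _
      (isConstructible_pull fW (isConstructible_of_isFLC (isFLC_cst M))) ?_
    exact isConstructible_of_iso (isConstructible_pull (pullback.snd W.hom f) h)
      (((EtCore.pullComp _ f).app F).symm ≪≫ (EtCore.pullCongr pullback.condition.symm).app F ≪≫
        (EtCore.pullComp fW W.hom).app F)

/-- Constructibility descends along surjections locally of finite presentation. -/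
theorem isConstructible_of_pull_surjective_lfp (f : Y ⟶ X) [Surjective f]
    [LocallyOfFinitePresentation f] {F : EtCoh.Ab X} (h : EtPBC.IsConstructible ((EtCoh.pull f).obj F)) :
    EtPBC.IsConstructible F := by
  refine isConstructible_of_cover (fun V : X.affineOpens => V.1) (fun x => ?_) fun V => ?_
  · obtain ⟨V, hV, hxV, -⟩ := exists_isAffineOpen_mem_and_subset (X := X) (x := x) (U := ⊤) trivial
    exact ⟨⟨V, hV⟩, hxV⟩
  obtain ⟨hVc, hVq⟩ := qcqs_of_isAffineOpen V.2
  haveI := hVc
  haveI := hVq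
  haveI : IsAffine V.1.toScheme := V.2
  let Y' := pullback f V.1.ι
  let f' : Y' ⟶ V.1.toScheme := pullback.snd f V.1.ι
  have key : ∀ y : Y', ∃ A : Y'.Opens, IsAffineOpen A ∧ y ∈ A := fun y =>
    (exists_isAffineOpen_mem_and_subset (X := Y') (x := y) (U := ⊤) trivial).imp fun A hA => ⟨hA.1, hA.2.1⟩
  choose A hA hyA using key
  obtain ⟨t, ht⟩ := @IsCompact.elim_finite_subcover _ (constructibleTopology V.1.toScheme) Set.univ Y'
    (H8ProCons.isCompact_cons (@isClosed_univ _ (constructibleTopology V.1.toScheme)))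
    (fun y => f' '' (A y : Set Y'))
    (fun y => H8ProCons.isOpen_cons_of_isLocallyConstructible (by
      haveI : CompactSpace (A y).toScheme := (qcqs_of_isAffineOpen (hA y)).1
      haveI : QuasiCompact ((A y).ι ≫ f') := QuasiCompact.of_comp _ (terminal.from V.1.toScheme)
      have := ((A y).ι ≫ f').isLocallyConstructible_image IsLocallyConstructible.univ
      rwa [Set.image_univ, Scheme.Hom.comp_base, TopCat.coe_comp, Set.range_comp, Scheme.Opens.range_ι] at this))
    (fun v _ => by
      obtain ⟨y, rfl⟩ := f'.surjective v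
      exact Set.mem_iUnion.mpr ⟨y, y, hyA y, rfl⟩)
  let Z := ∐ fun y : t => (A y.1).toScheme
  haveI : ∀ y : t, IsAffine (A y.1).toScheme := fun y => hA y.1
  haveI : CompactSpace Z := inferInstance
  haveI : QuasiSeparatedSpace Z := inferInstance
  let q : Z ⟶ Y' := Sigma.desc fun y : t => (A y.1).ι
  haveI : Surjective (q ≫ f') := ⟨fun v => by
    obtain ⟨y, hy, a, ha, rfl⟩ := Set.mem_iUnion₂.mp (ht (Set.mem_univ v))
    refine ⟨Sigma.ι (fun y : t => (A y.1).toScheme) ⟨y, hy⟩ ⟨a, ha⟩, ?_⟩
    rw [Scheme.Hom.comp_apply, ← Scheme.Hom.comp_apply]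
    exact (congrArg (fun r : (A y).toScheme ⟶ V.1.toScheme => r ⟨a, ha⟩)
      (show Sigma.ι (fun y : t => (A y.1).toScheme) ⟨y, hy⟩ ≫ q ≫ f' = (A y).ι ≫ f' by
        rw [← Category.assoc, Sigma.ι_desc])).trans rfl⟩
  refine isConstructible_of_pull_surjective (q ≫ f') ?_
  exact isConstructible_of_iso (isConstructible_pull (q ≫ pullback.fst f V.1.ι) h)
    (((EtCore.pullComp _ f).app F).symm ≪≫
      (EtCore.pullCongr (by rw [Category.assoc, pullback.condition, ← Category.assoc])).app F ≪≫
      (EtCore.pullComp (q ≫ f') V.1.ι).app F)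

end Groth.Agent.Et18
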