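import Groth.Agent.Et18.SpecCrit.Main
import Groth.Agent.Et18.IsoLocus
import Groth.Agent.CAlgSmall.FiniteGenericFibre

/-!
# Descent of adapted strata along surjections of finite type
-/

universe u v

open CategoryTheory CategoryTheory.Limits AlgebraicGeometry Opposite Topology

set_option backward.isDefEq.respectTransparency.types false
set_option backward.isDefEq.respectTransparency false

namespace Groth.Agent.Et18

variable {X Y : Scheme.{u}}

/-- The iso locus of a morphism of finite locally constant sheaves is open. -/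
theorem isOpen_isoLocus_of_isFLC {F G : EtCoh.Ab X} (φ : F ⟶ G)
    (hF : EtCoh.IsFiniteLocallyConstant F) (hG : EtCoh.IsFiniteLocallyConstant G) :
    IsOpen (isoLocus φ) :=
  (isClopen_supp_of_isFLC (isFLC_kernel_cokernel φ hF hG).1).1.isOpen_compl.inter
    (isClopen_supp_of_isFLC (isFLC_kernel_cokernel φ hF hG).2).1.isOpen_compl

/-- Being finite locally constant descends along universally closed surjections. -/
theorem isFLC_of_pull_closed_surjective (h : Y ⟶ X) [UniversallyClosed h] [Surjective h]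
    {G : EtCoh.Ab X} (hG : EtCoh.IsFiniteLocallyConstant ((EtCoh.pull h).obj G)) :
    EtCoh.IsFiniteLocallyConstant G := by
  refine SpecCrit.isFLC_of_forall_nhd fun x => ?_
  obtain ⟨y, hy⟩ := h.surjective x
  haveI := finite_stalk hG (sepPoint Y y)
  obtain ⟨e⟩ := nonempty_stalk_iso_of_eq (sepPoint Y y ≫ h) (sepPoint X x)
    ((congrArg h (sepPoint_default Y y)).trans (hy.trans (sepPoint_default X x).symm)) G
  haveI : Finite ((EtCoh.stalk (sepPoint X x)).obj G) :=
    Finite.of_equiv ((EtCoh.stalk (sepPoint Y y)).obj ((EtCoh.pull h).obj G))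
      ((stalkPullIso h _).app G ≪≫ e).addCommGroupIsoToAddEquiv.toEquiv
  obtain ⟨W, u, hu, ψ, hψ⟩ := SpecCrit.exists_chart G (sepPoint X x)
  haveI : Etale W.hom := W.prop
  haveI : EtShriek.JCont W.hom := jCont W.hom
  let hW := pullback.fst W.hom h
  haveI : Surjective hW := inferInstanceAs (Surjective (pullback.fst W.hom h))
  haveI : UniversallyClosed hW := inferInstanceAs (UniversallyClosed (pullback.fst W.hom h))
  let ψ' := SpecCrit.toPull ψ
  have hopen : IsOpen (isoLocus ψ') := by
    refine (hW.isClosedMap.isQuotientMap hW.continuous hW.surjective).isOpen_preimage.mp ?_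
    rw [preimage_isoLocus]
    exact isOpen_isoLocus_of_isFLC _ (isFLC_pull (isFLC_cst _) hW)
      (isFLC_of_iso (isFLC_pull hG (pullback.snd W.hom h))
        (((EtCore.pullComp _ h).app G).symm ≪≫ (EtCore.pullCongr pullback.condition.symm).app G ≪≫
          (EtCore.pullComp hW W.hom).app G))
  obtain ⟨U, hU, hflc⟩ := SpecCrit.exists_flc_nhd G W _ ψ' ⟨_, hopen⟩ (u default)
    ((mem_isoLocus_iff ψ' u).mpr ((SpecCrit.isIso_stalk_toPull_iff ψ u).mpr hψ))
    fun z hz => (mem_isoLocus_iff ψ' _).mp (by rw [sepPoint_default]; exact hz)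
  refine ⟨U, ?_, hflc⟩
  have hx : W.hom (u default) = x :=
    (congrArg (fun k : Spec (CommRingCat.of _) ⟶ X => k default) hu).trans (sepPoint_default X x)
  exact hx ▸ hU

/-- Over an empty scheme everything is finite locally constant. -/
theorem isFLC_of_isEmpty [IsEmpty X] (F : EtCoh.Ab X) : EtCoh.IsFiniteLocallyConstant F :=
  isFLC_iff.mpr fun x => isEmptyElim x

/-- Local constancy restricts to subschemes with smaller underlying set. -/
theorem isFLC_pull_of_range_subset {S T : Scheme.{u}} {F : EtCoh.Ab X} (g : T ⟶ X) [IsImmersion g]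
    (hF : EtCoh.IsFiniteLocallyConstant ((EtCoh.pull g).obj F)) (k : S ⟶ X)
    (hk : Set.range k ⊆ Set.range g) : EtCoh.IsFiniteLocallyConstant ((EtCoh.pull k).obj F) := by
  haveI : Surjective (pullback.fst k g) := ⟨fun q => by
    have : q ∈ Set.range (pullback.fst k g) := by
      rw [Scheme.Pullback.range_fst]
      exact hk ⟨q, rfl⟩
    exact this⟩
  refine isFLC_of_pull_immersion (pullback.fst k g) (isFLC_of_iso (isFLC_pull hF (pullback.snd k g)) ?_)
  exact ((EtCore.pullComp _ g).app F).symm ≪≫ (EtCore.pullCongr pullback.condition.symm).app F ≪≫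
    (EtCore.pullComp _ k).app F

/-- A stratum through a given point, uniform in the family. -/
theorem exists_adapted_immersion [IsNoetherian X] {X' : Scheme.{u}} [IsNoetherian X'] (q : X' ⟶ X)
    [Surjective q] [LocallyOfFiniteType q] {ι : Type v} (F : ι → EtCoh.Ab X) {n : ℕ}
    (S : Fin n → Scheme.{u}) (s : ∀ i, S i ⟶ X') [∀ i, IsImmersion (s i)]
    (hcov : (⋃ i, Set.range (s i)) = Set.univ)
    (hF : ∀ k i, EtCoh.IsFiniteLocallyConstant ((EtCoh.pull (s i)).obj ((EtCoh.pull q).obj (F k))))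
    (x : X) : ∃ (T : Scheme.{u}) (g : T ⟶ X), IsImmersion g ∧ x ∈ Set.range g ∧
      ∀ k, EtCoh.IsFiniteLocallyConstant ((EtCoh.pull g).obj (F k)) := by
  obtain ⟨T, g, hg, hr⟩ := exists_immersion_closure (⊤ : X.Opens) x
  haveI : IsLocallyNoetherian T := LocallyOfFiniteType.isLocallyNoetherian g
  obtain ⟨η, hη⟩ : x ∈ Set.range g := hr ▸ ⟨trivial, subset_closure rfl⟩
  have hgen : ∀ t : T, η ⤳ t := fun t => by
    refine g.isEmbedding.isInducing.specializes_iff.mp ?_
    rw [hη]
    exact specializes_iff_mem_closure.mpr ((hr ▸ Set.mem_range_self t :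
      g t ∈ ((⊤ : X.Opens) : Set X) ∩ closure {x}).2)
  obtain ⟨x', hx', hx'cl⟩ : ∃ x', q x' = x ∧ ∀ y, q y = x → x' ⤳ y → y = x' := by
    let P : Set X' := q ⁻¹' {x}
    haveI : Nonempty P := ⟨⟨_, (q.surjective x).choose_spec⟩⟩
    haveI : CompactSpace P := isCompact_iff_compactSpace.mp (TopologicalSpace.NoetherianSpace.isCompact P)
    obtain ⟨p, -, hp⟩ := (isClosed_univ (X := P)).exists_closed_singleton Set.univ_nonempty
    exact ⟨p.1, p.2, fun y hy hpy =>
      congrArg Subtype.val (show (⟨y, hy⟩ : P) = p from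
        ((subtype_specializes_iff p ⟨y, hy⟩).mpr hpy).mem_closed hp rfl)⟩
  obtain ⟨i, hi⟩ := Set.mem_iUnion.mp (hcov.symm ▸ Set.mem_univ x' : x' ∈ ⋃ i, Set.range (s i))
  obtain ⟨R, r, hr', hrange⟩ := exists_immersion_range
    ((s i).isLocallyClosed_range.inter (isClosed_closure (s := {x'})).isLocallyClosed)
  obtain ⟨r₀, hr₀⟩ : x' ∈ Set.range r := hrange ▸ ⟨hi, subset_closure rfl⟩
  haveI : LocallyOfFiniteType r := inferInstance
  haveI : IsLocallyNoetherian R := LocallyOfFiniteType.isLocallyNoetherian r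
  haveI : CompactSpace R := ⟨by
    rw [r.isEmbedding.isCompact_iff]
    exact TopologicalSpace.NoetherianSpace.isCompact _⟩
  haveI : IsNoetherian R := ⟨⟩
  let rq := r ≫ q
  let P := pullback rq g
  let f : P ⟶ T := pullback.snd rq g
  haveI : CompactSpace P := ⟨by
    rw [(pullback.fst rq g).isEmbedding.isCompact_iff]
    exact TopologicalSpace.NoetherianSpace.isCompact _⟩
  haveI : IsLocallyNoetherian P := LocallyOfFiniteType.isLocallyNoetherian (pullback.fst rq g)
  haveI : IsNoetherian P := ⟨⟩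
  haveI : CompactSpace T := ⟨by
    rw [g.isEmbedding.isCompact_iff]
    exact TopologicalSpace.NoetherianSpace.isCompact _⟩
  haveI : IsNoetherian T := ⟨⟩
  haveI : LocallyOfFiniteType f := inferInstanceAs (LocallyOfFiniteType (pullback.snd rq g))
  haveI : QuasiCompact f := QuasiCompact.of_comp f (terminal.from T)
  haveI : QuasiSeparated f := QuasiSeparated.of_comp f (terminal.from T)
  have hfib : (f ⁻¹' {η}).Subsingleton := fun a ha b hb => by
    have key : ∀ c, f c = η → r (pullback.fst rq g c) = x' := fun c hc => by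
      refine hx'cl _ ?_ (specializes_iff_mem_closure.mpr
        ((hrange ▸ Set.mem_range_self _ : r (pullback.fst rq g c) ∈ Set.range (s i) ∩ closure {x'}).2))
      exact (congrArg (fun k : P ⟶ X => k c) (pullback.condition (f := rq) (g := g))).trans
        ((congrArg g hc).trans hη)
    exact (pullback.fst rq g).isEmbedding.injective
      (r.isEmbedding.injective ((key a ha).trans (key b hb).symm))
  obtain ⟨p₀, -, hp₀⟩ := Scheme.Pullback.exists_preimage_pullback (f := rq) (g := g) r₀ η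
    (((congrArg q hr₀).trans hx').trans hη.symm)
  have hirr : closure ({η} : Set T) ∈ irreducibleComponents T := by
    have hu : closure ({η} : Set T) = Set.univ :=
      Set.eq_univ_of_forall fun t => specializes_iff_mem_closure.mp (hgen t)
    exact ⟨isIrreducible_singleton.closure, fun Z _ _ => hu ▸ Set.subset_univ Z⟩
  obtain ⟨N, -, hηN, hfin⟩ := (CAlgSmall.finite_preimage_iff_exists_finite f η hirr).mp hfib.finite
  haveI := hfin
  haveI : Surjective (f ∣_ N) := ⟨fun t => by
    have hmem : (⟨η, hηN⟩ : N.toScheme) ∈ Set.range (f ∣_ N) := by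
      refine ⟨⟨p₀, show f p₀ ∈ N from hp₀ ▸ hηN⟩, N.ι.isEmbedding.injective ?_⟩
      exact (congrArg (fun k : (f ⁻¹ᵁ N).toScheme ⟶ T => k ⟨p₀, show f p₀ ∈ N from hp₀ ▸ hηN⟩)
        (morphismRestrict_ι f N)).trans hp₀
    have : t ∈ Set.range (f ∣_ N) :=
      ((subtype_specializes_iff _ _).mpr (hgen t.1) : (⟨η, hηN⟩ : N.toScheme) ⤳ t).mem_closed
        (f ∣_ N).isClosedMap.isClosed_range hmem
    exact this⟩
  refine ⟨N.toScheme, N.ι ≫ g, inferInstance, ⟨⟨η, hηN⟩, hη⟩, fun k => ?_⟩
  refine isFLC_of_pull_closed_surjective (f ∣_ N) ?_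
  have hsub : Set.range ((f ⁻¹ᵁ N).ι ≫ pullback.fst rq g ≫ r) ⊆ Set.range (s i) := by
    rintro _ ⟨z, rfl⟩
    exact (hrange ▸ Set.mem_range_self (pullback.fst rq g ((f ⁻¹ᵁ N).ι z)) :
      r (pullback.fst rq g ((f ⁻¹ᵁ N).ι z)) ∈ Set.range (s i) ∩ closure {x'}).1
  have hw : ((f ⁻¹ᵁ N).ι ≫ pullback.fst rq g ≫ r) ≫ q = (f ∣_ N) ≫ N.ι ≫ g := by
    rw [morphismRestrict_ι_assoc, Category.assoc, Category.assoc]
    exact congrArg ((f ⁻¹ᵁ N).ι ≫ ·) pullback.condition
  refine isFLC_of_iso (isFLC_pull_of_range_subset (s i) (hF k i) _ hsub) ?_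
  exact ((EtCore.pullComp _ q).app (F k)).symm ≪≫ (EtCore.pullCongr hw).app (F k) ≪≫
    (EtCore.pullComp _ _).app (F k)

/-- Pointwise adapted immersions give finitely many disjoint adapted strata. -/
theorem exists_finite_adapted [IsNoetherian X] {ι : Type v} (F : ι → EtCoh.Ab X)
    (h : ∀ x : X, ∃ (T : Scheme.{u}) (g : T ⟶ X), IsImmersion g ∧ x ∈ Set.range g ∧
      ∀ k, EtCoh.IsFiniteLocallyConstant ((EtCoh.pull g).obj (F k))) :
    ∃ (m : ℕ) (T₀ : Fin m → Scheme.{u}) (g₀ : ∀ j, T₀ j ⟶ X),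
      (∀ j, IsImmersion (g₀ j)) ∧
      Pairwise (fun j j' => Disjoint (Set.range (g₀ j).base) (Set.range (g₀ j').base)) ∧
      (⋃ j, Set.range (g₀ j).base) = Set.univ ∧
      ∀ k j, EtCoh.IsFiniteLocallyConstant ((EtCoh.pull (g₀ j)).obj (F k)) := by
  classical
  choose T g hg hx hF using h
  have hc : ∀ x, IsConstructible (Set.range (g x)) := fun x =>
    isConstructible_of_isLocallyClosed (g x).isLocallyClosed_range
  obtain ⟨t, ht⟩ := @IsCompact.elim_finite_subcover X (constructibleTopology X) Set.univ X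
    (H8ProCons.isCompact_cons (@isClosed_univ X (constructibleTopology X)))
    (fun x => Set.range (g x)) (fun x => H8ProCons.isOpen_cons_of_isConstructible (hc x))
    fun x _ => Set.mem_iUnion.mpr ⟨x, hx x⟩
  let e := t.equivFin
  obtain ⟨I, _, _, S, hS, hSu, hSd, -, hST⟩ :=
    H8Top.exists_stratification (fun k => Set.range (g (e.symm k).1)) fun k => hc _
  choose T' s hs hr using fun i => exists_immersion_range (hS i).1
  let eI := (Fintype.equivFin I).symm
  refine ⟨Fintype.card I, fun j => T' (eI j), fun j => s (eI j), fun j => hs _, fun j j' hne => ?_,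
    ?_, fun k j => ?_⟩
  · show Disjoint (Set.range (s (eI j))) (Set.range (s (eI j')))
    rw [hr, hr]
    exact hSd _ _ fun h => hne (eI.injective h)
  · refine Set.eq_univ_of_forall fun x => ?_
    obtain ⟨i, hi⟩ := Set.mem_iUnion.mp (hSu.symm ▸ Set.mem_univ x : x ∈ ⋃ i, S i)
    refine Set.mem_iUnion.mpr ⟨eI.symm i, ?_⟩
    show x ∈ Set.range (s (eI (eI.symm i)))
    rw [eI.apply_symm_apply, hr]
    exact hi
  · rcases isEmpty_or_nonempty (T' (eI j)) with hemp | ⟨⟨z⟩⟩
    · exact isFLC_of_isEmpty _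
    · have hz : s (eI j) z ∈ S (eI j) := hr (eI j) ▸ Set.mem_range_self z
      obtain ⟨x, hxt, hxz⟩ := Set.mem_iUnion₂.mp (ht (Set.mem_univ (s (eI j) z)))
      have hsub := hST (eI j) (e ⟨x, hxt⟩) ⟨_, hz, by rw [e.symm_apply_apply]; exact hxz⟩
      rw [e.symm_apply_apply, ← hr] at hsub
      exact isFLC_pull_of_range_subset (g x) (hF x k) _ hsub

end Groth.Agent.Et18
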