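import Groth.Agent.CAlgH3.Factorial
import Groth.Agent.CAlgH3.RegularCore
import Groth.Agent.FEtFF.Hartogs
import Groth.Agent.AlgSpLib.EtaleAscend
import Groth.Agent.AlgSpLib.SchemeDescent
import Groth.Agent.FlatMorWeight.Comp
import Mathlib

/-!
# Affine hulls of open subschemes of regular affine schemes
-/

set_option autoImplicit false
set_option linter.all false
set_option backward.isDefEq.respectTransparency.types false
universe u

open CategoryTheory AlgebraicGeometry IsLocalRing TopologicalSpace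

namespace Groth.Agent.Et18.AffHullReg

section Ring
variable {A : Type u} [CommRing A] [IsNoetherianRing A]
  (hreg : ∀ (P : Ideal A) [P.IsPrime], IsRegularLocalRing (Localization.AtPrime P))
include hreg

/-- A prime of height at most one of a regular ring is locally principal at every prime containing it. -/
theorem exists_local_gen (p x : Ideal A) [p.IsPrime] [x.IsPrime] (hpx : p ≤ x) (hp : p.height ≤ 1) :
    ∃ a ∈ p, ∃ s, s ∉ x ∧ ∀ t ∈ p, s * t ∈ Ideal.span {a} := by
  classical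
  haveI := hreg x
  haveI : IsDomain (Localization.AtPrime x) := CAlgH3.isDomain_of_isRegularLocalRing _
  haveI := CAlgH3.ufm_of_regular (Localization.AtPrime x)
  have hd : Disjoint (x.primeCompl : Set A) (p : Set A) :=
    Set.disjoint_left.2 fun a ha hap => ha (hpx hap)
  let R := Localization.AtPrime x
  let J : Ideal R := p.map (algebraMap A R)
  haveI : J.IsPrime := IsLocalization.isPrime_of_isPrime_disjoint x.primeCompl R p ‹_› hd
  have hJ : J.height ≤ 1 := (IsLocalization.height_map_of_disjoint (S := R) x.primeCompl p hd).trans_le hp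
  obtain ⟨π, hπ⟩ := CAlgH3.isPrincipal_of_height_le_one J hJ
  change J = Ideal.span {π} at hπ
  obtain ⟨⟨⟨a, ha⟩, s₀⟩, hs₀⟩ := (IsLocalization.mem_map_algebraMap_iff x.primeCompl R).1
    (show π ∈ p.map (algebraMap A R) by change π ∈ J; rw [hπ]; exact Ideal.mem_span_singleton_self π)
  have hgen : (Ideal.span {a}).map (algebraMap A R) = J := by
    rw [Ideal.map_span, Set.image_singleton, hπ, ← hs₀]
    exact Ideal.span_singleton_mul_right_unit (IsLocalization.map_units R s₀) π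
  obtain ⟨T, hT⟩ := IsNoetherian.noetherian p
  have h1 : ∀ t ∈ T, ∃ s : A, s ∉ x ∧ s * t ∈ Ideal.span {a} := by
    intro t ht
    have : algebraMap A R t ∈ (Ideal.span {a}).map (algebraMap A R) := by
      rw [hgen]
      exact Ideal.mem_map_of_mem _ (hT ▸ Submodule.subset_span ht)
    obtain ⟨⟨⟨c, hc⟩, s⟩, hs⟩ := (IsLocalization.mem_map_algebraMap_iff x.primeCompl R).1 this
    rw [← map_mul] at hs
    obtain ⟨u, hu⟩ := (IsLocalization.eq_iff_exists x.primeCompl R).1 hs
    refine ⟨u * s, (u * s).2, ?_⟩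
    rw [mul_assoc, mul_comm (s : A), hu]
    exact Ideal.mul_mem_left _ _ hc
  choose! s₁ hs₁x hs₁ using h1
  refine ⟨a, ha, ∏ t ∈ T, s₁ t, fun h => ?_, fun t ht => ?_⟩
  · obtain ⟨i, hi, hm⟩ := Ideal.IsPrime.prod_mem_iff.1 h
    exact hs₁x i hi hm
  · rw [← hT] at ht
    induction ht using Submodule.span_induction with
    | mem y hy =>
      rw [← Finset.prod_erase_mul T s₁ hy, mul_assoc]
      exact Ideal.mul_mem_left _ _ (hs₁ y hy)
    | zero => simp
    | add y z _ _ hy hz => rw [mul_add]; exact Ideal.add_mem _ hy hz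
    | smul c y _ hy => rw [smul_eq_mul, mul_left_comm]; exact Ideal.mul_mem_left _ _ hy

/-- The complement of finitely many primes of height at most one is locally principal. -/
theorem exists_local_eq (P : Finset (Ideal A)) (hP : ∀ p ∈ P, p.IsPrime ∧ p.height ≤ 1) (x : Ideal A)
    [x.IsPrime] :
    ∃ f, f ∉ x ∧ ∃ a : A, ∀ q : Ideal A, q.IsPrime → f ∉ q → (a ∈ q ↔ ∃ p ∈ P, p ≤ q) := by
  classical
  have h1 : ∀ p ∈ P, ∃ a ∈ p, ∃ s, s ∉ x ∧ (p ≤ x → ∀ t ∈ p, s * t ∈ Ideal.span {a}) ∧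
      (¬ p ≤ x → s ∈ p) := by
    intro p hp
    haveI := (hP p hp).1
    by_cases hpx : p ≤ x
    · obtain ⟨a, ha, s, hs, hst⟩ := exists_local_gen hreg p x hpx (hP p hp).2
      exact ⟨a, ha, s, hs, fun _ => hst, fun h => absurd hpx h⟩
    · obtain ⟨s, hsp, hsx⟩ := SetLike.not_le_iff_exists.1 hpx
      exact ⟨0, p.zero_mem, s, hsx, fun h => absurd h hpx, fun _ => hsp⟩
  choose! a ha s hsx hgen hout using h1
  refine ⟨∏ p ∈ P, s p, fun h => ?_, ∏ p ∈ P.filter (fun p => p ≤ x), a p, fun q hq hfq => ?_⟩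
  · obtain ⟨p, hp, hm⟩ := Ideal.IsPrime.prod_mem_iff.1 h
    exact hsx p hp hm
  haveI := hq
  have hsq : ∀ p ∈ P, s p ∉ q := fun p hp hm =>
    hfq (Ideal.IsPrime.prod_mem_iff.2 ⟨p, hp, hm⟩)
  rw [Ideal.IsPrime.prod_mem_iff]
  constructor
  · rintro ⟨p, hp, hap⟩
    obtain ⟨hp, hpx⟩ := Finset.mem_filter.1 hp
    refine ⟨p, hp, fun t ht => ?_⟩
    have : s p * t ∈ q := (Ideal.span_singleton_le_iff_mem q).2 hap (hgen p hp hpx t ht)
    exact (hq.mem_or_mem this).resolve_left (hsq p hp)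
  · rintro ⟨p, hp, hpq⟩
    have hpx : p ≤ x := by
      by_contra hpx
      exact hsq p hp (hpq (hout p hp hpx))
    exact ⟨p, Finset.mem_filter.2 ⟨hp, hpx⟩, hpq (ha p hp)⟩

end Ring

/-- An open of the spectrum of a regular ring is contained in an affine open with the same functions. -/
theorem exists_affine_hull (A : CommRingCat.{u}) [IsNoetherianRing A]
    (hreg : ∀ (P : Ideal A) [P.IsPrime], IsRegularLocalRing (Localization.AtPrime P))
    (U : (Spec A).Opens) :
    ∃ V : (Spec A).Opens, IsAffineOpen V ∧ U ≤ V ∧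
      ∀ x : Spec A, x ∈ V → x ∉ U → (2 : ℕ∞) ≤ _root_.LocCoh.depth ((Spec A).presheaf.stalk x) ((Spec A).presheaf.stalk x) := by
  classical
  obtain ⟨J, hJ⟩ := (PrimeSpectrum.isClosed_iff_zeroLocus_ideal _).1 U.isOpen.isClosed_compl
  have hJmem : ∀ x : Spec A, x ∉ U ↔ J ≤ x.asIdeal := fun x => by
    have := Set.ext_iff.1 hJ x
    exact this.trans (PrimeSpectrum.mem_zeroLocus _ _)
  let P : Finset (Ideal A) := (J.finite_minimalPrimes_of_isNoetherianRing A).toFinset.filter (fun p => p.height ≤ 1)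
  have hmem : ∀ p ∈ P, p ∈ J.minimalPrimes ∧ p.height ≤ 1 := fun p hp => by
    obtain ⟨h1, h2⟩ := Finset.mem_filter.1 hp
    exact ⟨(Set.Finite.mem_toFinset _).1 h1, h2⟩
  have hcl : IsClosed {x : Spec A | ∃ p ∈ P, p ≤ x.asIdeal} := by
    have : {x : Spec A | ∃ p ∈ P, p ≤ x.asIdeal} = ⋃ p ∈ P, PrimeSpectrum.zeroLocus (p : Set A) := by
      ext x
      exact ⟨fun ⟨p, hp, h⟩ => Set.mem_iUnion₂.2 ⟨p, hp, h⟩,
        fun h => let ⟨p, hp, h⟩ := Set.mem_iUnion₂.1 h; ⟨p, hp, h⟩⟩
    rw [this]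
    exact isClosed_biUnion_finset fun p _ => PrimeSpectrum.isClosed_zeroLocus _
  let V : (Spec A).Opens := ⟨{x | ∃ p ∈ P, p ≤ x.asIdeal}ᶜ, hcl.isOpen_compl⟩
  refine ⟨V, ?_, fun x hxU => ?_, fun x hxV hxU => ?_⟩
  · have : IsAffineHom V.ι := by
      refine isAffineHom_of_forall_exists_isAffineOpen _ fun x => ?_
      obtain ⟨f, hfx, a, ha⟩ := exists_local_eq hreg P (fun p hp => ⟨(hmem p hp).1.1.1, (hmem p hp).2⟩) x.asIdeal
      let Df : (Spec A).Opens := PrimeSpectrum.basicOpen f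
      let Daf : (Spec A).Opens := PrimeSpectrum.basicOpen (a * f)
      have key : ∀ y : Spec A, y ∈ Daf ↔ y ∈ V ∧ y ∈ Df := by
        intro y
        show a * f ∉ y.asIdeal ↔ (¬ ∃ p ∈ P, p ≤ y.asIdeal) ∧ f ∉ y.asIdeal
        constructor
        · intro h
          have hf : f ∉ y.asIdeal := fun hf => h (Ideal.mul_mem_left _ _ hf)
          exact ⟨fun hp => h (Ideal.mul_mem_right _ _ ((ha _ y.2 hf).2 hp)), hf⟩
        · rintro ⟨hp, hf⟩ h
          exact (y.2.mem_or_mem h).elim (fun h => hp ((ha _ y.2 hf).1 h)) hf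
      refine ⟨Df, hfx, IsAffineOpen.Spec_basicOpen f, ?_⟩
      have e : V.ι ⁻¹ᵁ Df = V.ι ⁻¹ᵁ Daf := by
        ext y
        exact ⟨fun h => (key _).2 ⟨y.2, h⟩, fun h => ((key _).1 h).2⟩
      rw [e]
      refine (IsAffineOpen.Spec_basicOpen (a * f)).preimage_of_isOpenImmersion _ ?_
      rw [Scheme.Opens.opensRange_ι]
      exact fun y hy => ((key y).1 hy).1
    exact (isAffine_of_isAffineHom V.ι : IsAffine V.toScheme)
  · rintro ⟨p, hp, hpx⟩
    exact (hJmem x).2 ((hmem p hp).1.1.2.trans hpx) hxU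
  · obtain ⟨p, hp, hpx⟩ := Ideal.exists_minimalPrimes_le ((hJmem x).1 hxU)
    haveI := hp.1.1
    have hht : (2 : ℕ∞) ≤ x.asIdeal.height := by
      refine le_trans ?_ (Ideal.height_mono hpx)
      by_contra h
      refine hxV ⟨p, Finset.mem_filter.2 ⟨(Set.Finite.mem_toFinset _).2 hp, ?_⟩, hpx⟩
      exact (ENat.lt_add_one_iff ENat.one_ne_top).1 (by rw [one_add_one_eq_two]; exact not_le.1 h)
    haveI := hreg x.asIdeal
    have hd := CAlgH3.depth_eq_ringKrullDim (R := Localization.AtPrime x.asIdeal)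
    rw [IsLocalization.AtPrime.ringKrullDim_eq_height x.asIdeal] at hd
    rw [CAlgH3.depth_ringEquiv (Spec.stalkIso A x).commRingCatIsoToRingEquiv,
      show _root_.LocCoh.depth _ _ = x.asIdeal.height from WithBot.coe_inj.1 hd]
    exact hht

/-- If an étale `U ⟶ Spec R` over a regular base is open in an affine étale scheme, its affine hull is étale. -/
theorem etale_hull {R : Type u} [CommRing R] [IsNoetherianRing R]
    (hreg : ∀ (P : Ideal R) [P.IsPrime], IsRegularLocalRing (Localization.AtPrime P))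
    {U E : Scheme.{u}} (j : U ⟶ E) [IsOpenImmersion j] (g : E ⟶ Spec (CommRingCat.of R)) [Etale g] [IsAffine E] :
    Etale (Spec.map (j ≫ g).appTop ≫ (Spec (CommRingCat.of R)).isoSpec.inv) := by
  let A := Γ(E, ⊤)
  let j' : U ⟶ Spec A := j ≫ E.isoSpec.hom
  let g' : Spec A ⟶ Spec (CommRingCat.of R) := E.isoSpec.inv ≫ g
  have hfac : j ≫ g = j' ≫ g' := by simp [j', g']
  rw [hfac]
  haveI : IsOpenImmersion j' := inferInstanceAs (IsOpenImmersion (j ≫ E.isoSpec.hom))
  haveI : Etale g' := inferInstanceAs (Etale (E.isoSpec.inv ≫ g))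
  haveI := LocallyOfFiniteType.isLocallyNoetherian g'
  haveI : IsNoetherianRing A := by
    haveI := LocallyOfFiniteType.isLocallyNoetherian g
    exact IsLocallyNoetherian.component_noetherian ⟨⊤, isAffineOpen_top E⟩
  have hst : ∀ y : Spec (CommRingCat.of R), IsRegularLocalRing ((Spec (CommRingCat.of R)).presheaf.stalk y) := fun y => by
    haveI := hreg y.asIdeal
    exact IsRegularLocalRing.of_ringEquiv (Spec.stalkIso (CommRingCat.of R) y).commRingCatIsoToRingEquiv.symm
  have hA : ∀ (P : Ideal A) [P.IsPrime], IsRegularLocalRing (Localization.AtPrime P) := fun P hP => by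
    haveI := AlgSpLib.regular_stalks_of_etale g' hst ⟨P, hP⟩
    exact IsRegularLocalRing.of_ringEquiv (Spec.stalkIso A ⟨P, hP⟩).commRingCatIsoToRingEquiv
  obtain ⟨V, hV, hUV, hdep⟩ := exists_affine_hull A hA j'.opensRange
  haveI : IsAffine V.toScheme := hV
  let jV : U ⟶ V.toScheme := IsOpenImmersion.lift V.ι j' (by
    rw [Scheme.Opens.range_ι]; exact hUV)
  have hjV : jV ≫ V.ι = j' := IsOpenImmersion.lift_fac _ _ _
  haveI : IsOpenImmersion (jV ≫ V.ι) := hjV ▸ inferInstance
  haveI : IsOpenImmersion jV := IsOpenImmersion.of_comp jV V.ι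
  have hb : Function.Bijective (jV.opensRange.ι.appTop) := by
    refine FEtFF.Hartogs.bijective_ι_app jV.opensRange (fun y hy => ?_) (isAffineOpen_top _)
    rw [CAlgH3.depth_ringEquiv (Scheme.Opens.stalkIso V y).commRingCatIsoToRingEquiv]
    refine hdep _ y.2 fun ⟨z, hz⟩ => hy ⟨z, ?_⟩
    apply V.ι.isOpenEmbedding.injective
    show V.ι (jV z) = V.ι y
    rw [← Scheme.Hom.comp_apply, hjV]
    exact hz
  haveI : IsIso jV.opensRange.ι.appTop := (ConcreteCategory.isIso_iff_bijective _).2 hb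
  haveI : IsIso jV.appTop := by
    rw [← jV.isoOpensRange_hom_ι, Scheme.Hom.comp_appTop]
    exact IsIso.comp_isIso' ‹_› (inferInstanceAs (IsIso (Scheme.Γ.map jV.isoOpensRange.hom.op)))
  rw [← hjV, Category.assoc, Scheme.Hom.comp_appTop, Spec.map_comp, Category.assoc,
    Scheme.isoSpec_inv_naturality]
  infer_instance

theorem exists_open_immersion {R : Type u} [CommRing R] {U : Scheme.{u}}
    (q : U ⟶ Spec (CommRingCat.of R)) [Etale q] [IsSeparated q] [QuasiCompact q] :
    IsOpenImmersion U.toSpecΓ ∧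
      U.toSpecΓ ≫ Spec.map q.appTop ≫ (Spec (CommRingCat.of R)).isoSpec.inv = q := by
  haveI := FlatMorWeight.locallyQuasiFinite_of_etale q
  haveI : CompactSpace ↥U := (quasiCompact_iff_compactSpace q).1 ‹_›
  haveI := AlgSpLib.isQuasiAffine_of_lqf q
  refine ⟨inferInstance, ?_⟩
  rw [← Category.assoc, ← Scheme.toSpecΓ_naturality, Category.assoc]
  simp

end Groth.Agent.Et18.AffHullReg
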