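import Groth.Agent.Et18.UnitConst
import Mathlib.Algebra.Homology.DerivedCategory.Ext.EnoughProjectives
import Mathlib.CategoryTheory.Abelian.Exact

/-!
# Constant sheaves on normal integral schemes with algebraically closed function field
-/

set_option autoImplicit false

universe u

open CategoryTheory CategoryTheory.Limits AlgebraicGeometry Opposite CategoryTheory.Abelian

set_option backward.isDefEq.respectTransparency.types false
set_option backward.isDefEq.respectTransparency false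

namespace Groth.Agent.Et18.AlgClosedFunctionField

section Field

variable (K : Type u) [Field K] [IsSepClosed K]

noncomputable abbrev XK : Scheme.{u} := Spec (CommRingCat.of K)

theorem bijective_germ_top (F : EtCoh.Ab (XK K)) :
    Function.Bijective ((Scheme.pointSmallEtale (𝟙 (XK K))).toPresheafFiber (EtCoh.top (XK K)) (topPt _) F.obj) := by
  let Φ := Scheme.pointSmallEtale (𝟙 (XK K))
  have sec : ∀ (W : (XK K).Etale) (v : Φ.fiber.obj W), ∃ b : EtCoh.top (XK K) ⟶ W,
      Φ.fiber.map b (topPt _) = v := fun W v => by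
    have hv : (v.left : XK K ⟶ W.left) ≫ W.hom = 𝟙 (XK K) := Over.w v
    refine ⟨MorphismProperty.Over.homMk (v.left : XK K ⟶ W.left) hv, Over.OverMorphism.ext ?_⟩
    exact Category.id_comp _
  refine ⟨(injective_iff_map_eq_zero _).2 fun s hs => ?_, fun t => ?_⟩
  · obtain ⟨W, a, v, -, hz⟩ := (Φ.toPresheafFiber_eq_iff' (P := F.obj) _ _ s 0).1 (hs.trans (map_zero _).symm)
    obtain ⟨b, -⟩ := sec W v
    rw [map_zero] at hz
    have := congrArg (F.obj.map b.op) hz
    rw [map_zero] at this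
    refine Eq.trans ?_ this
    have he : b ≫ a = 𝟙 _ := (EtCore.topIsTerminal (XK K)).hom_ext _ _
    rw [← ConcreteCategory.comp_apply, ← Functor.map_comp, ← op_comp, he, op_id, CategoryTheory.Functor.map_id]
    rfl
  · obtain ⟨W, v, s, rfl⟩ := Φ.toPresheafFiber_jointly_surjective (P := F.obj) t
    obtain ⟨b, rfl⟩ := sec W v
    exact ⟨F.obj.map b.op s, Φ.toPresheafFiber_w_apply b (topPt _) _ s⟩

theorem bijective_cstSec_top (A : AddCommGrpCat.{u + 1}) :
    Function.Bijective (cstSec A (EtCoh.top (XK K))) :=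
  (Function.Bijective.of_comp_iff' (bijective_germ_top K ((cst (XK K)).obj A)) _).1
    (cstGerm_bijective (𝟙 (XK K)) A)

theorem surjective_top {F G : EtCoh.Ab (XK K)} (φ : F ⟶ G) [Epi φ] :
    Function.Surjective (φ.hom.app (op (EtCoh.top (XK K)))) := fun t => by
  let Φ := Scheme.pointSmallEtale (𝟙 (XK K))
  have : Epi ((EtCoh.stalk (𝟙 (XK K))).map φ) := inferInstance
  obtain ⟨z, hz⟩ := (AddCommGrpCat.epi_iff_surjective _).1 this (Φ.toPresheafFiber _ (topPt _) G.obj t)
  obtain ⟨s, rfl⟩ := (bijective_germ_top K F).2 z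
  exact ⟨s, (bijective_germ_top K G).1
    ((ConcreteCategory.congr_hom (Φ.toPresheafFiber_naturality φ.hom _ (topPt _)) s).symm.trans hz)⟩

theorem projective_const_int : Projective (EtCoh.const (XK K) ℤ) := ⟨fun {E G} f e _ => by
  let Φ := EtCore.constAdj (XK K)
  obtain ⟨s, hs⟩ := surjective_top K e ((Φ.homEquiv _ _ f) (ULift.up 1))
  let h : AddCommGrpCat.of (ULift.{u + 1} ℤ) ⟶ (EtCore.gsec (XK K)).obj E :=
    AddCommGrpCat.ofHom ((zmultiplesHom _ s).comp AddEquiv.ulift.toAddMonoidHom)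
  refine ⟨(Φ.homEquiv _ _).symm h, ?_⟩
  apply (Φ.homEquiv _ _).injective
  rw [Φ.homEquiv_naturality_right, Equiv.apply_symm_apply]
  refine AddCommGrpCat.hom_ext (AddMonoidHom.ext fun n => ?_)
  obtain ⟨n⟩ := n
  have hn : (ULift.up n : ULift.{u + 1} ℤ) = n • ULift.up 1 := ULift.ext _ _ (by simp [ULift.smul_down])
  refine (congrArg ((h ≫ (EtCore.gsec (XK K)).map e) : AddCommGrpCat.of (ULift.{u + 1} ℤ) ⟶ _) hn).trans ?_
  refine (map_zsmul _ _ _).trans (Eq.trans ?_ ((congrArg (Φ.homEquiv _ _ f) hn).trans (map_zsmul _ _ _)).symm)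
  refine congrArg (n • ·) ?_
  exact (congrArg (e.hom.app _) (one_zsmul s)).trans hs⟩

theorem subsingleton_H (F : EtCoh.Ab (XK K)) (q : ℕ) (hq : 0 < q) :
    Subsingleton (EtCoh.H (XK K) F q) := by
  obtain ⟨m, rfl⟩ : ∃ m, q = m + 1 := ⟨q - 1, by omega⟩
  haveI := projective_const_int K
  exact ⟨fun a b => (Ext.eq_zero_of_projective (P := EtCoh.const (XK K) ℤ) a).trans
    (Ext.eq_zero_of_projective (P := EtCoh.const (XK K) ℤ) b).symm⟩

end Field

section Curve

variable {X Y : Scheme.{u}}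

theorem bijective_cstSec_iso (A : AddCommGrpCat.{u + 1}) {W W' : X.Etale} (e : W' ⟶ W) [IsIso e]
    (h : Function.Bijective (cstSec A W)) : Function.Bijective (cstSec A W') := by
  rw [← cstSec_res A e]
  haveI : IsIso (((cst X).obj A).obj.map e.op) := inferInstance
  exact ((ConcreteCategory.isIso_iff_bijective (((cst X).obj A).obj.map e.op)).1 inferInstance).comp h

variable {K : Type u} [Field K] (g : XK K ⟶ Y)

/-- Every étale neighbourhood shrinks to one whose pull back along `g` is a copy of the point. -/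
def Small : Prop :=
  ∀ (W : Y.Etale) (w : W.left), ∃ (W' : Y.Etale) (a : W' ⟶ W), w ∈ Set.range a.left ∧
    IsIso (pullback.snd W'.hom g)

theorem exists_iso_top (W : Y.Etale) (h : IsIso (pullback.snd W.hom g)) :
    ∃ e : (EtCoh.bc g).obj W ⟶ EtCoh.top (XK K), IsIso e := by
  haveI : IsIso ((EtCoh.bc g).obj W).hom := h
  exact ⟨(MorphismProperty.Over.isoMk (asIso ((EtCoh.bc g).obj W).hom) (Category.comp_id _) :
    (EtCoh.bc g).obj W ≅ EtCoh.top (XK K)).hom, inferInstance⟩

variable [IsSepClosed K]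

theorem good_of_small (hg : Small g) (A : AddCommGrpCat.{u + 1}) : UnitConst.Good g A := fun W w => by
  obtain ⟨W', a, hw, h⟩ := hg W w
  obtain ⟨e, he⟩ := exists_iso_top g W' h
  exact ⟨W', a, hw, bijective_cstSec_iso A e (bijective_cstSec_top K A)⟩

theorem epi_push_map (hg : Small g) {F G : EtCoh.Ab (XK K)} (φ : F ⟶ G) [Epi φ] :
    Epi ((EtCoh.push g).map φ) := by
  refine epi_of_stalks _ fun y t => ?_
  let Φ := Scheme.pointSmallEtale (sepPoint Y y)
  obtain ⟨W, v, s, rfl⟩ := Φ.toPresheafFiber_jointly_surjective (P := ((EtCoh.push g).obj G).obj) t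
  obtain ⟨W', a, hw, h⟩ := hg W (fiberPt v)
  obtain ⟨v', rfl⟩ := UnitConst.exists_lift_nhd a v hw
  obtain ⟨e, he⟩ := exists_iso_top g W' h
  obtain ⟨s', hs'⟩ := surjective_top K φ (G.obj.map (inv e).op (G.obj.map ((EtCoh.bc g).map a).op s))
  refine ⟨Φ.toPresheafFiber W' v' ((EtCoh.push g).obj F).obj (F.obj.map e.op s'), ?_⟩
  refine (ConcreteCategory.congr_hom (Φ.toPresheafFiber_naturality ((EtCoh.push g).map φ).hom W' v') _).trans ?_
  refine (congrArg (Φ.toPresheafFiber W' v' ((EtCoh.push g).obj G).obj) ?_).trans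
    (Φ.toPresheafFiber_w_apply a v' ((EtCoh.push g).obj G).obj s)
  refine (NatTrans.naturality_apply φ.hom e.op s').trans ?_
  rw [hs', ← ConcreteCategory.comp_apply, ← Functor.map_comp, ← op_comp, IsIso.hom_inv_id, op_id,
    CategoryTheory.Functor.map_id]
  rfl

theorem preservesFiniteColimits_push (hg : Small g) : PreservesFiniteColimits (EtCoh.push g) := by
  haveI : (EtCoh.push g).PreservesEpimorphisms := ⟨fun {F G} φ _ => epi_push_map g hg φ⟩
  haveI : (EtCoh.push g).PreservesHomology :=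
    Functor.preservesHomology_of_preservesEpis_and_kernels (EtCoh.push g)
  exact (EtCoh.push g).preservesFiniteColimits_of_preservesHomology

theorem subsingleton_H_push (hg : Small g) (G : EtCoh.Ab (XK K)) (q : ℕ) (hq : 0 < q) :
    Subsingleton (EtCoh.H Y ((EtCoh.push g).obj G) q) := by
  haveI := preservesFiniteColimits_push g hg
  haveI : (EtCoh.pull g).PreservesMonomorphisms := inferInstance
  obtain ⟨e⟩ := SiteCoh.extAdjEquiv_of_exact (EtCoh.pullPushAdj g) G (EtCoh.const Y ℤ) q
  let c := EtCore.pullConst g ℤ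
  refine (e.toEquiv.subsingleton_congr).2 ⟨fun a b => ?_⟩
  have h0 : (Ext.mk₀ c.inv).comp a (zero_add q) = (Ext.mk₀ c.inv).comp b (zero_add q) :=
    @Subsingleton.elim _ (subsingleton_H K G q hq) _ _
  have h1 := congrArg (fun w => (Ext.mk₀ c.hom).comp w (zero_add q)) h0
  simpa only [Ext.mk₀_comp_mk₀_assoc, Iso.hom_inv_id, Ext.mk₀_id_comp] using h1

theorem subsingleton_H_cst (hg : Small g) (A : AddCommGrpCat.{u + 1}) (q : ℕ) (hq : 0 < q) :
    Subsingleton (EtCoh.H Y ((cst Y).obj A) q) := by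
  haveI := UnitConst.isIso_psi g A (good_of_small g hg A)
  exact @Equiv.subsingleton _ _ ((EtCoh.HF Y q).mapIso (asIso (UnitConst.psi g A))).addCommGroupIsoToAddEquiv.toEquiv
    (subsingleton_H_push g hg ((cst (XK K)).obj A) q hq)

theorem card_H_zero_cst (hg : Small g) (A : AddCommGrpCat.{u + 1}) :
    Nat.card (EtCoh.H Y ((cst Y).obj A) 0) = Nat.card A := by
  obtain ⟨e, he⟩ : ∃ e : (EtCoh.bc g).obj (EtCoh.top Y) ⟶ EtCoh.top (XK K), IsIso e :=
    ⟨(EtCore.bcTopIso g).hom, inferInstance⟩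
  have h := UnitConst.bijective_cstSec g A (good_of_small g hg A) (EtCoh.top Y)
    (bijective_cstSec_iso A e (bijective_cstSec_top K A))
  exact (Nat.card_congr (Sheaf.H.equiv₀ ((cst Y).obj A) (EtCore.topIsTerminal Y)).toEquiv).trans
    (Nat.card_congr (Equiv.ofBijective _ h)).symm

/-- A mono through which `g` factors inherits smallness. -/
theorem small_of_mono {U : Scheme.{u}} (j : U ⟶ Y) [IsOpenImmersion j] (g' : XK K ⟶ U) (hg' : g' ≫ j = g)
    (hg : Small g) : Small g' := fun W w => by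
  haveI : Etale W.hom := W.prop
  let WY : Y.Etale := MorphismProperty.Over.mk ⊤ (W.hom ≫ j) (inferInstanceAs (Etale (W.hom ≫ j)))
  obtain ⟨W', a, hw, h⟩ := hg WY w
  haveI : Etale a.left := etale_map_left a
  have ha : a.left ≫ W.hom ≫ j = W'.hom := Over.w a.hom
  let a₀ : W'.left ⟶ W.left := a.left
  let W'' : U.Etale := MorphismProperty.Over.mk ⊤ (a₀ ≫ W.hom) (inferInstanceAs (Etale (a₀ ≫ W.hom)))
  refine ⟨W'', MorphismProperty.Over.homMk a₀ rfl, hw, ?_⟩
  haveI := h
  let σ : XK K ⟶ pullback (a₀ ≫ W.hom) g' := pullback.lift (inv (pullback.snd W'.hom g) ≫ pullback.fst W'.hom g) (𝟙 _)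
    (by rw [← cancel_mono j, Category.id_comp, hg', Category.assoc, Category.assoc, Category.assoc, ha, pullback.condition,
      IsIso.inv_hom_id_assoc])
  refine ⟨σ, ?_, pullback.lift_snd _ _ _⟩
  let m : pullback (a₀ ≫ W.hom) g' ⟶ pullback W'.hom g := pullback.lift (pullback.fst _ _) (pullback.snd _ _) (by
    rw [← ha, ← hg', ← Category.assoc (pullback.snd _ _), ← pullback.condition]
    simp only [Category.assoc]; rfl)
  apply pullback.hom_ext
  · change pullback.snd (a₀ ≫ W.hom) g' ≫ σ ≫ pullback.fst _ _ = _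
    refine Eq.trans (congrArg (_ ≫ ·) (pullback.lift_fst _ _ _)) ?_
    have e1 : m ≫ pullback.snd W'.hom g = pullback.snd (a₀ ≫ W.hom) g' := pullback.lift_snd _ _ _
    rw [← e1, Category.assoc, IsIso.hom_inv_id_assoc, pullback.lift_fst, Category.id_comp]
    rfl
  · exact (Category.assoc _ _ _).trans ((congrArg (_ ≫ ·) (pullback.lift_snd _ _ _)).trans
      ((Category.comp_id _).trans (Category.id_comp _).symm))

theorem isIso_unit_open (hg : Small g) {U : Scheme.{u}} (j : U ⟶ Y) [IsOpenImmersion j] (g' : XK K ⟶ U)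
    (hg' : g' ≫ j = g) (A : AddCommGrpCat.{u + 1}) :
    IsIso ((EtCoh.pullPushAdj j).unit.app ((cst Y).obj A)) := by
  refine UnitConst.isIso_unit j A fun W w => ?_
  obtain ⟨W', a, hw, h⟩ := hg W w
  refine ⟨W', a, hw, UnitConst.bijective_cstSec g' A
    (good_of_small g' (small_of_mono g j g' hg' hg) A) _ ?_⟩
  obtain ⟨e, he⟩ := exists_iso_top g W' h
  subst hg'
  let c : (EtCoh.bc j ⋙ EtCoh.bc g').obj W' ≅ (EtCoh.bc (g' ≫ j)).obj W' :=
    (MorphismProperty.Over.pullbackComp (P := EtCoh.etaleMP.{u}) (Q := ⊤) g' j).symm.app W'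
  exact bijective_cstSec_iso A (c.hom ≫ e) (bijective_cstSec_top K A)

end Curve

variable (Y : Scheme.{u}) [IsIntegral Y]

/-- The generic point. -/
noncomputable def gen : XK Y.functionField ⟶ Y := Y.fromSpecStalk (genericPoint Y)

theorem range_gen : Set.range (gen Y) = {genericPoint Y} := by
  refine (Scheme.range_fromSpecStalk (x := genericPoint Y)).trans ?_
  ext z
  exact ⟨fun h => (h.antisymm (genericPoint_specializes z)).eq, fun h => by rw [Set.mem_singleton_iff.1 h]; exact specializes_rfl⟩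

theorem small_gen [IsAlgClosed Y.functionField]
    (hnorm : ∀ y : Y, IsIntegrallyClosed (Y.presheaf.stalk y)) : Small (gen Y) := fun W w => by
  haveI : Etale W.hom := W.prop
  obtain ⟨O, hwO, z, ⟨hzO, hz⟩, huniq⟩ := AlgClosedGeneric.exists_nhd_one_generic Y hnorm W.hom w
  let W' : Y.Etale := MorphismProperty.Over.mk ⊤ (O.ι ≫ W.hom) (inferInstanceAs (Etale (O.ι ≫ W.hom)))
  refine ⟨W', MorphismProperty.Over.homMk O.ι rfl, ⟨⟨w, hwO⟩, rfl⟩, ?_⟩
  haveI : Etale W'.hom := W'.prop
  let pt : XK Y.functionField := default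
  have hpt : gen Y pt = genericPoint Y := (range_gen Y ▸ Set.mem_range_self pt :)
  obtain ⟨p, hp₁, hp₂⟩ := Scheme.Pullback.exists_preimage_pullback (f := W'.hom) (g := gen Y)
    (⟨z, hzO⟩ : O.toScheme) pt (hz.trans hpt.symm)
  haveI : Nonempty (pullback W'.hom (gen Y) : Scheme.{u}) := ⟨p⟩
  haveI : IsPreimmersion (gen Y) := inferInstanceAs (IsPreimmersion (Y.fromSpecStalk _))
  haveI : Subsingleton (pullback W'.hom (gen Y) : Scheme.{u}) := by
    refine ⟨fun a b => (pullback.fst W'.hom (gen Y)).isEmbedding.injective ?_⟩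
    have key : ∀ c, (pullback.fst W'.hom (gen Y) c : O.toScheme).1 = z := fun c => by
      refine huniq _ ⟨(pullback.fst W'.hom (gen Y) c : O.toScheme).2, ?_⟩
      have e := congrArg (fun k : pullback W'.hom (gen Y) ⟶ Y => k c) pullback.condition
      exact e.trans ((congrArg (gen Y) (Subsingleton.elim _ pt)).trans hpt)
    exact Subtype.ext ((key a).trans (key b).symm)
  haveI : Etale (pullback.snd W'.hom (gen Y)) := inferInstance
  exact AlgClosedGeneric.isIso_of_subsingleton _

end Groth.Agent.Et18.AlgClosedFunctionField
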