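import Groth.Agent.Et18.FibreCount
import Groth.Agent.Et18.Restr
import Groth.Agent.Et18.JCont
import Groth.Agent.Et18.OverSite
import Groth.Agent.Et18.ExtZero
import Mathlib.CategoryTheory.Preadditive.AdditiveFunctor

/-!
# `j_!` along an étale morphism with constantly many geometric lifts splits étale locally
-/

universe u v w

open CategoryTheory CategoryTheory.Limits AlgebraicGeometry Opposite

set_option backward.isDefEq.respectTransparency.types false
set_option backward.isDefEq.respectTransparency false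

namespace Groth.Agent.Et18

/-- Reindexing a colimit cofan along a bijection. -/
noncomputable def isColimitCofanReindex {C : Type v} [Category.{w} C] {α : Type} {β : Type u}
    {P : β → C} {pt : C} {inj : ∀ b, P b ⟶ pt} (hc : IsColimit (Cofan.mk pt inj)) (e : α ≃ β)
    {Q : α → C} (i : ∀ a, Q a ≅ P (e a)) :
    IsColimit (Cofan.mk pt fun a => (i a).hom ≫ inj (e a)) :=
  mkCofanColimit _
    (fun t => Cofan.IsColimit.desc hc fun b =>
      eqToHom (congrArg P (e.apply_symm_apply b).symm) ≫ (i (e.symm b)).inv ≫ t.inj (e.symm b))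
    (fun t a => by
      simp only [cofan_mk_inj, Category.assoc]
      refine (congrArg (fun z => (i a).hom ≫ z) (Cofan.IsColimit.fac hc _ (e a))).trans ?_
      have : ∀ a', (h : e a' = e a) → (i a).hom ≫ eqToHom (congrArg P h.symm) ≫ (i a').inv ≫ t.inj a'
          = t.inj a := fun a' h => by
        obtain rfl := e.injective h
        simp
      exact this _ (e.apply_symm_apply (e a)))
    (fun t m hm => by
      refine Cofan.IsColimit.hom_ext hc _ _ fun b => ?_
      rw [Cofan.IsColimit.fac]
      obtain ⟨a, rfl⟩ := e.surjective b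
      have h := hm a
      simp only [cofan_mk_inj, Category.assoc] at h ⊢
      have : ∀ a', (h : e a' = e a) → eqToHom (congrArg P h.symm) ≫ (i a').inv ≫ t.inj a'
          = (i a).inv ≫ t.inj a := fun a' h => by
        obtain rfl := e.injective h
        simp
      rw [this _ (e.apply_symm_apply (e a)), ← h, Iso.inv_hom_id_assoc])

variable {U X : Scheme.{u}} (j : U ⟶ X) [Etale j] [EtShriek.JCont j]

/-- `extZeroInj` is the unit followed by the restriction map of stalks. -/
lemma extZeroInj_eq {Ω : Type u} [Field Ω] [IsSepClosed Ω] (ξ : Spec (CommRingCat.of Ω) ⟶ X)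
    (u : PointLift j ξ) (F : EtCoh.Ab U) :
    extZeroInj j ξ F u = (EtCoh.stalk u.1).map ((EtShriek.extZeroAdj j).unit.app F) ≫
      restrStalkMap j ξ u ((EtShriek.extZero j).obj F) := by
  refine Eq.symm ?_
  refine ((reassoc_of% (extZeroInj_naturality j ξ ((EtShriek.extZeroAdj j).unit.app F) u))
    ((EtCoh.stalk ξ).map ((EtShriek.extZeroAdj j).counit.app ((EtShriek.extZero j).obj F)))).trans ?_
  refine (congrArg (fun z => extZeroInj j ξ F u ≫ z) (((EtCoh.stalk ξ).map_comp _ _).symm.trans
    ((congrArg (EtCoh.stalk ξ).map ((EtShriek.extZeroAdj j).left_triangle_components F)).trans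
      ((EtCoh.stalk ξ).map_id _)))).trans ?_
  exact Category.comp_id _

variable {W : X.Etale} (s : W.left ⟶ U) (hs : s ≫ j = W.hom)

/-- A lift of an étale morphism along an étale morphism is étale. -/
lemma etale_lift (j : U ⟶ X) [Etale j] {W : X.Etale} (s : W.left ⟶ U) (hs : s ≫ j = W.hom) :
    Etale s := by
  haveI : Etale (s ≫ j) := hs ▸ W.prop
  exact Etale.of_comp s j

instance jCont_of_etale {A B : Scheme.{u}} (s : A ⟶ B) [Etale s] : EtShriek.JCont s := jCont s

variable [Etale s] [EtShriek.JCont W.hom]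

include hs in
/-- The comparison of the two iterated restrictions. -/
noncomputable def sectionPieceHom :
    EtShriek.compEtale W.hom ⟶ EtShriek.compEtale s ⋙ EtShriek.compEtale j where
  app V := MorphismProperty.Over.homMk (𝟙 V.left) (by
    refine (Category.id_comp _).trans ?_
    show (V.hom ≫ s) ≫ j = V.hom ≫ W.hom
    rw [Category.assoc, hs])
  naturality _ _ g := etaleHom_ext ((Category.comp_id _).trans (Category.id_comp _).symm)

/-- The map `s^* F ⟶ w^* j_! F`. -/
noncomputable def splitMap (F : EtCoh.Ab U) :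
    (EtShriek.restrAlong s).obj F ⟶
      (EtShriek.restrAlong W.hom).obj ((EtShriek.extZero j).obj F) :=
  (EtShriek.restrAlong s).map ((EtShriek.extZeroAdj j).unit.app F) ≫
    ⟨Functor.whiskerRight (NatTrans.op (sectionPieceHom j s hs)) ((EtShriek.extZero j).obj F).obj⟩

lemma stalk_splitMap (F : EtCoh.Ab U) {Ω : Type u} [Field Ω] [IsSepClosed Ω]
    (η : Spec (CommRingCat.of Ω) ⟶ W.left) :
    (EtCoh.stalk η).map (splitMap j s hs F) ≫
        restrStalkMap W.hom (η ≫ W.hom) ⟨η, rfl⟩ ((EtShriek.extZero j).obj F) =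
      restrStalkMap s (η ≫ s) ⟨η, rfl⟩ F ≫
        extZeroInj j (η ≫ W.hom) F ⟨η ≫ s, (Category.assoc _ _ _).trans (congrArg _ hs)⟩ := by
  haveI : Etale W.hom := W.prop
  let uj : PointLift j (η ≫ W.hom) := ⟨η ≫ s, (Category.assoc _ _ _).trans (congrArg _ hs)⟩
  refine GrothendieckTopology.Point.presheafFiber_hom_ext _ fun V v => ?_
  let G := (EtShriek.extZero j).obj F
  refine ((reassoc_of% ((Scheme.pointSmallEtale η).toPresheafFiber_naturality
    (splitMap j s hs F).hom V v)) _).trans ?_
  refine Eq.trans ?_ ((reassoc_of% (germ_restrStalkMap s (η ≫ s) ⟨η, rfl⟩ F V v)) _).symm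
  rw [extZeroInj_eq]
  refine (congrArg (fun t => (splitMap j s hs F).hom.app (op V) ≫ t)
    (germ_restrStalkMap W.hom (η ≫ W.hom) ⟨η, rfl⟩ G V v)).trans ?_
  refine Eq.trans ?_ ((reassoc_of% ((Scheme.pointSmallEtale uj.1).toPresheafFiber_naturality
    ((EtShriek.extZeroAdj j).unit.app F).hom ((EtShriek.compEtale s).obj V)
      (fiberIncl (⟨η, rfl⟩ : PointLift s (η ≫ s)) v))) (restrStalkMap j (η ≫ W.hom) uj G)).symm
  refine Eq.trans (Category.assoc _ _ _) ?_
  refine congrArg (fun t => ((EtShriek.extZeroAdj j).unit.app F).hom.app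
    (op ((EtShriek.compEtale s).obj V)) ≫ t) ?_
  refine Eq.trans ?_ (germ_restrStalkMap j (η ≫ W.hom) uj G _ _).symm
  refine ((Scheme.pointSmallEtale (η ≫ W.hom)).toPresheafFiber_w ((sectionPieceHom j s hs).app V)
    _ G.obj).trans ?_
  congr 1

omit [Etale s] [EtShriek.JCont W.hom] in
/-- If every geometric point has exactly `n` lifts, `j_!` is étale locally a sum of `n` inverse
images. -/
theorem exists_nhd_extZero_split [IsSeparated j] (n : ℕ)
    (hn : ∀ (Ω : Type u) [Field Ω] [IsSepClosed Ω] (ξ : Spec (CommRingCat.of Ω) ⟶ X),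
      HasLifts j ξ n ∧ ¬ HasLifts j ξ (n + 1)) (x : X) :
    ∃ (W : X.Etale) (y : W.left) (s : Fin n → (W.left ⟶ U)), W.hom y = x ∧
      ∀ F : EtCoh.Ab U, Nonempty ((EtCoh.pull W.hom).obj ((EtShriek.extZero j).obj F) ≅
        ⨁ fun i => (EtCoh.pull (s i)).obj F) := by
  classical
  obtain ⟨e, he⟩ := (hn _ (sepPoint X x)).1
  obtain ⟨W, w, s, hw, hs, -, hinj⟩ := exists_nhd_sections j n (sepPoint X x) e he
  haveI : Etale W.hom := W.prop
  haveI := fun i => etale_lift j (s i) (hs i)
  haveI : EtShriek.JCont W.hom := jCont W.hom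
  refine ⟨W, w default, s, ?_, fun F => ?_⟩
  · show (w ≫ W.hom) default = x
    rw [hw]
    exact sepPoint_default X x
  let G := (EtShriek.extZero j).obj F
  let D : (⨁ fun i => (EtShriek.restrAlong (s i)).obj F) ⟶ (EtShriek.restrAlong W.hom).obj G :=
    biproduct.desc fun i => splitMap j (s i) (hs i) F
  haveI : IsIso D := isIso_of_stalks _ fun y => by
    let η := sepPoint W.left y
    let ξ' := η ≫ W.hom
    let R := restrStalkMap W.hom ξ' ⟨η, rfl⟩ G
    haveI : IsIso R := (ConcreteCategory.isIso_iff_bijective _).mpr (restrStalkMap_bijective W.hom ξ' ⟨η, rfl⟩ G)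
    let lift : Fin n → PointLift j ξ' := fun i => ⟨η ≫ s i, (Category.assoc _ _ _).trans (congrArg _ (hs i))⟩
    have hb : Function.Bijective lift := by
      have hli : Function.Injective lift := fun a b hab => hinj _ η (congrArg Subtype.val hab)
      refine ⟨hli, fun u => ?_⟩
      by_contra hu
      simp only [not_exists] at hu
      exact (hn _ ξ').2 ⟨Fin.cons u lift, Fin.cons_injective_iff.mpr ⟨fun ⟨i, hi⟩ => hu i hi, hli⟩⟩
    let ri : ∀ i, (EtCoh.stalk η).obj ((EtShriek.restrAlong (s i)).obj F) ≅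
        (EtCoh.stalk ((Equiv.ofBijective lift hb) i).1).obj F := fun i =>
      haveI : IsIso (restrStalkMap (s i) (η ≫ s i) ⟨η, rfl⟩ F) :=
        (ConcreteCategory.isIso_iff_bijective _).mpr (restrStalkMap_bijective (s i) (η ≫ s i) ⟨η, rfl⟩ F)
      asIso (restrStalkMap (s i) (η ≫ s i) ⟨η, rfl⟩ F)
    let c₂ := isColimitCofanReindex (extZeroIsColimit j ξ' F) (Equiv.ofBijective lift hb) ri
    let b := biproduct.bicone fun i => (EtShriek.restrAlong (s i)).obj F
    haveI : (EtCoh.stalk η).Additive :=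
      haveI : PreservesBinaryBiproducts (EtCoh.stalk η) := preservesBinaryBiproducts_of_preservesBinaryProducts _
      Functor.additive_of_preservesBinaryBiproducts _
    let c₁ := (isBilimitOfPreserves (EtCoh.stalk η) (biproduct.isBilimit _) :
      ((EtCoh.stalk η).mapBicone b).IsBilimit).isColimit
    have : (EtCoh.stalk η).map D ≫ R = (c₁.coconePointUniqueUpToIso c₂).hom := by
      refine c₁.hom_ext fun ⟨i⟩ => ?_
      refine Eq.trans ?_ (c₁.comp_coconePointUniqueUpToIso_hom c₂ ⟨i⟩).symm
      show (EtCoh.stalk η).map (biproduct.ι _ i) ≫ (EtCoh.stalk η).map D ≫ R = _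
      rw [← Functor.map_comp_assoc, biproduct.ι_desc]
      exact stalk_splitMap j (s i) (hs i) F η
    haveI : IsIso ((EtCoh.stalk η).map D ≫ R) := this ▸ inferInstance
    exact IsIso.of_isIso_comp_right _ R
  exact ⟨(pullRestrIso W.hom).app G ≪≫ (asIso D).symm ≪≫
    biproduct.mapIso fun i => ((pullRestrIso (s i)).app F).symm⟩

end Groth.Agent.Et18
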