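import Groth.Agent.Et18.Strata
import Groth.Agent.Et18.Recollement
import Groth.Agent.Et18.ExtZeroGeneral
import Groth.Agent.Et18.ExtZeroSplit
import Groth.Agent.Props12.KerReduced

/-!
# Constructible sheaves are filtered by extensions by zero of finite locally constant sheaves
-/

set_option autoImplicit false

universe u

open CategoryTheory CategoryTheory.Limits AlgebraicGeometry Opposite Topology TopologicalSpace

set_option backward.isDefEq.respectTransparency.types false
set_option backward.isDefEq.respectTransparency false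
set_option linter.style.haveILetI false

namespace Groth.Agent.Et18.ChainFilt

section Topology

variable {T : Type*} [TopologicalSpace T]

/-- A step between quasi-compact opens whose difference has a property. -/
def Step (Q : Set T → Prop) (A B : Opens T) : Prop :=
  A ≤ B ∧ IsCompact (A : Set T) ∧ IsCompact (B : Set T) ∧ Q ((B : Set T) \ A)

theorem Step.mono {Q Q' : Set T → Prop} (h : ∀ d, Q d → Q' d) {A B : Opens T} (s : Step Q A B) : Step Q' A B :=
  ⟨s.1, s.2.1, s.2.2.1, h _ s.2.2.2⟩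

/-- Every step can be refined so that the differences lie in `S` or outside. -/
def Splits (S : Set T) : Prop :=
  ∀ A B : Opens T, Step (fun _ => True) A B →
    Relation.ReflTransGen (Step fun d => d ⊆ (B : Set T) \ A ∧ (d ⊆ S ∨ d ⊆ Sᶜ)) A B

theorem Splits.refine {S : Set T} (hS : Splits S) {Q : Set T → Prop} (hQ : ∀ d d', d' ⊆ d → Q d → Q d')
    {A B : Opens T} (h : Relation.ReflTransGen (Step Q) A B) :
    Relation.ReflTransGen (Step fun d => Q d ∧ (d ⊆ S ∨ d ⊆ Sᶜ)) A B := by
  induction h with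
  | refl => exact .refl
  | tail _ s ih =>
    exact ih.trans (Relation.ReflTransGen.mono (fun _ _ t => t.mono fun _ hd => ⟨hQ _ _ hd.1 s.2.2.2, hd.2⟩)
      _ _ (hS _ _ (s.mono fun _ _ => trivial)))

theorem splits_of_isConstructible [QuasiSeparatedSpace T] {S : Set T} (hS : IsConstructible S) : Splits S := by
  induction hS using IsConstructible.empty_union_induction with
  | open_retrocompact U hU hUc =>
    intro A B ⟨hAB, hA, hB, _⟩
    let C : Opens T := A ⊔ ⟨U ∩ B, hU.inter B.isOpen⟩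
    have hC : IsCompact (C : Set T) := hA.union (hUc hB B.isOpen)
    refine (Relation.ReflTransGen.single ?_).tail (b := C) ?_
    · refine ⟨le_sup_left, hA, hC, ?_, Or.inl ?_⟩
      · rintro x ⟨hx | hx, hxA⟩
        · exact absurd hx hxA
        · exact ⟨hx.2, hxA⟩
      · rintro x ⟨hx | hx, hxA⟩
        · exact absurd hx hxA
        · exact hx.1
    · refine ⟨sup_le hAB fun x hx => hx.2, hC, hB, ?_, Or.inr ?_⟩
      · exact fun x hx => ⟨hx.1, fun h => hx.2 (Or.inl h)⟩
      · exact fun x hx h => hx.2 (Or.inr ⟨h, hx.1⟩)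
  | union s _ t _ hs ht =>
    intro A B h
    refine Relation.ReflTransGen.mono (fun _ _ r => r.mono ?_) _ _
      (ht.refine (fun d d' hd hq => ⟨hd.trans hq.1, hq.2.imp hd.trans hd.trans⟩) (hs A B h))
    rintro d ⟨⟨hd, h1⟩, h2⟩
    refine ⟨hd, ?_⟩
    rcases h1 with h1 | h1
    · exact Or.inl (h1.trans Set.subset_union_left)
    rcases h2 with h2 | h2
    · exact Or.inl (h2.trans Set.subset_union_right)
    · exact Or.inr fun x hx h => h.elim (h1 hx) (h2 hx)
  | compl s _ hs =>
    intro A B h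
    refine Relation.ReflTransGen.mono (fun _ _ r => r.mono ?_) _ _ (hs A B h)
    rintro d ⟨hd, h1⟩
    rw [compl_compl]
    exact ⟨hd, h1.symm⟩

/-- A chain of quasi-compact opens adapted to a finite constructible partition. -/
theorem exists_chain [CompactSpace T] [QuasiSeparatedSpace T] {ι : Type*} [Finite ι] (S : ι → Set T)
    (hS : ∀ i, IsConstructible (S i)) (hcov : (⋃ i, S i) = Set.univ) :
    Relation.ReflTransGen (Step fun d => d = ∅ ∨ ∃ i, d ⊆ S i) (⊥ : Opens T) ⊤ := by
  classical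
  haveI := Fintype.ofFinite ι
  have key : ∀ s : Finset ι, Relation.ReflTransGen (Step fun d => ∀ i ∈ s, d ⊆ S i ∨ d ⊆ (S i)ᶜ)
      (⊥ : Opens T) ⊤ := by
    intro s
    induction s using Finset.induction_on with
    | empty => exact .single ⟨bot_le, isCompact_empty, isCompact_univ, fun i hi => by simp at hi⟩
    | insert i s _ ih =>
      refine Relation.ReflTransGen.mono (fun _ _ r => r.mono ?_) _ _
        ((splits_of_isConstructible (hS i)).refine
          (fun d d' hd hq k hk => (hq k hk).imp hd.trans hd.trans) ih)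
      rintro d ⟨h1, h2⟩ k hk
      rcases Finset.mem_insert.1 hk with rfl | hk
      · exact h2
      · exact h1 k hk
  refine Relation.ReflTransGen.mono (fun _ _ r => r.mono fun d hd => ?_) _ _ (key Finset.univ)
  rcases Set.eq_empty_or_nonempty d with h | ⟨x, hx⟩
  · exact Or.inl h
  · obtain ⟨i, hi⟩ := Set.mem_iUnion.1 (hcov.symm ▸ Set.mem_univ x : x ∈ ⋃ i, S i)
    exact Or.inr ⟨i, (hd i (Finset.mem_univ i)).resolve_right fun h => h hx hi⟩

end Topology

section Sheaves

variable {X : Scheme.{u}}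

/-- `j_! j^*`. -/
noncomputable abbrev loc {U : Scheme.{u}} (j : U ⟶ X) [IsOpenImmersion j] (F : EtCoh.Ab X) : EtCoh.Ab X :=
  haveI := jCont j
  (EtShriek.extZero j).obj ((EtCoh.pull j).obj F)

theorem exists_step {U' U : Scheme.{u}} (a : U' ⟶ U) [IsOpenImmersion a] (j : U ⟶ X) [IsOpenImmersion j]
    (j' : U' ⟶ X) [IsOpenImmersion j'] (e : j' = a ≫ j) {W : Scheme.{u}} (c : W ⟶ U) [IsClosedImmersion c]
    (hca : Set.range a = (Set.range c)ᶜ) [EtShriek.JCont j] (F : EtCoh.Ab X) :
    ∃ (i : loc j' F ⟶ loc j F)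
      (π : loc j F ⟶ (EtShriek.extZero j).obj ((EtCoh.push c).obj ((EtCoh.pull c).obj ((EtCoh.pull j).obj F))))
      (hz : i ≫ π = 0), (ShortComplex.mk i π hz).ShortExact := by
  subst e
  haveI := jCont a
  haveI := jCont (a ≫ j)
  obtain ⟨w, hw⟩ := shortExact_recollement (i := c) (j := a) hca ((EtCoh.pull j).obj F)
  haveI : (EtShriek.extZero j).Additive := Functor.additive_of_preserves_binary_products _
  haveI : PreservesFiniteColimits (EtShriek.extZero j) :=
    haveI := (EtShriek.extZeroAdj j).leftAdjoint_preservesColimits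
    inferInstance
  have hj := hw.map_of_exact (EtShriek.extZero j)
  let e : loc (a ≫ j) F ≅
      (EtShriek.extZero j).obj ((EtShriek.extZero a).obj ((EtShriek.restrAlong a).obj ((EtCoh.pull j).obj F))) :=
    (extZeroCompIso a j).symm.app _ ≪≫ (EtShriek.extZero a ⋙ EtShriek.extZero j).mapIso
      ((EtCore.pullComp a j).app F ≪≫ (pullRestrIso a).app _)
  refine ⟨e.hom ≫ (EtShriek.extZero j).map ((EtShriek.extZeroAdj a).counit.app _),
    (EtShriek.extZero j).map ((EtCoh.pullPushAdj c).unit.app _), ?_, ?_⟩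
  · rw [Category.assoc, ← Functor.map_comp, w, Functor.map_zero, comp_zero]
  · refine (ShortComplex.shortExact_iff_of_iso ?_).1 hj
    exact ShortComplex.isoMk e.symm (Iso.refl _) (Iso.refl _) (by simp) (by simp)

/-- A successive quotient of the shape asked for. -/
def GoodQuot {E E' : EtCoh.Ab X} (ι : E ⟶ E') : Prop :=
  ∃ (U W : Scheme.{u}) (j : U ⟶ X) (_ : IsOpenImmersion j) (c : W ⟶ U)
    (_ : IsClosedImmersion c) (G : EtCoh.Ab W)
    (π : E' ⟶ (EtShriek.extZero j).obj ((EtCoh.push c).obj G)) (hz : ι ≫ π = 0),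
    Topology.IsConstructible (Set.range (c ≫ j)) ∧ EtCoh.IsFiniteLocallyConstant G ∧
    (ShortComplex.mk ι π hz).ShortExact

theorem GoodQuot.comp_iso {E E' E'' : EtCoh.Ab X} {ι : E ⟶ E'} (h : GoodQuot ι) (e : E' ≅ E'') :
    GoodQuot (ι ≫ e.hom) := by
  obtain ⟨U, W, j, hj, c, hc, G, π, hz, h1, h2, h3⟩ := h
  refine ⟨U, W, j, hj, c, hc, G, e.inv ≫ π, by simp [hz], h1, h2, ?_⟩
  refine (ShortComplex.shortExact_iff_of_iso ?_).1 h3
  exact ShortComplex.isoMk (Iso.refl _) e (Iso.refl _) (by simp) (by simp)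

/-- The filtration above an open. -/
def FiltAbove (F : EtCoh.Ab X) (A : X.Opens) : Prop :=
  ∃ (n : ℕ) (E : Fin (n + 1) → EtCoh.Ab X) (ι : ∀ k : Fin n, E k.castSucc ⟶ E k.succ),
    Nonempty (E 0 ≅ loc A.ι F) ∧ Nonempty (E (Fin.last n) ≅ F) ∧ ∀ k, GoodQuot (ι k)

theorem filtAbove_top (F : EtCoh.Ab X) : FiltAbove F ⊤ := by
  haveI := jCont (⊤ : X.Opens).ι
  obtain ⟨e⟩ := nonempty_iso_extZero (⊤ : X.Opens).ι ((EtCoh.pull (⊤ : X.Opens).ι).obj F) F
    ((pullRestrIso _).symm.app F) fun x hx => absurd (by rw [Scheme.Opens.range_ι]; trivial) hx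
  exact ⟨0, fun _ => F, fun k => k.elim0, ⟨e⟩, ⟨Iso.refl _⟩, fun k => k.elim0⟩

theorem filtAbove_cons (F : EtCoh.Ab X) {A B : X.Opens} (g : loc A.ι F ⟶ loc B.ι F) (hg : GoodQuot g)
    (h : FiltAbove F B) : FiltAbove F A := by
  obtain ⟨n, E, ι, ⟨e0⟩, el, hι⟩ := h
  refine ⟨n + 1, Fin.cons (loc A.ι F) E,
    Fin.cases (motive := fun k => (Fin.cons (loc A.ι F) E : Fin (n + 2) → EtCoh.Ab X) k.castSucc ⟶
      (Fin.cons (loc A.ι F) E : Fin (n + 2) → EtCoh.Ab X) k.succ)
      (g ≫ e0.inv) (fun k => ι k), ⟨Iso.refl _⟩, el, fun k => ?_⟩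
  refine Fin.cases ?_ (fun k => ?_) k
  · exact hg.comp_iso e0.symm
  · exact hι k

theorem filtAbove_step [CompactSpace X] [QuasiSeparatedSpace X] (F : EtCoh.Ab X) {A B : X.Opens} (hAB : A ≤ B)
    (hA : IsCompact (A : Set X)) (hB : IsCompact (B : Set X)) {T : Scheme.{u}} (t : T ⟶ X) [IsImmersion t]
    (hsub : (B : Set X) \ A ⊆ Set.range t) (ht : EtCoh.IsFiniteLocallyConstant ((EtCoh.pull t).obj F))
    (h : FiltAbove F B) : FiltAbove F A := by
  let a := X.homOfLE hAB
  let Z : Closeds B.toScheme := ⟨(Set.range a)ᶜ, a.isOpenEmbedding.isOpen_range.isClosed_compl⟩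
  let c := (Scheme.IdealSheafData.vanishingIdeal Z).subschemeι
  have hrc : Set.range c = (Set.range a)ᶜ := by
    show Set.range (Scheme.IdealSheafData.vanishingIdeal Z).subschemeι = _
    rw [Scheme.IdealSheafData.range_subschemeι, Scheme.IdealSheafData.coe_support_vanishingIdeal]
    rfl
  haveI := jCont B.ι
  obtain ⟨i, π, hz, hi⟩ := exists_step a B.ι A.ι (Scheme.homOfLE_ι X hAB).symm c
    (by rw [hrc, compl_compl]) F
  have hrange : Set.range (c ≫ B.ι) = (B : Set X) \ A := by
    rw [Scheme.Hom.comp_base, TopCat.coe_comp, Set.range_comp, hrc, Set.image_compl_eq_range_diff_image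
      B.ι.isOpenEmbedding.injective, ← Set.range_comp, Scheme.Opens.range_ι]
    refine congrArg (fun s => (B : Set X) \ s) ?_
    rw [← TopCat.coe_comp, ← Scheme.Hom.comp_base, Scheme.homOfLE_ι, Scheme.Opens.range_ι]
  refine filtAbove_cons F i ⟨_, _, B.ι, inferInstance, c, inferInstance, _, π, hz, ?_, ?_, hi⟩ h
  · rw [hrange]
    exact (hB.isConstructible B.isOpen).sdiff (hA.isConstructible A.isOpen)
  · let v := c ≫ B.ι
    let p := pullback.fst v t
    haveI : AlgebraicGeometry.IsReduced (Scheme.IdealSheafData.vanishingIdeal Z).subscheme :=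
      Props12.isReduced_subscheme_vanishingIdeal _
    haveI : Surjective p := ⟨fun w => by
      obtain ⟨y, hy⟩ := hsub (hrange ▸ ⟨w, rfl⟩ : v w ∈ (B : Set X) \ A)
      obtain ⟨z, hz, -⟩ := Scheme.Pullback.exists_preimage_pullback (f := v) (g := t) w y hy.symm
      exact ⟨z, hz⟩⟩
    haveI : IsClosedImmersion p := IsClosedImmersion.of_isPreimmersion p (by
      rw [Set.range_eq_univ.2 p.surjective]
      exact isClosed_univ)
    haveI : IsIso p := isIso_of_isClosedImmersion_of_surjective p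
    have e : (inv p ≫ pullback.snd v t) ≫ t = v := by
      rw [Category.assoc, ← pullback.condition, IsIso.inv_hom_id_assoc]
    have hF := isFLC_pull_comp ht (inv p ≫ pullback.snd v t)
    rw [e] at hF
    exact isFLC_of_iso hF ((EtCore.pullComp c B.ι).app F)

/-- A constructible sheaf has a filtration by extensions by zero of finite locally constant sheaves. -/
theorem main [CompactSpace X] [QuasiSeparatedSpace X] (F : EtCoh.Ab X) (hF : EtPBC.IsConstructible F) :
    ∃ (n : ℕ) (E : Fin (n + 1) → EtCoh.Ab X) (ι : ∀ k : Fin n, E k.castSucc ⟶ E k.succ),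
      IsZero (E 0) ∧ Nonempty (E (Fin.last n) ≅ F) ∧ ∀ k, GoodQuot (ι k) := by
  obtain ⟨κ, _, T, g, hg, hc, -, hu, hFLC⟩ := (isConstructible_iff_stratified F).1 hF
  suffices h : FiltAbove F ⊥ by
    obtain ⟨n, E, ι, ⟨e0⟩, el, hι⟩ := h
    refine ⟨n, E, ι, IsZero.of_iso ?_ e0, el, hι⟩
    haveI := jCont (⊥ : X.Opens).ι
    refine isZero_of_stalks fun x => IsZero.of_iso ?_ (extZeroStalkIso _ _ _)
    haveI : IsEmpty (PointLift (⊥ : X.Opens).ι (sepPoint X x)) := ⟨fun v => (v.1 default).2⟩
    exact isZero_sigma_of_isEmpty _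
  have hchain := exists_chain (fun k => Set.range (g k)) (fun k => (hc k).isConstructible) hu
  refine Relation.ReflTransGen.head_induction_on hchain (filtAbove_top F) ?_
  rintro A B ⟨hAB, hA, hB, hd⟩ - ih
  rcases hd with hd | ⟨k, hk⟩
  · obtain rfl : A = B := le_antisymm hAB (Set.sdiff_eq_empty.1 hd)
    exact ih
  · haveI := hg k
    exact filtAbove_step F hAB hA hB (g k) hk (hFLC k) ih

end Sheaves

end Groth.Agent.Et18.ChainFilt
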