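import Groth.Agent.WeilLib.LogDeriv
import Mathlib.LinearAlgebra.Matrix.Block
import Mathlib.RingTheory.Polynomial.Basic
import Mathlib.Algebra.Polynomial.Expand

/-!
# Reversed characteristic polynomials over commutative rings
-/

universe u v

open PowerSeries

namespace Groth.Agent.Et18.CharRev

variable {K : Type u} [CommRing K]

/-- `Σ tr(M ^ (m + 1)) t ^ m`. -/
noncomputable def trSeries {n : Type v} [Fintype n] [DecidableEq n] (M : Matrix n n K) : K⟦X⟧ :=
  PowerSeries.mk fun m => Matrix.trace (M ^ (m + 1))

theorem derivative_charpolyRev {n : Type v} [Fintype n] [DecidableEq n] (M : Matrix n n K) :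
    d⁄dX K (M.charpolyRev : K⟦X⟧) = -(trSeries M) * (M.charpolyRev : K⟦X⟧) := by
  let N : Matrix n n K⟦X⟧ := 1 - (PowerSeries.X : K⟦X⟧) • M.map PowerSeries.C
  let S : Matrix n n K⟦X⟧ := Matrix.of fun i j => PowerSeries.mk fun m => (M ^ m) i j
  have hdet : (M.charpolyRev : K⟦X⟧) = N.det := by
    rw [Matrix.charpolyRev, ← Polynomial.coeToPowerSeries.ringHom_apply, RingHom.map_det]
    congr 1
    ext1 i j
    by_cases h : i = j <;> simp [N, h, PowerSeries.X_mul]
  have hMS : ∀ i j m, PowerSeries.coeff m ((M.map PowerSeries.C * S) i j) = (M ^ (m + 1)) i j := fun i j m => by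
    rw [Matrix.mul_apply, map_sum, pow_succ', Matrix.mul_apply]
    refine Finset.sum_congr rfl fun l _ => ?_
    simp [S]
  have hNS : N * S = 1 := by
    rw [sub_mul, one_mul, Matrix.smul_mul]
    ext1 i j
    refine PowerSeries.ext fun m => ?_
    rcases m with _ | m
    · by_cases h : i = j <;> simp [S, h, Matrix.one_apply]
    · simp only [Matrix.sub_apply, Matrix.smul_apply, smul_eq_mul, map_sub, PowerSeries.coeff_succ_X_mul, hMS]
      by_cases h : i = j <;> simp [S, h, Matrix.one_apply]
  have hadj : N.adjugate = N.det • S := by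
    calc N.adjugate = N.adjugate * (N * S) := by rw [hNS, mul_one]
      _ = N.det • S := by rw [← mul_assoc, Matrix.adjugate_mul, Matrix.smul_mul, one_mul]
  have hDN : N.map (d⁄dX K) = -(M.map PowerSeries.C) := by
    ext1 i j
    by_cases h : i = j <;> simp [N, h]
  rw [hdet, WeilLib.derivation_det, hadj, hDN, Matrix.mul_smul, Matrix.trace_smul, smul_eq_mul, neg_mul (M.map PowerSeries.C),
    Matrix.trace_neg, mul_neg, mul_comm, neg_mul]
  congr 2
  refine PowerSeries.ext fun m => ?_
  rw [trSeries, PowerSeries.coeff_mk, Matrix.trace, map_sum]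
  exact Finset.sum_congr rfl fun i _ => hMS i i m

/-- The cyclic block matrix of `A`. -/
def cyc {R : Type u} [CommRing R] {m : Type v} [DecidableEq m] (A : Matrix m m R) (n : ℕ) :
    Matrix (Fin n × m) (Fin n × m) R :=
  Matrix.of fun (p q : Fin n × m) =>
    if p.1.val = 0 then (if q.1.val = n - 1 then A p.2 q.2 else 0)
    else (if q.1.val + 1 = p.1.val ∧ p.2 = q.2 then 1 else 0)

open Polynomial in
theorem charpolyRev_cyc {R : Type u} [CommRing R] {m : Type v} [Fintype m] [DecidableEq m]
    (A : Matrix m m R) (n : ℕ) (hn : 1 ≤ n) :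
    (cyc A n).charpolyRev = Polynomial.expand R n A.charpolyRev := by
  classical
  let z : Fin n := ⟨0, hn⟩
  let M : Matrix (Fin n × m) (Fin n × m) R[X] := 1 - (Polynomial.X : R[X]) • (cyc A n).map Polynomial.C
  let D : Matrix (Fin n × m) (Fin n × m) R[X] :=
    Matrix.of fun p q => if q.1.val ≤ p.1.val ∧ p.2 = q.2 then Polynomial.X ^ (p.1.val - q.1.val) else 0
  let N : Matrix (Fin n × m) (Fin n × m) R[X] := Matrix.of fun p q =>
    (if p = q then 1 else 0) - (if p.1.val = 0 then Polynomial.X ^ (n - q.1.val) * Polynomial.C (A p.2 q.2) else 0)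
  have hMD : M * D = N := by
    refine Matrix.ext fun p q => ?_
    rw [show M * D = D - (Polynomial.X : R[X]) • ((cyc A n).map Polynomial.C * D) by
      simp only [M, Matrix.sub_mul, Matrix.one_mul, Matrix.smul_mul]]
    rw [Matrix.sub_apply, Matrix.smul_apply, Matrix.mul_apply, Fintype.sum_prod_type, smul_eq_mul]
    obtain ⟨⟨i, hi⟩, s⟩ := p
    obtain ⟨⟨j, hj⟩, t⟩ := q
    by_cases h0 : i = 0
    · subst h0
      rw [Finset.sum_eq_single (⟨n - 1, by omega⟩ : Fin n)]
      · rw [Finset.sum_eq_single t]
        · have hnj : n - j = (n - 1 - j) + 1 := by omega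
          simp [cyc, D, N, hnj, show j ≤ n - 1 by omega, pow_succ']
          rcases Nat.eq_zero_or_pos j with rfl | hj0
          · by_cases hst' : s = t <;> simp [hst'] <;> ring
          · by_cases hst' : s = t <;>
              simp [hst', show ¬ (j ≤ 0) by omega, show 0 ≠ j by omega, show j ≠ 0 by omega] <;> ring
        · intro l _ hl
          simp [cyc, D, hl]
        · simp
      · intro l _ hl
        refine Finset.sum_eq_zero fun w _ => ?_
        have hl' : l.val ≠ n - 1 := fun h => hl (Fin.ext h)
        simp [cyc, hl']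
      · simp
    · rw [Finset.sum_eq_single (⟨i - 1, by omega⟩ : Fin n)]
      · rw [Finset.sum_eq_single s]
        · by_cases hst : s = t
          · subst hst
            by_cases hji : j ≤ i - 1
            · simp [cyc, D, N, h0, hji, show j ≤ i by omega, show i ≠ j by omega,
                show i - 1 + 1 = i by omega, ← pow_succ', show i - 1 - j + 1 = i - j by omega]
            · by_cases hij : i = j
              · subst hij
                simp [cyc, D, N, h0, hji, show i - 1 + 1 = i by omega]
              · simp [cyc, D, N, h0, hji, hij, show ¬ j ≤ i by omega, show i - 1 + 1 = i by omega]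
          · simp [cyc, D, N, h0, hst, show i - 1 + 1 = i by omega]
        · intro l _ hl
          simp [cyc, h0, Ne.symm hl]
        · simp
      · intro l _ hl
        refine Finset.sum_eq_zero fun w _ => ?_
        have hl' : l.val + 1 ≠ i := fun h => hl (Fin.ext (show l.val = i - 1 by omega))
        simp [cyc, h0, hl']
      · simp
  have hD : D.det = 1 := by
    have hT : Matrix.BlockTriangular D fun p : Fin n × m => OrderDual.toDual p.1 := fun p q h => by
      have h' : ¬ q.1 ≤ p.1 := not_le.mpr h
      simp [D, h']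
    rw [hT.det]
    refine Finset.prod_eq_one fun a _ => ?_
    rw [show D.toSquareBlock (fun p : Fin n × m => OrderDual.toDual p.1) a = 1 from ?_, Matrix.det_one]
    refine Matrix.ext fun ⟨⟨i, s⟩, hi⟩ ⟨⟨j, t⟩, hj⟩ => ?_
    have : i = j := OrderDual.toDual.injective (hi.trans hj.symm)
    subst this
    by_cases h : s = t <;> simp [D, Matrix.toSquareBlock_def, Matrix.one_apply, h]
  have hN : N.det = ((1 : Matrix m m R[X]) - (Polynomial.X ^ n : R[X]) • A.map Polynomial.C).det := by
    have hT : Matrix.BlockTriangular N fun p : Fin n × m => p.1 := fun p q h => by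
      have h' : q.1.val < p.1.val := h
      simp [N, show p ≠ q from fun e => by rw [e] at h'; exact lt_irrefl _ h', show p.1.val ≠ 0 by omega]
    rw [hT.det, Finset.prod_eq_single z]
    · let e : m ≃ {p : Fin n × m // p.1 = z} :=
        { toFun := fun s => ⟨(z, s), rfl⟩
          invFun := fun p => p.1.2
          left_inv := fun _ => rfl
          right_inv := fun p => Subtype.ext (Prod.ext p.2.symm rfl) }
      rw [← Matrix.det_submatrix_equiv_self e]
      refine congrArg Matrix.det (Matrix.ext fun s t => ?_)
      by_cases h : s = t <;> simp [N, e, z, Matrix.toSquareBlock_def, Matrix.one_apply, h]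
    · intro a _ ha
      rw [show N.toSquareBlock (fun p : Fin n × m => p.1) a = 1 from ?_, Matrix.det_one]
      refine Matrix.ext fun ⟨⟨i, s⟩, hi⟩ ⟨⟨j, t⟩, hj⟩ => ?_
      have ha' : a.val ≠ 0 := fun h => ha (Fin.ext h)
      cases hi
      cases hj
      by_cases h : s = t <;> simp [N, Matrix.toSquareBlock_def, Matrix.one_apply, h, ha']
    · intro h
      have hempty : IsEmpty m := ⟨fun s => h (Finset.mem_image.mpr ⟨(z, s), Finset.mem_univ _, rfl⟩)⟩
      haveI : IsEmpty {p : Fin n × m // p.1 = z} := ⟨fun p => hempty.false p.1.2⟩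
      exact Matrix.det_isEmpty
  have h := congrArg Matrix.det hMD
  rw [Matrix.det_mul, hD, mul_one, hN] at h
  have h2 : Polynomial.expand R n A.charpolyRev =
      ((1 : Matrix m m R[X]) - (Polynomial.X ^ n : R[X]) • A.map Polynomial.C).det := by
    rw [Matrix.charpolyRev, AlgHom.map_det]
    refine congrArg Matrix.det (Matrix.ext fun s t => ?_)
    by_cases hst : s = t <;> simp [Matrix.one_apply, hst]
  rw [h2]
  exact h

theorem neg_X_mul_derivative {R : Type u} [CommRing R] {m : Type v} [Fintype m] [DecidableEq m]
    (A : Matrix m m R) :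
    ((-(Polynomial.X * Polynomial.derivative A.charpolyRev) : Polynomial R) : PowerSeries R) =
      (A.charpolyRev : PowerSeries R) * PowerSeries.mk (fun n => if n = 0 then 0 else (A ^ n).trace) := by
  have h : PowerSeries.mk (fun n => if n = 0 then 0 else (A ^ n).trace) = PowerSeries.X * trSeries A := by
    refine PowerSeries.ext fun n => ?_
    rcases n with _ | n <;> simp [trSeries, PowerSeries.coeff_succ_X_mul]
  rw [h, Polynomial.coe_neg, Polynomial.coe_mul, Polynomial.coe_X, ← PowerSeries.derivative_coe,
    derivative_charpolyRev]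
  ring

end Groth.Agent.Et18.CharRev
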