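import Groth.Prelude.Def_SGA4hB
import Mathlib.Algebra.Homology.DerivedCategory.KProjective
import Mathlib.Algebra.Homology.HomotopyCategory.Pretriangulated
import Mathlib.Algebra.Category.ModuleCat.Projective
import Mathlib.Algebra.Category.ModuleCat.Abelian
import Mathlib.LinearAlgebra.Matrix.SchurComplement
import Mathlib.Data.Int.Interval
import Mathlib.RingTheory.Finiteness.Prod
import Mathlib.RingTheory.TensorProduct.Finite
import Mathlib.RingTheory.TensorProduct.Free
import Mathlib.Algebra.Category.ModuleCat.Biproducts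

/-!
# The characteristic series depends only on the class in the derived category
-/

set_option autoImplicit false
universe w u

open CategoryTheory CategoryTheory.Limits Polynomial HomologicalComplex CochainComplex.HomComplex

noncomputable section

namespace Groth.Agent.Et18.CharSeries

variable {A : Type u} [CommRing A]

theorem det_sub_comm {B : Type u} [CommRing B] {M N : Type u} [AddCommGroup M] [Module B M] [Module.Free B M]
    [Module.Finite B M] [AddCommGroup N] [Module B N] [Module.Free B N] [Module.Finite B N]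
    (f : M →ₗ[B] N) (g : N →ₗ[B] M) :
    LinearMap.det (LinearMap.id - g ∘ₗ f) = LinearMap.det (LinearMap.id - f ∘ₗ g) := by
  classical
  let bM := Module.Free.chooseBasis B M
  let bN := Module.Free.chooseBasis B N
  rw [← LinearMap.det_toMatrix bM, ← LinearMap.det_toMatrix bN, map_sub, map_sub, LinearMap.toMatrix_id,
    LinearMap.toMatrix_id, LinearMap.toMatrix_comp bM bN bM, LinearMap.toMatrix_comp bN bM bN, sub_eq_add_neg,
    sub_eq_add_neg, ← Matrix.mul_neg, Matrix.det_one_add_mul_comm, Matrix.neg_mul]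

theorem dos_add {M : ModuleCat.{u} A} (f g : M ⟶ M) (h : g ≫ f = 0) :
    SGA4h.detOneSub M (f + g) = SGA4h.detOneSub M f * SGA4h.detOneSub M g := by
  simp only [SGA4h.detOneSub]
  rw [← map_mul]
  refine congrArg _ ?_
  have h' : f.hom.baseChange A[X] ∘ₗ g.hom.baseChange A[X] = 0 := by
    rw [← LinearMap.baseChange_comp, ← ModuleCat.hom_comp, h, ModuleCat.hom_zero, LinearMap.baseChange_zero]
  rw [ModuleCat.hom_add, LinearMap.baseChange_add, Module.End.mul_eq_comp]
  simp only [LinearMap.sub_comp, LinearMap.comp_sub, LinearMap.id_comp, LinearMap.comp_id, LinearMap.smul_comp,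
    LinearMap.comp_smul, h', smul_zero, sub_zero, smul_add]
  abel

theorem dos_comm {M N : ModuleCat.{u} A} [Module.Free A M] [Module.Finite A M] [Module.Free A N] [Module.Finite A N]
    (f : M ⟶ N) (g : N ⟶ M) : SGA4h.detOneSub M (f ≫ g) = SGA4h.detOneSub N (g ≫ f) := by
  simp only [SGA4h.detOneSub, ModuleCat.hom_comp, LinearMap.baseChange_comp]
  rw [← LinearMap.smul_comp, det_sub_comm, LinearMap.comp_smul]

theorem dos_zero {M : ModuleCat.{u} A} : SGA4h.detOneSub M 0 = 1 := by
  rw [SGA4h.detOneSub, ModuleCat.hom_zero, LinearMap.baseChange_zero]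
  exact (congrArg LinearMap.det ((congrArg _ (smul_zero _)).trans (sub_zero _))).trans (LinearMap.det_id (A := A[X]))

theorem dos_of_isZero {M : ModuleCat.{u} A} (hM : IsZero M) (f : M ⟶ M) : SGA4h.detOneSub M f = 1 := by
  rw [hM.eq_of_src f 0, dos_zero]

/-- Triangular endomorphisms of a decomposed module. -/
theorem dos_triangular {M N T : ModuleCat.{u} A} [Module.Free A M] [Module.Finite A M] [Module.Free A N]
    [Module.Finite A N] [Module.Free A T] [Module.Finite A T] (il : M ⟶ T) (ir : N ⟶ T) (pl : T ⟶ M) (pr : T ⟶ N)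
    (hid : pl ≫ il + pr ≫ ir = 𝟙 T) (v : T ⟶ T) (h : ir ≫ v ≫ pl = 0) :
    SGA4h.detOneSub T v = SGA4h.detOneSub M (il ≫ v ≫ pl) * SGA4h.detOneSub N (ir ≫ v ≫ pr) := by
  have hv : v = pl ≫ (il ≫ v) + pr ≫ (ir ≫ v) := by
    conv_lhs => rw [← Category.id_comp v, ← hid, Preadditive.add_comp, Category.assoc, Category.assoc]
  conv_lhs => rw [hv]
  rw [dos_add, dos_comm pl (il ≫ v), dos_comm pr (ir ≫ v), Category.assoc, Category.assoc]
  simp only [Category.assoc]
  rw [reassoc_of% h, Limits.zero_comp, Limits.comp_zero]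

theorem shift_even {S : Type*} [CommMonoid S] (α : ℤ → S) :
    (∏ᶠ i : {i : ℤ // Even i}, α (i.1 + 1)) = ∏ᶠ i : {i : ℤ // Odd i}, α i.1 :=
  finprod_eq_of_bijective (fun i : {i : ℤ // Even i} => (⟨i.1 + 1, i.2.add_one⟩ : {i : ℤ // Odd i}))
    ⟨fun i j h => Subtype.ext (add_left_injective 1 (congrArg Subtype.val h)),
      fun j => ⟨⟨j.1 - 1, by simpa using j.2.sub_odd odd_one⟩, Subtype.ext (by simp)⟩⟩ fun i => rfl

theorem shift_odd {S : Type*} [CommMonoid S] (α : ℤ → S) :
    (∏ᶠ i : {i : ℤ // Odd i}, α (i.1 + 1)) = ∏ᶠ i : {i : ℤ // Even i}, α i.1 :=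
  finprod_eq_of_bijective (fun i : {i : ℤ // Odd i} => (⟨i.1 + 1, i.2.add_one⟩ : {i : ℤ // Even i}))
    ⟨fun i j h => Subtype.ext (add_left_injective 1 (congrArg Subtype.val h)),
      fun j => ⟨⟨j.1 - 1, by simpa using j.2.sub_odd odd_one⟩, Subtype.ext (by simp)⟩⟩ fun i => rfl

theorem finprod_pairs {S : Type*} [CommMonoid S] (α : ℤ → S) (hα : (Function.mulSupport α).Finite) :
    (∏ᶠ i : {i : ℤ // Even i}, α i.1 * α (i.1 + 1)) = ∏ᶠ i : {i : ℤ // Odd i}, α i.1 * α (i.1 + 1) := by
  let sh : ℤ → ℤ := fun i => i + 1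
  have hsh : Function.Injective sh := add_left_injective 1
  have hfin : ∀ (p : ℤ → Prop) (g : ℤ → ℤ), Function.Injective g →
      (Function.mulSupport fun i : {i : ℤ // p i} => α (g i.1)).Finite := fun p g hg =>
    hα.preimage (f := fun i : {i : ℤ // p i} => g i.1) (hg.comp Subtype.val_injective).injOn
  show (∏ᶠ i : {i : ℤ // Even i}, (fun j : {i : ℤ // Even i} => α j.1) i * (fun j : {i : ℤ // Even i} => α (sh j.1)) i) =
    ∏ᶠ i : {i : ℤ // Odd i}, (fun j : {i : ℤ // Odd i} => α j.1) i * (fun j : {i : ℤ // Odd i} => α (sh j.1)) i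
  rw [finprod_mul_distrib (hfin _ (fun i => i) Function.injective_id) (hfin _ sh hsh),
    finprod_mul_distrib (hfin _ (fun i => i) Function.injective_id) (hfin _ sh hsh), mul_comm]
  exact congrArg₂ (· * ·) (shift_even α) (shift_odd α).symm

variable (C : CochainComplex (ModuleCat.{u} A) ℤ)

theorem finite_support (a b : ℤ) [C.IsStrictlyGE a] [C.IsStrictlyLE b] (α : ℤ → A[X])
    (h : ∀ i, IsZero (C.X i) → α i = 1) : (Function.mulSupport α).Finite := by
  refine (Set.finite_Icc a b).subset fun i hi => ?_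
  refine ⟨not_lt.1 fun hlt => hi (h i (C.isZero_of_isStrictlyGE a i hlt)),
    not_lt.1 fun hlt => hi (h i (C.isZero_of_isStrictlyLE b i hlt))⟩

/-- A contractible complex has trivial characteristic series. -/
theorem det_eq_of_contractible (hC : ∀ i, Module.Finite A (C.X i) ∧ Module.Free A (C.X i)) (v : C ⟶ C)
    (H : Homotopy (𝟙 C) 0) (hfin : ∀ α : ℤ → A[X], (∀ i, IsZero (C.X i) → α i = 1) → (Function.mulSupport α).Finite) :
    SGA4h.detEven C v = SGA4h.detOdd C v := by
  haveI := fun i => (hC i).1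
  haveI := fun i => (hC i).2
  let α : ℤ → A[X] := fun i => SGA4h.detOneSub (C.X i) (v.f i ≫ H.hom i (i - 1) ≫ C.d (i - 1) i)
  have key : ∀ i, SGA4h.detOneSub (C.X i) (v.f i) = α i * α (i + 1) := fun i => by
    have hid : C.d i (i + 1) ≫ H.hom (i + 1) i + H.hom i (i - 1) ≫ C.d (i - 1) i = 𝟙 (C.X i) := by
      have := H.comm i
      rw [dNext_eq _ (show (ComplexShape.up ℤ).Rel i (i + 1) from rfl),
        prevD_eq _ (show (ComplexShape.up ℤ).Rel (i - 1) i from sub_add_cancel i 1), zero_f, add_zero] at this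
      exact this.symm
    have hv : v.f i = v.f i ≫ C.d i (i + 1) ≫ H.hom (i + 1) i + v.f i ≫ H.hom i (i - 1) ≫ C.d (i - 1) i := by
      rw [← Preadditive.comp_add, hid, Category.comp_id]
    have h2 : SGA4h.detOneSub (C.X i) (v.f i ≫ C.d i (i + 1) ≫ H.hom (i + 1) i) = α (i + 1) := by
      obtain ⟨j, hj⟩ : ∃ j, j = i + 1 := ⟨_, rfl⟩
      have hk : j - 1 = i := by omega
      rw [← hj]
      simp only [α]
      rw [← Category.assoc (v.f i), dos_comm, v.comm i j, ← Category.assoc, dos_comm]
      subst hk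
      rfl
    conv_lhs => rw [hv]
    rw [dos_add, h2, mul_comm]
    simp only [Category.assoc]
    rw [← v.comm_assoc (i - 1) i, d_comp_d_assoc, Limits.zero_comp, Limits.comp_zero, Limits.comp_zero, Limits.comp_zero]
  have hα := hfin α fun i hi => dos_of_isZero hi _
  simp only [SGA4h.detEven, SGA4h.detOdd, key]
  exact finprod_pairs α hα

variable {C}
variable {K K' : CochainComplex (ModuleCat.{u} A) ℤ}

open CochainComplex in
/-- The characteristic series of two homotopy equivalent complexes with compatible endomorphisms agree. -/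
theorem det_eq_of_homotopy (hK : ∀ i, Module.Finite A (K.X i) ∧ Module.Free A (K.X i))
    (hK' : ∀ i, Module.Finite A (K'.X i) ∧ Module.Free A (K'.X i)) (a b : ℤ) [K.IsStrictlyGE a] [K.IsStrictlyLE b]
    [K'.IsStrictlyGE a] [K'.IsStrictlyLE b] (f : K ⟶ K')
    [IsIso ((HomotopyCategory.quotient _ (ComplexShape.up ℤ)).map f)] (u : K ⟶ K) (u' : K' ⟶ K')
    (H : Homotopy (f ≫ u') (u ≫ f)) :
    SGA4h.detEven K u * SGA4h.detOdd K' u' = SGA4h.detOdd K u * SGA4h.detEven K' u' := by
  haveI := fun i => (hK i).1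
  haveI := fun i => (hK i).2
  haveI := fun i => (hK' i).1
  haveI := fun i => (hK' i).2
  let C := mappingCone f
  let e : ∀ i, C.X i ≅ ModuleCat.of A (K.X (i + 1) × K'.X i) := fun i =>
    homotopyCofiber.XIsoBiprod f i (i + 1) rfl ≪≫ ModuleCat.biprodIsoProd _ _
  have hC : ∀ i, Module.Finite A (C.X i) ∧ Module.Free A (C.X i) := fun i =>
    have e' : (K.X (i + 1) × K'.X i) ≃ₗ[A] C.X i := (e i).toLinearEquiv.symm
    ⟨Module.Finite.equiv e', Module.Free.of_equiv e'⟩
  haveI := fun i => (hC i).1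
  haveI := fun i => (hC i).2
  let v : C ⟶ C := mappingCone.mapOfHomotopy H
  have hkey : ∀ i, SGA4h.detOneSub (C.X i) (v.f i) =
      SGA4h.detOneSub (K.X (i + 1)) (u.f (i + 1)) * SGA4h.detOneSub (K'.X i) (u'.f i) := fun i => by
    rw [dos_triangular ((mappingCone.inl f).v (i + 1) i (by omega)) ((mappingCone.inr f).f i)
      ((mappingCone.fst f).1.v i (i + 1) rfl) ((mappingCone.snd f).v i i (add_zero i))
      (mappingCone.id_X f i (i + 1) rfl)]
    · refine congrArg₂ (fun p q => SGA4h.detOneSub _ p * SGA4h.detOneSub _ q) ?_ ?_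
      · simp [v, mappingCone.mapOfHomotopy]
      · simp [v, mappingCone.mapOfHomotopy]
    · simp [v, mappingCone.mapOfHomotopy]
  have hz : IsZero ((HomotopyCategory.quotient _ (ComplexShape.up ℤ)).obj C) :=
    Pretriangulated.Triangle.isZero₃_of_isIso₁ (mappingCone.triangleh f)
      (HomotopyCategory.mappingCone_triangleh_distinguished f) ‹_›
  obtain ⟨H0⟩ := (HomotopyCategory.isZero_quotient_obj_iff C).1 hz
  have hfin : ∀ α : ℤ → A[X], (∀ i, IsZero (C.X i) → α i = 1) → (Function.mulSupport α).Finite := fun α hα => by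
    refine (Set.finite_Icc (a - 1) b).subset fun i hi => ?_
    have hz : IsZero (K.X (i + 1)) → IsZero (K'.X i) → False := fun h1 h2 => hi (hα i (by
      rw [IsZero.iff_id_eq_zero, ← mappingCone.id_X f i (i + 1) rfl, h1.eq_of_tgt ((mappingCone.fst f).1.v i (i + 1) rfl) 0,
        h2.eq_of_tgt ((mappingCone.snd f).v i i (add_zero i)) 0, Limits.zero_comp, Limits.zero_comp, add_zero]))
    refine ⟨not_lt.1 fun h => ?_, not_lt.1 fun h => ?_⟩
    · exact hz (K.isZero_of_isStrictlyGE a _ (by omega)) (K'.isZero_of_isStrictlyGE a _ (by omega))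
    · exact hz (K.isZero_of_isStrictlyLE b _ (by omega)) (K'.isZero_of_isStrictlyLE b _ (by omega))
  have hmain := det_eq_of_contractible C hC v H0 hfin
  let α : ℤ → A[X] := fun i => SGA4h.detOneSub (K.X i) (u.f i)
  let β : ℤ → A[X] := fun i => SGA4h.detOneSub (K'.X i) (u'.f i)
  have hα : (Function.mulSupport α).Finite := finite_support K a b α fun i hi => dos_of_isZero hi _
  have hβ : (Function.mulSupport β).Finite := finite_support K' a b β fun i hi => dos_of_isZero hi _
  have hfs : ∀ (γ : ℤ → A[X]) (p : ℤ → Prop) (g : ℤ → ℤ), (Function.mulSupport γ).Finite → Function.Injective g →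
      (Function.mulSupport fun i : {i : ℤ // p i} => γ (g i.1)).Finite := fun γ p g hγ hg =>
    hγ.preimage (f := fun i : {i : ℤ // p i} => g i.1) (hg.comp Subtype.val_injective).injOn
  simp only [SGA4h.detEven, SGA4h.detOdd, hkey] at hmain ⊢
  change (∏ᶠ i : {i : ℤ // Even i}, α (i.1 + 1) * β i.1) = ∏ᶠ i : {i : ℤ // Odd i}, α (i.1 + 1) * β i.1 at hmain
  show (∏ᶠ i : {i : ℤ // Even i}, α i.1) * _ = (∏ᶠ i : {i : ℤ // Odd i}, α i.1) * _
  rw [finprod_mul_distrib (hfs α _ (· + 1) hα (add_left_injective 1)) (hfs β _ (fun i => i) hβ Function.injective_id),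
    finprod_mul_distrib (hfs α _ (· + 1) hα (add_left_injective 1)) (hfs β _ (fun i => i) hβ Function.injective_id)] at hmain
  have e1 := shift_even α
  have e2 := shift_odd α
  rw [e1, e2] at hmain
  exact hmain.symm

open CochainComplex in
theorem det_eq_of_derived [HasDerivedCategory.{w} (ModuleCat.{u} A)]
    (hK : ∀ i, Module.Finite A (K.X i) ∧ Module.Free A (K.X i))
    (hK' : ∀ i, Module.Finite A (K'.X i) ∧ Module.Free A (K'.X i)) (a b : ℤ) [K.IsStrictlyGE a] [K.IsStrictlyLE b]
    [K'.IsStrictlyGE a] [K'.IsStrictlyLE b] (u : K ⟶ K) (u' : K' ⟶ K')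
    (φ : DerivedCategory.Q.obj K ≅ DerivedCategory.Q.obj K')
    (hφ : DerivedCategory.Q.map u ≫ φ.hom = φ.hom ≫ DerivedCategory.Q.map u') :
    SGA4h.detEven K u * SGA4h.detOdd K' u' = SGA4h.detOdd K u * SGA4h.detEven K' u' := by
  have hp : ∀ (L : CochainComplex (ModuleCat.{u} A) ℤ), (∀ i, Module.Free A (L.X i)) → ∀ n, Projective (L.X n) :=
    fun L hL n => by
      haveI := hL n
      exact (IsProjective.iff_projective (R := A) (L.X n)).1 inferInstance
  haveI := hp K fun i => (hK i).2
  haveI := hp K' fun i => (hK' i).2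
  haveI : K.IsKProjective := isKProjective_of_projective K b
  haveI : K'.IsKProjective := isKProjective_of_projective K' b
  let qh := DerivedCategory.quotientCompQhIso (ModuleCat.{u} A)
  obtain ⟨f₀, hf₀⟩ := (IsKProjective.Qh_map_bijective K ((HomotopyCategory.quotient _ _).obj K')).surjective
    (qh.hom.app K ≫ φ.hom ≫ qh.inv.app K')
  obtain ⟨g₀, hg₀⟩ := (IsKProjective.Qh_map_bijective K' ((HomotopyCategory.quotient _ _).obj K)).surjective
    (qh.hom.app K' ≫ φ.inv ≫ qh.inv.app K)
  haveI : IsIso f₀ := ⟨g₀, (IsKProjective.Qh_map_bijective _ _).injective (by simp [hf₀, hg₀]),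
    (IsKProjective.Qh_map_bijective _ _).injective (by simp [hf₀, hg₀])⟩
  obtain ⟨f, rfl⟩ := (HomotopyCategory.quotient (ModuleCat.{u} A) (ComplexShape.up ℤ)).map_surjective f₀
  refine det_eq_of_homotopy hK hK' a b f u u' (HomotopyCategory.homotopyOfEq _ _ ?_)
  refine (IsKProjective.Qh_map_bijective K _).injective ?_
  simp only [Functor.map_comp, hf₀]
  have n1 := qh.inv.naturality u'
  have n2 := qh.hom.naturality u
  simp only [Functor.comp_map] at n1 n2
  rw [Category.assoc, Category.assoc, ← n1, ← reassoc_of% hφ, ← reassoc_of% n2]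

end Groth.Agent.Et18.CharSeries
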