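import Groth.Agent.Et18.ConstTorsor
import Groth.Agent.SGA3cLib.OpenSubgroup
import Groth.Agent.SGA3xLib.SepFibre
import Groth.Agent.AlgGrpLib.SubgroupCalc
import Groth.Agent.S7520
import Groth.Agent.UnipStruct.Group

/-! Extensions of a connected group by a constant torsion-free group split uniquely. -/

set_option autoImplicit false
set_option backward.isDefEq.respectTransparency.types false
set_option linter.style.haveILetI false

universe u

open CategoryTheory CategoryTheory.Limits MonoidalCategory CartesianMonoidalCategory MonObj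
open AlgebraicGeometry TopologicalSpace

namespace Groth.Agent.Et18.ConstExt

open ConstTorsor

variable {k : Type u} [Field k] {Z : Type u} [Group Z]
  {P E G : Over (Spec (CommRingCat.of k))} [GrpObj P] [GrpObj E] [GrpObj G]

/-- A map to a constant group with connected source and value `1` at a point is trivial. -/
lemma eq_one_of_connected (eG : G ≅ TwC.const (Spec (CommRingCat.of k)) Z)
    (hG : TwC.IsConstGrp Z G eG) {T : Over (Spec (CommRingCat.of k))}
    [PreconnectedSpace T.left] (d : T ⟶ G) (t : T.left) (ht : d.left t ∈ Set.range (c eG 1).left) :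
    d = 1 := by
  have hcl : IsClopen (d.left ⁻¹' Set.range (c eG 1).left) := by
    refine ⟨⟨?_⟩, (c eG 1).left.isOpenEmbedding.isOpen_range.preimage d.left.continuous⟩
    have : (d.left ⁻¹' Set.range (c eG 1).left)ᶜ =
        ⋃ w ∈ {w : Z | w ≠ 1}, d.left ⁻¹' Set.range (c eG w).left := by
      ext x
      simp only [Set.mem_compl_iff, Set.mem_preimage, Set.mem_iUnion, exists_prop]
      constructor
      · intro hx
        obtain ⟨w, hw⟩ := mem_range_c eG (d.left x)
        exact ⟨w, fun e => hx (e ▸ hw), hw⟩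
      · rintro ⟨w, hw1, y, hy⟩ ⟨y', hy'⟩
        exact hw1 (c_injective eG w 1 y y' (hy.trans hy'.symm))
    rw [this]
    exact isOpen_biUnion fun w _ => (c eG w).left.isOpenEmbedding.isOpen_range.preimage d.left.continuous
  have huniv : d.left ⁻¹' Set.range (c eG 1).left = Set.univ := hcl.eq_univ ⟨t, ht⟩
  have hr : Set.range d.left ⊆ Set.range (c eG 1).left := by
    rintro _ ⟨x, rfl⟩
    exact (Set.eq_univ_iff_forall.1 huniv x)
  have h1 := IsOpenImmersion.lift_fac (c eG 1).left d.left hr
  have h2 : d = toUnit T ≫ c eG 1 := by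
    refine Over.OverMorphism.ext ?_
    change d.left = T.hom ≫ (c eG 1).left
    have h3 : IsOpenImmersion.lift (c eG 1).left d.left hr = T.hom := by
      have h4 := congrArg (· ≫ G.hom) h1
      simp only [Category.assoc, Over.w d] at h4
      rw [c_left_hom] at h4
      exact (Category.comp_id _).symm.trans h4
    rw [← h3, h1]
  rw [h2, c_one eG hG, MonObj.comp_one]

theorem main (hZ : ∀ z : Z, IsOfFinOrder z → z = 1) [LocallyOfFiniteType P.hom]
    [ConnectedSpace P.left] (eG : G ≅ TwC.const (Spec (CommRingCat.of k)) Z)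
    (hG : TwC.IsConstGrp Z G eG) (u : G ⟶ E) (v : E ⟶ P)
    (hex : NonAbH1.IsExactSeq Scheme.fppfPrecoverage u v) :
    (∀ φ : E ≅ E, IsMonHom φ.hom → u ≫ φ.hom = u → φ.hom ≫ v = v → φ.hom = 𝟙 E) ∧
      ∃ s : P ⟶ E, IsMonHom s ∧ s ≫ v = 𝟙 P := by
  obtain ⟨hu, hv, huv, hsq, hloc⟩ := hex
  haveI := hu
  haveI := hv
  -- kernel
  haveI : Mono u := ⟨fun {T} g g' h => by
    have h1 : lift (1 : T ⟶ E) g ≫ fst E G = lift (1 : T ⟶ E) g' ≫ fst E G := by simp
    have h2 : lift (1 : T ⟶ E) g ≫ (E ◁ u) ≫ μ[E] = lift (1 : T ⟶ E) g' ≫ (E ◁ u) ≫ μ[E] := by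
      rw [lift_whiskerLeft_assoc, lift_whiskerLeft_assoc, h]
    have := hsq.hom_ext h1 h2
    simpa using congrArg (· ≫ snd E G) this⟩
  have hlift : ∀ {T : Over (Spec (CommRingCat.of k))} (x : T ⟶ E), x ≫ v = 1 →
      ∃ n : T ⟶ G, n ≫ u = x := by
    intro T x hx
    let L := hsq.lift (1 : T ⟶ E) x (by rw [hx, MonObj.one_comp])
    refine ⟨L ≫ snd E G, ?_⟩
    have h1 : L ≫ fst E G = 1 := hsq.lift_fst _ _ _
    have h2 : L ≫ (E ◁ u) ≫ μ[E] = x := hsq.lift_snd _ _ _
    have h3 : L = lift (1 : T ⟶ E) (L ≫ snd E G) := by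
      rw [← h1]
      exact (lift_comp_fst_snd L).symm
    rw [h3, lift_whiskerLeft_assoc, ← Hom.mul_def, _root_.one_mul] at h2
    exact h2
  have hker : AlgGrp.IsKernel u v := AlgGrpLib.isKernel_of_points u v huv fun T g hg => hlift g hg
  -- `v` is etale
  haveI hGet : Etale G.hom := etale_const eG
  haveI hvet : Etale v.left := by
    refine etale_of_locallyTrivial (X := (Over.mk v.left : Over P.left)) ?_ hloc
    have hsq' := (hsq.map (Over.forget _)).flip
    change Etale (pullback.snd v.left v.left)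
    have h1 : Etale (fst E G).left := MorphismProperty.pullback_fst E.hom G.hom hGet
    rw [show pullback.snd v.left v.left = hsq'.isoPullback.inv ≫ (fst E G).left from
      hsq'.isoPullback_inv_snd.symm]
    exact MorphismProperty.comp_mem _ _ _ inferInstance h1
  haveI : LocallyOfFiniteType E.hom := by
    rw [← Over.w v]
    exact MorphismProperty.comp_mem _ _ _ inferInstance inferInstance
  haveI : IsLocallyNoetherian E.left := LocallyOfFiniteType.isLocallyNoetherian E.hom
  haveI : IsSeparated E.hom := SGA3xLib.isSeparated_of_grpObj E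
  haveI : IsSeparated P.hom := SGA3xLib.isSeparated_of_grpObj P
  haveI : IsClosedImmersion u.left := by
    have h := hker.map (Over.forget _)
    haveI : IsClosedImmersion (η[P]).left := by
      haveI : IsClosedImmersion ((η[P]).left ≫ P.hom) := by
        rw [Over.w η[P]]
        change IsClosedImmersion (𝟙 (Spec (CommRingCat.of k)))
        infer_instance
      exact IsClosedImmersion.of_comp (η[P]).left P.hom
    exact MorphismProperty.of_isPullback (P := @IsClosedImmersion) h.flip ‹IsClosedImmersion (η[P]).left›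
  -- neutral component
  obtain ⟨E₀, _, i, hi, hic, hif, hir, hgi, hE₀c⟩ := Groth.Agent.S7520.result k E
  haveI := hi
  haveI := hic
  haveI := hif
  haveI := hE₀c
  haveI : LocallyOfFinitePresentation i.left := inferInstance
  haveI : Etale i.left := by
    haveI : FormallyUnramified i.left := inferInstance
    exact Etale.of_formallyUnramified_of_flat i.left
  haveI : IsOpenImmersion i.left := FEtLib.isOpenImmersion_of_etale_universallyInjective i.left
  haveI : ConnectedSpace E₀.left := by
    haveI := hgi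
    haveI : Nonempty E₀.left := ⟨(η[E₀]).left (IsLocalRing.closedPoint k)⟩
    haveI : IrreducibleSpace E₀.left := GeometricallyIrreducible.irreducibleSpace_of_subsingleton E₀.hom
    infer_instance
  -- constants in the neutral component
  let ψ : Z →* (𝟙_ (Over (Spec (CommRingCat.of k))) ⟶ E) :=
    { toFun := fun z => c eG z ≫ u
      map_one' := by rw [c_one eG hG, MonObj.one_comp]
      map_mul' := fun a b => by rw [← MonObj.mul_comp]; exact congrArg (· ≫ u) (hG a b).symm }
  let H : Subgroup Z := (MonoidHom.range (UnipStruct.post i (𝟙_ _))).comap ψ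
  have hmemH : ∀ (z : Z) (pt : (𝟙_ (Over (Spec (CommRingCat.of k)))).left),
      u.left ((c eG z).left pt) ∈ Set.range i.left → z ∈ H := by
    intro z pt hpt
    have hr : Set.range (c eG z ≫ u).left ⊆ Set.range i.left := by
      rintro _ ⟨q, rfl⟩
      obtain rfl : q = pt := Subsingleton.elim (α := ↥(Spec (CommRingCat.of k))) _ _
      exact hpt
    refine ⟨Over.homMk (IsOpenImmersion.lift i.left (c eG z ≫ u).left hr) ?_, ?_⟩
    · rw [← Over.w i, IsOpenImmersion.lift_fac_assoc]
      exact Over.w (c eG z ≫ u)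
    · refine Over.OverMorphism.ext ?_
      exact IsOpenImmersion.lift_fac i.left _ hr
  have hfin : (H : Set Z).Finite := by
    have hK : IsCompact (u.left ⁻¹' Set.range i.left) :=
      u.left.isClosedEmbedding.isCompact_preimage (isCompact_range i.left.continuous)
    obtain ⟨t, ht⟩ := hK.elim_finite_subcover (fun z : Z => Set.range (c eG z).left)
      (fun z => (c eG z).left.isOpenEmbedding.isOpen_range)
      (fun q _ => Set.mem_iUnion.2 (mem_range_c eG q))
    refine t.finite_toSet.subset fun z hz => ?_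
    obtain ⟨n, hn⟩ := hz
    let pt : ↥(Spec (CommRingCat.of k)) := IsLocalRing.closedPoint k
    have hpt : (c eG z).left pt ∈ u.left ⁻¹' Set.range i.left := by
      refine ⟨n.left pt, ?_⟩
      have := congrArg (fun φ : 𝟙_ _ ⟶ E => φ.left pt) hn
      exact this
    obtain ⟨w, hwt, y, hy⟩ := Set.mem_iUnion₂.1 (ht hpt)
    rw [c_injective eG z w pt y hy.symm]
    exact hwt
  have hH : ∀ z ∈ H, z = 1 := fun z hz => hZ z <| by
    haveI : Finite H := hfin.to_subtype
    exact Submonoid.isOfFinOrder_coe.2 (isOfFinOrder_of_finite (⟨z, hz⟩ : H))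
  -- `E₀ ⟶ P` is an isomorphism
  haveI hw : IsMonHom (i ≫ v) := inferInstance
  haveI : Mono (i ≫ v) := ⟨fun {T} x y h => by
    haveI : Mono i := Over.mono_of_mono_left i
    have h1 : ((x⁻¹ * y) ≫ i) ≫ v = 1 := by
      rw [Category.assoc, MonObj.mul_comp, GrpObj.inv_comp x (i ≫ v), h, inv_mul_cancel]
    obtain ⟨n, hn⟩ := hlift _ h1
    have hr : ∀ q : T.left, n.left q ∈ Set.range (c eG 1).left := by
      intro q
      obtain ⟨z, pt, hpt⟩ := mem_range_c eG (n.left q)
      have hzH : z ∈ H := by
        refine hmemH z pt ⟨(x⁻¹ * y).left q, ?_⟩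
        rw [hpt]
        exact (congrArg (fun φ : T ⟶ E => φ.left q) hn).symm
      rw [hH z hzH] at hpt
      exact ⟨pt, hpt⟩
    have hn1 : n = 1 := by
      have hr' : Set.range n.left ⊆ Set.range (c eG 1).left := by
        rintro _ ⟨q, rfl⟩
        exact hr q
      have h1 := IsOpenImmersion.lift_fac (c eG 1).left n.left hr'
      have h2 : n = toUnit T ≫ c eG 1 := by
        refine Over.OverMorphism.ext ?_
        change n.left = T.hom ≫ (c eG 1).left
        have h3 : IsOpenImmersion.lift (c eG 1).left n.left hr' = T.hom := by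
          have h4 := congrArg (· ≫ G.hom) h1
          simp only [Category.assoc, Over.w n] at h4
          rw [c_left_hom] at h4
          exact (Category.comp_id _).symm.trans h4
        rw [← h3, h1]
      rw [h2, c_one eG hG, MonObj.comp_one]
    have h5 : (x⁻¹ * y) ≫ i = 1 ≫ i := by rw [← hn, hn1, MonObj.one_comp, MonObj.one_comp]
    exact (inv_mul_eq_one.1 ((cancel_mono i).1 h5))⟩
  haveI : Etale (i ≫ v).left := by
    change Etale (i.left ≫ v.left)
    infer_instance
  haveI : Mono (i ≫ v).left :=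
    (inferInstance : Mono ((Over.forget (Spec (CommRingCat.of k))).map (i ≫ v)))
  haveI : IsOpenImmersion (i ≫ v).left := FEtLib.isOpenImmersion_of_etale_universallyInjective _
  haveI : Surjective (i ≫ v).left := ⟨fun q => by
    let pt : ↥(Spec (CommRingCat.of k)) := IsLocalRing.closedPoint k
    have h := SGA3cLib.connectedComponentIn_subset_range (i ≫ v) pt ((η[P]).left pt)
      ⟨(η[E₀]).left pt, congrArg (fun φ : 𝟙_ _ ⟶ P => φ.left pt) (IsMonHom.one_hom (i ≫ v))⟩
    have huniv : P.hom.base ⁻¹' {pt} = Set.univ :=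
      Set.eq_univ_of_forall fun y => Subsingleton.elim (α := ↥(Spec (CommRingCat.of k))) _ _
    refine h ?_
    rw [huniv, connectedComponentIn_univ, PreconnectedSpace.connectedComponent_eq_univ]
    trivial⟩
  haveI : IsIso (i ≫ v).left := (isIso_iff_isOpenImmersion_and_epi_base _).2
    ⟨inferInstance, (TopCat.epi_iff_surjective _).2 (i ≫ v).left.surjective⟩
  haveI : IsIso ((Over.forget (Spec (CommRingCat.of k))).map (i ≫ v)) := ‹IsIso (i ≫ v).left›
  haveI : IsIso (i ≫ v) := isIso_of_reflects_iso (i ≫ v) (Over.forget _)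
  let s : P ⟶ E := inv (i ≫ v) ≫ i
  have hsv : s ≫ v = 𝟙 P := by rw [Category.assoc, IsIso.inv_hom_id]
  haveI : IsMonHom (asIso (i ≫ v)).hom := hw
  haveI : IsMonHom (asIso (i ≫ v)).inv := inferInstance
  haveI hs : IsMonHom s := inferInstanceAs (IsMonHom ((asIso (i ≫ v)).inv ≫ i))
  refine ⟨fun φ hφ huφ hφv => ?_, s, hs, hsv⟩
  haveI := hφ
  obtain ⟨d, hd⟩ := hlift (φ.hom * (𝟙 E)⁻¹) (by
    rw [MonObj.mul_comp, GrpObj.inv_comp, hφv, Category.id_comp, mul_inv_cancel])
  have hsd : s ≫ d = 1 := by
    let pt : ↥(Spec (CommRingCat.of k)) := IsLocalRing.closedPoint k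
    refine eq_one_of_connected eG hG (s ≫ d) ((η[P]).left pt) ⟨pt, ?_⟩
    have h1 : η[P] ≫ s ≫ d = c eG 1 := by
      rw [← cancel_mono u, Category.assoc, Category.assoc, hd, MonObj.comp_mul, MonObj.comp_mul,
        GrpObj.comp_inv, GrpObj.comp_inv, Category.comp_id, ← Category.assoc η[P] s,
        IsMonHom.one_hom s, IsMonHom.one_hom φ.hom, mul_inv_cancel, c_one eG hG, MonObj.one_comp]
    exact (congrArg (fun ψ : 𝟙_ _ ⟶ G => ψ.left pt) h1).symm
  have hsφ : s ≫ φ.hom = s := by
    have h1 : (s ≫ φ.hom) * s⁻¹ = 1 := by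
      have h2 := congrArg (s ≫ ·) hd
      simp only [← Category.assoc] at h2
      rw [hsd, MonObj.one_comp, MonObj.comp_mul, GrpObj.comp_inv, Category.comp_id] at h2
      exact h2.symm
    exact mul_inv_eq_one.1 h1
  obtain ⟨n, hn⟩ := hlift (𝟙 E * (v ≫ s)⁻¹) (by
    rw [MonObj.mul_comp, GrpObj.inv_comp, Category.assoc, hsv, Category.comp_id, Category.id_comp,
      mul_inv_cancel])
  have hrφ : (𝟙 E * (v ≫ s)⁻¹) ≫ φ.hom = 𝟙 E * (v ≫ s)⁻¹ := by rw [← hn, Category.assoc, huφ]
  rw [MonObj.mul_comp, GrpObj.inv_comp, Category.id_comp, Category.assoc, hsφ] at hrφ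
  exact mul_right_cancel hrφ

end Groth.Agent.Et18.ConstExt
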