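import Groth.Prelude.Def_NonAbH2
import Mathlib.AlgebraicGeometry.Sites.Fpqc
import Mathlib.CategoryTheory.Monoidal.Cartesian.Grp

/-! Exact sequences of group schemes for the fppf topology: the kernel, translations, and descent along the
projection. -/

set_option autoImplicit false

universe u

open CategoryTheory CategoryTheory.Limits MonoidalCategory CartesianMonoidalCategory MonObj AlgebraicGeometry

namespace Groth.Agent.Et18.GroupExt

variable {S : Scheme.{u}}

/-- `f` generates an fppf covering sieve -/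
def Covers {W' W : Over S} (q : W' ⟶ W) : Prop :=
  Sieve.generate (Presieve.singleton q.left) ∈ Scheme.fppfTopology.{u} W.left

lemma covers_id (W : Over S) : Covers (𝟙 W) := by
  have : Sieve.generate (Presieve.singleton (𝟙 W : W ⟶ W).left) = ⊤ :=
    Sieve.id_mem_iff_eq_top.1 ⟨_, 𝟙 _, (𝟙 W : W ⟶ W).left, Presieve.singleton_self _, by simp⟩
  rw [Covers, this]
  exact GrothendieckTopology.top_mem _ _

lemma covers_of_isExactSeq {G E P : Over S} [GrpObj G] [GrpObj E] [GrpObj P] {u : G ⟶ E} {v : E ⟶ P}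
    (hex : NonAbH1.IsExactSeq Scheme.fppfPrecoverage u v) : Covers v := by
  obtain ⟨R, hR, hsec⟩ := hex.2.2.2.2
  refine Scheme.fppfTopology.superset_covering ?_
    (Precoverage.generate_mem_toGrothendieck hR)
  rintro Z h ⟨Z', g, f, hf, rfl⟩
  obtain ⟨s, hs⟩ := hsec f hf
  exact ⟨_, g ≫ s, v.left, Presieve.singleton_self _, by rw [Category.assoc]; exact congrArg (g ≫ ·) hs⟩

lemma Covers.tensor {V V' W W' : Over S} {v : V' ⟶ V} {w : W' ⟶ W} (hv : Covers v) (hw : Covers w) :
    Covers (v ⊗ₘ w) := by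
  refine Scheme.fppfTopology.superset_covering ?_ (Scheme.fppfTopology.intersection_covering
    (Scheme.fppfTopology.pullback_stable (fst V W).left hv) (Scheme.fppfTopology.pullback_stable (snd V W).left hw))
  rintro Z h ⟨⟨A, a, _, ⟨⟩, ha⟩, ⟨B, b, _, ⟨⟩, hb⟩⟩
  have hhom : a ≫ V'.hom = b ≫ W'.hom := by
    rw [← Over.w v, ← Over.w w, ← Category.assoc, ha, ← Category.assoc, hb, Category.assoc, Category.assoc,
      Over.w (fst V W), Over.w (snd V W)]
  let T : Over S := Over.mk (a ≫ V'.hom)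
  let a' : T ⟶ V' := Over.homMk a
  let b' : T ⟶ W' := Over.homMk b hhom.symm
  let h' : T ⟶ V ⊗ W := Over.homMk h (by
    change h ≫ (V ⊗ W).hom = a ≫ V'.hom
    rw [← Over.w (fst V W), ← Category.assoc, ← ha, Category.assoc, Over.w v])
  refine ⟨_, (lift a' b').left, (v ⊗ₘ w).left, Presieve.singleton_self _, ?_⟩
  have : lift a' b' ≫ (v ⊗ₘ w) = h' := by
    apply CartesianMonoidalCategory.hom_ext
    · rw [Category.assoc, tensorHom_fst, lift_fst_assoc]
      exact Over.OverMorphism.ext ha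
    · rw [Category.assoc, tensorHom_snd, lift_snd_assoc]
      exact Over.OverMorphism.ext hb
  exact congrArg CommaMorphism.left this

lemma isSheafFor {W' W : Over S} {q : W' ⟶ W} (hq : Covers q) (Z : Scheme.{u}) :
    (Presieve.singleton q.left).IsSheafFor (yoneda.obj Z) :=
  (GrothendieckTopology.Subcanonical.isSheaf_of_isRepresentable
    (J := Scheme.fppfTopology.{u}) (yoneda.obj Z)).isSheafFor _ hq

theorem Covers.cancel {W' W Z : Over S} {q : W' ⟶ W} (hq : Covers q) {d d' : W ⟶ Z} (h : q ≫ d = q ≫ d') :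
    d = d' := by
  refine Over.OverMorphism.ext ((isSheafFor hq Z.left).isSeparatedFor.ext fun A f hf => ?_)
  cases hf
  exact congrArg CommaMorphism.left h

theorem Covers.exists_desc {W' W Z : Over S} {q : W' ⟶ W} (hq : Covers q) (c : W' ⟶ Z)
    (hc : ∀ (T : Over S) (a b : T ⟶ W'), a ≫ q = b ≫ q → a ≫ c = b ≫ c) : ∃ d : W ⟶ Z, q ≫ d = c := by
  have hcomp : ∀ {A : Scheme.{u}} (g₁ g₂ : A ⟶ W'.left), g₁ ≫ q.left = g₂ ≫ q.left →
      g₁ ≫ c.left = g₂ ≫ c.left := by
    intro A g₁ g₂ h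
    let T : Over S := Over.mk (g₁ ≫ W'.hom)
    let a : T ⟶ W' := Over.homMk g₁
    let b : T ⟶ W' := Over.homMk g₂ (by
      change g₂ ≫ W'.hom = g₁ ≫ W'.hom
      rw [← Over.w q, ← Category.assoc, ← h, Category.assoc])
    exact congrArg CommaMorphism.left (hc T a b (Over.OverMorphism.ext h))
  obtain ⟨d, hd, -⟩ := (Presieve.isSheafFor_singleton.1 (isSheafFor hq Z.left)) c.left hcomp
  have hd' : q.left ≫ d = c.left := hd
  have hw : d ≫ Z.hom = W.hom := by
    refine (isSheafFor hq S).isSeparatedFor.ext fun A f hf => ?_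
    cases hf
    change q.left ≫ d ≫ Z.hom = q.left ≫ W.hom
    rw [← Category.assoc, hd', Over.w, Over.w]
  exact ⟨Over.homMk d hw, Over.OverMorphism.ext hd'⟩

section Exact

variable {G E P : Over S} [GrpObj G] [GrpObj E] [GrpObj P] {u : G ⟶ E} {v : E ⟶ P}
  (hex : NonAbH1.IsExactSeq Scheme.fppfPrecoverage u v)

include hex

lemma mul_comp_v {T : Over S} (x y : T ⟶ E) : (x * y) ≫ v = (x ≫ v) * (y ≫ v) := by
  haveI := hex.2.1
  exact MonObj.mul_comp x y v

lemma one_comp_v (T : Over S) : (1 : T ⟶ E) ≫ v = 1 := by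
  haveI := hex.2.1
  exact MonObj.one_comp v

lemma inv_comp_v {T : Over S} (x : T ⟶ E) : x⁻¹ ≫ v = (x ≫ v)⁻¹ := by
  haveI := hex.2.1
  exact GrpObj.inv_comp x v

lemma mul_comp_u {T : Over S} (x y : T ⟶ G) : (x * y) ≫ u = (x ≫ u) * (y ≫ u) := by
  haveI := hex.1
  exact MonObj.mul_comp x y u

lemma one_comp_u (T : Over S) : (1 : T ⟶ G) ≫ u = 1 := by
  haveI := hex.1
  exact MonObj.one_comp u

lemma u_comp_v {T : Over S} (g : T ⟶ G) : (g ≫ u) ≫ v = 1 := by
  rw [Category.assoc, hex.2.2.1, MonObj.comp_one]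

lemma comp_translate {T : Over S} (l : T ⟶ E ⊗ G) :
    l ≫ ((E ◁ u) ≫ μ[E]) = (l ≫ fst E G) * ((l ≫ snd E G) ≫ u) := by
  rw [Hom.mul_def, ← Category.assoc]
  congr 1
  apply CartesianMonoidalCategory.hom_ext <;> simp

/-- two points with the same image differ by a point of the kernel -/
theorem exists_translate {T : Over S} {x y : T ⟶ E} (h : x ≫ v = y ≫ v) :
    ∃ g : T ⟶ G, y = x * (g ≫ u) := by
  refine ⟨hex.2.2.2.1.lift x y h ≫ snd E G, ?_⟩
  conv_lhs => rw [← hex.2.2.2.1.lift_snd x y h]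
  rw [comp_translate hex, hex.2.2.2.1.lift_fst]

theorem exists_kernel {T : Over S} {x : T ⟶ E} (h : x ≫ v = 1) : ∃ g : T ⟶ G, g ≫ u = x := by
  obtain ⟨g, hg⟩ := exists_translate hex (x := (1 : T ⟶ E)) (y := x) ((one_comp_v hex T).trans h.symm)
  exact ⟨g, by rw [hg, _root_.one_mul]⟩

theorem kernel_unique {T : Over S} {g g' : T ⟶ G} (h : g ≫ u = g' ≫ u) : g = g' := by
  have : lift (1 : T ⟶ E) g = lift (1 : T ⟶ E) g' := by
    apply hex.2.2.2.1.hom_ext
    · rw [lift_fst, lift_fst]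
    · rw [comp_translate hex, comp_translate hex, lift_fst, lift_fst, lift_snd, lift_snd, h]
  simpa using congrArg (· ≫ snd E G) this

/-- conjugates of the kernel lie in the kernel -/
theorem exists_conj {T : Over S} (g : T ⟶ G) (y : T ⟶ E) :
    ∃ k : T ⟶ G, (g ≫ u) * y = y * (k ≫ u) :=
  exists_translate hex (by rw [mul_comp_v hex, u_comp_v hex, _root_.one_mul])

end Exact

end Groth.Agent.Et18.GroupExt
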