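import Groth.Prelude.Def_TwC
import Groth.Agent.Et18.GroupExt
import Mathlib.AlgebraicGeometry.ResidueField
import Mathlib.GroupTheory.OrderOfElement

/-! Homomorphisms from a quasi-compact group scheme over a field to a torsion-free constant group are trivial. -/

set_option autoImplicit false

universe u

open CategoryTheory CategoryTheory.Limits MonoidalCategory CartesianMonoidalCategory MonObj AlgebraicGeometry

namespace Groth.Agent.Et18.ConstGrp

variable {S : Scheme.{u}} {Z : Type u} [Group Z] {G : Over S} [GrpObj G]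
  (eG : G ≅ TwC.const S Z)

/-- The constant point of index `m`. -/
noncomputable def c (T : Over S) (m : Z) : T ⟶ G := toUnit T ≫ TwC.pt S Z m ≫ eG.inv

lemma c_mul (hG : TwC.IsConstGrp Z G eG) (T : Over S) (m n : Z) : c eG T m * c eG T n = c eG T (m * n) := by
  rw [c, c, c, ← MonObj.comp_mul, hG m n]

lemma c_one (hG : TwC.IsConstGrp Z G eG) (T : Over S) : c eG T (1 : Z) = 1 := by
  have h := c_mul eG hG T 1 1
  rw [_root_.mul_one] at h
  exact mul_eq_left.1 h

lemma c_apply (T : Over S) (m : Z) (t : T.left) :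
    (c eG T m ≫ eG.hom).left t ∈ Set.range (Sigma.ι (fun _ : Z => S) m) := by
  rw [c, Category.assoc, Category.assoc, Iso.inv_hom_id, Category.comp_id]
  exact ⟨(toUnit T).left t, rfl⟩

lemma index_unique {m n : Z} {y : (TwC.const S Z).left}
    (hm : y ∈ Set.range (Sigma.ι (fun _ : Z => S) m)) (hn : y ∈ Set.range (Sigma.ι (fun _ : Z => S) n)) :
    m = n := by
  obtain ⟨a, rfl⟩ := hm
  obtain ⟨b, hb⟩ := hn
  exact congrArg Sigma.fst ((sigmaι_eq_iff _ _ _ _ _).1 hb.symm)

theorem hom_eq_one {k : Type u} [Field k] {Z : Type u} [Group Z]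
    (hZ : ∀ z : Z, IsOfFinOrder z → z = 1)
    (P G : Over (Spec (CommRingCat.of k))) [GrpObj P] [GrpObj G] [CompactSpace ↥P.left]
    (eG : G ≅ TwC.const (Spec (CommRingCat.of k)) Z) (hG : TwC.IsConstGrp Z G eG)
    (h : P ⟶ G) [IsMonHom h] : h = 1 := by
  let U : Z → (TwC.const (Spec (CommRingCat.of k)) Z).left.Opens := fun m =>
    (Sigma.ι (fun _ : Z => Spec (CommRingCat.of k)) m).opensRange
  let f : P.left ⟶ (TwC.const (Spec (CommRingCat.of k)) Z).left := (h ≫ eG.hom).left
  have hcov : ∀ x : P.left, ∃ m, f x ∈ Set.range (Sigma.ι (fun _ : Z => Spec (CommRingCat.of k)) m) :=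
    fun x => ⟨_, (sigmaOpenCover (fun _ : Z => Spec (CommRingCat.of k))).covers (f x)⟩
  obtain ⟨F, hF⟩ := isCompact_univ.elim_finite_subcover (X := ↥P.left)
    (fun m : Z => (⇑f) ⁻¹' Set.range (Sigma.ι (fun _ : Z => Spec (CommRingCat.of k)) m))
    (fun m => (U m).2.preimage f.continuous) (fun x _ => Set.mem_iUnion.2 (hcov x))
  have key : ∀ (x : P.left) (m : Z),
      f x ∈ Set.range (Sigma.ι (fun _ : Z => Spec (CommRingCat.of k)) m) → m = 1 := by
    intro x m hm
    by_contra hne
    let T : Over (Spec (CommRingCat.of k)) := Over.mk (P.left.fromSpecResidueField x ≫ P.hom)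
    let a : T ⟶ P := Over.homMk (P.left.fromSpecResidueField x)
    let t : T.left := IsLocalRing.closedPoint (P.left.residueField x)
    have ha : (a ≫ h ≫ eG.hom).left t ∈
        Set.range (Sigma.ι (fun _ : Z => Spec (CommRingCat.of k)) m) := by
      rw [Over.comp_left, Scheme.Hom.comp_apply,
        show a.left t = x from Scheme.fromSpecResidueField_apply x t]
      exact hm
    -- the point of `T` is the constant point of index `m`
    have hconst : a ≫ h = c eG T m := by
      rw [← cancel_mono eG.hom]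
      apply Over.OverMorphism.ext
      let q : T.left ⟶ (TwC.const (Spec (CommRingCat.of k)) Z).left := ((a ≫ h) ≫ eG.hom).left
      have hq : Set.range q ⊆ Set.range (Sigma.ι (fun _ : Z => Spec (CommRingCat.of k)) m) := by
        rintro _ ⟨t', rfl⟩
        have : t' = t := Subsingleton.elim (α := Spec (P.left.residueField x)) t' t
        subst this
        simp only [q, Category.assoc]
        exact ha
      let l := IsOpenImmersion.lift (Sigma.ι (fun _ : Z => Spec (CommRingCat.of k)) m) q hq
      have hl : l ≫ Sigma.ι (fun _ : Z => Spec (CommRingCat.of k)) m = q := IsOpenImmersion.lift_fac _ _ _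
      have hlT : l = T.hom := by
        have := Over.w ((a ≫ h) ≫ eG.hom)
        rw [← this, show ((a ≫ h) ≫ eG.hom).left = q from rfl, ← hl, Category.assoc]
        simp
      show q = _
      rw [← hl, hlT, c]
      simp [TwC.pt]
    have hpow : ∀ n : ℕ, (a ^ n) ≫ h = c eG T (m ^ n) := by
      intro n
      induction n with
      | zero => rw [pow_zero, pow_zero, MonObj.one_comp, c_one eG hG]
      | succ n ih => rw [pow_succ, pow_succ, MonObj.mul_comp, ih, hconst, c_mul eG hG]
    have hmem : ∀ n : ℕ, m ^ n ∈ F := by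
      intro n
      have hy := c_apply eG T (m ^ n) t
      rw [← hpow n, Category.assoc, Over.comp_left, Scheme.Hom.comp_apply] at hy
      obtain ⟨i, hi, hyi⟩ := Set.mem_iUnion₂.1 (hF (Set.mem_univ ((a ^ n).left t)))
      exact index_unique hy hyi ▸ hi
    refine hne (hZ m ?_)
    by_contra hfin
    exact Set.infinite_of_injective_forall_mem (injective_pow_iff_not_isOfFinOrder.2 hfin) hmem
      F.finite_toSet
  rw [← cancel_mono eG.hom, ← c_one eG hG P]
  apply Over.OverMorphism.ext
  have hr : Set.range f ⊆ Set.range (Sigma.ι (fun _ : Z => Spec (CommRingCat.of k)) (1 : Z)) := by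
    rintro _ ⟨x, rfl⟩
    obtain ⟨m, hm⟩ := hcov x
    rwa [key x m hm] at hm
  let l := IsOpenImmersion.lift (Sigma.ι (fun _ : Z => Spec (CommRingCat.of k)) (1 : Z)) f hr
  have hl : l ≫ Sigma.ι (fun _ : Z => Spec (CommRingCat.of k)) (1 : Z) = f := IsOpenImmersion.lift_fac _ _ _
  have hlP : l = P.hom := by
    rw [← Over.w (h ≫ eG.hom), show (h ≫ eG.hom).left = f from rfl, ← hl, Category.assoc]
    simp
  show f = _
  rw [← hl, hlP, c]
  simp [TwC.pt]

end Groth.Agent.Et18.ConstGrp
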