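import Mathlib
import Groth.Agent.AlgSpLib.FiniteComps
import Groth.Agent.EGA43.PtIntegral.Main
import Groth.Agent.EGA43.PtIntegral.SmoothUnibranch
import Groth.Agent.GUCons8.Ring
import Groth.Agent.Props12.KerReduced

/-! Smooth schemes over an irreducible geometrically unibranch scheme are disjoint unions of
open irreducible components (no Noetherian or reducedness hypothesis). -/

set_option autoImplicit false
set_option backward.isDefEq.respectTransparency.types false
set_option linter.style.haveILetI false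

universe u

open CategoryTheory CategoryTheory.Limits AlgebraicGeometry TopologicalSpace
open Groth.Agent.FlatMorWeight (IsMaximalPt)

namespace Groth.Agent.Et18.UnibranchComps

lemma exists_reduction (S : Scheme.{u}) :
    ∃ (Z : Scheme.{u}) (i : Z ⟶ S), IsClosedImmersion i ∧ Surjective i ∧ IsReduced Z := by
  haveI := Props12.isReduced_subscheme_vanishingIdeal (Y := S) ⊤
  refine ⟨_, (Scheme.IdealSheafData.vanishingIdeal (⊤ : Closeds S)).subschemeι, inferInstance,
    ⟨Set.range_eq_univ.1 ?_⟩, inferInstance⟩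
  rw [Scheme.IdealSheafData.range_subschemeι, Scheme.IdealSheafData.vanishingIdeal_top,
    Scheme.support_nilradical]
  rfl

lemma ker_stalkMap_le {Z S : Scheme.{u}} (i : Z ⟶ S) [IsClosedImmersion i] [Surjective i] (z : Z) :
    RingHom.ker (i.stalkMap z).hom ≤ nilradical (S.presheaf.stalk (i z)) := by
  intro a ha
  obtain ⟨U, hzU, f, rfl⟩ := S.presheaf.exists_germ_eq a
  have h0 : Z.presheaf.germ (i ⁻¹ᵁ U) z hzU (i.app U f) = Z.presheaf.germ (i ⁻¹ᵁ U) z hzU 0 := by
    rw [map_zero, ← Scheme.Hom.germ_stalkMap_apply]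
    exact ha
  obtain ⟨W, hzW, j₁, j₂, hW⟩ := Z.presheaf.germ_eq z hzU hzU (i.app U f) 0 h0
  obtain ⟨W', hW'o, hW'⟩ := i.isClosedEmbedding.isInducing.isOpen_iff.1 W.isOpen
  have hzW' : i z ∈ W' := by
    have h : z ∈ i ⁻¹' W' := by rw [hW']; exact hzW
    exact h
  obtain ⟨_, ⟨V, hV, rfl⟩, hzV, hVsub⟩ := S.isBasis_affineOpens.exists_subset_of_mem_open
    (show i z ∈ (U : Set S) ∩ W' from ⟨hzU, hzW'⟩) (U.isOpen.inter hW'o)
  have hVU : V ≤ U := fun x hx => (hVsub hx).1
  let g : Γ(S, V) := S.presheaf.map (homOfLE hVU).op f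
  have hg : IsNilpotent g := by
    rw [Scheme.isNilpotent_iff_basicOpen_eq_bot_of_isCompact hV.isCompact, eq_bot_iff]
    intro s hs
    obtain ⟨y, rfl⟩ := i.surjective s
    exfalso
    have hy : y ∈ i ⁻¹ᵁ S.basicOpen g := hs
    rw [Scheme.preimage_basicOpen] at hy
    have hle : i ⁻¹ᵁ V ≤ W := fun x hx => by
      have h : x ∈ i ⁻¹' W' := (hVsub hx).2
      rw [hW'] at h
      exact h
    have h2 : i.app V g = 0 := by
      change (S.presheaf.map (homOfLE hVU).op ≫ i.app V) f = 0
      rw [i.naturality]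
      change Z.presheaf.map _ (i.app U f) = 0
      have h3 : (homOfLE (show i ⁻¹ᵁ V ≤ i ⁻¹ᵁ U from fun x hx => hVU hx)).op =
          j₁.op ≫ (homOfLE hle).op := Subsingleton.elim _ _
      calc Z.presheaf.map ((Opens.map i.base).op.map (homOfLE hVU).op) (i.app U f)
          = Z.presheaf.map (j₁.op ≫ (homOfLE hle).op) (i.app U f) := by congr 2
        _ = Z.presheaf.map (homOfLE hle).op (Z.presheaf.map j₁.op (i.app U f)) := by
              rw [Functor.map_comp]; rfl
        _ = 0 := by rw [hW, map_zero, map_zero]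
    rw [h2, Scheme.basicOpen_zero] at hy
    exact hy
  rw [mem_nilradical]
  rw [← TopCat.Presheaf.germ_res_apply S.presheaf (homOfLE hVU) (i z) hzV f]
  exact hg.map _

variable {S : Scheme.{u}} [IrreducibleSpace S]
  (hS : ∀ s : S, CAlg2.IsGeomUnibranch (S.presheaf.stalk s))
  {X : Scheme.{u}} (h : X ⟶ S) [Smooth h]

include hS h in
/-- Exactly one maximal point generises a given point. -/
theorem existsUnique_maximal (x : X) : ∃! η : X, IsMaximalPt η ∧ η ⤳ x := by
  obtain ⟨Z, i, _, _, _⟩ := exists_reduction S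
  let a := pullback.fst h i
  let h' := pullback.snd h i
  haveI : Smooth h' := MorphismProperty.pullback_snd _ _ ‹Smooth h›
  haveI : IsClosedImmersion a := MorphismProperty.pullback_fst _ _ ‹IsClosedImmersion i›
  haveI : Surjective a := MorphismProperty.pullback_fst _ _ ‹Surjective i›
  obtain ⟨w, rfl⟩ := a.surjective x
  have hsurj : Function.Surjective (i.stalkMap (h' w)).hom := i.stalkMap_surjective (h' w)
  haveI : _root_.IsReduced (Z.presheaf.stalk (h' w)) := inferInstance
  have hgu := (GUCons8.isGeomUnibranch_iff_of_surjective (i.stalkMap (h' w)).hom hsurj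
    (ker_stalkMap_le i (h' w))).1 (hS (i (h' w)))
  have hdom : IsDomain (Z.presheaf.stalk (h' w)) := by
    haveI : IsDomain (CAlg2.red (Z.presheaf.stalk (h' w))) := hgu.1.1
    refine Function.Injective.isDomain (Ideal.Quotient.mk (nilradical (Z.presheaf.stalk (h' w)))) ?_
    rw [RingHom.injective_iff_ker_eq_bot, Ideal.mk_ker]
    exact nilradical_eq_zero _
  have hw := (EGA43.PtIntegral.isDomain_and_isGeomUnibranch_stalk_of_smooth h' w hdom hgu).1
  obtain ⟨η, ⟨hη, hηw⟩, huniq⟩ := EGA43.PtIntegral.existsUnique_maximalPt w hw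
  refine ⟨a η, ⟨fun z hz => ?_, hηw.map a.continuous⟩, ?_⟩
  · obtain ⟨z', rfl⟩ := a.surjective z
    rw [hη z' (a.isEmbedding.isInducing.specializes_iff.1 hz)]
  · rintro z ⟨hzmax, hz⟩
    obtain ⟨z', rfl⟩ := a.surjective z
    refine congrArg a (huniq z' ⟨fun t ht => ?_, a.isEmbedding.isInducing.specializes_iff.1 hz⟩)
    exact a.isEmbedding.injective (hzmax _ (ht.map a.continuous))

include hS in
lemma eq_of_maximal {η η' x : X} (h₁ : IsMaximalPt η) (h₂ : η ⤳ x) (h₁' : IsMaximalPt η')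
    (h₂' : η' ⤳ x) (h : X ⟶ S) [Smooth h] : η = η' :=
  (existsUnique_maximal hS h x).unique ⟨h₁, h₂⟩ ⟨h₁', h₂'⟩

include hS h in
/-- The irreducible component of a maximal point is open. -/
theorem isOpen_component (η : X) (hη : IsMaximalPt η) : IsOpen {x : X | η ⤳ x} := by
  have hfin : AlgSpLib.FinMax X := by
    refine AlgSpLib.finMax_of_flat h fun W _ => (Set.Subsingleton.finite ?_)
    intro a ha b hb
    rw [← ha.2 _ (genericPoint_specializes a), ← hb.2 _ (genericPoint_specializes b)]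
  rw [isOpen_iff_forall_mem_open]
  intro x hx
  obtain ⟨_, ⟨A, hA, rfl⟩, hxA, -⟩ :=
    X.isBasis_affineOpens.exists_subset_of_mem_open (Set.mem_univ x) isOpen_univ
  let F : Set X := ⋃ ξ ∈ {ξ ∈ (A : Set X) ∩ AlgSpLib.maxPts X | ξ ≠ η}, closure {ξ}
  have hF : IsClosed F := Set.Finite.isClosed_biUnion
    ((hfin A hA.isCompact).subset fun ξ hξ => hξ.1) fun ξ _ => isClosed_closure
  refine ⟨(A : Set X) \ F, ?_, A.isOpen.sdiff hF, hxA, ?_⟩
  · rintro y ⟨hyA, hyF⟩
    obtain ⟨ξ, ⟨hξ, hξy⟩, -⟩ := existsUnique_maximal hS h y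
    by_contra hne
    refine hyF (Set.mem_iUnion₂.2 ⟨ξ, ⟨⟨hξy.mem_open A.isOpen hyA, hξ⟩, ?_⟩, hξy.mem_closure⟩)
    rintro rfl
    exact hne hξy
  · intro hxF
    obtain ⟨ξ, ⟨⟨-, hξ⟩, hne⟩, hξx⟩ := Set.mem_iUnion₂.1 hxF
    exact hne (eq_of_maximal hS hξ (specializes_iff_mem_closure.2 hξx) hη hx h)

end Groth.Agent.Et18.UnibranchComps
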