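import Groth.Agent.Et18.ConstTorsor
import Groth.Agent.Et18.UnibranchComps
import Groth.Agent.SGA3cLib.EtaleTriv

/-! Maps to constant schemes from smooth schemes over irreducible geometrically unibranch schemes
are determined by, and extend from, the generic fibre. -/

set_option autoImplicit false
set_option backward.isDefEq.respectTransparency.types false
set_option linter.style.haveILetI false

universe u

open CategoryTheory CategoryTheory.Limits MonoidalCategory CartesianMonoidalCategory MonObj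
open AlgebraicGeometry TopologicalSpace
open Groth.Agent.FlatMorWeight (IsMaximalPt)

namespace Groth.Agent.Et18.ConstMaps

open ConstTorsor

variable {S : Scheme.{u}} {Z : Type u} [Group Z] {G : Over S} [GrpObj G] (eG : G ≅ TwC.const S Z)

/-- The index of a point. -/
noncomputable def idx {W : Scheme.{u}} (g : W ⟶ G.left) (t : W) : Z := (mem_range_c eG (g t)).choose

lemma mem_idx {W : Scheme.{u}} (g : W ⟶ G.left) (t : W) :
    g t ∈ Set.range (c eG (idx eG g t)).left := (mem_range_c eG (g t)).choose_spec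

lemma idx_eq {W : Scheme.{u}} (g : W ⟶ G.left) (t : W) (z : Z)
    (h : g t ∈ Set.range (c eG z).left) : idx eG g t = z := by
  obtain ⟨y, hy⟩ := h
  obtain ⟨y', hy'⟩ := mem_idx eG g t
  exact c_injective eG _ _ y' y (hy'.trans hy.symm)

lemma idx_comp {W W' : Scheme.{u}} (a : W' ⟶ W) (g : W ⟶ G.left) (t : W') :
    idx eG (a ≫ g) t = idx eG g (a t) := idx_eq eG _ _ _ (mem_idx eG g (a t))

lemma isOpen_idx {W : Scheme.{u}} (g : W ⟶ G.left) (z : Z) : IsOpen {t | idx eG g t = z} := by
  have h : {t | idx eG g t = z} = g ⁻¹' Set.range (c eG z).left := by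
    ext t
    exact ⟨fun h => h ▸ mem_idx eG g t, fun h => idx_eq eG g t z h⟩
  rw [h]
  exact (c eG z).left.isOpenEmbedding.isOpen_range.preimage g.continuous

lemma idx_specializes {W : Scheme.{u}} (g : W ⟶ G.left) {t t' : W} (h : t ⤳ t') :
    idx eG g t = idx eG g t' :=
  h.mem_open (isOpen_idx eG g (idx eG g t')) rfl

lemma hom_ext_idx {W : Scheme.{u}} (g g' : W ⟶ G.left) (hw : g ≫ G.hom = g' ≫ G.hom)
    (h : ∀ t, idx eG g t = idx eG g' t) : g = g' := by
  refine (W.openCoverOfIsOpenCover (fun z => (⟨_, isOpen_idx eG g z⟩ : W.Opens))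
    (TopologicalSpace.IsOpenCover.mk (top_le_iff.1 fun t _ => TopologicalSpace.Opens.mem_iSup.2 ⟨idx eG g t, rfl⟩))).hom_ext _ _ ?_
  intro (z : Z)
  change Scheme.Opens.ι (⟨_, isOpen_idx eG g z⟩ : W.Opens) ≫ g = Scheme.Opens.ι (⟨_, isOpen_idx eG g z⟩ : W.Opens) ≫ g'
  obtain ⟨U, hU⟩ : ∃ U : W.Opens, (⟨_, isOpen_idx eG g z⟩ : W.Opens) = U := ⟨_, rfl⟩
  rw [hU]
  have key : ∀ k : W ⟶ G.left, (∀ t, idx eG k t = idx eG g t) → U.ι ≫ k = U.ι ≫ k ≫ G.hom ≫ (c eG z).left := by
    intro k hk
    have hr : Set.range (U.ι ≫ k) ⊆ Set.range (c eG z).left := by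
      rintro _ ⟨t, rfl⟩
      have ht : idx eG g (U.ι t) = z := by
        have := t.2
        subst hU
        exact this
      have := mem_idx eG k (U.ι t)
      rw [hk, ht] at this
      exact this
    have h1 := IsOpenImmersion.lift_fac (c eG z).left (U.ι ≫ k) hr
    have h2 : IsOpenImmersion.lift (c eG z).left (U.ι ≫ k) hr = U.ι ≫ k ≫ G.hom := by
      have h4 := congrArg (· ≫ G.hom) h1
      simp only [Category.assoc] at h4
      rw [c_left_hom] at h4
      exact (Category.comp_id _).symm.trans h4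
    rw [h2] at h1
    simp only [Category.assoc] at h1
    exact h1.symm
  rw [key g fun _ => rfl, key g' fun t => (h t).symm, reassoc_of% hw]

/-- A locally constant function gives a map. -/
lemma exists_hom {W : Scheme.{u}} (w : W ⟶ S) (L : W → Z) (hL : ∀ z, IsOpen {t | L t = z}) :
    ∃ g : W ⟶ G.left, g ≫ G.hom = w ∧ ∀ t, idx eG g t = L t := by
  let U : Z → W.Opens := fun z => ⟨_, hL z⟩
  have hU : TopologicalSpace.IsOpenCover U :=
    TopologicalSpace.IsOpenCover.mk (top_le_iff.1 fun t _ => TopologicalSpace.Opens.mem_iSup.2 ⟨L t, rfl⟩)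
  let 𝒰 := W.openCoverOfIsOpenCover U hU
  let f : ∀ z : Z, (U z : Scheme.{u}) ⟶ G.left := fun z => (U z).ι ≫ w ≫ (c eG z).left
  have hf : ∀ z z' : Z, pullback.fst (U z).ι (U z').ι ≫ f z = pullback.snd (U z).ι (U z').ι ≫ f z' := by
    intro z z'
    by_cases hzz : z = z'
    · subst hzz
      simp only [f, ← Category.assoc, pullback.condition]
    · haveI : IsEmpty ↥(pullback (U z).ι (U z').ι) := ⟨fun p => by
        have h1 : L ((U z).ι (pullback.fst (U z).ι (U z').ι p)) = z := (pullback.fst (U z).ι (U z').ι p).2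
        have h2 : L ((U z').ι (pullback.snd (U z).ι (U z').ι p)) = z' := (pullback.snd (U z).ι (U z').ι p).2
        rw [← Scheme.Hom.comp_apply, pullback.condition, Scheme.Hom.comp_apply, h2] at h1
        exact hzz h1.symm⟩
      exact (isInitialOfIsEmpty (X := pullback (U z).ι (U z').ι)).hom_ext _ _
  let g := 𝒰.glueMorphisms f hf
  have hg : ∀ z, (U z).ι ≫ g = f z := fun z => 𝒰.ι_glueMorphisms f hf z
  refine ⟨g, 𝒰.hom_ext _ _ fun (z : Z) => ?_, fun t => ?_⟩
  · change (U z).ι ≫ g ≫ G.hom = (U z).ι ≫ w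
    rw [reassoc_of% hg z]
    simp [f, c_left_hom]
  · refine idx_eq eG g t _ ?_
    have h1 := congrArg (fun φ : (U (L t) : Scheme.{u}) ⟶ G.left => φ ⟨t, rfl⟩) (hg (L t))
    exact ⟨w t, h1.symm⟩

section

variable [IrreducibleSpace S] (hS : ∀ s : S, CAlg2.IsGeomUnibranch (S.presheaf.stalk s))
  {ξ : S} (hξ : IsGenericPoint ξ (Set.univ : Set S))

include eG hS hξ in
/-- Maps to a constant scheme from a smooth scheme extend uniquely from the generic fibre. -/
theorem bijective_map (X : Over S) [Smooth X.hom] :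
    Function.Bijective (fun f : X ⟶ G => (Over.pullback (S.fromSpecResidueField ξ)).map f) := by
  let i := S.fromSpecResidueField ξ
  let p := pullback.fst X.hom i
  let q := pullback.fst G.hom i
  have hrange : Set.range p = X.hom.base ⁻¹' {ξ} := by
    rw [Scheme.Pullback.range_fst, S.range_fromSpecResidueField]
  -- maximal points lie over the generic point
  have hgen : ∀ x : X.left, ∃ w, X.hom w = ξ ∧ w ⤳ x := by
    intro x
    obtain ⟨w, hw, hwξ⟩ := Flat.generalizingMap X.hom (show ξ ⤳ X.hom x from hξ.specializes trivial)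
    exact ⟨w, hwξ, hw⟩
  have hmap : ∀ f : X ⟶ G, ((Over.pullback i).map f).left ≫ q = p ≫ f.left := fun f =>
    pullback.lift_fst _ _ _
  refine ⟨fun f f' h => ?_, fun a => ?_⟩
  · refine Over.OverMorphism.ext (hom_ext_idx eG _ _ ((Over.w f).trans (Over.w f').symm) fun x => ?_)
    obtain ⟨w, hw, hwx⟩ := hgen x
    obtain ⟨y, rfl⟩ : w ∈ Set.range p := by rw [hrange]; exact hw
    rw [← idx_specializes eG f.left hwx, ← idx_specializes eG f'.left hwx, ← idx_comp, ← idx_comp,
      ← hmap, ← hmap]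
    exact congrArg (fun ψ : (Over.pullback i).obj X ⟶ (Over.pullback i).obj G => idx eG (ψ.left ≫ q) y) h
  · have hζ : ∀ x : X.left, ∃ y, IsMaximalPt (p y) ∧ p y ⤳ x := by
      intro x
      obtain ⟨η₀, ⟨hη, hηx⟩, -⟩ := UnibranchComps.existsUnique_maximal hS X.hom x
      obtain ⟨w, hw, hwη⟩ := hgen η₀
      obtain ⟨y, rfl⟩ : w ∈ Set.range p := by rw [hrange]; exact hw
      exact ⟨y, fun z hz => (hη _ (hz.trans hwη)).trans (hη _ hwη).symm, hwη.trans hηx⟩
    choose ζ hζmax hζx using hζ
    let d : pullback X.hom i ⟶ G.left := a.left ≫ q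
    obtain ⟨g, hg, hgidx⟩ := exists_hom eG X.hom (fun x => idx eG d (ζ x)) fun z => by
      rw [isOpen_iff_forall_mem_open]
      intro x hx
      refine ⟨{y | p (ζ x) ⤳ y}, fun y hy => ?_, UnibranchComps.isOpen_component hS X.hom _ (hζmax x), hζx x⟩
      have h1 : p (ζ y) = p (ζ x) :=
        UnibranchComps.eq_of_maximal hS (hζmax y) (hζx y) (hζmax x) hy X.hom
      have h2 : ζ y = ζ x := p.isEmbedding.injective h1
      change idx eG d (ζ y) = z
      rw [h2]
      exact hx
    refine ⟨Over.homMk g hg, Over.OverMorphism.ext (pullback.hom_ext ?_ ?_)⟩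
    · refine (hmap (Over.homMk g hg)).trans ?_
      change p ≫ g = d
      refine hom_ext_idx eG _ _ ?_ fun y => ?_
      · rw [Category.assoc, hg]
        change pullback.fst X.hom i ≫ X.hom = (a.left ≫ pullback.fst G.hom i) ≫ G.hom
        rw [Category.assoc, pullback.condition, pullback.condition, ← Category.assoc]
        exact congrArg (· ≫ i) (Over.w a).symm
      · rw [idx_comp, hgidx]
        exact idx_specializes eG d (p.isEmbedding.isInducing.specializes_iff.1 (hζx (p y)))
    · exact (Over.w ((Over.pullback i).map (Over.homMk g hg))).trans (Over.w a).symm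

end

include eG in
/-- Base change of a constant group. -/
theorem exists_isConstGrp_bc (hG : TwC.IsConstGrp Z G eG) {B : Scheme.{u}} (g : B ⟶ S) :
    ∃ e : Red.bc g G ≅ TwC.const B Z, TwC.IsConstGrp Z (Red.bc g G) e := by
  have hpb := SGA3cLib.EtaleTriv.isPullback_const g Z
  let i₀ := (IsPullback.of_hasPullback (TwC.const S Z).hom g).isoIsPullback _ _ hpb
  let i₁ : Red.bc g (TwC.const S Z) ≅ TwC.const B Z :=
    Over.isoMk i₀ ((IsPullback.of_hasPullback (TwC.const S Z).hom g).isoIsPullback_hom_snd _ _ hpb)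
  let e := (Over.pullback g).mapIso eG ≪≫ i₁
  have hpt : ∀ z, TwC.pt B Z z ≫ i₁.inv =
      Functor.LaxMonoidal.ε (Over.pullback g) ≫ (Over.pullback g).map (TwC.pt S Z z) := by
    intro z
    refine Over.OverMorphism.ext (pullback.hom_ext ?_ ?_)
    · change (Sigma.ι (fun _ : Z => B) z ≫ i₀.inv) ≫ pullback.fst (TwC.const S Z).hom g = _
      rw [Category.assoc, IsPullback.isoIsPullback_inv_fst, Sigma.ι_desc]
      simp only [Over.comp_left, Category.assoc]
      erw [pullback.lift_fst]
      rw [← Category.assoc]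
      congr 1
      simp
    · exact (Over.w (TwC.pt B Z z ≫ i₁.inv)).trans
        (Over.w (Functor.LaxMonoidal.ε (Over.pullback g) ≫ (Over.pullback g).map (TwC.pt S Z z))).symm
  have hc : ∀ z, TwC.pt B Z z ≫ e.inv =
      Functor.LaxMonoidal.ε (Over.pullback g) ≫ (Over.pullback g).map (c eG z) := by
    intro z
    change TwC.pt B Z z ≫ i₁.inv ≫ (Over.pullback g).map eG.inv = _
    rw [← Category.assoc, hpt, Category.assoc, ← Functor.map_comp]
    rfl
  refine ⟨e, fun m n => ?_⟩
  rw [hc, hc, hc, ← MonObj.comp_mul, ← Functor.map_mul]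
  exact congrArg (fun x => Functor.LaxMonoidal.ε (Over.pullback g) ≫ (Over.pullback g).map x) (hG m n)

end Groth.Agent.Et18.ConstMaps
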