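import Mathlib
import Groth.Prelude.Def_NonAbH2
import Groth.Prelude.Def_TwC
import Groth.Agent.EGA43.SectionComp.FPTransfer
import Groth.Agent.AbSchLib.SmoothReduced
import Groth.Agent.FEtLib.EqLocus

/-! Torsors under constant groups over a smooth morphism with connected fibres and a section. -/

set_option autoImplicit false
set_option backward.isDefEq.respectTransparency.types false
set_option linter.style.haveILetI false

universe u

open CategoryTheory CategoryTheory.Limits MonoidalCategory CartesianMonoidalCategory MonObj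
open AlgebraicGeometry TopologicalSpace

namespace Groth.Agent.Et18.ConstTorsor

noncomputable section

variable {P : Scheme.{u}} {Z : Type u} [Group Z] {G : Over P} [GrpObj G]
  (eG : G ≅ TwC.const P Z) {X : Over P} (a : AlgGrp.Action G X)

/-- The constant point. -/
def c (z : Z) : 𝟙_ (Over P) ⟶ G := TwC.pt P Z z ≫ eG.inv

lemma c_left_hom (z : Z) : (c eG z).left ≫ G.hom = 𝟙 P := Over.w (c eG z)

instance isOpenImmersion_c (z : Z) : IsOpenImmersion (c eG z).left := by
  haveI : IsIso eG.inv.left := ((Over.forget P).mapIso eG).isIso_inv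
  change IsOpenImmersion (Sigma.ι (fun _ : Z => P) z ≫ eG.inv.left)
  infer_instance

lemma mem_range_c (q : G.left) : ∃ z, q ∈ Set.range (c eG z).left := by
  have h := Scheme.IsLocallyDirected.ι_jointly_surjective _ (eG.hom.left q)
  obtain ⟨⟨z⟩, y, hy⟩ := h
  refine ⟨z, y, ?_⟩
  change eG.inv.left (Sigma.ι (fun _ : Z => P) z y) = q
  rw [show Sigma.ι (fun _ : Z => P) z y = eG.hom.left q from hy, ← Scheme.Hom.comp_apply,
    ← Over.comp_left, Iso.hom_inv_id]
  rfl

lemma c_injective (z w : Z) (y y' : P) (h : (c eG z).left y = (c eG w).left y') : z = w := by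
  have h' := congrArg eG.hom.left h
  change eG.hom.left (eG.inv.left (Sigma.ι (fun _ : Z => P) z y)) =
    eG.hom.left (eG.inv.left (Sigma.ι (fun _ : Z => P) w y')) at h'
  rw [← Scheme.Hom.comp_apply eG.inv.left eG.hom.left,
    ← Scheme.Hom.comp_apply eG.inv.left eG.hom.left, ← Over.comp_left, Iso.inv_hom_id] at h'
  have h2 : (Sigma.mk z y : Σ _ : Z, P) = Sigma.mk w y' :=
    (sigmaι_eq_iff (fun _ : Z => P) z w y y').1 h'
  exact congrArg Sigma.fst h2

include eG in
lemma etale_const : Etale G.hom := by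
  haveI : IsIso eG.hom.left := ((Over.forget P).mapIso eG).isIso_hom
  haveI : Etale (Sigma.desc fun _ : Z => 𝟙 P) :=
    IsZariskiLocalAtSource.sigmaDesc (P := @Etale) fun _ => inferInstance
  rw [← Over.w eG.hom]
  exact MorphismProperty.comp_mem _ _ _ inferInstance ‹_›

/-- Component of index `z` of `G × X`. -/
def j (z : Z) : X.left ⟶ pullback G.hom X.hom :=
  pullback.lift (X.hom ≫ (c eG z).left) (𝟙 _) (by simp [c_left_hom])

@[reassoc (attr := simp)] lemma j_snd (z : Z) : j eG (X := X) z ≫ pullback.snd _ _ = 𝟙 _ :=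
  pullback.lift_snd _ _ _

@[reassoc (attr := simp)] lemma j_fst (z : Z) :
    j eG (X := X) z ≫ pullback.fst _ _ = X.hom ≫ (c eG z).left :=
  pullback.lift_fst _ _ _

lemma isPullback_j (z : Z) :
    IsPullback (j eG (X := X) z) X.hom (pullback.fst G.hom X.hom) (c eG z).left := by
  refine (IsPullback.of_right (t := (IsPullback.of_hasPullback G.hom X.hom).flip) ?_ ?_).flip.flip
  · rw [j_snd]
    have h : IsPullback (𝟙 X.left) X.hom X.hom (𝟙 P) := IsPullback.of_horiz_isIso ⟨by simp⟩
    simpa [c_left_hom] using h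
  · exact j_fst eG z

instance isOpenImmersion_j (z : Z) : IsOpenImmersion (j eG (X := X) z) :=
  MorphismProperty.of_isPullback (P := @IsOpenImmersion) (isPullback_j eG z).flip inferInstance

lemma mem_range_j (w : ↥(pullback G.hom X.hom)) : ∃ z, w ∈ Set.range (j eG (X := X) z) := by
  obtain ⟨z, y, hy⟩ := mem_range_c eG (pullback.fst G.hom X.hom w)
  refine ⟨z, ?_⟩
  obtain ⟨x, hx, -⟩ := Scheme.exists_preimage_of_isPullback (isPullback_j eG (X := X) z) w y hy.symm
  exact ⟨x, hx⟩

lemma j_injective (z z' : Z) (x x' : X.left) (h : j eG z x = j eG z' x') : z = z' := by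
  refine c_injective eG z z' (X.hom x) (X.hom x') ?_
  rw [← Scheme.Hom.comp_apply, ← Scheme.Hom.comp_apply, ← j_fst, ← j_fst, Scheme.Hom.comp_apply,
    Scheme.Hom.comp_apply, h]

lemma act_hom : a.act.left ≫ X.hom = pullback.snd G.hom X.hom ≫ X.hom := by
  rw [← pullback.condition]
  exact Over.w a.act

/-- Translation by the constant `z`. -/
def τ (z : Z) : X.left ⟶ X.left := j eG z ≫ a.act.left

@[reassoc (attr := simp)] lemma τ_hom (z : Z) : τ eG a z ≫ X.hom = X.hom := by
  change (j eG z ≫ a.act.left) ≫ X.hom = X.hom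
  rw [Category.assoc, act_hom, j_snd_assoc]

/-- `(g, x) ↦ (g x, x)`. -/
def θ : pullback G.hom X.hom ⟶ pullback X.hom X.hom :=
  pullback.lift a.act.left (pullback.snd G.hom X.hom) (act_hom a)

@[reassoc] lemma j_θ_fst (z : Z) : j eG z ≫ θ a ≫ pullback.fst _ _ = τ eG a z := by
  rw [θ, pullback.lift_fst]
  rfl

@[reassoc] lemma j_θ_snd (z : Z) : j eG z ≫ θ a ≫ pullback.snd _ _ = 𝟙 _ := by
  rw [θ, pullback.lift_snd, j_snd]

lemma isIso_θ (hps : NonAbH1.IsPseudoTorsorSch a) : IsIso (θ a) := by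
  haveI : IsIso (lift a.act (snd G X)) := hps
  have h : θ a = (lift a.act (snd G X)).left := by
    refine pullback.hom_ext ?_ ?_
    · rw [θ, pullback.lift_fst]
      exact (congrArg CommaMorphism.left (lift_fst a.act (snd G X))).symm
    · rw [θ, pullback.lift_snd]
      exact (congrArg CommaMorphism.left (lift_snd a.act (snd G X))).symm
  rw [h]
  exact ((Over.forget P).mapIso (asIso (lift a.act (snd G X)))).isIso_hom

variable [hθ : IsIso (θ a)]

section Pair

variable {T : Scheme.{u}} (f g : T ⟶ X.left) (hfg : f ≫ X.hom = g ≫ X.hom)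

/-- The locus where `f` is the translate of `g` by `z`. -/
def locus (z : Z) : T.Opens :=
  (pullback.lift f g hfg ≫ inv (θ a)) ⁻¹ᵁ (j eG z).opensRange

lemma exists_mem_locus (t : T) : ∃ z, t ∈ locus eG a f g hfg z :=
  mem_range_j eG _

lemma locus_disjoint {z z' : Z} {t : T} (h : t ∈ locus eG a f g hfg z)
    (h' : t ∈ locus eG a f g hfg z') : z = z' := by
  obtain ⟨x, hx⟩ := h
  obtain ⟨x', hx'⟩ := h'
  exact j_injective eG z z' x x' (hx.trans hx'.symm)

lemma isClopen_locus (z : Z) : IsClopen (locus eG a f g hfg z : Set T) := by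
  refine ⟨⟨?_⟩, (locus eG a f g hfg z).isOpen⟩
  have : (locus eG a f g hfg z : Set T)ᶜ = ⋃ w ∈ {w : Z | w ≠ z}, (locus eG a f g hfg w : Set T) := by
    ext t
    simp only [Set.mem_compl_iff, SetLike.mem_coe, Set.mem_iUnion, Set.mem_setOf_eq, exists_prop]
    constructor
    · intro ht
      obtain ⟨w, hw⟩ := exists_mem_locus eG a f g hfg t
      exact ⟨w, fun e => ht (e ▸ hw), hw⟩
    · rintro ⟨w, hwz, hw⟩ ht
      exact hwz (locus_disjoint eG a f g hfg hw ht)
  rw [this]
  exact isOpen_biUnion fun w _ => (locus eG a f g hfg w).isOpen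

lemma locus_eq (z : Z) :
    (locus eG a f g hfg z).ι ≫ f = (locus eG a f g hfg z).ι ≫ g ≫ τ eG a z := by
  let v := (locus eG a f g hfg z).ι ≫ pullback.lift f g hfg ≫ inv (θ a)
  have hv : Set.range v ⊆ Set.range (j eG (X := X) z) := by
    rintro _ ⟨t, rfl⟩
    exact t.2
  have h1 := IsOpenImmersion.lift_fac (j eG (X := X) z) v hv
  have h2 : (IsOpenImmersion.lift (j eG (X := X) z) v hv ≫ j eG z) ≫ θ a =
      (locus eG a f g hfg z).ι ≫ pullback.lift f g hfg := by
    rw [h1]
    simp [v]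
  have hf := congrArg (· ≫ pullback.fst X.hom X.hom) h2
  have hg := congrArg (· ≫ pullback.snd X.hom X.hom) h2
  simp only [Category.assoc, pullback.lift_fst, pullback.lift_snd, j_θ_fst, j_θ_snd,
    Category.comp_id] at hf hg
  rw [← hf, reassoc_of% hg]

lemma le_locus (U : T.Opens) (z : Z) (h : U.ι ≫ f = U.ι ≫ g ≫ τ eG a z) :
    U ≤ locus eG a f g hfg z := by
  intro t ht
  have h2 : U.ι ≫ pullback.lift f g hfg ≫ inv (θ a) = U.ι ≫ g ≫ j eG z := by
    rw [← cancel_mono (θ a)]
    simp only [Category.assoc, IsIso.inv_hom_id, Category.comp_id]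
    refine pullback.hom_ext ?_ ?_
    · simp only [Category.assoc, pullback.lift_fst, j_θ_fst, h]
    · simp only [Category.assoc, pullback.lift_snd, j_θ_snd, Category.comp_id]
  refine ⟨g t, ?_⟩
  exact (congrArg (fun φ : (U : Scheme.{u}) ⟶ pullback G.hom X.hom => φ ⟨t, ht⟩) h2).symm

end Pair

variable (hG : TwC.IsConstGrp Z G eG)

omit hθ in
include hG in
lemma c_one : c eG 1 = 1 := by
  have h : c eG 1 * c eG 1 = c eG 1 := (hG 1 1).trans (by rw [_root_.one_mul]; rfl)
  exact mul_left_cancel (h.trans (_root_.mul_one _).symm)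

omit hθ in
include hG in
lemma τ_one : τ eG a 1 = 𝟙 X.left := by
  have h1 : c eG 1 = η[G] := (c_one eG hG).trans (by
    rw [Hom.one_def, toUnit_unit, Category.id_comp])
  have h2 : (lift (toUnit X ≫ c eG 1) (𝟙 X)).left = j eG (X := X) 1 := by
    refine pullback.hom_ext ?_ ?_
    · rw [j_fst]
      exact congrArg CommaMorphism.left (lift_fst (toUnit X ≫ c eG 1) (𝟙 X))
    · rw [j_snd]
      exact congrArg CommaMorphism.left (lift_snd (toUnit X ≫ c eG 1) (𝟙 X))
  have h3 : lift (toUnit X ≫ c eG 1) (𝟙 X) ≫ a.act = 𝟙 X := by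
    rw [h1, show lift (toUnit X ≫ η[G]) (𝟙 X) = lift (toUnit X) (𝟙 X) ≫ η[G] ▷ X by simp,
      Category.assoc, a.one_act, lift_leftUnitor_hom]
  change j eG 1 ≫ a.act.left = _
  rw [← h2]
  exact congrArg CommaMorphism.left h3

include eG hG a hθ in
lemma isSeparated_hom : IsSeparated X.hom := by
  constructor
  have hd : pullback.diagonal X.hom = j eG 1 ≫ θ a := by
    refine pullback.hom_ext ?_ ?_
    · rw [pullback.diagonal_fst, Category.assoc, j_θ_fst, τ_one eG a hG]
    · rw [pullback.diagonal_snd, Category.assoc, j_θ_snd]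
  rw [hd]
  haveI : IsClosedImmersion (j eG (X := X) 1) := by
    refine .of_isPreimmersion _ ⟨?_⟩
    have : (Set.range (j eG (X := X) 1))ᶜ = ⋃ w ∈ {w : Z | w ≠ 1}, Set.range (j eG (X := X) w) := by
      ext t
      simp only [Set.mem_compl_iff, Set.mem_iUnion, Set.mem_setOf_eq, exists_prop]
      constructor
      · intro ht
        obtain ⟨w, hw⟩ := mem_range_j eG t
        exact ⟨w, fun e => ht (e ▸ hw), hw⟩
      · rintro ⟨w, hw1, x, hx⟩ ⟨y, hy⟩
        exact hw1 (j_injective eG w 1 x y (hx.trans hy.symm))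
    rw [this]
    exact isOpen_biUnion fun w _ => (j eG (X := X) w).isOpenEmbedding.isOpen_range
  exact MorphismProperty.comp_mem _ _ _ inferInstance inferInstance

include eG a hθ in
lemma etale_snd : Etale (pullback.snd X.hom X.hom) := by
  have hG' := etale_const eG
  have h : pullback.snd X.hom X.hom = inv (θ a) ≫ pullback.snd G.hom X.hom := by
    rw [IsIso.eq_inv_comp, θ, pullback.lift_snd]
  rw [h]
  exact MorphismProperty.comp_mem _ _ _ inferInstance
    (MorphismProperty.pullback_snd _ _ hG')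

omit [Group Z] [GrpObj G] hθ in
/-- A morphism with fppf local sections whose self-product is etale over it is etale. -/
lemma etale_of_locallyTrivial {X : Over P} (hsnd : Etale (pullback.snd X.hom X.hom))
    (hloc : NonAbH1.IsLocallyTrivialFor Scheme.fppfPrecoverage X) : Etale X.hom := by
  obtain ⟨R, hR, hsec⟩ := hloc
  obtain ⟨κ, Y, fs, rfl⟩ := R.exists_eq_ofArrows
  obtain ⟨hsurj, hprop⟩ := (Scheme.ofArrows_mem_precoverage_iff _).1 hR
  refine IsZariskiLocalAtTarget.of_forall_exists_morphismRestrict (P := @Etale) fun x => ?_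
  obtain ⟨S', f, hf, t, ht⟩ : ∃ (S' : Scheme.{u}) (f : S' ⟶ P), Presieve.ofArrows Y fs f ∧ ∃ t, f t = x := by
    obtain ⟨i, t, ht⟩ := hsurj x
    exact ⟨Y i, fs i, ⟨i⟩, t, ht⟩
  obtain ⟨hfl, hlfp⟩ : Flat f ∧ LocallyOfFinitePresentation f := by
    obtain ⟨i⟩ := hf
    exact hprop i
  obtain ⟨σ, hσ⟩ := hsec f hf
  obtain ⟨_, ⟨V₀, hV, rfl⟩, hxV, -⟩ :=
    P.isBasis_affineOpens.exists_subset_of_mem_open (Set.mem_univ x) isOpen_univ
  let V : P.Opens := V₀
  obtain ⟨_, ⟨W₀, hW, rfl⟩, htW, hWV⟩ := S'.isBasis_affineOpens.exists_subset_of_mem_open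
    (show t ∈ ((f ⁻¹ᵁ V : S'.Opens) : Set S') from by change f t ∈ V; rw [ht]; exact hxV) (f ⁻¹ᵁ V).isOpen
  let W : S'.Opens := W₀
  let U : P.Opens := ⟨f '' W, f.isOpenMap _ W.isOpen⟩
  refine ⟨U, ⟨t, htW, ht⟩, ?_⟩
  let fW : (W : Scheme.{u}) ⟶ U := f.resLE U W (fun w hw => ⟨w, hw, rfl⟩)
  haveI : Surjective fW := ⟨by
    rintro ⟨_, w, hw, rfl⟩
    refine ⟨⟨w, hw⟩, Subtype.ext ?_⟩
    simp [fW, Scheme.Hom.resLE]⟩
  haveI : Flat fW := IsZariskiLocalAtSource.resLE _ hfl
  haveI : QuasiCompact fW := by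
    haveI : IsAffine (W : Scheme.{u}) := hW
    haveI : IsAffine (V : Scheme.{u}) := hV
    have hUV : U ≤ V := by
      rintro _ ⟨w, hw, rfl⟩
      exact hWV hw
    haveI : QuasiCompact (fW ≫ P.homOfLE hUV) := inferInstance
    exact .of_comp fW (P.homOfLE hUV)
  refine MorphismProperty.of_pullback_snd_of_descendsAlong
    (P := @Etale) (Q := @Surjective ⊓ @Flat ⊓ @QuasiCompact) (g := fW) ⟨⟨‹_›, ‹_›⟩, ‹_›⟩ ?_
  -- the base change acquires a section
  let p₁ : pullback (X.hom ∣_ U) fW ⟶ X.left := pullback.fst (X.hom ∣_ U) fW ≫ (X.hom ⁻¹ᵁ U).ι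
  let p₂ : pullback (X.hom ∣_ U) fW ⟶ W := pullback.snd (X.hom ∣_ U) fW
  let s : (W : Scheme.{u}) ⟶ X.left := W.ι ≫ σ
  have sq : IsPullback p₁ p₂ X.hom (s ≫ X.hom) := by
    have h := (IsPullback.of_hasPullback (X.hom ∣_ U) fW).flip.paste_vert
      (isPullback_morphismRestrict X.hom U)
    have he : s ≫ X.hom = fW ≫ U.ι := by
      simp [s, fW, hσ]
    rw [he]
    exact h.flip
  let m : pullback (X.hom ∣_ U) fW ⟶ pullback X.hom X.hom :=
    pullback.lift p₁ (p₂ ≫ s) (sq.w.trans (Category.assoc _ _ _).symm)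
  have sq' : IsPullback m p₂ (pullback.snd X.hom X.hom) s :=
    IsPullback.of_right (by simp only [m, pullback.lift_fst]; exact sq) (pullback.lift_snd _ _ _)
      (IsPullback.of_hasPullback X.hom X.hom)
  exact MorphismProperty.of_isPullback sq' hsnd

include eG a hθ in
lemma etale_hom (hloc : NonAbH1.IsLocallyTrivialFor Scheme.fppfPrecoverage X) : Etale X.hom :=
  etale_of_locallyTrivial (etale_snd eG a) hloc

end

section Main

open Groth.Agent.EGA43.SectionComp in
/-- A point of the fibre component of the section, all of whose component is geometrically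
reduced, is interior (smooth case). -/
lemma mem_interior_of_smooth {W Y : Scheme.{u}} (f : W ⟶ Y) [Smooth f] [QuasiCompact f]
    [QuasiSeparated f] (g : Y ⟶ W) (hg : g ≫ f = 𝟙 Y) (y : Y) (x : W)
    (hx : x ∈ connectedComponentIn (f.base ⁻¹' {y}) (g.base y)) :
    x ∈ interior (MoreMor.sectionComponents f g) := by
  refine mem_interior_sectionComponents_fp f g hg y (fun w _ => ?_) x hx
  intro K _ _ x' _
  haveI : Smooth (f.fiberToSpecResidueField (f w)) :=
    MorphismProperty.pullback_snd _ _ ‹Smooth f›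
  haveI : Smooth (FBase.bcStr (f.fiberToSpecResidueField (f w)) K) :=
    MorphismProperty.pullback_snd _ _ this
  haveI : IsReduced (FBase.bc (f.fiberToSpecResidueField (f w)) K) :=
    AbSchLib.isReduced_of_smooth (FBase.bcStr (f.fiberToSpecResidueField (f w)) K)
  infer_instance

end Main

section Sections

variable {S P X : Scheme.{u}} (p : P ⟶ S) (π : X ⟶ P)

/-- Fibre sections of a separated etale morphism through a given section over the base. -/
structure FibreSections (e' : S ⟶ X) where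
  /-- the section over the fibre -/
  h : ∀ s : S, pullback p (S.fromSpecResidueField s) ⟶ X
  w : ∀ s, h s ≫ π = pullback.fst p (S.fromSpecResidueField s)
  mem : ∀ s, e' s ∈ Set.range (h s)

variable {p π} [Smooth p] [QuasiCompact p] [QuasiSeparated p] [GeometricallyConnected p]
  [Etale π] [IsSeparated π]
  {e : S ⟶ P} (he : e ≫ p = 𝟙 S) {e' : S ⟶ X} (he' : e' ≫ π = e) (D : FibreSections p π e')

omit [Smooth p] [QuasiCompact p] [QuasiSeparated p] in
include he' he in
lemma range_eq_component (s : S) :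
    Set.range (D.h s) = connectedComponentIn ((π ≫ p).base ⁻¹' {s}) (e' s) := by
  let jf := pullback.fst p (S.fromSpecResidueField s)
  have hrι : Set.range jf = p.base ⁻¹' {s} := by
    rw [Scheme.Pullback.range_fst, S.range_fromSpecResidueField]
  have hsub : Set.range (D.h s) ⊆ (π ≫ p).base ⁻¹' {s} := by
    rintro _ ⟨y, rfl⟩
    have h1 : π (D.h s y) ∈ Set.range jf := ⟨y, by rw [← Scheme.Hom.comp_apply, D.w]⟩
    rw [hrι] at h1
    exact h1
  haveI : ConnectedSpace ↥(pullback p (S.fromSpecResidueField s)) :=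
    inferInstanceAs (ConnectedSpace (p.fiber s))
  refine Set.Subset.antisymm ((isPreconnected_range (D.h s).continuous).subset_connectedComponentIn
    (D.mem s) hsub) ?_
  -- the range is clopen in the fibre
  let Xs := pullback π jf
  let σ : pullback p (S.fromSpecResidueField s) ⟶ Xs :=
    pullback.lift (D.h s) (𝟙 _) (by rw [D.w, Category.id_comp])
  have hσ : σ ≫ pullback.snd π jf = 𝟙 _ := pullback.lift_snd _ _ _
  haveI : IsOpenImmersion σ := by
    haveI : Etale (σ ≫ pullback.snd π jf) := by rw [hσ]; infer_instance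
    haveI : Etale σ := Etale.of_comp σ (pullback.snd π jf)
    haveI : Mono (σ ≫ pullback.snd π jf) := by rw [hσ]; infer_instance
    haveI : Mono σ := mono_of_mono σ (pullback.snd π jf)
    exact FEtLib.isOpenImmersion_of_etale_universallyInjective σ
  haveI : IsClosedImmersion σ := by
    haveI : IsClosedImmersion (σ ≫ pullback.snd π jf) := by rw [hσ]; infer_instance
    exact IsClosedImmersion.of_comp σ (pullback.snd π jf)
  have hcl : IsClopen (Set.range σ) := ⟨σ.isClosedEmbedding.isClosed_range, σ.isOpenEmbedding.isOpen_range⟩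
  have hemb := (pullback.fst π jf).isEmbedding
  have hr : Set.range (D.h s) = pullback.fst π jf '' Set.range σ := by
    rw [← Set.range_comp]
    exact congrArg Set.range (funext fun y => by
      rw [Function.comp_apply, ← Scheme.Hom.comp_apply, pullback.lift_fst])
  have hF : (π ≫ p).base ⁻¹' {s} = Set.range (pullback.fst π jf) := by
    rw [Scheme.Pullback.range_fst, hrι]
    rfl
  intro x hx
  have hxF := connectedComponentIn_subset _ _ hx
  rw [hF] at hxF
  have hK : _root_.IsPreconnected (pullback.fst π jf ⁻¹' connectedComponentIn ((π ≫ p).base ⁻¹' {s}) (e' s)) := by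
    rw [← hemb.isInducing.isPreconnected_image]
    rw [Set.image_preimage_eq_of_subset (by rw [← hF]; exact connectedComponentIn_subset _ _)]
    exact isPreconnected_connectedComponentIn
  obtain ⟨z, rfl⟩ := hxF
  obtain ⟨y, hy⟩ := D.mem s
  have hy' : σ y ∈ pullback.fst π jf ⁻¹' connectedComponentIn ((π ≫ p).base ⁻¹' {s}) (e' s) := by
    have he1 : pullback.fst π jf (σ y) = e' s := by
      rw [← Scheme.Hom.comp_apply, pullback.lift_fst, hy]
    rw [Set.mem_preimage, he1]
    exact mem_connectedComponentIn (hsub ⟨y, hy⟩)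
  rw [hr]
  exact ⟨z, hK.subset_isClopen hcl ⟨σ y, hy', Set.mem_range_self y⟩ hx, rfl⟩

include he' he D in
lemma isOpen_components : IsOpen (MoreMor.sectionComponents (π ≫ p) e') := by
  rw [isOpen_iff_forall_mem_open]
  intro x hx
  let f := π ≫ p
  haveI : Smooth f := MorphismProperty.comp_mem _ _ _ inferInstance inferInstance
  haveI : QuasiSeparated f := inferInstance
  let s := f x
  have hef : e' ≫ f = 𝟙 S := by rw [← Category.assoc, he', he]
  have hC : IsCompact (Set.range (D.h s)) := by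
    haveI : CompactSpace ↥(pullback p (S.fromSpecResidueField s)) :=
      QuasiCompact.compactSpace_of_compactSpace (pullback.snd p (S.fromSpecResidueField s))
    exact isCompact_range (D.h s).continuous
  obtain ⟨_, ⟨V₀r, hV₀, rfl⟩, hsV₀, -⟩ :=
    S.isBasis_affineOpens.exists_subset_of_mem_open (Set.mem_univ s) isOpen_univ
  let V₀ : S.Opens := V₀r
  have hCV : Set.range (D.h s) ⊆ ((f ⁻¹ᵁ V₀ : X.Opens) : Set X) := by
    intro z hz
    rw [range_eq_component he he' D s] at hz
    have hzs : f z = s := connectedComponentIn_subset (f.base ⁻¹' {s}) _ hz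
    change f z ∈ (V₀ : Set S)
    rw [hzs]
    exact hsV₀
  obtain ⟨K, hKc, hCK, hKV⟩ : ∃ K : X.Opens, IsCompact (K : Set X) ∧
      Set.range (D.h s) ⊆ (K : Set X) ∧ K ≤ f ⁻¹ᵁ V₀ := by
    have hcov : ∀ z ∈ Set.range (D.h s), ∃ A : X.Opens,
        IsAffineOpen A ∧ z ∈ A ∧ A ≤ f ⁻¹ᵁ V₀ := fun z hz => by
      obtain ⟨_, ⟨A, hA, rfl⟩, hzA, hAV⟩ :=
        X.isBasis_affineOpens.exists_subset_of_mem_open (hCV hz) (f ⁻¹ᵁ V₀).isOpen
      exact ⟨A, hA, hzA, hAV⟩
    choose A hA hzA hAV using hcov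
    obtain ⟨t, ht⟩ := hC.elim_finite_subcover (fun z : Set.range (D.h s) => (A z.1 z.2 : Set X))
      (fun z => (A z.1 z.2).isOpen) (fun z hz => Set.mem_iUnion.2 ⟨⟨z, hz⟩, hzA z hz⟩)
    refine ⟨⟨⋃ z ∈ t, (A z.1 z.2 : Set X), isOpen_biUnion fun z _ => (A z.1 z.2).isOpen⟩,
      t.isCompact_biUnion fun z _ => (hA z.1 z.2).isCompact, ht, ?_⟩
    intro z hz
    obtain ⟨w, hw, hzw⟩ := Set.mem_iUnion₂.1 hz
    exact hAV _ _ hzw
  have hsK : e' s ∈ K := hCK (D.mem s)
  obtain ⟨_, ⟨V₁, hV₁, rfl⟩, hsV, hVle⟩ := S.isBasis_affineOpens.exists_subset_of_mem_open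
    (show s ∈ ((e' ⁻¹ᵁ K ⊓ V₀ : S.Opens) : Set S) from ⟨hsK, hsV₀⟩) (e' ⁻¹ᵁ K ⊓ V₀).isOpen
  let V : S.Opens := V₁
  let W : X.Opens := K ⊓ f ⁻¹ᵁ V
  let fW : (W : Scheme.{u}) ⟶ V := f.resLE V W inf_le_right
  have hfW : fW ≫ V.ι = W.ι ≫ f := Scheme.Hom.resLE_comp_ι _ _
  haveI : Smooth fW := IsZariskiLocalAtSource.resLE _ ‹Smooth f›
  haveI : QuasiSeparated fW := by
    haveI : QuasiSeparated (fW ≫ V.ι) := by rw [hfW]; infer_instance
    exact QuasiSeparated.of_comp fW V.ι
  haveI : QuasiCompact fW := by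
    -- `K ⟶ V₀` is quasi-compact, so is its restriction over `V`
    let fK : (K : Scheme.{u}) ⟶ V₀ := f.resLE V₀ K hKV
    haveI : CompactSpace (K : Scheme.{u}) := isCompact_iff_compactSpace.1 hKc
    haveI : IsAffine (V₀ : Scheme.{u}) := hV₀
    haveI : QuasiCompact fK := quasiCompact_of_compactSpace fK
    have hVc : IsCompact ((V₀.ι ⁻¹ᵁ V : (V₀ : Scheme.{u}).Opens) : Set V₀) := by
      rw [V₀.ι.isOpenEmbedding.isInducing.isCompact_iff]
      suffices h : V₀.ι '' (V₀.ι ⁻¹' (V : Set S)) = (V : Set S) by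
        change IsCompact (V₀.ι '' (V₀.ι ⁻¹' (V : Set S)))
        rw [h]
        exact hV₁.isCompact
      rw [Set.image_preimage_eq_inter_range, Scheme.Opens.range_ι]
      exact Set.inter_eq_left.2 fun z hz => (hVle hz).2
    have hWc : IsCompact (W : Set X) := by
      have h1 := fK.isCompact_preimage hVc
      suffices h : K.ι '' (fK ⁻¹' (V₀.ι ⁻¹' (V : Set S))) = (W : Set X) by
        rw [← h]
        exact h1.image K.ι.continuous
      ext z
      constructor
      · rintro ⟨k, hk, rfl⟩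
        refine ⟨k.2, ?_⟩
        change f (K.ι k) ∈ V
        rw [← Scheme.Hom.comp_apply, ← Scheme.Hom.resLE_comp_ι f hKV]
        exact hk
      · rintro ⟨hzK, hzV⟩
        refine ⟨⟨z, hzK⟩, ?_, rfl⟩
        change (fK ≫ V₀.ι) ⟨z, hzK⟩ ∈ V
        rw [Scheme.Hom.resLE_comp_ι]
        exact hzV
    haveI : CompactSpace (W : Scheme.{u}) := isCompact_iff_compactSpace.1 hWc
    haveI : IsAffine (V : Scheme.{u}) := hV₁
    exact quasiCompact_of_compactSpace fW
  let g : (V : Scheme.{u}) ⟶ W := e'.resLE W V (fun z hz => by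
    refine ⟨(hVle hz).1, ?_⟩
    change f (e' z) ∈ V
    rw [← Scheme.Hom.comp_apply, hef]
    exact hz)
  have hgι : g ≫ W.ι = V.ι ≫ e' := Scheme.Hom.resLE_comp_ι _ _
  have hg : g ≫ fW = 𝟙 _ := by
    rw [← cancel_mono V.ι, Category.assoc, hfW, reassoc_of% hgι, hef, Category.comp_id,
      Category.id_comp]
  have hfib : ∀ w : (W : Scheme.{u}), (f (W.ι w) : S) = (fW w : V).1 := fun w => by
    rw [← Scheme.Hom.comp_apply, ← hfW]
    rfl
  have hxC : x ∈ Set.range (D.h s) := by rw [range_eq_component he he' D s]; exact hx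
  have hCW : Set.range (D.h s) ⊆ (W : Set X) := fun z hz => by
    refine ⟨hCK hz, ?_⟩
    rw [range_eq_component he he' D s] at hz
    change f z ∈ V
    rw [show f z = s from connectedComponentIn_subset (f.base ⁻¹' {s}) _ hz]
    exact hsV
  let v : V := ⟨s, hsV⟩
  let xW : (W : Scheme.{u}) := ⟨x, hCW hxC⟩
  have hgv : W.ι (g v) = e' s := by
    rw [← Scheme.Hom.comp_apply, hgι]
    rfl
  haveI : ConnectedSpace ↥(pullback p (S.fromSpecResidueField s)) :=
    inferInstanceAs (ConnectedSpace (p.fiber s))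
  have hcomp : xW ∈ connectedComponentIn (fW.base ⁻¹' {v}) (g.base v) := by
    have hpre : _root_.IsPreconnected (W.ι ⁻¹' Set.range (D.h s)) := by
      rw [← W.ι.isOpenEmbedding.isInducing.isPreconnected_image,
        Set.image_preimage_eq_of_subset (by rw [Scheme.Opens.range_ι]; exact hCW)]
      exact isPreconnected_range (D.h s).continuous
    refine hpre.subset_connectedComponentIn ?_ ?_ hxC
    · change W.ι (g v) ∈ Set.range (D.h s)
      rw [hgv]
      exact D.mem s
    · intro w hw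
      have h1 : f (W.ι w) = s := by
        have h2 := hw
        rw [Set.mem_preimage, range_eq_component he he' D s] at h2
        exact connectedComponentIn_subset (f.base ⁻¹' {s}) _ h2
      exact Subtype.ext ((hfib w).symm.trans h1)
  have hint := mem_interior_of_smooth fW g hg v xW hcomp
  refine ⟨W.ι '' interior (MoreMor.sectionComponents fW g), ?_,
    W.ι.isOpenEmbedding.isOpenMap _ isOpen_interior, ⟨xW, hint, rfl⟩⟩
  rintro _ ⟨w, hw, rfl⟩
  have hw' := interior_subset hw
  have hgw : W.ι (g (fW w)) = e' (f (W.ι w)) := by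
    rw [← Scheme.Hom.comp_apply g W.ι, hgι, Scheme.Hom.comp_apply, hfib]
    rfl
  change W.ι w ∈ connectedComponentIn (f.base ⁻¹' {f (W.ι w)}) (e' (f (W.ι w)))
  rw [← hgw]
  refine ((isPreconnected_connectedComponentIn).image _ W.ι.continuous.continuousOn).subset_connectedComponentIn
    ⟨g (fW w), mem_connectedComponentIn ?_, rfl⟩ ?_ ⟨w, hw', rfl⟩
  · change fW (g (fW w)) = fW w
    rw [← Scheme.Hom.comp_apply g fW, hg]
    rfl
  · rintro _ ⟨w', hw₁, rfl⟩
    have h3 : fW w' = fW w := connectedComponentIn_subset (fW.base ⁻¹' {fW w}) _ hw₁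
    change f (W.ι w') = f (W.ι w)
    rw [hfib, hfib, h3]

include he' he D in
/-- Fibre sections through a section over the base glue. -/
theorem exists_section : ∃ g : P ⟶ X, g ≫ π = 𝟙 P ∧ e ≫ g = e' := by
  let U : X.Opens := ⟨_, isOpen_components he he' D⟩
  have hU : ∀ x : X, x ∈ U → x ∈ Set.range (D.h ((π ≫ p) x)) := fun x hx => by
    rw [range_eq_component he he' D]
    exact hx
  have hU' : ∀ s, Set.range (D.h s) ⊆ (U : Set X) := fun s x hx => by
    rw [range_eq_component he he' D] at hx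
    have hxs : (π ≫ p).base x = s := connectedComponentIn_subset ((π ≫ p).base ⁻¹' {s}) _ hx
    change x ∈ connectedComponentIn ((π ≫ p).base ⁻¹' {(π ≫ p).base x}) (e' ((π ≫ p).base x))
    rw [hxs]
    exact hx
  let u : (U : Scheme.{u}) ⟶ P := U.ι ≫ π
  haveI : Etale u := MorphismProperty.comp_mem _ _ _ inferInstance inferInstance
  haveI : Surjective u := ⟨fun q => by
    obtain ⟨y, hy⟩ : q ∈ Set.range (pullback.fst p (S.fromSpecResidueField (p q))) := by
      rw [Scheme.Pullback.range_fst, S.range_fromSpecResidueField]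
      rfl
    refine ⟨⟨D.h (p q) y, hU' _ ⟨y, rfl⟩⟩, ?_⟩
    change π (D.h (p q) y) = q
    rw [← Scheme.Hom.comp_apply, D.w, hy]⟩
  haveI : UniversallyInjective u := by
    refine ((tfae_universallyInjective u).out 1 0).1 ?_
    intro L _ a b hab
    have key : ∀ (c : Spec (CommRingCat.of L) ⟶ U) (s : S),
        ((c ≫ u) ≫ p) (IsLocalRing.closedPoint L) = s →
        ∃ d : Spec (CommRingCat.of L) ⟶ pullback p (S.fromSpecResidueField s),
          d ≫ pullback.fst p _ = c ≫ u ∧ d ≫ D.h s = c ≫ U.ι := by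
      intro c s hs
      let jf := pullback.fst p (S.fromSpecResidueField s)
      let σ : pullback p (S.fromSpecResidueField s) ⟶ pullback π jf :=
        pullback.lift (D.h s) (𝟙 _) (by rw [D.w, Category.id_comp])
      haveI : IsOpenImmersion σ := by
        have hσ : σ ≫ pullback.snd π jf = 𝟙 _ := pullback.lift_snd _ _ _
        haveI : Etale (σ ≫ pullback.snd π jf) := by rw [hσ]; infer_instance
        haveI : Etale σ := Etale.of_comp σ (pullback.snd π jf)
        haveI : Mono (σ ≫ pullback.snd π jf) := by rw [hσ]; infer_instance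
        haveI : Mono σ := mono_of_mono σ (pullback.snd π jf)
        exact FEtLib.isOpenImmersion_of_etale_universallyInjective σ
      have hx : U.ι (c (IsLocalRing.closedPoint L)) ∈ Set.range (D.h s) := by
        have h := hU _ (c (IsLocalRing.closedPoint L)).2
        subst hs
        exact h
      obtain ⟨r, hr⟩ : ∃ r : Spec (CommRingCat.of L) ⟶ Spec (S.residueField s),
          r ≫ S.fromSpecResidueField s = (c ≫ u) ≫ p := by
        subst hs
        exact ⟨_, ((S.SpecToEquivOfField L).symm_apply_apply ((c ≫ u) ≫ p))⟩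
      let c' : Spec (CommRingCat.of L) ⟶ pullback p (S.fromSpecResidueField s) :=
        pullback.lift (c ≫ u) r hr.symm
      let C : Spec (CommRingCat.of L) ⟶ pullback π jf :=
        pullback.lift (c ≫ U.ι) c' (by rw [pullback.lift_fst, Category.assoc])
      have hC : Set.range C ⊆ Set.range σ := by
        rintro _ ⟨t, rfl⟩
        obtain rfl : t = IsLocalRing.closedPoint L := Subsingleton.elim _ _
        obtain ⟨y, hy⟩ := hx
        refine ⟨y, (pullback.fst π jf).isEmbedding.injective ?_⟩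
        rw [← Scheme.Hom.comp_apply, pullback.lift_fst, hy, ← Scheme.Hom.comp_apply C,
          pullback.lift_fst]
        rfl
      refine ⟨IsOpenImmersion.lift σ C hC, ?_, ?_⟩
      · have h1 := congrArg (· ≫ pullback.snd π jf) (IsOpenImmersion.lift_fac σ C hC)
        simp only [σ, C, Category.assoc, pullback.lift_snd, Category.comp_id] at h1
        rw [h1, pullback.lift_fst]
      · have h1 := congrArg (· ≫ pullback.fst π jf) (IsOpenImmersion.lift_fac σ C hC)
        simpa only [σ, C, Category.assoc, pullback.lift_fst] using h1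
    obtain ⟨da, ha₁, ha₂⟩ := key a _ rfl
    obtain ⟨db, hb₁, hb₂⟩ := key b ((((a ≫ u)) ≫ p) (IsLocalRing.closedPoint L))
      (by rw [show b ≫ u = a ≫ u from hab.symm])
    have hd : da = db := (cancel_mono (pullback.fst p _)).1 (ha₁.trans (hab.trans hb₁.symm))
    rw [← cancel_mono U.ι, ← ha₂, ← hb₂, hd]
  haveI : IsOpenImmersion u := FEtLib.isOpenImmersion_of_etale_universallyInjective u
  haveI : IsIso u := (isIso_iff_isOpenImmersion_and_epi_base u).2
    ⟨inferInstance, (TopCat.epi_iff_surjective _).2 u.surjective⟩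
  refine ⟨inv u ≫ U.ι, by rw [Category.assoc]; exact IsIso.inv_hom_id u, ?_⟩
  have hr : Set.range e' ⊆ Set.range U.ι := by
    rintro _ ⟨s, rfl⟩
    rw [Scheme.Opens.range_ι]
    exact hU' s (D.mem s)
  have h1 := IsOpenImmersion.lift_fac U.ι e' hr
  have h2 : IsOpenImmersion.lift U.ι e' hr ≫ u = e := by rw [← Category.assoc, h1, he']
  rw [← h2, Category.assoc, IsIso.hom_inv_id_assoc, h1]

end Sections

section Result

variable {S P : Scheme.{u}} {p : P ⟶ S} [Smooth p] [QuasiCompact p] [QuasiSeparated p]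
  [GeometricallyConnected p] {Z : Type u} [Group Z] {G : Over P} [GrpObj G]
  (eG : G ≅ TwC.const P Z) (hG : TwC.IsConstGrp Z G eG) {X : Over P} (a : AlgGrp.Action G X)
  [IsIso (θ a)] {e : S ⟶ P} (he : e ≫ p = 𝟙 S) {e' : S ⟶ X.left} (he' : e' ≫ X.hom = e)

omit [Smooth p] [QuasiCompact p] [QuasiSeparated p] in
include hG he he' a in
/-- A section of the torsor over a fibre can be translated to pass through a given point. -/
lemma nonempty_fibreSections
    (h : ∀ s : S, NonAbH1.HasSectionOver X (pullback.fst p (S.fromSpecResidueField s))) :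
    Nonempty (FibreSections p X.hom e') := by
  have key : ∀ s : S, ∃ g : pullback p (S.fromSpecResidueField s) ⟶ X.left,
      g ≫ X.hom = pullback.fst p _ ∧ e' s ∈ Set.range g := by
    intro s
    obtain ⟨g, hg⟩ := h s
    let es : Spec (S.residueField s) ⟶ pullback p (S.fromSpecResidueField s) :=
      pullback.lift (S.fromSpecResidueField s ≫ e) (𝟙 _)
        (by rw [Category.assoc, he, Category.comp_id, Category.id_comp])
    have hfg : (S.fromSpecResidueField s ≫ e') ≫ X.hom = (es ≫ g) ≫ X.hom := by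
      rw [Category.assoc, Category.assoc, he', hg, pullback.lift_fst]
    let t : Spec (S.residueField s) := IsLocalRing.closedPoint (S.residueField s)
    obtain ⟨z, hz⟩ := exists_mem_locus eG a _ _ hfg t
    refine ⟨g ≫ τ eG a z, by rw [Category.assoc, τ_hom, hg], es t, ?_⟩
    have h1 := congrArg (fun φ : (locus eG a _ _ hfg z : Scheme.{u}) ⟶ X.left => φ ⟨t, hz⟩)
      (locus_eq eG a _ _ hfg z)
    refine Eq.trans h1.symm ?_
    change e' (S.fromSpecResidueField s t) = e' s
    rw [Scheme.fromSpecResidueField_apply]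
  choose g hg hmem using key
  exact ⟨⟨g, hg, hmem⟩⟩

include hG he a in
lemma section_unique (g g' : P ⟶ X.left) (hg : g ≫ X.hom = 𝟙 P) (hg' : g' ≫ X.hom = 𝟙 P)
    (heg : e ≫ g = e ≫ g') : g' = g := by
  have hfg : g' ≫ X.hom = g ≫ X.hom := hg'.trans hg.symm
  have he1 : ∀ s : S, e s ∈ locus eG a g' g hfg 1 := by
    intro s
    obtain ⟨z, hz⟩ := exists_mem_locus eG a g' g hfg (e s)
    let V : S.Opens := e ⁻¹ᵁ locus eG a g' g hfg z
    have h1 := locus_eq eG a g' g hfg z
    have hfg0 : (V.ι ≫ e ≫ g) ≫ X.hom = (V.ι ≫ e ≫ g) ≫ X.hom := rfl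
    have hr : Set.range (V.ι ≫ e) ⊆ Set.range (locus eG a g' g hfg z).ι := by
      rintro _ ⟨w, rfl⟩
      rw [Scheme.Opens.range_ι]
      exact w.2
    have h3 : V.ι ≫ e ≫ g = (V.ι ≫ e ≫ g) ≫ τ eG a z := by
      conv_lhs => rw [heg, ← Category.assoc, ← IsOpenImmersion.lift_fac _ _ hr, Category.assoc, h1,
        reassoc_of% IsOpenImmersion.lift_fac _ _ hr]
      simp only [Category.assoc]
    have hm1 : (⊤ : (V : Scheme.{u}).Opens) ≤ locus eG a _ _ hfg0 z :=
      le_locus eG a _ _ hfg0 ⊤ z (congrArg (Scheme.Opens.ι _ ≫ ·) h3)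
    have hm2 : (⊤ : (V : Scheme.{u}).Opens) ≤ locus eG a _ _ hfg0 1 :=
      le_locus eG a _ _ hfg0 ⊤ 1 (by rw [τ_one eG a hG, Category.comp_id])
    have : z = 1 := locus_disjoint eG a _ _ hfg0 (hm1 (x := ⟨s, hz⟩) trivial)
      (hm2 (x := ⟨s, hz⟩) trivial)
    subst this
    exact hz
  have htop : locus eG a g' g hfg 1 = ⊤ := by
    refine eq_top_iff.2 fun q _ => ?_
    have hq : e (p q) ∈ p.base ⁻¹' {p q} := congrArg (fun φ : S ⟶ S => φ (p q)) he
    exact (p.isConnected_preimage_singleton (p q)).isPreconnected.subset_isClopen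
      (isClopen_locus eG a g' g hfg 1) ⟨e (p q), hq, he1 _⟩ rfl
  have h1 := locus_eq eG a g' g hfg 1
  rw [τ_one eG a hG, Category.comp_id] at h1
  rw [htop] at h1
  haveI : IsIso (⊤ : P.Opens).ι := P.topIso.isIso_hom
  exact (cancel_epi (⊤ : P.Opens).ι).1 h1

include hG he he' a in
theorem main (hloc : NonAbH1.IsLocallyTrivialFor Scheme.fppfPrecoverage X) :
    (NonAbH1.HasSectionOver X (𝟙 P) ↔
        ∀ s : S, NonAbH1.HasSectionOver X (pullback.fst p (S.fromSpecResidueField s))) ∧
      (NonAbH1.HasSectionOver X (𝟙 P) →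
        ∃! g : P ⟶ X.left, g ≫ X.hom = 𝟙 P ∧ e ≫ g = e') := by
  haveI := etale_hom eG a hloc
  haveI := isSeparated_hom eG a hG
  have hfib : NonAbH1.HasSectionOver X (𝟙 P) →
      ∀ s : S, NonAbH1.HasSectionOver X (pullback.fst p (S.fromSpecResidueField s)) :=
    fun ⟨g, hg⟩ s => ⟨pullback.fst p _ ≫ g, by rw [Category.assoc, hg, Category.comp_id]⟩
  refine ⟨⟨hfib, fun h => ?_⟩, fun h => ?_⟩
  · obtain ⟨D⟩ := nonempty_fibreSections eG hG a he he' h
    obtain ⟨g, hg, -⟩ := exists_section he he' D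
    exact ⟨g, hg⟩
  · obtain ⟨D⟩ := nonempty_fibreSections eG hG a he he' (hfib h)
    obtain ⟨g, hg, heg⟩ := exists_section he he' D
    exact ⟨g, ⟨hg, heg⟩, fun g' hg' =>
      section_unique eG hG a he g g' hg hg'.1 (heg.trans hg'.2.symm)⟩

end Result

end Groth.Agent.Et18.ConstTorsor
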