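import Groth.Agent.Et18.ConstTorsor
import Groth.Agent.Et18.UnibranchComps

/-! Torsors under constant torsion-free groups over geometrically unibranch bases are trivial. -/

set_option autoImplicit false
set_option backward.isDefEq.respectTransparency.types false
set_option linter.style.haveILetI false

universe u

open CategoryTheory CategoryTheory.Limits MonoidalCategory CartesianMonoidalCategory MonObj
open AlgebraicGeometry TopologicalSpace
open Groth.Agent.FlatMorWeight (IsMaximalPt)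

namespace Groth.Agent.Et18.ConstTorsor

noncomputable section

variable {P : Scheme.{u}} {Z : Type u} [Group Z] {G : Over P} [GrpObj G]
  (eG : G ≅ TwC.const P Z) (hG : TwC.IsConstGrp Z G eG) {X : Over P} (a : AlgGrp.Action G X)

/-- Translation as a morphism over the base. -/
def σ (z : Z) : X ⟶ X := lift (toUnit X ≫ c eG z) (𝟙 X) ≫ a.act

lemma σ_left (z : Z) : (σ eG a z).left = τ eG a z := by
  have h2 : (lift (toUnit X ≫ c eG z) (𝟙 X)).left = j eG (X := X) z := by
    refine pullback.hom_ext ?_ ?_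
    · rw [j_fst]
      exact congrArg CommaMorphism.left (lift_fst (toUnit X ≫ c eG z) (𝟙 X))
    · rw [j_snd]
      exact congrArg CommaMorphism.left (lift_snd (toUnit X ≫ c eG z) (𝟙 X))
  change (lift (toUnit X ≫ c eG z) (𝟙 X)).left ≫ a.act.left = _
  rw [h2]
  rfl

include hG in
lemma σ_comp (z w : Z) : σ eG a z ≫ σ eG a w = σ eG a (w * z) := by
  have hc : c eG (w * z) = c eG w * c eG z := (hG w z).symm
  let p := toUnit X ≫ c eG w
  let q := toUnit X ≫ c eG z
  have h1 : σ eG a z ≫ σ eG a w = lift p (lift q (𝟙 X) ≫ a.act) ≫ a.act := by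
    simp only [σ, p, q, Category.assoc, comp_lift_assoc, comp_toUnit_assoc, Category.comp_id]
  have h2 : lift (p * q) (𝟙 X) ≫ a.act = lift p (lift q (𝟙 X) ≫ a.act) ≫ a.act := by
    have h := congrArg (lift (lift p q) (𝟙 X) ≫ ·) a.mul_act
    simp only [lift_whiskerRight_assoc, lift_lift_associator_hom_assoc, lift_whiskerLeft_assoc] at h
    rw [Hom.mul_def]
    exact h
  rw [h1, ← h2]
  simp only [σ, p, q, hc, MonObj.comp_mul]

include hG in
lemma τ_comp (z w : Z) : τ eG a z ≫ τ eG a w = τ eG a (w * z) := by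
  rw [← σ_left, ← σ_left, ← σ_left, ← Over.comp_left, σ_comp eG hG]

/-- Maps from the spectrum of a field to an affine etale neighbourhood, over a fixed map to the
base, are finite in number. -/
lemma finite_lifts {X P : Scheme.{u}} (π : X ⟶ P) [Etale π] (A : X.Opens) (hA : IsAffineOpen A)
    (V : P.Opens) (hV : IsAffineOpen V) (hAV : A ≤ π ⁻¹ᵁ V) (L : Type u) [Field L]
    (cL : Spec (CommRingCat.of L) ⟶ P) :
    Finite {b : Spec (CommRingCat.of L) ⟶ X //
      b ≫ π = cL ∧ b (IsLocalRing.closedPoint L) ∈ A} := by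
  classical
  by_cases hcV : cL (IsLocalRing.closedPoint L) ∈ V
  swap
  · refine Finite.of_injective (β := PEmpty.{1}) (fun b => False.elim (hcV ?_)) fun b => False.elim (hcV ?_)
    all_goals
      rw [← b.2.1, Scheme.Hom.comp_apply]
      exact hAV b.2.2
  let πA : (A : Scheme.{u}) ⟶ V := π.resLE V A hAV
  haveI : IsAffine (A : Scheme.{u}) := hA
  haveI : IsAffine (V : Scheme.{u}) := hV
  haveI : IsAffineHom πA := inferInstance
  haveI : Etale πA := inferInstance
  have hcr : Set.range cL ⊆ Set.range V.ι := by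
    rintro _ ⟨t, rfl⟩
    rw [Scheme.Opens.range_ι]
    obtain rfl : t = IsLocalRing.closedPoint L := Subsingleton.elim _ _
    exact hcV
  let cV := IsOpenImmersion.lift V.ι cL hcr
  let B := pullback πA cV
  let q : B ⟶ Spec (CommRingCat.of L) := pullback.snd πA cV
  haveI : Etale q := MorphismProperty.pullback_snd _ _ ‹Etale πA›
  haveI : LocallyQuasiFinite q := AlgSpLib.locallyQuasiFinite_of_etale q
  haveI : IsAffineHom q := MorphismProperty.pullback_snd _ _ ‹IsAffineHom πA›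
  have hB : Finite B := by
    have h := q.finite_preimage_singleton (IsLocalRing.closedPoint L)
    have : (Set.univ : Set B).Finite := h.subset fun x _ => Subsingleton.elim _ _
    exact Set.finite_univ_iff.1 this
  have hfac : ∀ b : {b : Spec (CommRingCat.of L) ⟶ X //
      b ≫ π = cL ∧ b (IsLocalRing.closedPoint L) ∈ A},
      ∃ s : Spec (CommRingCat.of L) ⟶ B, s ≫ q = 𝟙 _ ∧ s ≫ pullback.fst πA cV ≫ A.ι = b.1 := by
    intro b
    have hbr : Set.range b.1 ⊆ Set.range A.ι := by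
      rintro _ ⟨t, rfl⟩
      rw [Scheme.Opens.range_ι]
      obtain rfl : t = IsLocalRing.closedPoint L := Subsingleton.elim _ _
      exact b.2.2
    refine ⟨pullback.lift (IsOpenImmersion.lift A.ι b.1 hbr) (𝟙 _) ?_, pullback.lift_snd _ _ _, ?_⟩
    · rw [← cancel_mono V.ι, Category.id_comp, Category.assoc, Scheme.Hom.resLE_comp_ι,
        IsOpenImmersion.lift_fac, IsOpenImmersion.lift_fac_assoc, b.2.1]
    · rw [pullback.lift_fst_assoc, IsOpenImmersion.lift_fac]
  choose s hs hsb using hfac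
  refine Finite.of_injective (fun b => s b (IsLocalRing.closedPoint L)) fun b b' h => Subtype.ext ?_
  haveI : ∀ b, IsOpenImmersion (s b) := fun b => by
    haveI : Etale (s b ≫ q) := by rw [hs]; infer_instance
    haveI : Etale (s b) := Etale.of_comp (s b) q
    haveI : Mono (s b ≫ q) := by rw [hs]; infer_instance
    haveI : Mono (s b) := mono_of_mono (s b) q
    exact FEtLib.isOpenImmersion_of_etale_universallyInjective (s b)
  have hr : Set.range (s b) ⊆ Set.range (s b') := by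
    rintro _ ⟨t, rfl⟩
    obtain rfl : t = IsLocalRing.closedPoint L := Subsingleton.elim _ _
    exact ⟨_, h.symm⟩
  have h1 := IsOpenImmersion.lift_fac (s b') (s b) hr
  have h2 : IsOpenImmersion.lift (s b') (s b) hr = 𝟙 _ := by
    have := congrArg (· ≫ q) h1
    simp only [Category.assoc, hs, Category.comp_id] at this
    exact this
  rw [h2, Category.id_comp] at h1
  rw [← hsb b, ← hsb b', h1]

variable [hθ : IsIso (θ a)] (hZ : ∀ z : Z, IsOfFinOrder z → z = 1)

include hG hZ in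
lemma eq_one_of_fix [Etale X.hom] (ξ : X.left) (z : Z) (hz : τ eG a z ξ = ξ) : z = 1 := by
  obtain ⟨_, ⟨V₀, hV, rfl⟩, hξV, -⟩ :=
    P.isBasis_affineOpens.exists_subset_of_mem_open (Set.mem_univ (X.hom ξ)) isOpen_univ
  let V : P.Opens := V₀
  obtain ⟨_, ⟨A, hA, rfl⟩, hξA, hAV⟩ := X.left.isBasis_affineOpens.exists_subset_of_mem_open
    (show ξ ∈ ((X.hom ⁻¹ᵁ V : X.left.Opens) : Set X.left) from hξV) (X.hom ⁻¹ᵁ V).isOpen
  let L := X.left.residueField ξ
  let a₀ := X.left.fromSpecResidueField ξ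
  haveI := finite_lifts X.hom A hA V hV hAV L (a₀ ≫ X.hom)
  have hpow : ∀ n : ℕ, τ eG a (z ^ n) ξ = ξ := by
    intro n
    induction n with
    | zero => rw [pow_zero, τ_one eG a hG]; rfl
    | succ n ih => rw [pow_succ', ← τ_comp eG hG, Scheme.Hom.comp_apply, ih, hz]
  let pt : Spec L := IsLocalRing.closedPoint L
  let F : ℕ → {b : Spec L ⟶ X.left // b ≫ X.hom = a₀ ≫ X.hom ∧ b pt ∈ A} := fun n =>
    ⟨a₀ ≫ τ eG a (z ^ n), by rw [Category.assoc, τ_hom], by
      rw [Scheme.Hom.comp_apply, Scheme.fromSpecResidueField_apply, hpow]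
      exact hξA⟩
  obtain ⟨i, i', hne, hF⟩ := Finite.exists_ne_map_eq_of_infinite F
  have hfg : (a₀ ≫ τ eG a (z ^ i)) ≫ X.hom = a₀ ≫ X.hom := (F i).2.1
  have hi : pt ∈ locus eG a _ _ hfg (z ^ i) := le_locus eG a _ _ hfg ⊤ (z ^ i) rfl (x := pt) trivial
  have hi' : pt ∈ locus eG a _ _ hfg (z ^ i') :=
    le_locus eG a _ _ hfg ⊤ (z ^ i') (congrArg ((⊤ : (Spec L).Opens).ι ≫ ·) (congrArg Subtype.val hF))
      (x := pt) trivial
  have hzz := locus_disjoint eG a _ _ hfg hi hi'
  refine hZ z ?_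
  by_contra h
  exact hne (injective_pow_iff_not_isOfFinOrder.2 h hzz)

lemma exists_translate_point (x x' : X.left) (h : X.hom x = X.hom x') : ∃ z, τ eG a z x' = x := by
  obtain ⟨w, hw, hw'⟩ := Scheme.Pullback.exists_preimage_pullback (f := X.hom) (g := X.hom) x x' h
  have hfg : (pullback.fst X.hom X.hom) ≫ X.hom = pullback.snd X.hom X.hom ≫ X.hom :=
    pullback.condition
  obtain ⟨z, hz⟩ := exists_mem_locus eG a _ _ hfg w
  refine ⟨z, ?_⟩
  have h1 := congrArg (fun φ : (locus eG a _ _ hfg z : Scheme.{u}) ⟶ X.left => φ ⟨w, hz⟩)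
    (locus_eq eG a _ _ hfg z)
  change pullback.fst X.hom X.hom w = τ eG a z (pullback.snd X.hom X.hom w) at h1
  rw [hw, hw'] at h1
  exact h1.symm

include eG hG hZ a hθ in
theorem exists_section_unibranch {S : Scheme.{u}} [IrreducibleSpace S]
    (hS : ∀ s : S, CAlg2.IsGeomUnibranch (S.presheaf.stalk s)) (f : P ⟶ S) [Smooth f]
    (hloc : NonAbH1.IsLocallyTrivialFor Scheme.fppfPrecoverage X) :
    NonAbH1.HasSectionOver X (𝟙 P) := by
  haveI := etale_hom eG a hloc
  haveI hXS : Smooth (X.hom ≫ f) := MorphismProperty.comp_mem _ _ _ inferInstance inferInstance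
  have hsurj : ∀ q : P, ∃ x, X.hom x = q := by
    obtain ⟨R, hR, hsec⟩ := hloc
    obtain ⟨κ, Y, fs, rfl⟩ := R.exists_eq_ofArrows
    obtain ⟨hs, -⟩ := (Scheme.ofArrows_mem_precoverage_iff _).1 hR
    intro q
    obtain ⟨i, t, rfl⟩ := hs q
    obtain ⟨σ', hσ⟩ := hsec (fs i) ⟨i⟩
    exact ⟨σ' t, by rw [← Scheme.Hom.comp_apply, hσ]⟩
  -- maximal points map to and lift maximal points
  have hdown : ∀ ξ : X.left, IsMaximalPt ξ → IsMaximalPt (X.hom ξ) := fun ξ hξ z hz => by
    obtain ⟨z', hz', rfl⟩ := Flat.generalizingMap X.hom hz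
    rw [hξ z' hz']
  have hup : ∀ ξ : X.left, IsMaximalPt (X.hom ξ) → IsMaximalPt ξ := fun ξ hξ z hz => by
    exact AlgSpLib.eq_of_specializes_of_etale X.hom hz (hξ _ (hz.map X.hom.continuous))
  have hlift : ∀ ζ : {ζ : P // IsMaximalPt ζ}, ∃ ξ : X.left, X.hom ξ = ζ := fun ζ => hsurj ζ.1
  choose ξ hξ using hlift
  have hξmax : ∀ ζ, IsMaximalPt (ξ ζ) := fun ζ => hup _ (by rw [hξ]; exact ζ.2)
  let U : X.left.Opens := ⟨⋃ ζ, {x | ξ ζ ⤳ x},
    isOpen_iUnion fun ζ => UnibranchComps.isOpen_component hS (X.hom ≫ f) _ (hξmax ζ)⟩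
  let u : (U : Scheme.{u}) ⟶ P := U.ι ≫ X.hom
  haveI : Etale u := MorphismProperty.comp_mem _ _ _ inferInstance inferInstance
  haveI : Surjective u := ⟨fun q => by
    obtain ⟨x, rfl⟩ := hsurj q
    obtain ⟨ξ', hξ', hξ'x⟩ := (UnibranchComps.existsUnique_maximal hS (X.hom ≫ f) x).exists.imp
      fun ξ' h => h
    obtain ⟨z, hz⟩ := exists_translate_point eG a (ξ ⟨X.hom ξ', hdown ξ' hξ'⟩) ξ' (hξ _)
    have hx : τ eG a z x ∈ U := by
      refine Set.mem_iUnion.2 ⟨⟨X.hom ξ', hdown ξ' hξ'⟩, ?_⟩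
      change ξ _ ⤳ τ eG a z x
      rw [← hz]
      exact hξ'x.map (τ eG a z).continuous
    refine ⟨⟨τ eG a z x, hx⟩, ?_⟩
    change X.hom (τ eG a z x) = X.hom x
    rw [← Scheme.Hom.comp_apply, τ_hom]⟩
  haveI : UniversallyInjective u := by
    refine ((tfae_universallyInjective u).out 1 0).1 ?_
    intro L _ b b' hbb
    have hfg : (b ≫ U.ι) ≫ X.hom = (b' ≫ U.ι) ≫ X.hom := by
      rw [Category.assoc, Category.assoc]
      exact hbb
    let pt : Spec (CommRingCat.of L) := IsLocalRing.closedPoint L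
    obtain ⟨z, hz⟩ := exists_mem_locus eG a _ _ hfg pt
    have h1 := locus_eq eG a _ _ hfg z
    have hpt : U.ι (b pt) = τ eG a z (U.ι (b' pt)) :=
      congrArg (fun φ : (locus eG a _ _ hfg z : Scheme.{u}) ⟶ X.left => φ ⟨pt, hz⟩) h1
    obtain ⟨ζ, hζ⟩ := Set.mem_iUnion.1 (b pt).2
    obtain ⟨ζ', hζ'⟩ := Set.mem_iUnion.1 (b' pt).2
    have hq : X.hom (U.ι (b pt)) = X.hom (U.ι (b' pt)) := by
      rw [hpt, ← Scheme.Hom.comp_apply, τ_hom]
    have hζeq : ζ = ζ' := by
      refine Subtype.ext (UnibranchComps.eq_of_maximal (x := X.hom (U.ι (b pt))) hS ζ.2 ?_ ζ'.2 ?_ f)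
      · rw [← hξ ζ]
        exact (show ξ ζ ⤳ U.ι (b pt) from hζ).map X.hom.continuous
      · rw [hq, ← hξ ζ']
        exact (show ξ ζ' ⤳ U.ι (b' pt) from hζ').map X.hom.continuous
    subst hζeq
    have hfix : τ eG a z (ξ ζ) = ξ ζ := by
      refine UnibranchComps.eq_of_maximal (x := U.ι (b pt)) hS ?_ ?_ (hξmax ζ) hζ (X.hom ≫ f)
      · refine hup _ ?_
        rw [← Scheme.Hom.comp_apply, τ_hom, hξ]
        exact ζ.2
      · rw [hpt]
        exact (show ξ ζ ⤳ U.ι (b' pt) from hζ').map (τ eG a z).continuous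
    have hz1 : z = 1 := eq_one_of_fix eG hG a hZ (ξ ζ) z hfix
    subst hz1
    rw [τ_one eG a hG, Category.comp_id] at h1
    have htop : locus eG a _ _ hfg 1 = ⊤ := by
      refine eq_top_iff.2 fun t _ => ?_
      obtain rfl : t = pt := Subsingleton.elim _ _
      exact hz
    rw [htop] at h1
    haveI : IsIso (⊤ : (Spec (CommRingCat.of L)).Opens).ι := (Spec (CommRingCat.of L)).topIso.isIso_hom
    exact (cancel_mono U.ι).1 ((cancel_epi (⊤ : (Spec (CommRingCat.of L)).Opens).ι).1 h1)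
  haveI : IsOpenImmersion u := FEtLib.isOpenImmersion_of_etale_universallyInjective u
  haveI : IsIso u := (isIso_iff_isOpenImmersion_and_epi_base u).2
    ⟨inferInstance, (TopCat.epi_iff_surjective _).2 u.surjective⟩
  exact ⟨inv u ≫ U.ι, by rw [Category.assoc]; exact IsIso.inv_hom_id u⟩

end

end Groth.Agent.Et18.ConstTorsor
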