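import Mathlib.AlgebraicGeometry.Sites.Proetale
import Groth.Agent.Et18.Deligne

/-!
# The pro-étale site has enough points
-/

universe w u

open CategoryTheory Limits AlgebraicGeometry MorphismProperty

set_option backward.isDefEq.respectTransparency.types false
set_option backward.isDefEq.respectTransparency false

namespace Groth.Agent.Et18

variable {S : Scheme.{u}}

/-- Affine objects of the pro-étale site. -/
abbrev affineObj (S : Scheme.{u}) : ObjectProperty S.ProEt := fun U => IsAffine U.left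

lemma exists_of_map_mem {C D : Type*} [Category C] [Category D] {F : C ⥤ D} {X : C} {R : Presieve X}
    {Z' : D} {φ : Z' ⟶ F.obj X} (h : R.map F φ) :
    ∃ (Z : C) (p : Z ⟶ X) (e : Z' ⟶ F.obj Z), R p ∧ e ≫ F.map p = φ := by
  cases h with
  | of hp => exact ⟨_, _, 𝟙 _, hp, Category.id_comp _⟩

lemma quasiCompactCover_of_finite {W : Scheme.{u}} [IsAffine W] (E : PreZeroHypercover.{w} W)
    [Finite E.I₀] [∀ i, IsAffine (E.X i)] (hE : ∀ x, ∃ i, x ∈ Set.range (E.f i)) :
    QuasiCompactCover E where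
  isCompactOpenCovered_of_isAffineOpen {U} hU := by
    refine .of_finite id (fun i => (E.f i) ⁻¹ᵁ U) (fun i => (hU.preimage (E.f i)).isCompact) ?_
    refine subset_antisymm (Set.iUnion_subset fun i => ?_) fun x hx => ?_
    · exact Set.image_preimage_subset _ _
    · obtain ⟨i, y, rfl⟩ := hE x
      exact Set.mem_iUnion.mpr ⟨i, y, hx, rfl⟩

/-- A finite jointly surjective family of affine objects over an affine object is covering. -/
lemma mem_topology_of_finite {W : S.ProEt} [IsAffine W.left] {ι : Type w} [Finite ι]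
    (Y : ι → S.ProEt) (f : ∀ i, Y i ⟶ W) [∀ i, IsAffine (Y i).left]
    (hsurj : ∀ x : W.left, ∃ i, x ∈ Set.range (f i).left) :
    Sieve.ofArrows Y f ∈ Scheme.ProEt.topology S W := by
  refine Precoverage.generate_mem_toGrothendieck ?_
  rw [Scheme.ProEt.precoverage, Precoverage.mem_comap_iff, Presieve.map_ofArrows]
  let E : PreZeroHypercover.{w} W.left := ⟨ι, fun i => (Y i).left, fun i => (f i).left⟩
  have : Finite E.I₀ := inferInstanceAs (Finite ι)
  have : ∀ i, IsAffine (E.X i) := fun i => inferInstanceAs (IsAffine (Y i).left)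
  refine ⟨Scheme.presieve₀_mem_qcPrecoverage_iff.mpr (quasiCompactCover_of_finite E hsurj), ?_⟩
  refine (Scheme.presieve₀_mem_precoverage_iff E).mpr ⟨hsurj, fun i => ?_⟩
  have : WeaklyEtale ((f i).left ≫ W.hom) := by rw [CategoryTheory.Over.w (f i).hom]; exact (Y i).prop
  exact MorphismProperty.of_postcomp (W := @WeaklyEtale) (W' := @WeaklyEtale) (f i).left W.hom W.prop this

/-- A sieve contains a finite covering family of affine objects. -/
def HasFiniteAffine {W : S.ProEt} (R : Sieve W) : Prop :=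
  ∃ (n : ℕ) (Y : Fin n → S.ProEt) (f : ∀ k, Y k ⟶ W), (∀ k, affineObj S (Y k)) ∧ (∀ k, R (f k)) ∧
    Sieve.ofArrows Y f ∈ Scheme.ProEt.topology S W

lemma hasFiniteAffine_of_finite {W : S.ProEt} {R : Sieve W} {ι : Type*} [Finite ι]
    (Y : ι → S.ProEt) (f : ∀ i, Y i ⟶ W) (hA : ∀ i, affineObj S (Y i)) (hR : ∀ i, R (f i))
    (hJ : Sieve.ofArrows Y f ∈ Scheme.ProEt.topology S W) : HasFiniteAffine R := by
  obtain ⟨n, ⟨e⟩⟩ := Finite.exists_equiv_fin ι
  refine ⟨n, fun k => Y (e.symm k), fun k => f (e.symm k), fun k => hA _, fun k => hR _,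
    (Scheme.ProEt.topology S).superset_covering ?_ hJ⟩
  rw [Sieve.generate_le_iff, Presieve.ofArrows_le_iff]
  intro i
  obtain ⟨k, rfl⟩ := e.symm.surjective i
  exact Sieve.ofArrows_mk _ _ k

lemma saturate_hasFiniteAffine {X : S.ProEt} {R : Sieve X}
    (h : (Scheme.ProEt.precoverage S).Saturate X R) :
    ∀ (W : S.ProEt) (g : W ⟶ X), affineObj S W → HasFiniteAffine (R.pullback g) := by
  induction h with
  | of X R hR =>
    intro W g hW
    have hWa : IsAffine W.left := hW
    rw [Scheme.ProEt.precoverage, Precoverage.mem_comap_iff,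
      Scheme.proetalePrecoverage, Scheme.mem_propQCPrecoverage_iff_exists_quasiCompactCover] at hR
    replace hR : ∃ (𝒰 : Scheme.Cover.{u + 1} (Scheme.precoverage @WeaklyEtale) X.left),
        QuasiCompactCover 𝒰.toPreZeroHypercover ∧
          R.map (Scheme.ProEt.forget S ⋙ CategoryTheory.Over.forget S) = 𝒰.presieve₀ := hR
    obtain ⟨𝒰, hqc, hR⟩ := hR
    have : QuasiCompactCover (𝒰.pullback₁ g.left).toPreZeroHypercover :=
      inferInstanceAs (QuasiCompactCover (𝒰.toPreZeroHypercover.pullback₁ g.left))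
    obtain ⟨𝒱, φ, hfin, -⟩ := QuasiCompactCover.exists_hom (𝒰.pullback₁ g.left)
    let v : ∀ j, Spec (𝒱.X j) ⟶ W.left := fun j => 𝒱.f j
    have hv : ∀ j, WeaklyEtale (v j) := 𝒱.map_prop
    have : ∀ j, WeaklyEtale (v j ≫ W.hom) := fun j => by have := hv j; infer_instance
    let U : 𝒱.I₀ → S.ProEt := fun j => Scheme.ProEt.mk (v j ≫ W.hom)
    let f : ∀ j, U j ⟶ W := fun j => MorphismProperty.Over.homMk (v j) rfl (by simp)
    refine hasFiniteAffine_of_finite U f (fun j => inferInstanceAs (IsAffine (Spec (𝒱.X j)))) (fun j => ?_) ?_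
    · have hmem : (R.map (Scheme.ProEt.forget S ⋙ CategoryTheory.Over.forget S)) (𝒰.f (φ.s₀ j)) := by
        rw [hR]; exact ⟨_⟩
      obtain ⟨Z, p, e, hp, he⟩ := exists_of_map_mem hmem
      let e' : 𝒰.X (φ.s₀ j) ⟶ Z.left := e
      have he' : e' ≫ p.left = 𝒰.f (φ.s₀ j) := he
      let k' : Spec (𝒱.X j) ⟶ Z.left := φ.h₀ j ≫ pullback.snd g.left (𝒰.f (φ.s₀ j)) ≫ e'
      have hk' : k' ≫ p.left = v j ≫ g.left := by
        have hw : φ.h₀ j ≫ pullback.fst g.left (𝒰.f (φ.s₀ j)) = v j := φ.w₀ j
        calc k' ≫ p.left = φ.h₀ j ≫ pullback.snd g.left (𝒰.f (φ.s₀ j)) ≫ (e' ≫ p.left) := by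
              simp [k']
          _ = (φ.h₀ j ≫ pullback.fst g.left (𝒰.f (φ.s₀ j))) ≫ g.left := by
              rw [he', ← pullback.condition, Category.assoc]
          _ = _ := by rw [hw]
      have hg' : g.left ≫ X.hom = W.hom := CategoryTheory.Over.w g.hom
      have hp' : p.left ≫ X.hom = Z.hom := CategoryTheory.Over.w p.hom
      refine ⟨Z, MorphismProperty.Over.homMk k' ?_ (by simp), p, hp, ?_⟩
      · show k' ≫ Z.hom = v j ≫ W.hom
        rw [← hg', ← hp', ← Category.assoc, hk', Category.assoc]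
      · refine (Scheme.ProEt.forget S ⋙ CategoryTheory.Over.forget S).map_injective ?_
        exact hk'
    · have : ∀ j, IsAffine (U j).left := fun j => inferInstanceAs (IsAffine (Spec (𝒱.X j)))
      exact mem_topology_of_finite U f fun x => ⟨𝒱.idx x, 𝒱.covers x⟩
  | top X =>
    intro W g hW
    refine hasFiniteAffine_of_finite (ι := PUnit.{1}) (fun _ => W) (fun _ => 𝟙 W) (fun _ => hW)
      (fun _ => trivial) ?_
    convert (Scheme.ProEt.topology S).top_mem W
    exact Sieve.id_mem_iff_eq_top.mp (Sieve.ofArrows_mk (fun _ : PUnit.{1} => W) (fun _ => 𝟙 W) ⟨⟩)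
  | pullback X R _ Y f ih =>
    intro W g hW
    rw [← Sieve.pullback_comp]
    exact ih W _ hW
  | transitive X R T _ _ ih₁ ih₂ =>
    intro W g hW
    obtain ⟨n, Y, a, hY, ha, hcov⟩ := ih₁ W g hW
    choose m Z b hZ hb hcov' using fun k => ih₂ (ha k) (Y k) (𝟙 _) (hY k)
    refine hasFiniteAffine_of_finite (ι := Σ k, Fin (m k)) (fun x => Z x.1 x.2)
      (fun x => b x.1 x.2 ≫ a x.1) (fun x => hZ x.1 x.2) (fun x => ?_) ?_
    · have := hb x.1 x.2
      simpa using this
    · refine (Scheme.ProEt.topology S).transitive hcov _ ?_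
      rintro V _ ⟨_, c, _, ⟨k⟩, rfl⟩
      rw [Sieve.pullback_comp]
      refine (Scheme.ProEt.topology S).pullback_stable c
        ((Scheme.ProEt.topology S).superset_covering ?_ (hcov' k))
      rw [Sieve.generate_le_iff, Presieve.ofArrows_le_iff]
      exact fun i => Sieve.ofArrows_mk (fun x : Σ k, Fin (m k) => Z x.1 x.2) (fun x => b x.1 x.2 ≫ a x.1) ⟨k, i⟩

theorem coherent_proEt (S : Scheme.{u}) :
    Deligne.Coherent (Scheme.ProEt.topology S) (affineObj S) where
  exists_pullback X Y Z f g hX hY hZ := by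
    refine ⟨pullback f g, pullback.fst f g, pullback.snd f g, ?_, .of_hasPullback f g⟩
    have hsq := (IsPullback.of_hasPullback f g).map (Scheme.ProEt.forget S ⋙ CategoryTheory.Over.forget S)
    have : IsAffine X.left := hX
    have : IsAffine Y.left := hY
    have : IsAffine Z.left := hZ
    let F := Scheme.ProEt.forget S ⋙ CategoryTheory.Over.forget S
    have : IsAffine (F.obj X) := hX
    have : IsAffine (F.obj Y) := hY
    have : IsAffine (F.obj Z) := hZ
    exact IsAffine.of_isIso hsq.isoPullback.hom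
  exists_finite X R hX hR := by
    have := saturate_hasFiniteAffine hR X (𝟙 X) hX
    rwa [Sieve.pullback_id] at this
  exists_mem X R hR := by
    by_contra h
    simp only [not_exists, not_and, not_not] at h
    refine hR ?_
    let 𝒰 := X.left.affineCover
    have : ∀ i, WeaklyEtale (𝒰.f i ≫ X.hom) := fun i => inferInstance
    let U : 𝒰.I₀ → S.ProEt := fun i => Scheme.ProEt.mk (𝒰.f i ≫ X.hom)
    let f : ∀ i, U i ⟶ X := fun i => MorphismProperty.Over.homMk (𝒰.f i) rfl (by simp)
    have hcov : Sieve.ofArrows U f ∈ Scheme.ProEt.topology S X := by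
      refine Precoverage.generate_mem_toGrothendieck ?_
      rw [Scheme.ProEt.precoverage, Precoverage.mem_comap_iff, Presieve.map_ofArrows]
      exact Scheme.zariskiPrecoverage_le_propQCPrecoverage _ 𝒰.mem₀
    refine (Scheme.ProEt.topology S).transitive hcov _ ?_
    rintro V _ ⟨_, c, _, ⟨i⟩, rfl⟩
    rw [Sieve.pullback_comp]
    exact (Scheme.ProEt.topology S).pullback_stable c
      (h (U i) (f i) (inferInstanceAs (IsAffine (𝒰.X i))))

theorem hasEnoughPoints_proEt (S : Scheme.{u}) :
    GrothendieckTopology.HasEnoughPoints.{u + 1} (Scheme.ProEt.topology S) :=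
  Deligne.hasEnoughPoints (coherent_proEt S)

end Groth.Agent.Et18
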