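import Mathlib.RingTheory.Jacobson.Artinian
import Mathlib.RingTheory.Spectrum.Prime.Jacobson
import Mathlib.RingTheory.Spectrum.Prime.Noetherian
import Mathlib.RingTheory.Smooth.Basic
import Mathlib.RingTheory.Noetherian.Basic
import Mathlib.Algebra.MvPolynomial.Derivation
import Mathlib.RingTheory.Derivation.Basic
import Mathlib.RingTheory.Localization.Away.Basic
import Mathlib.RingTheory.Jacobson.Ring

/-!
# Finiteness of `T¹` at isolated non-smooth points
-/

set_option autoImplicit false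
set_option linter.unusedSectionVars false
set_option linter.style.haveILetI false
universe u

namespace Groth.Agent.Et18.T1Fin

/-- A finite module over an algebra of finite type whose support is finite is finite dimensional. -/
theorem finite_of_support {k P Q : Type u} [Field k] [CommRing P] [Algebra k P] [Algebra.FiniteType k P]
    [AddCommGroup Q] [Module P Q] [Module k Q] [IsScalarTower k P Q] [Module.Finite P Q]
    (h : (PrimeSpectrum.zeroLocus (Module.annihilator P Q : Set P)).Finite) : Module.Finite k Q := by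
  let J := Module.annihilator P Q
  haveI : Finite (PrimeSpectrum (P ⧸ J)) := by
    have hr : Set.range (PrimeSpectrum.comap (Ideal.Quotient.mk J)) = PrimeSpectrum.zeroLocus (J : Set P) := by
      rw [range_comap_of_surjective _ _ Ideal.Quotient.mk_surjective, Ideal.mk_ker]
    haveI : Finite (Set.range (PrimeSpectrum.comap (Ideal.Quotient.mk J))) := by
      rw [hr]; exact h.to_subtype
    exact Finite.of_injective (Set.rangeFactorization (PrimeSpectrum.comap (Ideal.Quotient.mk J)))
      fun a b hab => PrimeSpectrum.comap_injective_of_surjective _ Ideal.Quotient.mk_surjective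
        (congrArg Subtype.val hab)
  haveI : Algebra.FiniteType k (P ⧸ J) := Algebra.FiniteType.of_surjective (Ideal.Quotient.mkₐ k J)
    (Ideal.Quotient.mkₐ_surjective k J)
  haveI : IsJacobsonRing (P ⧸ J) := isJacobsonRing_of_finiteType (A := k)
  haveI : Ring.KrullDimLE 0 (P ⧸ J) :=
    (PrimeSpectrum.discreteTopology_iff_finite_and_krullDimLE_zero.1 inferInstance).2
  haveI : Module.Finite k (P ⧸ J) := (Module.finite_iff_krullDimLE_zero k _).2 inferInstance
  letI : Module (P ⧸ J) Q := (Module.isTorsionBySet_annihilator P Q).module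
  haveI : IsScalarTower P (P ⧸ J) Q := (Module.isTorsionBySet_annihilator P Q).isScalarTower
  haveI : IsScalarTower k (P ⧸ J) Q := (Module.isTorsionBySet_annihilator P Q).isScalarTower
  haveI : Module.Finite (P ⧸ J) Q := Module.Finite.of_restrictScalars_finite P (P ⧸ J) Q
  exact Module.Finite.trans (P ⧸ J) Q

variable {k B₀ σ : Type u} [Field k] [CommRing B₀] [Algebra k B₀] [Algebra (MvPolynomial σ k) B₀]
  [IsScalarTower k (MvPolynomial σ k) B₀]

local notation "P" => MvPolynomial σ k
local notation "I" => RingHom.ker (algebraMap (MvPolynomial σ k) B₀)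

variable (k B₀ σ) in
/-- Restriction of derivations to the ideal. -/
noncomputable def res : Derivation k P B₀ →ₗ[P] (I →ₗ[P] B₀) where
  toFun D :=
    { toFun := fun f => D (f : P)
      map_add' := fun f g => map_add D _ _
      map_smul' := fun p f => by
        rw [RingHom.id_apply, Submodule.coe_smul, smul_eq_mul, D.leibniz]
        rw [← algebraMap_smul B₀ (f : P) (D p), RingHom.mem_ker.1 f.2, zero_smul, add_zero] }
  map_add' D D' := LinearMap.ext fun f => rfl
  map_smul' p D := LinearMap.ext fun f => rfl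

/-- Away from the non-smooth locus every homomorphism comes from a derivation, up to a power. -/
theorem exists_pow_smul_mem [Finite σ] (hsurj : Function.Surjective (algebraMap P B₀)) (g : P)
    [Algebra.FormallySmooth k (Localization.Away (algebraMap P B₀ g))] (h : I →ₗ[P] B₀) :
    ∃ K : ℕ, g ^ K • h ∈ LinearMap.range (res k B₀ σ) := by
  classical
  haveI := Fintype.ofFinite σ
  let S := P ⧸ (I) ^ 2
  let π₀ : S →ₐ[k] B₀ := Ideal.Quotient.liftₐ _ (IsScalarTower.toAlgHom k P B₀) fun p hp =>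
    RingHom.mem_ker.1 (Ideal.pow_le_self two_ne_zero hp)
  let ĝ : S := Ideal.Quotient.mk _ g
  let Sg := Localization.Away ĝ
  let Bg := Localization.Away (algebraMap P B₀ g)
  let p : Sg →ₐ[k] Bg := IsLocalization.liftAlgHom (M := Submonoid.powers ĝ)
    (f := (IsScalarTower.toAlgHom k B₀ Bg).comp π₀) fun y => by
      obtain ⟨n, hn⟩ := y.2
      rw [show (y : S) = ĝ ^ n from hn.symm, map_pow]
      exact (IsLocalization.Away.algebraMap_isUnit (algebraMap P B₀ g)).pow n
  have hp : ∀ a : P, p (algebraMap S Sg (Ideal.Quotient.mk _ a)) = algebraMap B₀ Bg (algebraMap P B₀ a) :=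
    fun a => IsLocalization.lift_eq _ _
  have surj : Function.Surjective p := by
    intro z
    obtain ⟨n, b, hb⟩ := IsLocalization.Away.surj (algebraMap P B₀ g) z
    obtain ⟨a, rfl⟩ := hsurj b
    obtain ⟨u, hu⟩ := ((IsLocalization.Away.algebraMap_isUnit (S := Sg) ĝ).pow n)
    refine ⟨algebraMap S Sg (Ideal.Quotient.mk _ a) * ↑u⁻¹, ?_⟩
    rw [map_mul, hp, ← hb, mul_assoc]
    have hu' : p (u : Sg) = algebraMap B₀ Bg (algebraMap P B₀ g) ^ n := by rw [hu, map_pow, hp]
    rw [← hu', ← map_mul, Units.mul_inv, map_one, mul_one]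
  -- elements of the kernel come from the ideal after multiplication by a power of `g`
  have hker : ∀ z : Sg, p z = 0 → ∃ M : ℕ, ∀ N, M ≤ N → ∃ s : I,
      algebraMap S Sg (ĝ ^ N) * z = algebraMap S Sg (Ideal.Quotient.mk _ (s : P)) := by
    intro z hz
    obtain ⟨n, b, hb⟩ := IsLocalization.Away.surj ĝ z
    obtain ⟨a, rfl⟩ := Ideal.Quotient.mk_surjective b
    have h0 : algebraMap B₀ Bg (algebraMap P B₀ a) = 0 := by rw [← hp, ← hb, map_mul, hz, zero_mul]
    obtain ⟨⟨_, m, rfl⟩, hm⟩ := (IsLocalization.map_eq_zero_iff (Submonoid.powers (algebraMap P B₀ g)) Bg _).1 h0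
    refine ⟨n + m, fun N hN => ⟨⟨g ^ (N - n) * a, ?_⟩, ?_⟩⟩
    · have hm' : algebraMap P B₀ g ^ m * algebraMap P B₀ a = 0 := hm
      rw [RingHom.mem_ker, map_mul, map_pow, show N - n = (N - n - m) + m by omega, pow_add, mul_assoc, hm',
        mul_zero]
    · show _ = algebraMap S Sg (Ideal.Quotient.mk _ (g ^ (N - n) * a))
      rw [map_mul (Ideal.Quotient.mk _), map_mul (algebraMap S Sg), ← hb, map_pow (Ideal.Quotient.mk _), map_pow,
        map_pow, mul_comm z, ← mul_assoc, ← pow_add, show N - n + n = N by omega]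
  have hsq : ∀ x y : Sg, p x = 0 → p y = 0 → x * y = 0 := by
    intro x y hx hy
    obtain ⟨M, hM⟩ := hker x hx
    obtain ⟨M', hM'⟩ := hker y hy
    obtain ⟨s, hs⟩ := hM M le_rfl
    obtain ⟨t, ht⟩ := hM' M' le_rfl
    have hu : IsUnit (algebraMap S Sg (ĝ ^ M) * algebraMap S Sg (ĝ ^ M')) := by
      rw [map_pow, map_pow]
      exact ((IsLocalization.Away.algebraMap_isUnit ĝ).pow M).mul
        ((IsLocalization.Away.algebraMap_isUnit ĝ).pow M')
    rw [← hu.mul_right_eq_zero, mul_mul_mul_comm, hs, ht, ← map_mul, ← map_mul]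
    rw [show Ideal.Quotient.mk ((I) ^ 2) ((s : P) * t) = 0 from
      Ideal.Quotient.eq_zero_iff_mem.2 (by rw [sq]; exact Ideal.mul_mem_mul s.2 t.2), map_zero]
  have hnil : IsNilpotent (RingHom.ker (p : Sg →+* Bg)) := by
    have h2 : RingHom.ker (p : Sg →+* Bg) * RingHom.ker (p : Sg →+* Bg) ≤ ⊥ :=
      Ideal.mul_le.2 fun x hx y hy => hsq x y hx hy
    exact ⟨2, (pow_two _).trans (le_antisymm h2 bot_le)⟩
  let sec : Bg →ₐ[k] Sg := Algebra.FormallySmooth.liftOfSurjective (AlgHom.id k Bg) p surj hnil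
  have hsec : ∀ z, p (sec z) = z := Algebra.FormallySmooth.liftOfSurjective_apply (AlgHom.id k Bg) p surj hnil
  let ψ : P →ₐ[k] Sg := (IsScalarTower.toAlgHom k S Sg).comp (Ideal.Quotient.mkₐ k _)
  let τ : P →ₐ[k] Sg := sec.comp (p.comp ψ)
  let δ : P →ₗ[k] Sg := ψ.toLinearMap - τ.toLinearMap
  have hδ : ∀ a, p (δ a) = 0 := fun a => by
    show p (ψ a - τ a) = 0
    rw [map_sub]
    exact sub_eq_zero.2 (hsec _).symm
  have hsmul : ∀ (a : P) (z : Sg), a • z = ψ a * z := fun a z => Algebra.smul_def a z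
  let δ' : Derivation k P Sg := Derivation.mk' δ fun a b => by
    rw [hsmul, hsmul]
    show ψ (a * b) - τ (a * b) = ψ a * (ψ b - τ b) + ψ b * (ψ a - τ a)
    have := hsq (ψ a - τ a) (ψ b - τ b) (hδ a) (hδ b)
    rw [map_mul, map_mul]
    linear_combination -this
  choose M hM using fun i => hker (δ (MvPolynomial.X i)) (hδ _)
  let M₀ := Finset.univ.sup M
  choose s hs using fun i => hM i M₀ (Finset.le_sup (Finset.mem_univ i))
  let E : Derivation k P I := MvPolynomial.mkDerivation k s
  let D : Derivation k P B₀ := h.compDer E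
  let incl : I →ₗ[P] Sg := (Algebra.linearMap P Sg).comp (Submodule.subtype _)
  have heq : ∀ a, algebraMap S Sg (ĝ ^ M₀) * δ a = algebraMap P Sg (E a : P) := by
    have h1 : (g ^ M₀ • δ' : Derivation k P Sg) = incl.compDer E := MvPolynomial.derivation_ext fun i => by
      show g ^ M₀ • δ (MvPolynomial.X i) = algebraMap P Sg ((E (MvPolynomial.X i) : I) : P)
      rw [hsmul, show E (MvPolynomial.X i) = s i from MvPolynomial.mkDerivation_X k s i]
      refine (congrArg (· * _) ?_).trans (hs i)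
      show algebraMap S Sg (Ideal.Quotient.mk _ (g ^ M₀)) = _
      rw [map_pow (Ideal.Quotient.mk _)]
    intro a
    have h2 : g ^ M₀ • δ a = algebraMap P Sg (E a : P) := DFunLike.congr_fun h1 a
    rw [← h2, hsmul]
    refine congrArg (· * _) ?_
    show _ = algebraMap S Sg (Ideal.Quotient.mk _ (g ^ M₀))
    rw [map_pow (Ideal.Quotient.mk _)]
  have hI2 : ∀ y : I, (y : P) ∈ (I) ^ 2 → h y = 0 := by
    rintro ⟨y, hy⟩ hy2
    rw [sq] at hy2
    suffices ∀ z (hz : z ∈ I * I), h ⟨z, Ideal.mul_le_left hz⟩ = 0 from this y hy2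
    intro z hz
    induction hz using Submodule.mul_induction_on' with
    | mem_mul_mem a ha b hb =>
      have e : (⟨a * b, Ideal.mul_mem_left _ a hb⟩ : I) = a • (⟨b, hb⟩ : I) := rfl
      rw [e, map_smul, ← algebraMap_smul B₀ a, RingHom.mem_ker.1 ha, zero_smul]
    | add x hx y hy ihx ihy =>
      have e : (⟨x + y, Ideal.add_mem _ (Ideal.mul_le_left hx) (Ideal.mul_le_left hy)⟩ : I) =
        ⟨x, Ideal.mul_le_left hx⟩ + ⟨y, Ideal.mul_le_left hy⟩ := rfl
      rw [e, map_add, ihx, ihy, add_zero]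
  have key : ∀ f : I, ∃ L : ℕ, g ^ L • ((g ^ M₀ • h - res k B₀ σ D) f) = 0 := by
    intro f
    have h3 : ψ (f : P) = δ f := by
      show ψ (f : P) = ψ f - sec (p (ψ f))
      rw [show p (ψ (f : P)) = algebraMap B₀ Bg (algebraMap P B₀ f) from hp _, RingHom.mem_ker.1 f.2, map_zero,
        map_zero, sub_zero]
    have h4 : algebraMap S Sg (Ideal.Quotient.mk _ ((g ^ M₀ • f - E f : I) : P)) = 0 := by
      rw [Submodule.coe_sub, Submodule.coe_smul, smul_eq_mul, map_sub, map_sub, map_mul, map_mul,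
        map_pow (Ideal.Quotient.mk _)]
      show algebraMap S Sg (ĝ ^ M₀) * ψ (f : P) - algebraMap P Sg (E f : P) = 0
      rw [h3, heq, sub_self]
    obtain ⟨⟨_, L, rfl⟩, hL⟩ := (IsLocalization.map_eq_zero_iff (Submonoid.powers ĝ) Sg _).1 h4
    refine ⟨L, ?_⟩
    have h5 : ((g ^ L • (g ^ M₀ • f - E f) : I) : P) ∈ (I) ^ 2 := by
      rw [← Ideal.Quotient.eq_zero_iff_mem, Submodule.coe_smul, smul_eq_mul, map_mul, map_pow]
      exact hL
    have := hI2 _ h5
    rw [map_smul, map_sub, map_smul] at this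
    exact this
  obtain ⟨T, hT⟩ := (isNoetherian_def.1 (inferInstanceAs (IsNoetherian P P)) (I) : (I).FG)
  choose L hL using fun f : T => key ⟨f.1, hT ▸ Submodule.subset_span f.2⟩
  let L₀ := Finset.univ.sup L
  refine ⟨L₀ + M₀, g ^ L₀ • D, LinearMap.ext fun f => ?_⟩
  let χ : I →ₗ[P] B₀ := g ^ L₀ • (g ^ M₀ • h - res k B₀ σ D)
  suffices hχ : χ f = 0 by
    rw [map_smul, pow_add, mul_smul]
    have := hχ
    simp only [χ, LinearMap.smul_apply, LinearMap.sub_apply, smul_sub, sub_eq_zero] at this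
    exact this.symm
  obtain ⟨f, hf⟩ := f
  induction (hT.symm ▸ hf : f ∈ Submodule.span P (T : Set P)) using Submodule.span_induction with
  | mem x hx =>
    have := hL ⟨x, hx⟩
    show g ^ L₀ • ((g ^ M₀ • h - res k B₀ σ D) ⟨x, hf⟩) = 0
    rw [← Nat.sub_add_cancel (show L ⟨x, hx⟩ ≤ L₀ from Finset.le_sup (f := L) (Finset.mem_univ _)), pow_add, mul_smul,
      this, smul_zero]
  | zero => exact map_zero χ
  | add x y hx hy ihx ihy =>
    have e : (⟨x + y, hf⟩ : I) = ⟨x, hT ▸ hx⟩ + ⟨y, hT ▸ hy⟩ := rfl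
    rw [e, map_add, ihx, ihy, add_zero]
  | smul a x hx ihx =>
    have e : (⟨a • x, hf⟩ : I) = a • ⟨x, hT ▸ hx⟩ := rfl
    rw [e, map_smul, ihx, smul_zero]

/-- **Finiteness of `T¹`** when the non-smooth locus is finite. -/
theorem finite_quotient [Finite σ] (hsurj : Function.Surjective (algebraMap P B₀))
    (Z : Set (PrimeSpectrum B₀)) (hZ : Z.Finite)
    (hg : ∀ q ∉ Z, ∃ b, b ∉ q.asIdeal ∧ Algebra.FormallySmooth k (Localization.Away b)) :
    Module.Finite k ((I →ₗ[P] B₀) ⧸ LinearMap.range (res k B₀ σ)) := by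
  classical
  haveI : Module.Finite P B₀ := Module.Finite.of_surjective (Algebra.linearMap P B₀) hsurj
  haveI : IsNoetherian P B₀ := isNoetherian_of_isNoetherianRing_of_finite P B₀
  haveI : IsNoetherian P (I →ₗ[P] B₀) := isNoetherian_linearMap _ _ _
  refine finite_of_support ((hZ.image (PrimeSpectrum.comap (algebraMap P B₀))).subset fun q hq => ?_)
  rw [PrimeSpectrum.mem_zeroLocus, SetLike.coe_subset_coe] at hq
  have hIq : (I) ≤ q.asIdeal := le_trans (fun a ha => Module.mem_annihilator.2 fun m => by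
    obtain ⟨h, rfl⟩ := Submodule.Quotient.mk_surjective _ m
    rw [← Submodule.Quotient.mk_smul, show a • h = 0 from LinearMap.ext fun f => by
      rw [LinearMap.smul_apply, ← algebraMap_smul B₀ a, RingHom.mem_ker.1 ha, zero_smul]; rfl]
    rfl) hq
  obtain ⟨q₀, rfl⟩ : q ∈ Set.range (PrimeSpectrum.comap (algebraMap P B₀)) := by
    rw [range_comap_of_surjective _ _ hsurj]
    exact hIq
  refine ⟨q₀, by_contra fun hn => ?_, rfl⟩
  obtain ⟨b, hb, hsm⟩ := hg q₀ hn
  obtain ⟨g, rfl⟩ := hsurj b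
  choose K hK using fun h => exists_pow_smul_mem hsurj g h
  obtain ⟨T, hT⟩ := Module.Finite.fg_top (R := P) (M := I →ₗ[P] B₀)
  have hann : g ^ T.sup K ∈ Module.annihilator P ((I →ₗ[P] B₀) ⧸ LinearMap.range (res k B₀ σ)) := by
    refine Module.mem_annihilator.2 fun m => ?_
    obtain ⟨h, rfl⟩ := Submodule.Quotient.mk_surjective _ m
    rw [← Submodule.Quotient.mk_smul, Submodule.Quotient.mk_eq_zero]
    have hh : h ∈ (LinearMap.range (res k B₀ σ)).comap (LinearMap.lsmul P (I →ₗ[P] B₀) (g ^ T.sup K)) := by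
      refine (hT.symm.le.trans (Submodule.span_le.2 fun x hx => ?_)) Submodule.mem_top
      show g ^ T.sup K • x ∈ LinearMap.range (res k B₀ σ)
      rw [← Nat.sub_add_cancel (Finset.le_sup hx : K x ≤ T.sup K), pow_add, mul_smul]
      exact Submodule.smul_mem _ _ (hK x)
    exact hh
  exact hb (q₀.isPrime.mem_of_pow_mem _ (by rw [← map_pow]; exact hq hann))

end Groth.Agent.Et18.T1Fin
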