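import Groth.Agent.Et18.DefT1Class
import Groth.Agent.Et18.T1Fin
import Groth.Agent.Schless.Prorep
import Mathlib.AlgebraicGeometry.Morphisms.Smooth

/-!
# Hulls for deformations of affine schemes with isolated non-smooth points
-/

set_option autoImplicit false
set_option backward.isDefEq.respectTransparency.types false
set_option backward.isDefEq.respectTransparency false
set_option linter.style.haveILetI false
universe u

open AlgebraicGeometry CategoryTheory Limits ArtFun ArtFun.Art TensorProduct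

namespace Groth.Agent.Et18.DefAffHull

variable {Λ k : Type u} [CommRing Λ] [Field k] [Algebra Λ k]

section Transfer

variable {X Y : Scheme.{u}} {x : X ⟶ specPt k} {y : Y ⟶ specPt k}

/-- Transport of a deformation along an isomorphism. -/
@[reducible] noncomputable def transfer (e : X ≅ Y) (he : e.hom ≫ y = x) {A : Art Λ k} (ξ : DefSch Y y A) :
    DefSch X x A where
  total := ξ.total
  f := ξ.f
  flat := ξ.flat
  i := e.hom ≫ ξ.i
  isPullback := ξ.isPullback.of_iso e.symm (Iso.refl _) (Iso.refl _) (Iso.refl _) (by simp)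
    (by simp [← he]) (by simp) (by simp)

/-- Transport on classes. -/
noncomputable def transferCl (e : X ≅ Y) (he : e.hom ≫ y = x) (A : Art Λ k) :
    (defFunctor Y y).obj A → (defFunctor X x).obj A :=
  Quotient.map' (transfer e he) fun ξ ξ' ⟨φ⟩ => ⟨⟨φ.iso, φ.hom_f, by
    show (e.hom ≫ ξ.i) ≫ φ.iso.hom = e.hom ≫ ξ'.i
    rw [Category.assoc, φ.i_hom]⟩⟩

theorem transferCl_natural (e : X ≅ Y) (he : e.hom ≫ y = x) {A B : Art Λ k} (g : A ⟶ B)
    (q : (defFunctor Y y).obj A) :
    transferCl e he B ((defFunctor Y y).map g q) = (defFunctor X x).map g (transferCl e he A q) := by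
  induction q using Quotient.inductionOn with
  | h ξ =>
    refine Quotient.sound ⟨⟨Iso.refl _, Category.id_comp _, ?_⟩⟩
    show (e.hom ≫ (ξ.baseChange g).i) ≫ 𝟙 _ = ((transfer e he ξ).baseChange g).i
    rw [Category.comp_id]
    apply pullback.hom_ext
    · simp
    · simp [← he]

theorem transferCl_bijective (e : X ≅ Y) (he : e.hom ≫ y = x) (A : Art Λ k) :
    Function.Bijective (transferCl (Λ := Λ) e he A) := by
  have he' : e.symm.hom ≫ x = y := by simp [← he]
  refine Function.bijective_iff_has_inverse.2 ⟨transferCl e.symm he' A, fun q => ?_, fun q => ?_⟩ <;>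
  · induction q using Quotient.inductionOn with
    | h ξ =>
      refine Quotient.sound ⟨⟨Iso.refl _, Category.id_comp _, ?_⟩⟩
      simp

theorem hasHull_transfer (e : X ≅ Y) (he : e.hom ≫ y = x) (h : HasHull (defFunctor (Λ := Λ) Y y)) :
    HasHull (defFunctor (Λ := Λ) X x) := by
  obtain ⟨⟨R, ξ, hv, hb⟩⟩ := h
  refine ⟨⟨R, ⟨fun A φ => transferCl e he A (ξ.app A φ), fun g φ => by rw [ξ.natural, transferCl_natural]⟩,
    fun B A μ hμ φ z hz => ?_, ((transferCl_bijective e he _).comp hb : _)⟩⟩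
  obtain ⟨z', rfl⟩ := (transferCl_bijective e he B).2 z
  obtain ⟨ψ, h1, h2⟩ := hv μ hμ φ z' ((transferCl_bijective e he A).1 (by rw [transferCl_natural]; exact hz))
  exact ⟨ψ, h1, congrArg (transferCl e he B) h2⟩

end Transfer

variable {B₀ : Type u} [CommRing B₀] [Algebra k B₀]

theorem hasHull_spec [IsNoetherianRing Λ] (hk : Function.Surjective (algebraMap Λ k)) [Algebra.FiniteType k B₀]
    (U : (Spec (CommRingCat.of B₀)).Opens) (hU : Smooth (U.ι ≫ AffDef.str₀ k B₀))
    (hfin : ((U : Set (Spec (CommRingCat.of B₀)))ᶜ).Finite) :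
    HasHull (defFunctor (Λ := Λ) (Spec (CommRingCat.of B₀)) (AffDef.str₀ k B₀)) := by
  haveI : Module.Finite Λ k := Module.Finite.of_surjective (Algebra.linearMap Λ k) hk
  obtain ⟨σ, _, φ, hφ⟩ := Algebra.FiniteType.iff_quotient_mvPolynomial'.1 ‹Algebra.FiniteType k B₀›
  letI : Algebra (MvPolynomial σ k) B₀ := φ.toRingHom.toAlgebra
  haveI : IsScalarTower k (MvPolynomial σ k) B₀ := IsScalarTower.of_algebraMap_eq fun c => (φ.commutes c).symm
  have hsurj : Function.Surjective (algebraMap (MvPolynomial σ k) B₀) := hφ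
  letI := ArtFunLib.tangentStr (F := defFunctor (Λ := Λ) (Spec (CommRingCat.of B₀)) (AffDef.str₀ k B₀))
    DefGlue.h0_defFunctor DefGlue.heps_defFunctor
  refine Schless.hasHull_of DefGlue.h0_defFunctor DefGlue.s1_defFunctor DefGlue.heps_defFunctor ?_
    (Schless.injective_base_dual (Schless.subsingleton_derivation_of_surjective hk))
  haveI : Finite σ := Finite.of_fintype σ
  haveI : Module.Finite k ((RingHom.ker (algebraMap (MvPolynomial σ k) B₀) →ₗ[MvPolynomial σ k] B₀) ⧸
      LinearMap.range (T1Fin.res k B₀ σ)) := by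
    refine T1Fin.finite_quotient hsurj _ hfin fun q hq => ?_
    have hq' : q ∈ (U : Set (Spec (CommRingCat.of B₀))) := not_not.1 hq
    obtain ⟨_, ⟨b, rfl⟩, hbq, hbU⟩ :=
      PrimeSpectrum.isTopologicalBasis_basic_opens.exists_subset_of_mem_open hq' U.isOpen
    refine ⟨b, hbq, ?_⟩
    let j : Spec (CommRingCat.of (Localization.Away b)) ⟶ Spec (CommRingCat.of B₀) :=
      Spec.map (CommRingCat.ofHom (algebraMap B₀ (Localization.Away b)))
    have hj : Set.range j ⊆ Set.range U.ι := by
      rw [Scheme.Opens.range_ι]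
      exact le_of_eq_of_le (PrimeSpectrum.localization_away_comap_range (Localization.Away b) b) hbU
    haveI : IsOpenImmersion j := IsOpenImmersion.of_isLocalization b
    haveI := hU
    have hs : Smooth (IsOpenImmersion.lift U.ι j hj ≫ U.ι ≫ AffDef.str₀ k B₀) := by
      haveI : IsOpenImmersion (IsOpenImmersion.lift U.ι j hj) := by
        haveI : IsOpenImmersion (IsOpenImmersion.lift U.ι j hj ≫ U.ι) := by
          rw [IsOpenImmersion.lift_fac]; infer_instance
        exact IsOpenImmersion.of_comp _ U.ι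
      infer_instance
    rw [← Category.assoc, IsOpenImmersion.lift_fac, ← Spec.map_comp, HasRingHomProperty.Spec_iff (P := @Smooth),
      ← CommRingCat.ofHom_comp, ← IsScalarTower.algebraMap_eq] at hs
    exact ((RingHom.smooth_algebraMap (R := k) (S := Localization.Away b)).1 hs).formallySmooth
  let ρ := AlgebraTensorModule.rid k (MvPolynomial σ k) B₀
  let c₀ : (RingHom.ker (algebraMap (MvPolynomial σ k) B₀) →ₗ[MvPolynomial σ k] B₀) →ₗ[k]
      (RingHom.ker (algebraMap (MvPolynomial σ k) B₀) →ₗ[MvPolynomial σ k] B₀ ⊗[k] k) :=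
    { toFun := fun h => ρ.symm.toLinearMap.comp h
      map_add' := fun h h' => LinearMap.comp_add h h' _
      map_smul' := fun c h => LinearMap.ext fun f => LinearMap.map_smul_of_tower ρ.symm.toLinearMap c (h f) }
  let Φ : (RingHom.ker (algebraMap (MvPolynomial σ k) B₀) →ₗ[MvPolynomial σ k] B₀) →ₗ[k]
      TangentSpace (defFunctor (Λ := Λ) (Spec (CommRingCat.of B₀)) (AffDef.str₀ k B₀)) :=
    (DefT1.toTangent (Λ := Λ) hsurj).comp c₀
  have hΦ : (LinearMap.range (T1Fin.res k B₀ σ)).restrictScalars k ≤ LinearMap.ker Φ := by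
    rintro _ ⟨D, rfl⟩
    exact DefT1.toTangent_derivation hsurj (ρ.symm.toLinearMap.compDer D) _ fun f => rfl
  refine Module.Finite.of_surjective (((LinearMap.range (T1Fin.res k B₀ σ)).restrictScalars k).liftQ Φ hΦ ∘ₗ
    (Submodule.Quotient.restrictScalarsEquiv k _).symm.toLinearMap) fun t => ?_
  obtain ⟨h, rfl⟩ := DefT1.toTangent_surjective (Λ := Λ) hsurj t
  refine ⟨Submodule.Quotient.mk (ρ.toLinearMap.comp h), ?_⟩
  show DefT1.toTangent (Λ := Λ) hsurj (ρ.symm.toLinearMap.comp (ρ.toLinearMap.comp h)) = _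
  congr 1
  exact LinearMap.ext fun f => ρ.symm_apply_apply _

theorem hasHull_affine [IsNoetherianRing Λ] (hk : Function.Surjective (algebraMap Λ k)) (X : Scheme.{u}) [IsAffine X]
    (x : X ⟶ specPt k) [LocallyOfFiniteType x] (U : X.Opens) (hU : Smooth (U.ι ≫ x))
    (hfin : ((U : Set X)ᶜ).Finite) : HasHull (defFunctor (Λ := Λ) X x) := by
  obtain ⟨φ, hφ⟩ := Spec.map_surjective (X.isoSpec.inv ≫ x)
  letI : Algebra k Γ(X, ⊤) := φ.hom.toAlgebra
  have he : X.isoSpec.hom ≫ AffDef.str₀ k Γ(X, ⊤) = x := by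
    show X.isoSpec.hom ≫ Spec.map φ = x
    rw [hφ, Iso.hom_inv_id_assoc]
  haveI : Algebra.FiniteType k Γ(X, ⊤) := by
    have h1 : LocallyOfFiniteType (Spec.map φ) := hφ ▸ inferInstance
    exact (HasRingHomProperty.Spec_iff (P := @LocallyOfFiniteType)).1 h1
  refine hasHull_transfer X.isoSpec he (hasHull_spec hk (X.isoSpec.inv ⁻¹ᵁ U) ?_ ?_)
  · haveI := hU
    have h2 : (X.isoSpec.inv ⁻¹ᵁ U).ι ≫ AffDef.str₀ k Γ(X, ⊤) = (X.isoSpec.inv ∣_ U) ≫ U.ι ≫ x := by
      rw [← he, ← Category.assoc (X.isoSpec.inv ∣_ U), morphismRestrict_ι, Category.assoc, Iso.inv_hom_id_assoc]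
    rw [h2]
    infer_instance
  · exact Set.Finite.preimage X.isoSpec.inv.homeomorph.injective.injOn hfin

end Groth.Agent.Et18.DefAffHull
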