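import Groth.Agent.Et18.DefGlue

/-!
# Pro-representability conditions of deformation functors and automorphisms
-/

set_option autoImplicit false
set_option backward.isDefEq.respectTransparency.types false
set_option linter.style.haveILetI false
universe u

open AlgebraicGeometry CategoryTheory Limits ArtFun ArtFun.Art

namespace Groth.Agent.Et18.DefGlue

variable {Λ k : Type u} [CommRing Λ] [Field k] [Algebra Λ k] {X : Scheme.{u}} {x : X ⟶ specPt k}
variable {A B C : Art Λ k}

/-- Isomorphisms of deformations are determined by the map of total spaces. -/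
theorem iso_ext {η η' : DefSch X x A} {e e' : η.Iso η'} (h : e.iso.hom = e'.iso.hom) : e = e' := by
  obtain ⟨i₁, a₁, b₁⟩ := e
  obtain ⟨i₂, a₂, b₂⟩ := e'
  obtain rfl : i₁ = i₂ := Iso.ext h
  rfl

/-- Lifting of automorphisms along `p`. -/
def AutLift (X : Scheme.{u}) (x : X ⟶ specPt k) (p : B ⟶ A) : Prop :=
  ∀ ξ : DefSch X x B, Function.Surjective (fun e : ξ.Iso ξ => e.baseChange p)

theorem baseChange_hom_fst {ξ ξ' : DefSch X x B} (e : ξ.Iso ξ') (g : B ⟶ A) :
    (e.baseChange g).iso.hom ≫ pullback.fst ξ'.f (specMap g) = pullback.fst ξ.f (specMap g) ≫ e.iso.hom :=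
  DefSch.pullMap_fst e.iso.hom e.hom_f g

/-- Automorphisms of the source of a morphism lift to automorphisms of the target. -/
theorem exists_lift_aut {g : B ⟶ A} (hg : AutLift X x g) {η : DefSch X x A} {ξ : DefSch X x B} (m : Mor g η ξ)
    (α : η.Iso η) : ∃ e : ξ.Iso ξ, m.hom ≫ e.iso.hom = α.iso.hom ≫ m.hom := by
  obtain ⟨e, he⟩ := hg ξ ((m.toBaseChange.symm.trans α).trans m.toBaseChange)
  refine ⟨e, ?_⟩
  have h1 := baseChange_hom_fst e g
  rw [show e.baseChange g = _ from he] at h1
  replace h1 : ((m.toBaseChange.iso.inv ≫ α.iso.hom) ≫ m.toBaseChange.iso.hom) ≫ pullback.fst ξ.f (specMap g) =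
      pullback.fst ξ.f (specMap g) ≫ e.iso.hom := h1
  simp only [Category.assoc, m.toBaseChange_fst] at h1
  rw [← m.toBaseChange_fst, Category.assoc, ← h1, Iso.hom_inv_id_assoc, m.toBaseChange_fst]

section Square

variable {A' A'' : Art Λ k} {p' : B ⟶ A'} {p'' : B ⟶ A''} {f' : A' ⟶ A} {f'' : A'' ⟶ A}
  (h : IsFibreProd p' p'' f' f'') (hf : Function.Surjective f'')

include h hf in
theorem cmp_injective_of_autLift (hl : AutLift X x f'') :
    Function.Injective (cmp (defFunctor X x) h) := by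
  refine (ArtFunLib.cmp_injective_iff h).2 fun a b ha hb => ?_
  induction a using Quotient.inductionOn with
  | h ζ =>
    induction b using Quotient.inductionOn with
    | h ζ₁ =>
      obtain ⟨t'⟩ := nonempty_mor (η := ζ.baseChange p') (ξ := ζ₁) ha.symm
      obtain ⟨t''⟩ := nonempty_mor (η := ζ.baseChange p'') (ξ := ζ₁) hb.symm
      let o' := Mor.fst ζ p'
      let o'' := Mor.fst ζ p''
      let m'' := Mor.fst (ζ.baseChange p'') f''
      have hw : (m''.comp o'').hom ≫ ζ.f =
          (((ζ.baseChange p'').baseChange f'').f ≫ specMap f') ≫ specMap p' := by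
        rw [(m''.comp o'').w, Category.assoc, ← specMap_comp, ← h.w]
      let m' : Mor f' ((ζ.baseChange p'').baseChange f'') (ζ.baseChange p') :=
        { hom := pullback.lift (m''.comp o'').hom (((ζ.baseChange p'').baseChange f'').f ≫ specMap f') hw
          w := pullback.lift_snd _ _ _
          i_hom := by
            apply pullback.hom_ext
            · rw [Category.assoc, pullback.lift_fst, (m''.comp o'').i_hom, DefSch.baseChange_i_fst]
            · rw [Category.assoc, pullback.lift_snd, DefSch.baseChange_i_f, ← Category.assoc,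
                DefSch.baseChange_i_f, Category.assoc, specRes_comp] }
      have ho : m'.hom ≫ o'.hom = m''.hom ≫ o''.hom := pullback.lift_fst _ _ _
      let u' := m'.comp t'
      let u'' : Mor (p' ≫ f') ((ζ.baseChange p'').baseChange f'') ζ₁ :=
        { hom := (m''.comp t'').hom
          w := by rw [h.w]; exact (m''.comp t'').w
          i_hom := (m''.comp t'').i_hom }
      obtain ⟨α, hα⟩ := u'.exists_iso u''
      obtain ⟨E, hE⟩ := exists_lift_aut hl m'' α
      have ht : m'.hom ≫ t'.hom = m''.hom ≫ (t''.isoComp E).hom := by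
        show m'.hom ≫ t'.hom = m''.hom ≫ E.iso.hom ≫ t''.hom
        rw [reassoc_of% hE]
        exact hα.symm
      exact Quotient.sound (nonempty_iso h hf m' m'' o' o'' ho t' (t''.isoComp E) ht)

end Square

/-- Injectivity of the comparison map for `A' ×_A A'` gives lifting of automorphisms. -/
theorem autLift_of_cmp_injective {A' : Art Λ k} {p : A' ⟶ A} {p₁ p₂ : B ⟶ A'} (h : IsFibreProd p₁ p₂ p p)
    (hp : Function.Surjective p) (hinj : Function.Injective (cmp (defFunctor X x) h)) : AutLift X x p := by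
  intro ξ α
  let m := Mor.fst ξ p
  obtain ⟨W₁, n₁, n₁', hn₁, -⟩ := exists_glue h hp m m
  obtain ⟨W₂, n₂, n₂', hn₂, -⟩ := exists_glue h hp m (m.isoComp α)
  obtain ⟨E⟩ : Nonempty (W₁.Iso W₂) := Quotient.exact ((ArtFunLib.cmp_injective_iff h).1 hinj W₁.cl W₂.cl
    ((map_cl n₁).trans (map_cl n₂).symm) ((map_cl n₁').trans (map_cl n₂').symm))
  obtain ⟨a₁, ha₁⟩ := (n₁.compIso E).exists_iso n₂
  obtain ⟨a₂, ha₂⟩ := (n₁'.compIso E).exists_iso n₂'
  replace ha₁ : a₁.iso.hom ≫ n₂.hom = n₁.hom ≫ E.iso.hom := ha₁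
  replace ha₂ : a₂.iso.hom ≫ n₂'.hom = n₁'.hom ≫ E.iso.hom := ha₂
  replace hn₂ : m.hom ≫ n₂.hom = α.iso.hom ≫ m.hom ≫ n₂'.hom := hn₂.trans (Category.assoc _ _ _)
  have key : (a₁.baseChange p).iso.hom ≫ α.iso.hom = (a₂.baseChange p).iso.hom := by
    refine (m.comp n₂').isPullback.hom_ext ?_ ?_
    · show ((a₁.baseChange p).iso.hom ≫ α.iso.hom) ≫ m.hom ≫ n₂'.hom =
        (a₂.baseChange p).iso.hom ≫ m.hom ≫ n₂'.hom
      rw [Category.assoc, ← hn₂]
      show (a₁.baseChange p).iso.hom ≫ pullback.fst _ _ ≫ n₂.hom =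
        (a₂.baseChange p).iso.hom ≫ pullback.fst _ _ ≫ n₂'.hom
      rw [reassoc_of% baseChange_hom_fst a₁ p, reassoc_of% baseChange_hom_fst a₂ p, ha₁, ha₂,
        ← Category.assoc, show pullback.fst ξ.f (specMap p) ≫ n₁.hom = pullback.fst ξ.f (specMap p) ≫ n₁'.hom
          from hn₁, Category.assoc]
    · rw [Category.assoc, α.hom_f, (a₁.baseChange p).hom_f, (a₂.baseChange p).hom_f]
  refine ⟨a₁.symm.trans a₂, iso_ext ?_⟩
  rw [← cancel_epi (a₁.baseChange p).iso.hom, key]
  apply pullback.hom_ext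
  · rw [Category.assoc, baseChange_hom_fst, ← Category.assoc, baseChange_hom_fst, baseChange_hom_fst]
    show (pullback.fst ξ.f (specMap p) ≫ a₁.iso.hom) ≫ a₁.iso.inv ≫ a₂.iso.hom =
      pullback.fst ξ.f (specMap p) ≫ a₂.iso.hom
    simp
  · rw [Category.assoc, ((a₁.symm.trans a₂).baseChange p).hom_f, (a₁.baseChange p).hom_f,
      (a₂.baseChange p).hom_f]

/-- Lifting of automorphisms along all surjections from small extensions. -/
theorem autLift_of_small
    (hl : ∀ ⦃B A : Art Λ k⦄ (p : B ⟶ A), IsSmallExt p → AutLift X x p) :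
    ∀ ⦃B A : Art Λ k⦄ (p : B ⟶ A), Function.Surjective p → AutLift X x p := by
  intro B A p hp
  refine ArtFunLib.surj_induction (fun A B (μ : B ⟶ A) => AutLift X x μ) ?_ (fun A B p hp => hl p hp) ?_ p hp
  · intro A B e he ξ α
    let m := Mor.fst ξ e
    have : IsIso (specMap e) := ⟨specMap (inv e), by rw [← specMap_comp, IsIso.inv_hom_id, specMap_id],
      by rw [← specMap_comp, IsIso.hom_inv_id, specMap_id]⟩
    have : IsIso m.hom := m.isPullback.isIso_fst_of_isIso
    refine ⟨isoOfHom (inv m.hom ≫ α.iso.hom ≫ m.hom) ?_ ?_, iso_ext ?_⟩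
    · rw [Category.assoc, Category.assoc, m.w, reassoc_of% α.hom_f, ← m.w, IsIso.inv_hom_id_assoc]
    · rw [← m.i_hom]
      simp [reassoc_of% α.i_hom]
    · apply pullback.hom_ext
      · rw [baseChange_hom_fst]
        exact IsIso.hom_inv_id_assoc m.hom _
      · exact (DefSch.Iso.hom_f _).trans α.hom_f.symm
  · intro A B C p q _ _ hp hq ξ α
    let e := ξ.baseChangeComp p q
    obtain ⟨β, hβ⟩ := hq (ξ.baseChange p) ((e.symm.trans α).trans e)
    obtain ⟨E, hE⟩ := hp ξ β
    refine ⟨E, ?_⟩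
    replace hE : E.baseChange p = β := hE
    replace hβ : β.baseChange q = (e.symm.trans α).trans e := hβ
    have hβ' : (β.baseChange q).iso.hom = (e.iso.inv ≫ α.iso.hom) ≫ e.iso.hom := by rw [hβ]; rfl
    apply iso_ext
    rw [← cancel_mono e.iso.hom]
    have hnat : (E.baseChange (p ≫ q)).iso.hom ≫ e.iso.hom = e.iso.hom ≫ (β.baseChange q).iso.hom := by
      subst hE
      refine ((Mor.fst (ξ.baseChange p) q).comp (Mor.fst ξ p)).isPullback.hom_ext ?_ ?_
      · show (_ ≫ e.iso.hom) ≫ pullback.fst _ _ ≫ pullback.fst _ _ =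
          (e.iso.hom ≫ _) ≫ pullback.fst _ _ ≫ pullback.fst _ _
        have he : e.iso.hom ≫ pullback.fst (ξ.baseChange p).f (specMap q) ≫ pullback.fst ξ.f (specMap p) =
            pullback.fst ξ.f (specMap (p ≫ q)) := IsPullback.isoIsPullback_hom_fst _ _ _ _
        rw [Category.assoc, he, baseChange_hom_fst, Category.assoc,
          reassoc_of% baseChange_hom_fst (E.baseChange p) q, baseChange_hom_fst, reassoc_of% he]
      · rw [Category.assoc, e.hom_f, (E.baseChange (p ≫ q)).hom_f, Category.assoc,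
          ((E.baseChange p).baseChange q).hom_f, e.hom_f]
    rw [hnat, hβ']
    simp

end Groth.Agent.Et18.DefGlue
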