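import Groth.Agent.Et18.AffDef
import Groth.Agent.FlatCrit.Inj
import Mathlib.LinearAlgebra.TensorProduct.Basis
import Mathlib.RingTheory.Derivation.Basic
import Mathlib.Algebra.TrivSqZeroExt.Basic

/-!
# First order deformations of an affine scheme from homomorphisms on the ideal of a presentation
-/

set_option autoImplicit false
set_option backward.isDefEq.respectTransparency.types false
set_option backward.isDefEq.respectTransparency false
set_option linter.unusedSectionVars false
set_option linter.style.haveILetI false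
universe u

open CategoryTheory TensorProduct ArtFun ArtFun.Art

namespace Groth.Agent.Et18.DefT1

variable {k P B₀ : Type u} [Field k] [CommRing P] [Algebra k P] [CommRing B₀] [Algebra k B₀] [Algebra P B₀]
  [IsScalarTower k P B₀] (W : Type u) [AddCommGroup W] [Module k W]

/-- values of first order deformations -/
abbrev Val (B₀ W : Type u) [CommRing B₀] [Algebra k B₀] [AddCommGroup W] [Module k W] : Type u := B₀ ⊗[k] W

noncomputable instance opModule : Module Pᵐᵒᵖ (Val (k := k) B₀ W) :=
  Module.compHom _ ((RingHom.id P).fromOpposite fun x y => Commute.all x y)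

instance : IsCentralScalar P (Val (k := k) B₀ W) := ⟨fun _ _ => rfl⟩

instance : SMulCommClass P Pᵐᵒᵖ (Val (k := k) B₀ W) := ⟨fun a b m => smul_comm a b.unop m⟩

variable {W}

/-- the ideal of relations -/
noncomputable def rels (h : RingHom.ker (algebraMap P B₀) →ₗ[P] Val (k := k) B₀ W) :
    Ideal (TrivSqZeroExt P (Val (k := k) B₀ W)) where
  carrier := {z | ∃ hf : z.fst ∈ RingHom.ker (algebraMap P B₀), z.snd = -h ⟨z.fst, hf⟩}
  zero_mem' := ⟨zero_mem _, by
    show (0 : Val (k := k) B₀ W) = -h 0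
    rw [map_zero, neg_zero]⟩
  add_mem' := by
    rintro x y ⟨hx, hx'⟩ ⟨hy, hy'⟩
    refine ⟨add_mem hx hy, ?_⟩
    rw [TrivSqZeroExt.snd_add, hx', hy', ← neg_add, ← map_add]
    rfl
  smul_mem' := by
    rintro a x ⟨hx, hx'⟩
    refine ⟨Ideal.mul_mem_left _ _ hx, ?_⟩
    have hkill : ∀ m : Val (k := k) B₀ W, x.fst • m = 0 := fun m => by
      rw [← algebraMap_smul B₀ x.fst m, RingHom.mem_ker.1 hx, zero_smul]
    refine (TrivSqZeroExt.snd_mul a x).trans ?_
    rw [op_smul_eq_smul, hkill, add_zero, hx', smul_neg, ← map_smul]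
    rfl

/-- the first order deformation ring -/
abbrev R (h : RingHom.ker (algebraMap P B₀) →ₗ[P] Val (k := k) B₀ W) : Type u :=
  TrivSqZeroExt P (Val (k := k) B₀ W) ⧸ rels h

section Algebra

variable [Module kᵐᵒᵖ W] [IsCentralScalar k W] [SMulCommClass k kᵐᵒᵖ W]

/-- scalars -/
noncomputable def ι : TrivSqZeroExt k W →+* TrivSqZeroExt P (Val (k := k) B₀ W) where
  toFun z := TrivSqZeroExt.inl (algebraMap k P z.fst) + TrivSqZeroExt.inr ((1 : B₀) ⊗ₜ[k] z.snd)
  map_zero' := TrivSqZeroExt.ext (by simp) (by simp)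
  map_one' := TrivSqZeroExt.ext (by simp) (by simp)
  map_add' x y := TrivSqZeroExt.ext (by simp) (by simp [tmul_add])
  map_mul' x y := TrivSqZeroExt.ext (by simp) (by
    simp [TrivSqZeroExt.snd_mul, op_smul_eq_smul, tmul_add, algebraMap_smul, tmul_smul])

theorem fst_ι (z : TrivSqZeroExt k W) :
    (ι (P := P) (B₀ := B₀) z).fst = algebraMap k P z.fst := by simp [ι]

/-- the reduction -/
noncomputable def π (h : RingHom.ker (algebraMap P B₀) →ₗ[P] Val (k := k) B₀ W) : R h →+* B₀ :=
  Ideal.Quotient.lift _ ((algebraMap P B₀).comp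
    (TrivSqZeroExt.fstHom P P (Val (k := k) B₀ W)).toRingHom) fun _ hz => RingHom.mem_ker.1 hz.1

theorem π_surj (hsurj : Function.Surjective (algebraMap P B₀))
    (h : RingHom.ker (algebraMap P B₀) →ₗ[P] Val (k := k) B₀ W) : Function.Surjective (π h) := fun b => by
  obtain ⟨p, rfl⟩ := hsurj b
  exact ⟨Ideal.Quotient.mk _ (TrivSqZeroExt.inl p), rfl⟩

theorem π_ι (h : RingHom.ker (algebraMap P B₀) →ₗ[P] Val (k := k) B₀ W) (z : TrivSqZeroExt k W) :
    π h (Ideal.Quotient.mk _ (ι z)) = algebraMap k B₀ z.fst := by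
  show algebraMap P B₀ (ι (P := P) (B₀ := B₀) z).fst = _
  rw [fst_ι, ← IsScalarTower.algebraMap_apply]

theorem inr_eq (hsurj : Function.Surjective (algebraMap P B₀)) (m : Val (k := k) B₀ W) :
    TrivSqZeroExt.inr m ∈ (RingHom.ker (TrivSqZeroExt.fstHom k k W)).map (ι (P := P) (B₀ := B₀)) := by
  induction m using TensorProduct.induction_on with
  | zero => rw [TrivSqZeroExt.inr_zero]; exact zero_mem _
  | add x y hx hy => rw [TrivSqZeroExt.inr_add]; exact add_mem hx hy
  | tmul b w =>
    obtain ⟨p, rfl⟩ := hsurj b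
    have he : (TrivSqZeroExt.inr (algebraMap P B₀ p ⊗ₜ[k] w) : TrivSqZeroExt P (Val (k := k) B₀ W)) =
        TrivSqZeroExt.inl p * ι (TrivSqZeroExt.inr w) :=
      TrivSqZeroExt.ext (by simp [ι]) (by simp [ι, TrivSqZeroExt.snd_mul, smul_tmul', Algebra.smul_def])
    rw [he]
    exact Ideal.mul_mem_left _ _ (Ideal.mem_map_of_mem _ (TrivSqZeroExt.fst_inr k w))

theorem ker_π_le (hsurj : Function.Surjective (algebraMap P B₀))
    (h : RingHom.ker (algebraMap P B₀) →ₗ[P] Val (k := k) B₀ W) :
    RingHom.ker (π h) ≤ (RingHom.ker (TrivSqZeroExt.fstHom k k W)).map ((Ideal.Quotient.mk (rels h)).comp ι) := by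
  intro x hx
  obtain ⟨z, rfl⟩ := Ideal.Quotient.mk_surjective x
  have hf : z.fst ∈ RingHom.ker (algebraMap P B₀) := hx
  have he : z - TrivSqZeroExt.inr (z.snd + h ⟨z.fst, hf⟩) ∈ rels h := by
    refine ⟨by simpa using hf, ?_⟩
    simp
  rw [Ideal.Quotient.eq.2 he, ← Ideal.map_map]
  exact Ideal.mem_map_of_mem _ (inr_eq hsurj _)

theorem flat (hsurj : Function.Surjective (algebraMap P B₀))
    (h : RingHom.ker (algebraMap P B₀) →ₗ[P] Val (k := k) B₀ W) :
    RingHom.Flat (R := TrivSqZeroExt k W) (S := R h) ((Ideal.Quotient.mk (rels h)).comp ι) := by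
  classical
  letI : Algebra (TrivSqZeroExt k W) (R h) :=
    RingHom.toAlgebra (R := TrivSqZeroExt k W) (S := R h) ((Ideal.Quotient.mk (rels h)).comp ι)
  rw [RingHom.Flat]
  let b := Module.Free.chooseBasis k B₀
  choose z hz using fun j => hsurj (b j)
  let L := Finsupp.linearCombination (TrivSqZeroExt k W)
    fun j => (Ideal.Quotient.mk (rels h) (TrivSqZeroExt.inl (z j)) : R h)
  have hL : ∀ a, ∃ zz, L a = Ideal.Quotient.mk (rels h) zz ∧
      zz.fst = Finsupp.linearCombination k z (a.mapRange TrivSqZeroExt.fst TrivSqZeroExt.fst_zero) ∧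
      zz.snd = (TensorProduct.equivFinsuppOfBasisLeft b).symm
        (a.mapRange TrivSqZeroExt.snd TrivSqZeroExt.snd_zero) := by
    intro a
    induction a using Finsupp.induction_linear with
    | zero => exact ⟨0, by simp [L], by simp, by simp⟩
    | add f g hf hg =>
      obtain ⟨x, hx, hx₁, hx₂⟩ := hf
      obtain ⟨y, hy, hy₁, hy₂⟩ := hg
      exact ⟨x + y, by rw [map_add, hx, hy, map_add],
        by rw [TrivSqZeroExt.fst_add, hx₁, hy₁, Finsupp.mapRange_add TrivSqZeroExt.fst_add, map_add],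
        by rw [TrivSqZeroExt.snd_add, hx₂, hy₂, Finsupp.mapRange_add TrivSqZeroExt.snd_add, map_add]⟩
    | single j c =>
      refine ⟨ι c * TrivSqZeroExt.inl (z j), ?_, ?_, ?_⟩
      · simp only [L, Finsupp.linearCombination_single]
        exact (Algebra.smul_def c _).trans (map_mul (Ideal.Quotient.mk (rels h)) (ι c) (TrivSqZeroExt.inl (z j))).symm
      · simp [fst_ι, Algebra.smul_def]
      · rw [Finsupp.mapRange_single, TensorProduct.equivFinsuppOfBasisLeft_symm_apply]
        simp [ι, TrivSqZeroExt.snd_mul, op_smul_eq_smul, smul_tmul', Algebra.smul_def, hz]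
  refine @Module.Flat.of_free _ _ _ _ _ (Module.Free.of_equiv (LinearEquiv.ofBijective L ⟨?_, ?_⟩))
  · rw [injective_iff_map_eq_zero]
    intro a ha
    obtain ⟨zz, hzz, h1, h2⟩ := hL a
    rw [ha, eq_comm, Ideal.Quotient.eq_zero_iff_mem] at hzz
    obtain ⟨hf, hs⟩ := hzz
    have hc : a.mapRange TrivSqZeroExt.fst TrivSqZeroExt.fst_zero = 0 := by
      apply b.linearIndependent.finsuppLinearCombination_injective
      rw [map_zero]
      have := congrArg ((IsScalarTower.toAlgHom k P B₀).toLinearMap) h1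
      rw [Finsupp.apply_linearCombination] at this
      simp only [Function.comp_def, AlgHom.toLinearMap_apply, IsScalarTower.coe_toAlgHom'] at this
      rw [RingHom.mem_ker.1 hf] at this
      simpa [hz] using this.symm
    have hz0 : zz.fst = 0 := by rw [h1, hc, map_zero]
    have hs0 : zz.snd = 0 := by
      rw [hs, show (⟨zz.fst, hf⟩ : RingHom.ker (algebraMap P B₀)) = 0 from Subtype.ext hz0, map_zero, neg_zero]
    rw [h2, LinearEquiv.map_eq_zero_iff] at hs0
    refine Finsupp.ext fun j => TrivSqZeroExt.ext ?_ ?_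
    · simpa using DFunLike.congr_fun hc j
    · simpa using DFunLike.congr_fun hs0 j
  · intro x
    obtain ⟨y, rfl⟩ := Ideal.Quotient.mk_surjective x
    let c := b.repr (algebraMap P B₀ y.fst)
    have hd : y.fst - Finsupp.linearCombination k z c ∈ RingHom.ker (algebraMap P B₀) := by
      rw [RingHom.mem_ker, map_sub, sub_eq_zero]
      have := Finsupp.apply_linearCombination k (IsScalarTower.toAlgHom k P B₀).toLinearMap z c
      simp only [Function.comp_def, AlgHom.toLinearMap_apply, IsScalarTower.coe_toAlgHom', hz] at this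
      rw [this]
      exact (b.linearCombination_repr _).symm
    let m := TensorProduct.equivFinsuppOfBasisLeft b (y.snd + h ⟨_, hd⟩)
    let a : Module.Free.ChooseBasisIndex k B₀ →₀ TrivSqZeroExt k W :=
      c.mapRange TrivSqZeroExt.inl (TrivSqZeroExt.inl_zero _) + m.mapRange TrivSqZeroExt.inr (TrivSqZeroExt.inr_zero _)
    refine ⟨a, ?_⟩
    obtain ⟨zz, hzz, h1, h2⟩ := hL a
    rw [hzz, Ideal.Quotient.eq]
    have e1 : a.mapRange TrivSqZeroExt.fst TrivSqZeroExt.fst_zero = c := Finsupp.ext fun j => by simp [a]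
    have e2 : a.mapRange TrivSqZeroExt.snd TrivSqZeroExt.snd_zero = m := Finsupp.ext fun j => by simp [a]
    rw [e1] at h1
    rw [e2, LinearEquiv.symm_apply_apply] at h2
    refine ⟨?_, ?_⟩
    · rw [TrivSqZeroExt.fst_sub, h1, ← neg_sub]
      exact neg_mem hd
    · rw [TrivSqZeroExt.snd_sub, h2, add_sub_cancel_left]
      rw [show (⟨(zz - y).fst, _⟩ : RingHom.ker (algebraMap P B₀)) = -⟨_, hd⟩ from
        Subtype.ext (by simp [h1]), map_neg, neg_neg]

variable {W' : Type u} [AddCommGroup W'] [Module k W'] [Module kᵐᵒᵖ W'] [IsCentralScalar k W']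
  [SMulCommClass k kᵐᵒᵖ W']

/-- the map induced by a linear map of scalars -/
noncomputable def mapR (f : W →ₗ[k] W') (h : RingHom.ker (algebraMap P B₀) →ₗ[P] Val (k := k) B₀ W) :
    R h →+* R ((AlgebraTensorModule.lTensor P B₀ f).comp h) :=
  Ideal.Quotient.lift _ ((Ideal.Quotient.mk _).comp
      (TrivSqZeroExt.map (AlgebraTensorModule.lTensor P B₀ f)).toRingHom) fun z hz => by
    obtain ⟨hf, hs⟩ := hz
    rw [RingHom.comp_apply, Ideal.Quotient.eq_zero_iff_mem]
    refine ⟨by simpa using hf, ?_⟩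
    simp [hs]

theorem π_mapR (f : W →ₗ[k] W') (h : RingHom.ker (algebraMap P B₀) →ₗ[P] Val (k := k) B₀ W) :
    (π ((AlgebraTensorModule.lTensor P B₀ f).comp h)).comp (mapR f h) = π h := by
  refine Ideal.Quotient.ringHom_ext (RingHom.ext fun z => ?_)
  show algebraMap P B₀ (TrivSqZeroExt.map (AlgebraTensorModule.lTensor P B₀ f) z).fst = algebraMap P B₀ z.fst
  simp

end Algebra

/-- twisting by a derivation -/
noncomputable def twist (D : Derivation k P (Val (k := k) B₀ W)) :
    TrivSqZeroExt P (Val (k := k) B₀ W) →+* TrivSqZeroExt P (Val (k := k) B₀ W) where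
  toFun z := TrivSqZeroExt.inl z.fst + TrivSqZeroExt.inr (z.snd + D z.fst)
  map_zero' := TrivSqZeroExt.ext (by simp) (by simp)
  map_one' := TrivSqZeroExt.ext (by simp) (by simp)
  map_add' x y := TrivSqZeroExt.ext (by simp) (by simp; abel)
  map_mul' x y := TrivSqZeroExt.ext (by simp) (by
    simp [TrivSqZeroExt.snd_mul, op_smul_eq_smul, smul_add, Derivation.leibniz]; abel)

/-- twisted rings -/
noncomputable def twistR (D : Derivation k P (Val (k := k) B₀ W))
    (h h' : RingHom.ker (algebraMap P B₀) →ₗ[P] Val (k := k) B₀ W) (hh : ∀ f, h f = h' f + D (f : P)) :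
    R h →+* R h' :=
  Ideal.Quotient.lift _ ((Ideal.Quotient.mk _).comp (twist D)) fun z hz => by
    obtain ⟨hf, hs⟩ := hz
    rw [RingHom.comp_apply, Ideal.Quotient.eq_zero_iff_mem]
    refine ⟨by simpa [twist] using hf, ?_⟩
    simp [twist, hs, hh]

end Groth.Agent.Et18.DefT1
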