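import Groth.Agent.Et18.DefT1
import Groth.Agent.ArtFunLib.Tangent
import Mathlib.RingTheory.Flat.EquationalCriterion
import Mathlib.RingTheory.MvPolynomial.Tower

/-!
# The tangent space of deformations of an affine scheme as a quotient of `Hom_P(I, B₀)`
-/

set_option autoImplicit false
set_option backward.isDefEq.respectTransparency.types false
set_option backward.isDefEq.respectTransparency false
set_option linter.unusedSectionVars false
set_option linter.style.haveILetI false
universe u

open AlgebraicGeometry CategoryTheory TensorProduct ArtFun ArtFun.Art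

namespace Groth.Agent.Et18.DefT1

variable {Λ k P B₀ : Type u} [CommRing Λ] [Field k] [Algebra Λ k] [CommRing P] [Algebra k P] [CommRing B₀]
  [Algebra k B₀] [Algebra P B₀] [IsScalarTower k P B₀]

local notation "N" W:max => RingHom.ker (algebraMap P B₀) →ₗ[P] Val (k := k) B₀ W

section General

variable {W : Type u} [AddCommGroup W] [Module k W] [Module kᵐᵒᵖ W] [IsCentralScalar k W]
  [SMulCommClass k kᵐᵒᵖ W]

/-- The first order deformation attached to a homomorphism. -/
noncomputable def data (hsurj : Function.Surjective (algebraMap P B₀)) (A : Art Λ k)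
    (e : (A : Type u) ≃+* TrivSqZeroExt k W) (he : ∀ a, (e a).fst = A.res a) (h : N W) : AffDef.Data B₀ A :=
  letI : Algebra (A : Type u) (R h) :=
    RingHom.toAlgebra (R := (A : Type u)) (S := R h) (((Ideal.Quotient.mk (rels h)).comp ι).comp e.toRingHom)
  { R := R h
    flat := by
      have h1 := RingHom.Flat.comp (RingHom.Flat.of_bijective (f := e.toRingHom) e.bijective) (flat hsurj h)
      exact RingHom.flat_algebraMap_iff.1 h1
    π := π h
    surj := π_surj hsurj h
    comp_alg := fun a => by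
      show π h (Ideal.Quotient.mk _ (ι (e a))) = _
      rw [π_ι, he]
    ker_le := by
      refine (ker_π_le hsurj h).trans (Ideal.map_le_iff_le_comap.2 fun z hz => ?_)
      rw [Ideal.mem_comap]
      have hm : e.symm z ∈ IsLocalRing.maximalIdeal (A : Type u) := by
        rw [mem_maximalIdeal_iff, ← he, e.apply_symm_apply]
        exact hz
      have := Ideal.mem_map_of_mem (algebraMap (A : Type u) (R h)) hm
      rwa [show algebraMap (A : Type u) (R h) (e.symm z) = Ideal.Quotient.mk (rels h) (ι (e (e.symm z))) from rfl,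
        e.apply_symm_apply] at this }

/-- The class of the first order deformation. -/
noncomputable def cls (hsurj : Function.Surjective (algebraMap P B₀)) (A : Art Λ k)
    (e : (A : Type u) ≃+* TrivSqZeroExt k W) (he : ∀ a, (e a).fst = A.res a) (h : N W) :
    (defFunctor (Spec (CommRingCat.of B₀)) (AffDef.str₀ k B₀)).obj A :=
  (data hsurj A e he h).toDef.cl

variable {W' : Type u} [AddCommGroup W'] [Module k W'] [Module kᵐᵒᵖ W'] [IsCentralScalar k W']
  [SMulCommClass k kᵐᵒᵖ W']

theorem map_cls (hsurj : Function.Surjective (algebraMap P B₀)) {A A' : Art Λ k}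
    (e : (A : Type u) ≃+* TrivSqZeroExt k W) (he : ∀ a, (e a).fst = A.res a)
    (e' : (A' : Type u) ≃+* TrivSqZeroExt k W') (he' : ∀ a, (e' a).fst = A'.res a)
    (g : A ⟶ A') (f : W →ₗ[k] W') (hg : ∀ a, (e' (g a)).snd = f (e a).snd) (h : N W) :
    (defFunctor _ _).map g (cls hsurj A e he h) =
      cls hsurj A' e' he' ((AlgebraTensorModule.lTensor P B₀ f).comp h) := by
  refine DefGlue.map_cl ((data hsurj A e he h).mor (data hsurj A' e' he' _) (mapR f h) (fun a => ?_) (π_mapR f h))
  show Ideal.Quotient.mk _ (TrivSqZeroExt.map (AlgebraTensorModule.lTensor P B₀ f) (ι (e a))) =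
    Ideal.Quotient.mk _ (ι (e' (g a)))
  congr 1
  have h1 : (e' (g a)).fst = (e a).fst := by rw [he', Art.res_app, he]
  refine TrivSqZeroExt.ext ?_ ?_
  · simp [ι, h1]
  · simp [ι, hg]

theorem cls_twist (hsurj : Function.Surjective (algebraMap P B₀)) (A : Art Λ k)
    (e : (A : Type u) ≃+* TrivSqZeroExt k W) (he : ∀ a, (e a).fst = A.res a)
    (D : Derivation k P (Val (k := k) B₀ W)) (h h' : N W) (hh : ∀ f, h f = h' f + D (f : P)) :
    cls hsurj A e he h = cls hsurj A e he h' := by
  have m := AffDef.Data.mor (g := 𝟙 A) (data hsurj A e he h) (data hsurj A e he h') (twistR D h h' hh)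
    (fun a => by
      show Ideal.Quotient.mk _ (twist D (ι (e a))) = Ideal.Quotient.mk _ (ι (e a))
      congr 1
      exact TrivSqZeroExt.ext (by simp [twist]) (by simp [twist, ι]))
    (Ideal.Quotient.ringHom_ext (RingHom.ext fun z => by
      show algebraMap P B₀ (twist D z).fst = algebraMap P B₀ z.fst
      simp [twist]))
  have := DefGlue.map_cl m
  rw [(defFunctor _ _).map_id] at this
  exact this

theorem exists_derivation_of_cls_eq (hsurj : Function.Surjective (algebraMap P B₀)) (A : Art Λ k)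
    (e : (A : Type u) ≃+* TrivSqZeroExt k W) (he : ∀ a, (e a).fst = A.res a) (h h' : N W)
    (heq : cls hsurj A e he h = cls hsurj A e he h') :
    ∃ D : Derivation k P (Val (k := k) B₀ W), ∀ f, h' f = h f + D (f : P) := by
  obtain ⟨E⟩ := Quotient.exact heq
  obtain ⟨Φ, hΦ⟩ := Spec.map_surjective (R := CommRingCat.of (R h')) (S := CommRingCat.of (R h)) E.iso.hom
  let φ : R h' →+* R h := Φ.hom
  have w₁ := E.hom_f
  rw [← hΦ] at w₁
  replace w₁ := Spec.map_injective ((Spec.map_comp _ _).trans w₁)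
  have w₂ := E.i_hom
  rw [← hΦ] at w₂
  replace w₂ := Spec.map_injective ((Spec.map_comp _ _).trans w₂)
  have hι : ∀ z, φ (Ideal.Quotient.mk _ (ι z)) = Ideal.Quotient.mk _ (ι z) := fun z => by
    have : φ (Ideal.Quotient.mk _ (ι (e (e.symm z)))) = Ideal.Quotient.mk _ (ι (e (e.symm z))) :=
      congrArg (fun m => m.hom (e.symm z)) w₁
    rwa [e.apply_symm_apply] at this
  have hπ : ∀ z, π h (φ z) = π h' z := fun z => congrArg (fun m => m.hom z) w₂
  have inj : ∀ m m' : Val (k := k) B₀ W,
      Ideal.Quotient.mk (rels h) (TrivSqZeroExt.inr m) = Ideal.Quotient.mk _ (TrivSqZeroExt.inr m') → m = m' := by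
    intro m m' hm
    obtain ⟨hf, hs⟩ := Ideal.Quotient.eq.1 hm
    rw [TrivSqZeroExt.snd_sub, TrivSqZeroExt.snd_inr, TrivSqZeroExt.snd_inr] at hs
    rw [← sub_eq_zero, hs, show (⟨_, hf⟩ : RingHom.ker (algebraMap P B₀)) = 0 from Subtype.ext (by simp),
      map_zero, neg_zero]
  have hinl : ∀ (h₀ : N W) (f : RingHom.ker (algebraMap P B₀)),
      Ideal.Quotient.mk (rels h₀) (TrivSqZeroExt.inl (f : P)) = Ideal.Quotient.mk _ (TrivSqZeroExt.inr (h₀ f)) := by
    intro h₀ f
    refine Ideal.Quotient.eq.2 ⟨by simpa using f.2, ?_⟩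
    simp
  have hk : ∀ z, π h z = 0 → ∃ m, z = Ideal.Quotient.mk _ (TrivSqZeroExt.inr m) := by
    intro z hz
    obtain ⟨y, rfl⟩ := Ideal.Quotient.mk_surjective z
    have hf : y.fst ∈ RingHom.ker (algebraMap P B₀) := hz
    exact ⟨y.snd + h ⟨_, hf⟩, Ideal.Quotient.eq.2 ⟨by simpa using hf, by simp⟩⟩
  choose d hd using fun p : P => hk (φ (Ideal.Quotient.mk _ (TrivSqZeroExt.inl p)) -
    Ideal.Quotient.mk _ (TrivSqZeroExt.inl p)) (by rw [map_sub, hπ]; exact sub_self _)
  have dadd : ∀ p q, d (p + q) = d p + d q := fun p q => inj _ _ (by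
    rw [TrivSqZeroExt.inr_add, map_add, ← hd, ← hd, ← hd, TrivSqZeroExt.inl_add, map_add, map_add, map_add]
    abel)
  have e2 : ∀ p m, Ideal.Quotient.mk (rels h) (TrivSqZeroExt.inr (p • m)) =
      Ideal.Quotient.mk _ (TrivSqZeroExt.inl p) * Ideal.Quotient.mk _ (TrivSqZeroExt.inr m) := fun p m => by
    rw [← map_mul, TrivSqZeroExt.inl_mul_inr]
  have e0 : ∀ m m', Ideal.Quotient.mk (rels h) (TrivSqZeroExt.inr m) * Ideal.Quotient.mk _ (TrivSqZeroExt.inr m') = 0 :=
    fun m m' => by rw [← map_mul, TrivSqZeroExt.inr_mul_inr, map_zero]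
  have hφ : ∀ p, φ (Ideal.Quotient.mk _ (TrivSqZeroExt.inl p)) =
      Ideal.Quotient.mk _ (TrivSqZeroExt.inl p) + Ideal.Quotient.mk _ (TrivSqZeroExt.inr (d p)) :=
    fun p => sub_eq_iff_eq_add'.1 (hd p)
  have dmul : ∀ p q, d (p * q) = p • d q + q • d p := fun p q => inj _ _ (by
    rw [← hd, TrivSqZeroExt.inl_mul, map_mul, map_mul, map_mul, hφ, hφ, TrivSqZeroExt.inr_add, map_add, e2, e2]
    linear_combination e0 (d p) (d q))
  have dC : ∀ c, d (algebraMap k P c) = 0 := fun c => inj _ _ (by
    rw [← hd, TrivSqZeroExt.inr_zero, map_zero, sub_eq_zero,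
      show (TrivSqZeroExt.inl (algebraMap k P c) : TrivSqZeroExt P (Val (k := k) B₀ W)) = ι (TrivSqZeroExt.inl c) from
        TrivSqZeroExt.ext (by simp [ι]) (by simp [ι])]
    exact hι _)
  have hfix : ∀ m, φ (Ideal.Quotient.mk _ (TrivSqZeroExt.inr m)) = Ideal.Quotient.mk _ (TrivSqZeroExt.inr m) := by
    intro m
    induction m using TensorProduct.induction_on with
    | zero => simp
    | add x y hx hy => rw [TrivSqZeroExt.inr_add, map_add, map_add, map_add, hx, hy]
    | tmul b w =>
      obtain ⟨p, rfl⟩ := hsurj b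
      have he : (TrivSqZeroExt.inr (algebraMap P B₀ p ⊗ₜ[k] w) : TrivSqZeroExt P (Val (k := k) B₀ W)) =
          TrivSqZeroExt.inl p * ι (TrivSqZeroExt.inr w) :=
        TrivSqZeroExt.ext (by simp [ι]) (by simp [ι, TrivSqZeroExt.snd_mul, smul_tmul', Algebra.smul_def])
      have hz : (ι (TrivSqZeroExt.inr w) : TrivSqZeroExt P (Val (k := k) B₀ W)) = TrivSqZeroExt.inr (1 ⊗ₜ w) :=
        TrivSqZeroExt.ext (by simp [ι]) (by simp [ι])
      rw [he, map_mul, map_mul, map_mul, hι, hφ, add_mul]
      conv_lhs => arg 2; rw [hz, e0]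
      rw [add_zero]
  let D₀ : P →ₗ[k] Val (k := k) B₀ W :=
    { toFun := d
      map_add' := dadd
      map_smul' := fun c p => by
        rw [RingHom.id_apply, Algebra.smul_def, dmul, dC, smul_zero, add_zero, algebraMap_smul] }
  refine ⟨Derivation.mk' D₀ dmul, fun f => inj _ _ ?_⟩
  show _ = Ideal.Quotient.mk _ (TrivSqZeroExt.inr (h f + d f))
  rw [TrivSqZeroExt.inr_add, map_add, ← hinl, ← hφ, hinl, hfix]

end General

section Tangent

variable (hsurj : Function.Surjective (algebraMap P B₀))

/-- The class over `k[ε]`. -/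
noncomputable def cls₁ (h : N k) : TangentSpace (defFunctor (Λ := Λ) (Spec (CommRingCat.of B₀)) (AffDef.str₀ k B₀)) :=
  cls hsurj (dual Λ k) (RingEquiv.refl (DualNumber k)) (fun _ => rfl) h

theorem cls₁_add [TangentStr (defFunctor (Λ := Λ) (Spec (CommRingCat.of B₀)) (AffDef.str₀ k B₀))] (h h' : N k) :
    cls₁ (Λ := Λ) hsurj h + cls₁ hsurj h' = cls₁ hsurj (h + h') := by
  let H : N (k × k) := (AlgebraTensorModule.lTensor P B₀ (LinearMap.inl k k k)).comp h +
    (AlgebraTensorModule.lTensor P B₀ (LinearMap.inr k k k)).comp h'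
  have key := fun (g : dual2 Λ k ⟶ dual Λ k) (f : k × k →ₗ[k] k)
    (hg : ∀ a, ((RingEquiv.refl (DualNumber k)) (g a)).snd = f ((RingEquiv.refl (TrivSqZeroExt k (k × k))) a).snd) =>
    map_cls hsurj (A := dual2 Λ k) (A' := dual Λ k) (RingEquiv.refl (TrivSqZeroExt k (k × k))) (fun _ => rfl)
      (RingEquiv.refl (DualNumber k)) (fun _ => rfl) g f hg H
  have h1 := key pr₁ (LinearMap.fst k k k) fun _ => rfl
  have h2 := key pr₂ (LinearMap.snd k k k) fun _ => rfl
  have h3 := key plus (LinearMap.fst k k k + LinearMap.snd k k k) fun _ => rfl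
  have e := TangentStr.add_eq (F := defFunctor (Λ := Λ) (Spec (CommRingCat.of B₀)) (AffDef.str₀ k B₀))
    (cls hsurj (dual2 Λ k) (RingEquiv.refl (TrivSqZeroExt k (k × k))) (fun _ => rfl) H)
  rw [h1, h2, h3] at e
  have i1 : (AlgebraTensorModule.lTensor P B₀ (LinearMap.fst k k k)).comp H = h := LinearMap.ext fun f => by
    simp [H, ← LinearMap.lTensor_comp_apply]
  have i2 : (AlgebraTensorModule.lTensor P B₀ (LinearMap.snd k k k)).comp H = h' := LinearMap.ext fun f => by
    simp [H, ← LinearMap.lTensor_comp_apply]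
  have i3 : (AlgebraTensorModule.lTensor P B₀ (LinearMap.fst k k k + LinearMap.snd k k k)).comp H = h + h' :=
    LinearMap.ext fun f => by
      simp [H, ← LinearMap.lTensor_comp_apply, LinearMap.add_comp]
  rw [i1, i2, i3] at e
  exact e

theorem cls₁_smul [TangentStr (defFunctor (Λ := Λ) (Spec (CommRingCat.of B₀)) (AffDef.str₀ k B₀))] (c : k)
    (h : N k) : c • cls₁ (Λ := Λ) hsurj h = cls₁ hsurj (c • h) := by
  refine (TangentStr.smul_eq (F := defFunctor (Λ := Λ) (Spec (CommRingCat.of B₀)) (AffDef.str₀ k B₀)) c _).trans ?_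
  refine (map_cls hsurj (A := dual Λ k) (A' := dual Λ k) (RingEquiv.refl (DualNumber k)) (fun _ => rfl)
    (RingEquiv.refl (DualNumber k)) (fun _ => rfl) (scale c) (c • LinearMap.id) (fun _ => rfl) h).trans ?_
  show cls₁ hsurj _ = _
  congr 1
  refine LinearMap.ext fun f => ?_
  show AlgebraTensorModule.lTensor P B₀ (c • LinearMap.id) (h f) = c • h f
  generalize h f = m
  induction m using TensorProduct.induction_on with
  | zero => simp
  | add x y hx hy => rw [map_add, hx, hy, smul_add]
  | tmul b w => simp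

variable [TangentStr (defFunctor (Λ := Λ) (Spec (CommRingCat.of B₀)) (AffDef.str₀ k B₀))]

/-- The map from homomorphisms on the ideal to the tangent space. -/
noncomputable def toTangent :
    (N k) →ₗ[k] TangentSpace (defFunctor (Λ := Λ) (Spec (CommRingCat.of B₀)) (AffDef.str₀ k B₀)) where
  toFun h := cls₁ hsurj h
  map_add' h h' := (cls₁_add hsurj h h').symm
  map_smul' c h := (cls₁_smul hsurj c h).symm

theorem toTangent_derivation (D : Derivation k P (Val (k := k) B₀ k)) (h : N k)
    (hh : ∀ f, h f = D (f : P)) : toTangent (Λ := Λ) hsurj h = 0 :=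
  (cls_twist hsurj (dual Λ k) (RingEquiv.refl (DualNumber k)) (fun _ => rfl) D h 0
    fun f => by rw [hh]; simp).trans (map_zero (toTangent (Λ := Λ) hsurj))

end Tangent

section Surjective

variable {σ : Type u} [Algebra (MvPolynomial σ k) B₀] [IsScalarTower k (MvPolynomial σ k) B₀]
  (hsurj : Function.Surjective (algebraMap (MvPolynomial σ k) B₀))

theorem exists_cls₁ (ξ : TangentSpace (defFunctor (Λ := Λ) (Spec (CommRingCat.of B₀)) (AffDef.str₀ k B₀))) :
    ∃ h, cls₁ hsurj h = ξ := by
  induction ξ using Quotient.inductionOn with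
  | h ξ =>
    obtain ⟨D, ⟨eD⟩⟩ := AffDef.exists_data ξ
    let al : DualNumber k →+* D.R := algebraMap (dual Λ k : Type u) D.R
    have hal : ∀ a, D.π (al a) = algebraMap k B₀ a.fst := D.comp_alg
    letI : Algebra k D.R := (al.comp (TrivSqZeroExt.inlHom k k)).toAlgebra
    let e : D.R := al DualNumber.eps
    choose r hr using fun i => D.surj (algebraMap (MvPolynomial σ k) B₀ (MvPolynomial.X i))
    let ψ : MvPolynomial σ k →ₐ[k] D.R := MvPolynomial.aeval r
    have hψ : ∀ p, D.π (ψ p) = algebraMap _ B₀ p := by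
      have : D.π.comp ψ.toRingHom = algebraMap (MvPolynomial σ k) B₀ := by
        refine MvPolynomial.ringHom_ext (fun c => ?_) fun i => by simp [ψ, hr]
        rw [← MvPolynomial.algebraMap_eq, ← IsScalarTower.algebraMap_apply k (MvPolynomial σ k) B₀]
        exact (congrArg D.π (ψ.commutes c)).trans (hal _)
      exact fun p => RingHom.congr_fun this p
    have he0 : D.π e = 0 := by simp [e, hal]
    have hker : ∀ z, D.π z = 0 → ∃ w, e * w = z := by
      intro z hz
      have h1 : (IsLocalRing.maximalIdeal (dual Λ k : Type u)).map (algebraMap _ D.R) ≤ Ideal.span {e} := by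
        refine Ideal.map_le_iff_le_comap.2 fun a ha => ?_
        rw [mem_maximalIdeal_iff] at ha
        rw [Ideal.mem_comap, Ideal.mem_span_singleton']
        refine ⟨al (TrivSqZeroExt.inl (TrivSqZeroExt.snd a)), ?_⟩
        rw [← map_mul]
        refine congrArg al (TrivSqZeroExt.ext ?_ ?_)
        · simpa using (show TrivSqZeroExt.fst a = 0 from ha).symm
        · simp
      obtain ⟨w, hw⟩ := Ideal.mem_span_singleton'.1 (h1 (D.ker_le hz))
      exact ⟨w, by rw [mul_comm, hw]⟩
    have hann : ∀ z, e * z = 0 → D.π z = 0 := by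
      intro z hz
      obtain ⟨m, a, y, hy, ha⟩ := Module.Flat.isTrivialRelation_of_sum_smul_eq_zero
        (R := (dual Λ k : Type u)) (M := D.R) (ι := Fin 1) (f := fun _ => (DualNumber.eps : DualNumber k))
        (x := fun _ => z) (by rw [Fin.sum_univ_one, Algebra.smul_def]; exact hz)
      rw [show z = _ from hy 0, map_sum]
      refine Finset.sum_eq_zero fun j _ => ?_
      obtain ⟨aj, haj⟩ : ∃ aj : DualNumber k, aj = a 0 j := ⟨_, rfl⟩
      have h2 : (DualNumber.eps : DualNumber k) * aj = 0 := by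
        rw [haj]; exact (Fin.sum_univ_one _).symm.trans (ha j)
      have h3 : TrivSqZeroExt.fst (show DualNumber k from a 0 j) = 0 := by
        rw [← haj]; simpa using congrArg TrivSqZeroExt.snd h2
      rw [Algebra.smul_def, map_mul, show D.π (algebraMap _ D.R (a 0 j)) = _ from hal (a 0 j), h3, map_zero,
        zero_mul]
    have hee : e * e = 0 := by rw [← map_mul, DualNumber.eps_mul_eps, map_zero]
    let μ : B₀ → D.R := fun b => e * Function.surjInv D.surj b
    have hμ : ∀ z, μ (D.π z) = e * z := fun z => by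
      obtain ⟨w, hw⟩ := hker (Function.surjInv D.surj (D.π z) - z)
        (by rw [map_sub, Function.surjInv_eq D.surj, sub_self])
      rw [← sub_eq_zero, ← mul_sub, ← hw, ← mul_assoc, hee, zero_mul]
    have μadd : ∀ b c, μ (b + c) = μ b + μ c := fun b c => by
      obtain ⟨x, rfl⟩ := D.surj b
      obtain ⟨y, rfl⟩ := D.surj c
      rw [← map_add, hμ, hμ, hμ, mul_add]
    let μh : B₀ →+ D.R := AddMonoidHom.mk' μ μadd
    let ρ := AlgebraTensorModule.rid k (MvPolynomial σ k) B₀
    have hI : ∀ f : RingHom.ker (algebraMap (MvPolynomial σ k) B₀), ∃ b, μ b = ψ f := fun f => by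
      obtain ⟨w, hw⟩ := hker (ψ f) ((hψ _).trans f.2)
      exact ⟨D.π w, (hμ w).trans hw⟩
    choose h₀ hh₀ using hI
    have hμinj : ∀ b c, μ b = μ c → b = c := fun b c h => by
      obtain ⟨x, rfl⟩ := D.surj b
      obtain ⟨y, rfl⟩ := D.surj c
      rw [hμ, hμ, ← sub_eq_zero, ← mul_sub] at h
      exact sub_eq_zero.1 ((map_sub D.π x y).symm.trans (hann _ h))
    have μsmul : ∀ (p : MvPolynomial σ k) b, μ (algebraMap _ B₀ p * b) = ψ p * μ b := fun p b => by
      obtain ⟨x, rfl⟩ := D.surj b
      rw [← hψ, ← map_mul, hμ, hμ, mul_left_comm]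
    let h₁ : RingHom.ker (algebraMap (MvPolynomial σ k) B₀) →ₗ[MvPolynomial σ k] B₀ :=
      { toFun := fun f => -h₀ f
        map_add' := fun f g => by
          rw [← neg_add]
          refine congrArg Neg.neg (hμinj _ _ ?_)
          rw [μadd, hh₀, hh₀, hh₀]
          exact map_add ψ _ _
        map_smul' := fun p f => by
          rw [RingHom.id_apply, smul_neg]
          refine congrArg Neg.neg (hμinj _ _ ?_)
          rw [Algebra.smul_def, μsmul, hh₀, hh₀]
          exact map_mul ψ _ _ }
    refine ⟨ρ.symm.toLinearMap.comp (-h₁), ?_⟩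
    let h : RingHom.ker (algebraMap (MvPolynomial σ k) B₀) →ₗ[MvPolynomial σ k] Val (k := k) B₀ k :=
      ρ.symm.toLinearMap.comp (-h₁)
    have mulμ : ∀ b c, μ b * μ c = 0 := fun b c => by
      simp only [μ]; rw [mul_mul_mul_comm, hee, zero_mul]
    let θ : TrivSqZeroExt (MvPolynomial σ k) (Val (k := k) B₀ k) →+* D.R :=
      { toFun := fun z => ψ z.fst + μh (ρ z.snd)
        map_one' := by simp
        map_zero' := by simp
        map_add' := fun x y => by simp; abel
        map_mul' := fun x y => by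
          simp only [TrivSqZeroExt.fst_mul, TrivSqZeroExt.snd_mul, op_smul_eq_smul, map_add, map_mul, map_smul]
          simp only [μh, AddMonoidHom.mk'_apply, Algebra.smul_def, μsmul, add_mul, mul_add, mulμ]
          ring }
    let φ : R h →+* D.R := Ideal.Quotient.lift _ θ fun z hz => by
      obtain ⟨hf, hs⟩ := hz
      show ψ z.fst + μh (ρ z.snd) = 0
      rw [hs, map_neg, map_neg]
      show ψ z.fst + -μ (ρ (ρ.symm (- -h₀ ⟨z.fst, hf⟩))) = 0
      rw [LinearEquiv.apply_symm_apply, neg_neg, hh₀, add_neg_cancel]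
    have m := AffDef.Data.mor (g := 𝟙 (dual Λ k))
      (data hsurj (dual Λ k) (RingEquiv.refl (DualNumber k)) (fun _ => rfl) h) D φ (fun a => by
        show ψ (ι (a : DualNumber k)).fst + μh (ρ (ι (P := MvPolynomial σ k) (B₀ := B₀) (a : DualNumber k)).snd) =
          al a
        revert a
        show ∀ b : DualNumber k, ψ (ι b).fst + μh (ρ (ι (P := MvPolynomial σ k) (B₀ := B₀) b).snd) = al b
        intro a
        have ha : a = TrivSqZeroExt.inl (TrivSqZeroExt.fst a) +
            DualNumber.eps * TrivSqZeroExt.inl (TrivSqZeroExt.snd a) := TrivSqZeroExt.ext (by simp) (by simp)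
        conv_rhs => rw [ha, map_add, map_mul]
        rw [fst_ι, ψ.commutes]
        refine congrArg₂ (· + ·) rfl ?_
        simp only [ι, μh, AddMonoidHom.mk'_apply]
        simp only [ρ, RingHom.coe_mk, MonoidHom.coe_mk, OneHom.coe_mk, TrivSqZeroExt.snd_add, TrivSqZeroExt.snd_inl,
          TrivSqZeroExt.snd_inr, zero_add, AlgebraTensorModule.rid_tmul]
        rw [← Algebra.algebraMap_eq_smul_one, ← hμ]
        exact congrArg μ (hal (TrivSqZeroExt.inl (TrivSqZeroExt.snd a))).symm)
      (Ideal.Quotient.ringHom_ext (RingHom.ext fun z => by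
        show D.π (ψ z.fst + μh (ρ z.snd)) = algebraMap (MvPolynomial σ k) B₀ z.fst
        rw [map_add, hψ, add_eq_left]
        show D.π (e * _) = 0
        rw [map_mul, he0, zero_mul]))
    have hm := DefGlue.map_cl m
    rw [(defFunctor _ _).map_id] at hm
    exact hm.trans (Quotient.sound ⟨eD⟩)

theorem toTangent_surjective [TangentStr (defFunctor (Λ := Λ) (Spec (CommRingCat.of B₀)) (AffDef.str₀ k B₀))] :
    Function.Surjective (toTangent (Λ := Λ) (k := k) (B₀ := B₀) (P := MvPolynomial σ k) hsurj) :=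
  exists_cls₁ hsurj

end Surjective

end Groth.Agent.Et18.DefT1
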