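import Groth.Agent.Et18.AlgClosedGeneric
import Groth.Agent.Et18.CdField

/-!
# Direct images of constant sheaves from a sufficiently generic part

If every étale neighbourhood shrinks to one whose pull back along `g` has only the constant
sections, then the constant sheaf is the direct image of the constant sheaf.
-/

set_option autoImplicit false

universe u

open CategoryTheory CategoryTheory.Limits AlgebraicGeometry Opposite

set_option backward.isDefEq.respectTransparency.types false
set_option backward.isDefEq.respectTransparency false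

namespace Groth.Agent.Et18.UnitConst

variable {X Y : Scheme.{u}} (g : X ⟶ Y)

/-- The transpose of the identification of the inverse image of a constant sheaf. -/
noncomputable def psi (A : AddCommGrpCat.{u + 1}) : (cst Y).obj A ⟶ (EtCoh.push g).obj ((cst X).obj A) :=
  (EtCoh.pullPushAdj g).homEquiv _ _ ((EtCore.pullConstIso g).app A).hom

theorem cstSec_psi_top (A : AddCommGrpCat.{u + 1}) :
    cstSec A (EtCoh.top Y) ≫ (psi g A).hom.app (op (EtCoh.top Y)) =
      cstSec A ((EtCoh.bc g).obj (EtCoh.top Y)) := by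
  have h := Adjunction.unit_leftAdjointUniq_hom_app
    (((EtCore.constAdj Y).comp (EtCoh.pullPushAdj g)).ofNatIsoRight (EtCore.pushGsecIso g))
    (EtCore.constAdj X) A
  have hu : ∀ (Z : Scheme.{u}), (EtCore.constAdj Z).unit.app A = cstSec A (EtCoh.top Z) :=
    fun Z => constantSheafAdj_unit_top A
  rw [hu X] at h
  rw [← cancel_mono (((EtCore.pushGsecIso g).app ((cst X).obj A)).hom)]
  have e : cstSec A ((EtCoh.bc g).obj (EtCoh.top Y)) ≫ ((EtCore.pushGsecIso g).app ((cst X).obj A)).hom =
      cstSec A (EtCoh.top X) := cstSec_res A (EtCore.bcTopIso g).inv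
  refine Eq.trans ?_ e.symm
  refine Eq.trans ?_ h
  have hu' : (((EtCore.constAdj Y).comp (EtCoh.pullPushAdj g)).ofNatIsoRight (EtCore.pushGsecIso g)).unit.app A =
      ((EtCore.constAdj Y).unit.app A ≫ (EtCore.gsec Y).map ((EtCoh.pullPushAdj g).unit.app ((cst Y).obj A))) ≫
        (EtCore.pushGsecIso g).hom.app ((EtCoh.pull g).obj ((cst Y).obj A)) := by
    simp only [Adjunction.ofNatIsoRight]
    exact congrArg (· ≫ _) (Adjunction.comp_unit_app _ _ _)
  rw [hu']
  have hp : psi g A = (EtCoh.pullPushAdj g).unit.app _ ≫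
      (EtCoh.push g).map ((EtCore.pullConstIso g).app A).hom := Adjunction.homEquiv_unit ..
  rw [hp, hu Y]
  refine Eq.trans ?_ (Category.assoc _ _ _).symm
  refine Eq.trans ?_ (congrArg (_ ≫ ·) ((EtCore.pushGsecIso g).hom.naturality _))
  exact (Category.assoc _ _ _).trans ((congrArg (cstSec A (EtCoh.top Y) ≫ ·) (Category.assoc _ _ _)).trans
    (Category.assoc _ _ _).symm)

theorem cstSec_psi (A : AddCommGrpCat.{u + 1}) (W : Y.Etale) :
    cstSec A W ≫ (psi g A).hom.app (op W) = cstSec A ((EtCoh.bc g).obj W) := by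
  let a : W ⟶ EtCoh.top Y := (EtCore.topIsTerminal Y).from W
  rw [← cstSec_res A a, Category.assoc, (psi g A).hom.naturality a.op, ← Category.assoc]
  rw [cstSec_psi_top]
  exact cstSec_res A ((EtCoh.bc g).map a)

/-- Neighbourhoods with only constant sections upstairs. -/
def Good (A : AddCommGrpCat.{u + 1}) : Prop :=
  ∀ (W : Y.Etale) (w : W.left), ∃ (W' : Y.Etale) (a : W' ⟶ W), w ∈ Set.range a.left ∧
    Function.Bijective (cstSec A ((EtCoh.bc g).obj W'))

theorem exists_lift_nhd {Ω : Type u} [Field Ω] [IsSepClosed Ω] {ξ : Spec (CommRingCat.of Ω) ⟶ Y}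
    {W W' : Y.Etale} (a : W' ⟶ W) (v : (Scheme.pointSmallEtale ξ).fiber.obj W)
    (h : fiberPt v ∈ Set.range a.left) :
    ∃ v' : (Scheme.pointSmallEtale ξ).fiber.obj W', (Scheme.pointSmallEtale ξ).fiber.map a v' = v := by
  haveI := etale_map_left a
  obtain ⟨w', hw'⟩ := h
  let t : Spec (CommRingCat.of Ω) ⟶ W.left := v.left
  obtain ⟨l, hl, -⟩ := Scheme.exists_fac_of_etale_of_isSepClosed a.left t w' hw'
  refine ⟨Over.homMk l ?_, Over.OverMorphism.ext hl⟩
  exact (congrArg (l ≫ ·) (Over.w a.hom).symm).trans ((Category.assoc _ _ _).symm.trans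
    ((congrArg (· ≫ W.hom) hl).trans (Over.w v)))

theorem isIso_psi (A : AddCommGrpCat.{u + 1}) (hg : Good g A) : IsIso (psi g A) := by
  refine isIso_of_stalks _ fun y => ?_
  let ξ := sepPoint Y y
  let Φ := Scheme.pointSmallEtale ξ
  have hnat : ∀ (W : Y.Etale) (v : Φ.fiber.obj W) (b : A),
      (EtCoh.stalk ξ).map (psi g A) (cstGerm ξ A b) =
        Φ.toPresheafFiber W v ((EtCoh.push g).obj ((cst X).obj A)).obj
          (cstSec A ((EtCoh.bc g).obj W) b) := fun W v b => by
    have e1 := ConcreteCategory.congr_hom (cstSec_germ ξ A W v) b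
    have e2 := ConcreteCategory.congr_hom (Φ.toPresheafFiber_naturality (psi g A).hom W v) (cstSec A W b)
    have e3 := ConcreteCategory.congr_hom (cstSec_psi g A W) b
    refine (congrArg _ e1.symm).trans (e2.trans ?_)
    exact congrArg (Φ.toPresheafFiber W v ((EtCoh.push g).obj ((cst X).obj A)).obj) e3
  suffices Function.Bijective (cstGerm ξ A ≫ (EtCoh.stalk ξ).map (psi g A)) from
    haveI := (ConcreteCategory.isIso_iff_bijective _).2 this
    IsIso.of_isIso_comp_left (cstGerm ξ A) _
  refine ⟨(injective_iff_map_eq_zero _).2 fun b hb => ?_, fun s => ?_⟩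
  · have h0 : Φ.toPresheafFiber _ (topPt ξ) ((EtCoh.push g).obj ((cst X).obj A)).obj
        (cstSec A ((EtCoh.bc g).obj (EtCoh.top Y)) b) = 0 := (hnat _ _ b).symm.trans hb
    obtain ⟨W, a, v, -, hz⟩ := (Φ.toPresheafFiber_eq_iff' (P := ((EtCoh.push g).obj ((cst X).obj A)).obj)
      _ _ _ 0).1 (h0.trans (map_zero _).symm)
    obtain ⟨W', a', hw', hbij⟩ := hg W (fiberPt v)
    refine hbij.1 ?_
    rw [map_zero, ← cstSec_res A ((EtCoh.bc g).map (a' ≫ a))]
    rw [map_zero] at hz
    have := congrArg (((cst X).obj A).obj.map ((EtCoh.bc g).map a').op) hz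
    rw [map_zero] at this
    refine Eq.trans ?_ this
    rw [Functor.map_comp, op_comp, Functor.map_comp]
    rfl
  · obtain ⟨W, v, t, rfl⟩ := Φ.toPresheafFiber_jointly_surjective (P := ((EtCoh.push g).obj ((cst X).obj A)).obj) s
    obtain ⟨W', a', hw', hbij⟩ := hg W (fiberPt v)
    obtain ⟨v', rfl⟩ := exists_lift_nhd a' v hw'
    obtain ⟨b, hb⟩ := hbij.2 (((cst X).obj A).obj.map ((EtCoh.bc g).map a').op t)
    refine ⟨b, (hnat W' v' b).trans ?_⟩
    rw [hb]
    exact Φ.toPresheafFiber_w_apply a' v' _ t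

theorem isIso_unit (A : AddCommGrpCat.{u + 1}) (hg : Good g A) :
    IsIso ((EtCoh.pullPushAdj g).unit.app ((cst Y).obj A)) := by
  haveI := isIso_psi g A hg
  have : psi g A = (EtCoh.pullPushAdj g).unit.app _ ≫
      (EtCoh.push g).map ((EtCore.pullConstIso g).app A).hom := Adjunction.homEquiv_unit ..
  haveI : IsIso ((EtCoh.pullPushAdj g).unit.app ((cst Y).obj A) ≫
      (EtCoh.push g).map ((EtCore.pullConstIso g).app A).hom) := this ▸ ‹IsIso (psi g A)›
  exact IsIso.of_isIso_comp_right _ ((EtCoh.push g).map ((EtCore.pullConstIso g).app A).hom)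

theorem bijective_cstSec (A : AddCommGrpCat.{u + 1}) (hg : Good g A) (W : Y.Etale)
    (h : Function.Bijective (cstSec A ((EtCoh.bc g).obj W))) : Function.Bijective (cstSec A W) := by
  haveI := isIso_psi g A hg
  have hp : Function.Bijective ((psi g A).hom.app (op W)) :=
    (ConcreteCategory.isIso_iff_bijective _).1
      (inferInstanceAs (IsIso (((sheafToPresheaf _ _).map (psi g A)).app (op W))))
  rw [← cstSec_psi g A W] at h
  exact (Function.Bijective.of_comp_iff' hp _).1 h

end Groth.Agent.Et18.UnitConst
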