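import Groth.Agent.EGA43.DimFormula.Levels
import Groth.Agent.EGA43.DimFormula.JacobsonDim
import Groth.Agent.CAlgMisc2.CatenaryLocal
import Groth.Agent.CommAlg6.ClosedPoints
import Groth.Agent.S4712

/-! Dimensions of closures of points of schemes of finite type over a universally catenary local ring. -/

set_option autoImplicit false
set_option backward.isDefEq.respectTransparency.types false
set_option backward.isDefEq.respectTransparency false

universe u

open CategoryTheory CategoryTheory.Limits AlgebraicGeometry TopologicalSpace IsLocalRing Topology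
open Groth.Agent.EGA43.DimFormula

namespace Groth.Agent.Et18.DimClosure

variable {X : Scheme.{u}}

section Chains

attribute [local instance] specializationOrder

theorem topologicalKrullDim_le_of_chains {α : Type u} [TopologicalSpace α] [QuasiSober α] [T0Space α]
    (D : WithBot ℕ∞)
    (h : ∀ (n : ℕ) (l : Fin (n + 1) → α), (∀ i j, i < j → l j ⤳ l i ∧ l i ≠ l j) → (n : WithBot ℕ∞) ≤ D) :
    topologicalKrullDim α ≤ D := by
  rw [topologicalKrullDim, Order.krullDim_eq_of_orderIso (irreducibleSetEquivPoints (α := α))]
  exact iSup_le fun l => h l.length l fun i j hij => ⟨(l.strictMono hij).le, (l.strictMono hij).ne⟩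

theorem natCast_le_topologicalKrullDim_of_chain {α : Type u} [TopologicalSpace α] [QuasiSober α] [T0Space α]
    (n : ℕ) (l : Fin (n + 1) → α) (h : ∀ i j, i < j → l j ⤳ l i ∧ l i ≠ l j) :
    (n : WithBot ℕ∞) ≤ topologicalKrullDim α := by
  rw [topologicalKrullDim, Order.krullDim_eq_of_orderIso (irreducibleSetEquivPoints (α := α))]
  exact Order.LTSeries.length_le_krullDim
    (LTSeries.mk n l fun i j hij => lt_of_le_of_ne (h i j hij).1 (h i j hij).2)

end Chains

/-- The dimension of a closure is bounded by the codimensions at its closed points. -/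
theorem topologicalKrullDim_closure_le [CompactSpace X] [IsLocallyNoetherian X] (x : X) (N : ℕ)
    (h : ∀ c, IsClosed ({c} : Set X) → x ⤳ c → cod x c ≤ N) :
    topologicalKrullDim ↥(closure ({x} : Set X)) ≤ (N : WithBot ℕ∞) := by
  haveI : QuasiSober ↥(closure ({x} : Set X)) := isClosed_closure.isClosedEmbedding_subtypeVal.quasiSober
  refine topologicalKrullDim_le_of_chains _ fun n l hl => ?_
  obtain ⟨c, hcmem, hc⟩ := IsClosed.exists_closed_singleton (S := closure ({(l 0 : X)} : Set X))
    isClosed_closure ⟨_, subset_closure rfl⟩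
  have hhc : (l 0 : X) ⤳ c := specializes_iff_mem_closure.2 hcmem
  have hxc : x ⤳ c := (specializes_iff_mem_closure.2 (l 0).2).trans hhc
  have hmem : ∀ i, (l i : X) ∈ {t : X | x ⤳ t ∧ t ⤳ c} := fun i => by
    refine ⟨specializes_iff_mem_closure.2 (l i).2, ?_⟩
    rcases eq_or_ne i 0 with rfl | hi
    · exact hhc
    · exact ((hl 0 i (Fin.pos_iff_ne_zero.2 hi)).1.map continuous_subtype_val).trans hhc
  haveI : QuasiSober ↥{t : X | x ⤳ t ∧ t ⤳ c} := by
    obtain ⟨P, rfl⟩ := exists_toPt hxc
    rw [← range_quotient_toPt c P]
    exact (isEmbedding_quotient_toPt c P).toHomeomorph.symm.isClosedEmbedding.quasiSober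
  refine le_trans ?_ ((interval_eq_cod hxc).le.trans (by exact_mod_cast h c hc hxc))
  refine natCast_le_topologicalKrullDim_of_chain n (fun i => ⟨l i, hmem i⟩) fun i j hij => ⟨?_, ?_⟩
  · exact (subtype_specializes_iff _ _).2 ((hl i j hij).1.map continuous_subtype_val)
  · exact fun e => (hl i j hij).2 (Subtype.ext (congrArg (fun t : ↥{t : X | x ⤳ t ∧ t ⤳ c} => (t : X)) e))

theorem cod_le_topologicalKrullDim_closure [IsLocallyNoetherian X] {x c : X} (h : x ⤳ c) :
    (cod x c : WithBot ℕ∞) ≤ topologicalKrullDim ↥(closure ({x} : Set X)) := by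
  rw [← interval_eq_cod h]
  exact (IsEmbedding.inclusion fun t ht => specializes_iff_mem_closure.1 ht.1).isInducing.topologicalKrullDim_le

variable {A : Type u} [CommRing A] [IsNoetherianRing A] [IsLocalRing A]

theorem specializes_closedPoint (y : Spec (CommRingCat.of A)) :
    y ⤳ (closedPoint A : PrimeSpectrum A) :=
  IsLocalRing.specializes_closedPoint y

theorem cod_closedPoint (y : Spec (CommRingCat.of A)) :
    ringKrullDim (A ⧸ y.asIdeal) = (cod y (closedPoint A : PrimeSpectrum A) : WithBot ℕ∞) := by
  rw [← interval_eq_cod (specializes_closedPoint y),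
    topologicalKrullDim_of_range (X := Spec (CommRingCat.of A)) (PrimeSpectrum.comap (Ideal.Quotient.mk y.asIdeal))
      (PrimeSpectrum.isClosedEmbedding_comap_of_surjective _ _ Ideal.Quotient.mk_surjective).isEmbedding]
  rw [range_comap_of_surjective _ _ Ideal.Quotient.mk_surjective, Ideal.mk_ker]
  ext t
  refine ⟨fun ht => ⟨(PrimeSpectrum.le_iff_specializes y t).1 ht, specializes_closedPoint t⟩,
    fun ht => (PrimeSpectrum.le_iff_specializes y t).2 ht.1⟩

theorem cod_eq_one_of_isLocallyClosed (q : Spec (CommRingCat.of A))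
    (hq : IsLocallyClosed ({q} : Set (Spec (CommRingCat.of A))))
    (hne : q ≠ (closedPoint A : PrimeSpectrum A)) :
    cod q (closedPoint A : PrimeSpectrum A) = 1 := by
  have h1 := cod_pos (specializes_closedPoint q) hne
  have h2 := (cod_le_topologicalKrullDim_closure (specializes_closedPoint q)).trans
    (Groth.Agent.S4712.result (Spec (CommRingCat.of A)) q hq).1
  have h3 : cod q (closedPoint A : PrimeSpectrum A) ≤ 1 := by exact_mod_cast h2
  omega

theorem dim_closure (hA : CAlg.IsUniversallyCatenary A) (f : X ⟶ Spec (CommRingCat.of A))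
    [LocallyOfFiniteType f] [QuasiCompact f] (x : X) (a b d : ℕ)
    (ha : ringKrullDim (A ⧸ (f x).asIdeal) = a) (hb : trdAt f x = b)
    (hd : topologicalKrullDim ↥(closure ({x} : Set X)) = d) :
    ((closure ({x} : Set X) ∩ f ⁻¹' {((closedPoint A : PrimeSpectrum A) : ↥(Spec (CommRingCat.of A)))}).Nonempty →
        d = a + b) ∧
    (closure ({x} : Set X) ∩ f ⁻¹' {((closedPoint A : PrimeSpectrum A) : ↥(Spec (CommRingCat.of A)))} = ∅ →
        d + 1 = a + b) := by
  haveI : CompactSpace X := QuasiCompact.compactSpace_of_compactSpace f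
  haveI : IsLocallyNoetherian X := LocallyOfFiniteType.isLocallyNoetherian f
  haveI : LocallyOfFinitePresentation f := inferInstance
  let m : Spec (CommRingCat.of A) := (closedPoint A : PrimeSpectrum A)
  have hcat : ∀ s : Spec (CommRingCat.of A),
      CAlg.IsUniversallyCatenary ((Spec (CommRingCat.of A)).presheaf.stalk s) := fun s => by
    letI : Algebra A ((Spec (CommRingCat.of A)).presheaf.stalk s) := StructureSheaf.stalkAlgebra A s
    haveI : IsLocalization.AtPrime ((Spec (CommRingCat.of A)).presheaf.stalk s) s.asIdeal :=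
      StructureSheaf.IsLocalization.to_stalk A s
    exact CAlgMisc2.isUniversallyCatenary_localization s.asIdeal.primeCompl _ hA
  have ha' : cod (f x) m = a := by
    rw [cod_closedPoint] at ha
    exact_mod_cast ha
  have key : ∀ c, IsClosed ({c} : Set X) → x ⤳ c →
      (f c = m → cod x c = a + b) ∧ (f c ≠ m → cod x c + 1 = a + b) := by
    intro c hc hxc
    have h1 := eq_formula f hxc (hcat (f c))
    rw [trdAt_eq_zero_of_isClosed f hc, hb] at h1
    refine ⟨fun e => ?_, fun e => ?_⟩
    · rw [e, ha'] at h1
      omega
    · have hlc : IsLocallyClosed ({f c} : Set (Spec (CommRingCat.of A))) := by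
        have hcon : IsLocallyConstructible ({c} : Set X) := by
          have := isLocallyConstructible_compl (isLocallyConstructible_of_isOpen hc.isOpen_compl)
          rwa [compl_compl] at this
        obtain ⟨q, hq, hql⟩ := CommAlg6.exists_isLocallyClosed_singleton
          (f.isLocallyConstructible_image hcon) ⟨_, c, rfl, rfl⟩
        rw [Set.image_singleton, Set.mem_singleton_iff] at hq
        rwa [hq] at hql
      have h2 := cod_add (hxc.map f.continuous) (specializes_closedPoint (f c)) (hcat m)
      rw [ha', cod_eq_one_of_isLocallyClosed (f c) hlc e] at h2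
      omega
  have hle : ∀ N : ℕ, (∀ c, IsClosed ({c} : Set X) → x ⤳ c → cod x c ≤ N) → d ≤ N := fun N h => by
    have := topologicalKrullDim_closure_le x N h
    rw [hd] at this
    exact_mod_cast this
  have hge : ∀ c, x ⤳ c → cod x c ≤ d := fun c h => by
    have := cod_le_topologicalKrullDim_closure h
    rw [hd] at this
    exact_mod_cast this
  constructor
  · rintro ⟨z, hzx, hzm⟩
    obtain ⟨c, hcmem, hc⟩ := IsClosed.exists_closed_singleton (S := closure ({z} : Set X))
      isClosed_closure ⟨_, subset_closure rfl⟩
    have hzc : z ⤳ c := specializes_iff_mem_closure.2 hcmem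
    have hxc : x ⤳ c := (specializes_iff_mem_closure.2 hzx).trans hzc
    have hcm : f c = m := by
      have h := hzc.map f.continuous
      rw [show f z = m from hzm] at h
      exact ((specializes_closedPoint (f c)).antisymm h).eq
    refine le_antisymm (hle _ fun c' hc' hxc' => ?_) (((key c hc hxc).1 hcm).ge.trans (hge c hxc))
    by_cases e : f c' = m
    · exact ((key c' hc' hxc').1 e).le
    · have := (key c' hc' hxc').2 e
      omega
  · intro hemp
    have hne : ∀ c, x ⤳ c → f c ≠ m := fun c h e => by
      have : c ∈ (∅ : Set X) := hemp ▸ ⟨specializes_iff_mem_closure.1 h, e⟩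
      exact this
    obtain ⟨c, hcmem, hc⟩ := IsClosed.exists_closed_singleton (S := closure ({x} : Set X))
      isClosed_closure ⟨_, subset_closure rfl⟩
    have hxc : x ⤳ c := specializes_iff_mem_closure.2 hcmem
    have h1 := (key c hc hxc).2 (hne c hxc)
    have h2 := hge c hxc
    have h3 := hle (cod x c) fun c' hc' hxc' => by
      have := (key c' hc' hxc').2 (hne c' hxc')
      omega
    omega

end Groth.Agent.Et18.DimClosure
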