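import Groth.Prelude.Def_RDer
import Mathlib.Algebra.Homology.ShortComplex.ExactFunctor

/-!
# The first edge map is an isomorphism on an acyclic object

If `Φ` preserves injectives and finite limits and `R^qΦ X = 0` for `q > 0`, then `Φ` of an injective
resolution of `X` is an injective resolution of `Φ X`.
-/

set_option autoImplicit false
set_option backward.isDefEq.respectTransparency false

universe v₁ v₂ v₃ u₁ u₂ u₃

open CategoryTheory CategoryTheory.Limits

namespace Groth.Agent.Et18

variable {A : Type u₁} [Category.{v₁} A] [Abelian A] [HasInjectiveResolutions A]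
  {B : Type u₂} [Category.{v₂} B] [Abelian B] [HasInjectiveResolutions B]
  {C : Type u₃} [Category.{v₃} C] [Abelian C]
  (Φ : A ⥤ B) [Φ.Additive] [Φ.PreservesInjectiveObjects] [PreservesFiniteLimits Φ]
  (Ψ : B ⥤ C) [Ψ.Additive]

theorem isIso_edgeIn (X : A) (h : ∀ q, 0 < q → IsZero ((Φ.rightDerived q).obj X)) (q : ℕ) :
    IsIso (RDer.edgeIn Φ Ψ q X) := by
  let I := injectiveResolution X
  let K := (Φ.mapHomologicalComplex (ComplexShape.up ℕ)).obj I.cocomplex
  let ε : (CochainComplex.single₀ B).obj (Φ.obj X) ⟶ K := RDer.mapAug Φ I.ι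
  have hz : ∀ n, K.ExactAt (n + 1) := fun n =>
    (K.exactAt_iff_isZero_homology _).2 ((h (n + 1) n.succ_pos).of_iso (I.isoRightDerivedObj Φ (n + 1)).symm)
  have hε : QuasiIso ε := ⟨fun n => by
    rcases n with _ | n
    · rw [CochainComplex.quasiIsoAt₀_iff, ShortComplex.quasiIso_iff_of_zeros]
      · refine (ShortComplex.exact_and_mono_f_iff_of_iso
          (S₁ := ShortComplex.mk (ε.f 0) (K.d 0 1)
            (by rw [ε.comm 0 1, HomologicalComplex.single_obj_d, zero_comp]))
          (S₂ := ShortComplex.mk (Φ.map (I.ι.f 0)) (Φ.map (I.cocomplex.d 0 1))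
            (by rw [← Φ.map_comp, I.ι_f_zero_comp_complex_d, Φ.map_zero]))
          (ShortComplex.isoMk ((HomologicalComplex.eval _ _ 0).mapIso
              ((HomologicalComplex.singleMapHomologicalComplex Φ (ComplexShape.up ℕ) 0).app X).symm)
            (Iso.refl _) (Iso.refl _) ?_ ?_)).2 ⟨?_, ?_⟩
        · exact (Category.comp_id _).symm
        · exact (Category.id_comp _).trans (Category.comp_id _).symm
        · have hiff := (Functor.preservesFiniteLimits_tfae Φ).out 1 3 rfl rfl
          exact (hiff.mpr inferInstance (ShortComplex.mk _ _ I.ι_f_zero_comp_complex_d)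
            ⟨I.exact₀, inferInstanceAs (Mono (I.ι.f 0))⟩).1
        · exact inferInstanceAs (Mono (Φ.map (I.ι.f 0)))
      all_goals first | rfl | exact K.shape _ _ (by simp) | simp
    · rw [quasiIsoAt_iff_exactAt]
      · exact hz n
      · exact HomologicalComplex.exactAt_single_obj _ 0 _ _ (by simp)⟩
  let IY : InjectiveResolution (Φ.obj X) :=
    { cocomplex := K, injective := fun n => inferInstanceAs (Injective (K.X n)), ι := ε }
  let J := injectiveResolution (Φ.obj X)
  let c : J.cocomplex ⟶ IY.cocomplex :=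
    RDer.descToInjectives (𝟙 (Φ.obj X)) J.cocomplex J.ι K ε
  have hc : J.ι ≫ c = (CochainComplex.single₀ B).map (𝟙 _) ≫ IY.ι :=
    HomologicalComplex.from_single_hom_ext ((RDer.ι_descToInjectives_f_zero (𝟙 (Φ.obj X)) J.cocomplex J.ι K ε).trans (by simp [IY]))
  let d : IY.cocomplex ⟶ J.cocomplex := InjectiveResolution.desc (𝟙 (Φ.obj X)) J IY
  have hd : IY.ι ≫ d = (CochainComplex.single₀ B).map (𝟙 _) ≫ J.ι :=
    InjectiveResolution.desc_commutes (𝟙 (Φ.obj X)) J IY
  let e : HomotopyEquiv J.cocomplex IY.cocomplex :=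
    { hom := c
      inv := d
      homotopyHomInvId := InjectiveResolution.descHomotopy (𝟙 _) _ _
        (by rw [reassoc_of% hc, CategoryTheory.Functor.map_id, Category.id_comp, hd, CategoryTheory.Functor.map_id, Category.id_comp]) (by simp)
      homotopyInvHomId := InjectiveResolution.descHomotopy (𝟙 _) _ _
        (by rw [reassoc_of% hd, CategoryTheory.Functor.map_id, Category.id_comp, hc, CategoryTheory.Functor.map_id, Category.id_comp]) (by simp) }
  haveI : IsIso ((HomologicalComplex.homologyFunctor C (ComplexShape.up ℕ) q).map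
      ((Ψ.mapHomologicalComplex _).map c)) :=
    inferInstanceAs (IsIso ((Ψ.mapHomotopyEquiv e).toHomologyIso q).hom)
  unfold RDer.edgeIn
  infer_instance

end Groth.Agent.Et18
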