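import Groth.Agent.Et18.EtaleSup
import Groth.Agent.SDiv28.PuncturedAffine
import Groth.Agent.FlatMorWeight.UnibranchOpen

/-! Infima of etale affine dominant factorizations. -/

set_option autoImplicit false
set_option backward.isDefEq.respectTransparency.types false
set_option linter.style.haveILetI false

universe u

open CategoryTheory CategoryTheory.Limits AlgebraicGeometry TopologicalSpace IsLocalRing
open Groth.Agent.FlatMorWeight (IsMaximalPt exists_isMaximalPt_specializes isMaximalPt_of_isGenericPoint)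

namespace Groth.Agent.Et18.EtaleInf

/-- The maximal elements for specialisation of a closed set. -/
def maxIn {T : Type*} [TopologicalSpace T] (F : Set T) : Set T :=
  {x | x ∈ F ∧ ∀ y ∈ F, y ⤳ x → y = x}

lemma finite_max {T : Type*} [TopologicalSpace T] [NoetherianSpace T] [QuasiSober T] :
    {x : T | ∀ y, y ⤳ x → y = x}.Finite := by
  refine Set.Finite.of_finite_image ((NoetherianSpace.finite_irreducibleComponents (α := T)).subset ?_)
    (f := fun x => closure ({x} : Set T)) ?_
  · rintro _ ⟨x, hx, rfl⟩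
    refine ⟨isIrreducible_singleton.closure, fun Z hZ hle => ?_⟩
    obtain ⟨g, hg⟩ := QuasiSober.sober hZ.closure isClosed_closure
    have hgx : g ⤳ x := hg.specializes (subset_closure (hle (subset_closure rfl)))
    rw [← hx g hgx]
    exact subset_closure.trans hg.symm.subset
  · intro a ha b hb hab
    exact hb a (specializes_iff_closure_subset.2 hab.symm.subset)

lemma finite_maxIn {T : Type*} [TopologicalSpace T] [NoetherianSpace T] [QuasiSober T] {F : Set T}
    (hF : IsClosed F) : (maxIn F).Finite := by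
  haveI : QuasiSober F := hF.isClosedEmbedding_subtypeVal.quasiSober
  refine ((finite_max (T := F)).image Subtype.val).subset ?_
  rintro x ⟨hx, hmax⟩
  exact ⟨⟨x, hx⟩, fun y hy => Subtype.ext (hmax y y.2 (hy.map continuous_subtype_val)), rfl⟩

lemma exists_maxIn {T : Type*} [TopologicalSpace T] [QuasiSober T] {F : Set T} (hF : IsClosed F)
    (hne : F.Nonempty) : (maxIn F).Nonempty ∨ ¬ T0Space T := by
  by_cases hT : T0Space T
  · left
    haveI : QuasiSober F := hF.isClosedEmbedding_subtypeVal.quasiSober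
    obtain ⟨x, hx⟩ := hne
    have hZ := irreducibleComponent_mem_irreducibleComponents (⟨x, hx⟩ : F)
    obtain ⟨g, hg⟩ := QuasiSober.sober hZ.1 (isClosed_of_mem_irreducibleComponents _ hZ)
    refine ⟨g.1, g.2, fun y hy hyg => ?_⟩
    have h1 : (⟨y, hy⟩ : F) ⤳ g := Topology.IsInducing.subtypeVal.specializes_iff.1 hyg
    have h2 : irreducibleComponent (⟨x, hx⟩ : F) ⊆ closure {(⟨y, hy⟩ : F)} :=
      hg ▸ closure_minimal (Set.singleton_subset_iff.2 h1.mem_closure) isClosed_closure
    have h3 := hZ.2 isIrreducible_singleton.closure h2 (subset_closure rfl)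
    exact (congrArg Subtype.val ((hg.specializes h3).antisymm h1).eq).symm
  · exact Or.inr hT

/-- Maximal points of a Noetherian scheme. -/
lemma finite_maximal (X : Scheme.{u}) [AlgebraicGeometry.IsNoetherian X] : {x : X | IsMaximalPt x}.Finite :=
  finite_max (T := X)

lemma exists_max (X : Scheme.{u}) (x : X) : ∃ ζ : X, IsMaximalPt ζ ∧ ζ ⤳ x := by
  obtain ⟨η, hη, W, hW, hg⟩ := exists_isMaximalPt_specializes x
  exact ⟨η, isMaximalPt_of_isGenericPoint hW hg, hη⟩

/-- A dense open contains the maximal points. -/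
lemma maximal_mem_of_dense {X : Scheme.{u}} [AlgebraicGeometry.IsLocallyNoetherian X] (V : Set X) (hV : IsOpen V)
    (hd : Dense V) (a : X) (ha : IsMaximalPt a) : a ∈ V := by
  by_contra hna
  obtain ⟨W, hW, haW, -⟩ := exists_isAffineOpen_mem_and_subset (x := a) (U := (⊤ : X.Opens)) trivial
  haveI : IsAffine (W : Scheme.{u}) := hW
  haveI : AlgebraicGeometry.IsNoetherian (W : Scheme.{u}) := ⟨⟩
  have hfin := finite_maximal (W : Scheme.{u})
  let a' : (W : Scheme.{u}) := ⟨a, haW⟩
  have ha' : IsMaximalPt a' := fun z hz => Subtype.ext (ha _ (hz.map continuous_subtype_val))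
  let F : Set (W : Scheme.{u}) := ⋃ b ∈ {b : (W : Scheme.{u}) | IsMaximalPt b ∧ b ≠ a'}, closure {b}
  have hF : IsClosed F := (hfin.subset fun b hb => hb.1).isClosed_biUnion fun _ _ => isClosed_closure
  have haF : a' ∉ F := fun h => by
    obtain ⟨b, ⟨hb, hne⟩, hba⟩ := Set.mem_iUnion₂.1 h
    exact hne (ha' b (specializes_iff_mem_closure.2 hba))
  obtain ⟨y, hy, hyV⟩ := hd.inter_open_nonempty _ (W.ι.isOpenMap _ hF.isOpen_compl) ⟨a, a', haF, rfl⟩
  obtain ⟨y', hy'F, rfl⟩ := hy
  obtain ⟨b, hb, hby⟩ := exists_max (W : Scheme.{u}) y'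
  have hbV : W.ι b ∈ V := (hby.map W.ι.continuous).mem_open hV hyV
  rcases eq_or_ne b a' with rfl | hne
  · exact hna hbV
  · exact hy'F (Set.mem_iUnion₂.2 ⟨b, ⟨hb, hne⟩, hby.mem_closure⟩)

/-- A point with local ring of dimension at most one has only maximal proper generisations. -/
lemma eq_of_dim_le_one {X : Scheme.{u}} {p : X} (hd : ringKrullDim (X.presheaf.stalk p) ≤ 1) {y z : X}
    (hy : y ⤳ p) (hne : y ≠ p) (hz : z ⤳ y) : z = y := by
  by_contra hzy
  let g := X.fromSpecStalk p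
  obtain ⟨y', hy'⟩ : y ∈ Set.range g := by rw [Scheme.range_fromSpecStalk]; exact hy
  obtain ⟨z', hz'⟩ : z ∈ Set.range g := by rw [Scheme.range_fromSpecStalk]; exact hz.trans hy
  let z₁ : PrimeSpectrum (X.presheaf.stalk p) := z'
  let y₁ : PrimeSpectrum (X.presheaf.stalk p) := y'
  have hs : z' ⤳ y' := g.isEmbedding.isInducing.specializes_iff.1 (by rw [hz', hy']; exact hz)
  have h1 : z₁ < y₁ := lt_of_le_of_ne ((PrimeSpectrum.le_iff_specializes z₁ y₁).2 hs)
    fun e => hzy (hz' ▸ hy' ▸ congrArg g e)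
  have h2 : y₁ < closedPoint (X.presheaf.stalk p) :=
    lt_of_le_of_ne (le_maximalIdeal y₁.2.ne_top : y₁.asIdeal ≤ _) fun e =>
      hne (hy'.symm.trans ((congrArg g e).trans Scheme.fromSpecStalk_closedPoint))
  let ch : LTSeries (PrimeSpectrum (X.presheaf.stalk p)) :=
    ⟨2, ![z₁, y₁, closedPoint _], fun i => by fin_cases i <;> assumption⟩
  have h3 : (ch.length : WithBot ℕ∞) ≤ 1 := (Order.LTSeries.length_le_krullDim ch).trans hd
  have h4 : ch.length = 2 := rfl
  rw [h4] at h3
  exact absurd h3 (by norm_num)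

variable {S : Scheme.{u}}

section Compare

variable {C A : Scheme.{u}} [AlgebraicGeometry.IsLocallyNoetherian A] (gC : C ⟶ S) (gA : A ⟶ S) [Etale gC] [Etale gA] (c : C ⟶ A) (hc : c ≫ gA = gC)

/-- The map on squares. -/
noncomputable def sq : pullback gC gC ⟶ pullback gA gA :=
  pullback.map gC gC gA gA c c (𝟙 S) (by rw [Category.comp_id, hc]) (by rw [Category.comp_id, hc])

@[reassoc] lemma sq_fst : sq gC gA c hc ≫ pullback.fst gA gA = pullback.fst gC gC ≫ c :=
  pullback.lift_fst _ _ _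

@[reassoc] lemma sq_snd : sq gC gA c hc ≫ pullback.snd gA gA = pullback.snd gC gC ≫ c :=
  pullback.lift_snd _ _ _

include hc in
lemma etale_map : Etale c := by
  haveI : Etale (c ≫ gA) := hc ▸ inferInstance
  exact Etale.of_comp c gA

include hc in
/-- A dominant map of etale schemes hits all pairs of maximal points. -/
lemma surjOn_maximal [IsDominant c] :
    Set.SurjOn (sq gC gA c hc) {z : ↥(pullback gC gC) | IsMaximalPt z} {z : ↥(pullback gA gA) | IsMaximalPt z} := by
  haveI := etale_map gC gA c hc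
  intro z (hz : IsMaximalPt z)
  haveI : Etale (pullback.fst gA gA) := MorphismProperty.pullback_fst _ _ ‹Etale gA›
  haveI : Etale (pullback.snd gA gA) := MorphismProperty.pullback_snd _ _ ‹Etale gA›
  have hmem : ∀ a : A, IsMaximalPt a → a ∈ Set.range c := fun a ha => by
    exact maximal_mem_of_dense (Set.range c) c.isOpenMap.isOpen_range c.denseRange a ha
  have hr : z ∈ Set.range (sq gC gA c hc) := by
    rw [sq, Scheme.Pullback.range_map]
    exact ⟨hmem _ (hz.map_flat _), hmem _ (hz.map_flat _)⟩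
  obtain ⟨w, hw⟩ := hr
  obtain ⟨ζ, hζ, hζw⟩ := exists_max (pullback gC gC) w
  refine ⟨ζ, hζ, hz _ ?_⟩
  rw [← hw]
  exact hζw.map (sq gC gA c hc).continuous

include hc in
lemma etale_sq : Etale (sq gC gA c hc) := by
  haveI : Etale (pullback.fst gA gA ≫ gA) :=
    MorphismProperty.comp_mem _ _ _ (MorphismProperty.pullback_fst _ _ ‹Etale gA›) ‹Etale gA›
  haveI : Etale (sq gC gA c hc ≫ pullback.fst gA gA ≫ gA) := by
    rw [sq, pullback.map, pullback.lift_fst_assoc, Category.assoc, hc]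
    exact MorphismProperty.comp_mem _ _ _ (MorphismProperty.pullback_fst _ _ ‹Etale gC›) ‹Etale gC›
  exact Etale.of_comp _ (pullback.fst gA gA ≫ gA)

include hc in
lemma mapsTo_maximal :
    Set.MapsTo (sq gC gA c hc) {z : ↥(pullback gC gC) | IsMaximalPt z} {z : ↥(pullback gA gA) | IsMaximalPt z} := by
  haveI := etale_sq gC gA c hc
  exact fun z hz => IsMaximalPt.map_flat _ hz

include hc in
/-- If the map on pairs of maximal points is injective, the map is a monomorphism. -/
lemma isOpenImmersion_of_injOn [IsSeparated gC]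
    (hinj : Set.InjOn (sq gC gA c hc) {z : ↥(pullback gC gC) | IsMaximalPt z}) : IsOpenImmersion c := by
  haveI := etale_map gC gA c hc
  haveI : IsSeparated c := by
    haveI : IsSeparated (c ≫ gA) := hc ▸ inferInstance
    exact IsSeparated.of_comp c gA
  let k : pullback c c ⟶ pullback gC gC :=
    pullback.lift (pullback.fst c c) (pullback.snd c c) (by rw [← hc, pullback.condition_assoc])
  have hk1 : k ≫ pullback.fst gC gC = pullback.fst c c := pullback.lift_fst _ _ _
  have hk2 : k ≫ pullback.snd gC gC = pullback.snd c c := pullback.lift_snd _ _ _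
  haveI hQ : Etale (pullback.fst c c) := MorphismProperty.pullback_fst _ _ ‹Etale c›
  haveI : IsOpenImmersion k := by
    haveI : Etale (pullback.fst gC gC) := MorphismProperty.pullback_fst _ _ ‹Etale gC›
    haveI : Etale (k ≫ pullback.fst gC gC) := by rw [pullback.lift_fst]; exact hQ
    haveI : Etale k := Etale.of_comp k (pullback.fst gC gC)
    haveI : Mono k := ⟨fun a b hab => by
      refine pullback.hom_ext ?_ ?_
      · rw [← hk1, ← Category.assoc, hab, Category.assoc]
      · rw [← hk2, ← Category.assoc, hab, Category.assoc]⟩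
    exact FEtLib.isOpenImmersion_of_etale_universallyInjective k
  haveI : Surjective (pullback.diagonal c) := ⟨fun z => by
    obtain ⟨ζ, hζ, hζz⟩ := exists_max (pullback c c) z
    let η := pullback.fst c c ζ
    have hη : IsMaximalPt η := hζ.map_flat _
    have hkζ : IsMaximalPt (k ζ) := hζ.map_flat k
    have hkη : IsMaximalPt (pullback.diagonal gC η) := by
      haveI : IsOpenImmersion (pullback.diagonal gC) := inferInstance
      exact hη.map_flat _
    have he : k ζ = pullback.diagonal gC η := by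
      refine hinj hkζ hkη ?_
      have h1 : k ≫ sq gC gA c hc = (pullback.fst c c ≫ pullback.diagonal gC) ≫ sq gC gA c hc := by
        refine pullback.hom_ext ?_ ?_
        · rw [Category.assoc, sq_fst, reassoc_of% hk1, Category.assoc, Category.assoc, sq_fst,
            pullback.diagonal_fst_assoc]
        · rw [Category.assoc, sq_snd, reassoc_of% hk2, Category.assoc, Category.assoc, sq_snd,
            pullback.diagonal_snd_assoc, pullback.condition]
      exact congrArg (fun φ : pullback c c ⟶ pullback gA gA => φ ζ) h1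
    have hk : pullback.diagonal c ≫ k = pullback.diagonal gC := by
      refine pullback.hom_ext ?_ ?_
      · rw [Category.assoc, hk1, pullback.diagonal_fst, pullback.diagonal_fst]
      · rw [Category.assoc, hk2, pullback.diagonal_snd, pullback.diagonal_snd]
    have hζ' : ζ = pullback.diagonal c η := k.isEmbedding.injective (he.trans (by rw [← hk]; rfl))
    exact (pullback.diagonal c).isClosedEmbedding.isClosed_range.closure_subset
      (closure_mono (Set.singleton_subset_iff.2 (Set.mem_range.2 ⟨η, hζ'.symm⟩)) hζz.mem_closure)⟩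
  haveI : UniversallyInjective c := (UniversallyInjective.iff_diagonal c).2 inferInstance
  exact FEtLib.isOpenImmersion_of_etale_universallyInjective c

end Compare

section Main

variable {X S : Scheme.{u}} (f : X ⟶ S) {E₁ E₂ : Scheme.{u}} (g₁ : E₁ ⟶ S) (g₂ : E₂ ⟶ S)
  (u₁ : X ⟶ E₁) (u₂ : X ⟶ E₂)

/-- Admissible factorizations receiving the two given ones. -/
structure Adm where
  E : Scheme.{u}
  g : E ⟶ S
  u : X ⟶ E
  v₁ : E₁ ⟶ E
  v₂ : E₂ ⟶ E
  etale : Etale g
  affine : IsAffineHom g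
  dom : IsSchemeTheoreticallyDominant u
  hu : u ≫ g = f
  hv₁ : u₁ ≫ v₁ = u
  hv₂ : u₂ ≫ v₂ = u
  hg₁ : v₁ ≫ g = g₁
  hg₂ : v₂ ≫ g = g₂

variable {f g₁ g₂ u₁ u₂}

/-- The number of pairs of maximal points. -/
noncomputable def Adm.deg (A : Adm f g₁ g₂ u₁ u₂) : ℕ :=
  {z : ↥(pullback A.g A.g) | IsMaximalPt z}.ncard

/-- The number of components off the image. -/
noncomputable def Adm.bad (A : Adm f g₁ g₂ u₁ u₂) : ℕ := (maxIn ((Set.range A.u)ᶜ)).ncard

variable [AlgebraicGeometry.IsNoetherian S] [Flat f] [LocallyOfFinitePresentation f] [QuasiCompact f]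

omit [Flat f] [LocallyOfFinitePresentation f] [QuasiCompact f] in
lemma isNoetherian_over {E : Scheme.{u}} (g : E ⟶ S) [Etale g] [QuasiCompact g] :
    AlgebraicGeometry.IsNoetherian E := by
  haveI : IsLocallyNoetherian E := LocallyOfFiniteType.isLocallyNoetherian g
  haveI : CompactSpace E := QuasiCompact.compactSpace_of_compactSpace g
  exact {}

omit [Flat f] [LocallyOfFinitePresentation f] [QuasiCompact f] in
lemma isNoetherian_sq {E : Scheme.{u}} (g : E ⟶ S) [Etale g] [QuasiCompact g] :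
    AlgebraicGeometry.IsNoetherian (pullback g g) := by
  haveI : Etale (pullback.fst g g ≫ g) :=
    MorphismProperty.comp_mem _ _ _ (MorphismProperty.pullback_fst _ _ ‹Etale g›) ‹Etale g›
  haveI : QuasiCompact (pullback.fst g g) := MorphismProperty.pullback_fst _ _ ‹QuasiCompact g›
  exact isNoetherian_over (pullback.fst g g ≫ g)

lemma Adm.isOpen_range (A : Adm f g₁ g₂ u₁ u₂) : IsOpen (Set.range A.u) ∧ Dense (Set.range A.u) := by
  haveI := A.etale
  haveI := A.affine
  haveI := A.dom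
  obtain ⟨h1, h2⟩ := EtaleSup.flat_lfp_of_comp_etale A.u A.g f A.hu
  haveI := h1
  haveI := h2
  haveI : QuasiCompact A.u := by
    haveI : QuasiCompact (A.u ≫ A.g) := by rw [A.hu]; infer_instance
    exact QuasiCompact.of_comp A.u A.g
  exact ⟨A.u.isOpenMap.isOpen_range, A.u.denseRange⟩

/-- Strict refinements decrease the measure. -/
theorem Adm.refine_lt (A C : Adm f g₁ g₂ u₁ u₂) (c : C.E ⟶ A.E) (hc : c ≫ A.g = C.g) (hcu : C.u ≫ c = A.u)
    (hniso : ¬ IsIso c) : A.deg < C.deg ∨ (A.deg = C.deg ∧ C.bad < A.bad) := by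
  haveI := A.etale
  haveI := A.affine
  haveI := C.etale
  haveI := C.affine
  haveI := isNoetherian_over A.g
  haveI := isNoetherian_over C.g
  haveI := isNoetherian_sq C.g
  obtain ⟨hAo, hAd⟩ := A.isOpen_range
  haveI : IsDominant c := ⟨hAd.mono (by
    rintro _ ⟨a, rfl⟩
    exact ⟨C.u a, (congrArg (fun φ : X ⟶ A.E => φ a) hcu)⟩)⟩
  let m := sq C.g A.g c hc
  let MC := {z : ↥(pullback C.g C.g) | IsMaximalPt z}
  let MA := {z : ↥(pullback A.g A.g) | IsMaximalPt z}
  have hfin : MC.Finite := finite_maximal _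
  have himg : m '' MC = MA :=
    (Set.image_subset_iff.2 (mapsTo_maximal C.g A.g c hc)).antisymm (surjOn_maximal C.g A.g c hc)
  have hle : A.deg ≤ C.deg := by
    change MA.ncard ≤ MC.ncard
    rw [← himg]
    exact Set.ncard_image_le hfin
  rcases hle.lt_or_eq with h | h
  · exact Or.inl h
  right
  refine ⟨h, ?_⟩
  have hinj : Set.InjOn m MC := by
    refine (Set.ncard_image_iff hfin).1 ?_
    rw [himg]
    exact h
  haveI : IsOpenImmersion c := isOpenImmersion_of_injOn C.g A.g c hc hinj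
  haveI : IsAffineHom c := by
    haveI : IsAffineHom (c ≫ A.g) := hc ▸ inferInstance
    exact MorphismProperty.of_postcomp (W := @IsAffineHom) (W' := @IsSeparated) c A.g inferInstance ‹_›
  let U := c.opensRange
  haveI : IsAffineHom U.ι := by
    have e : c.isoOpensRange.inv ≫ c = U.ι := by
      rw [Iso.inv_comp_eq, Scheme.Hom.isoOpensRange_hom_ι]
    rw [← e]
    infer_instance
  have hne : ((U : Set A.E)ᶜ).Nonempty := by
    by_contra hne
    refine hniso ?_
    haveI : Surjective c := ⟨fun a => by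
      by_contra hna
      exact hne ⟨a, hna⟩⟩
    exact (isIso_iff_isOpenImmersion_and_epi_base c).2
      ⟨inferInstance, (TopCat.epi_iff_surjective _).2 c.surjective⟩
  obtain ⟨p, hpU, hpmax⟩ := (exists_maxIn U.isOpen.isClosed_compl hne).resolve_right (not_not.2 inferInstance)
  have hWU : Set.range A.u ⊆ (U : Set A.E) := by
    rintro _ ⟨a, rfl⟩
    exact ⟨C.u a, congrArg (fun φ : X ⟶ A.E => φ a) hcu⟩
  have hp : p ∈ maxIn ((Set.range A.u)ᶜ) := by
    refine ⟨fun h => hpU (hWU h), fun y hy hyp => ?_⟩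
    by_contra hne
    refine hy (maximal_mem_of_dense _ hAo hAd y fun z hz => ?_)
    exact eq_of_dim_le_one (SDiv28.Punctured.dim_le_one U p hpU hpmax) hyp hne hz
  have hsub : c '' maxIn ((Set.range C.u)ᶜ) ⊆ maxIn ((Set.range A.u)ᶜ) \ {p} := by
    rintro _ ⟨q, ⟨hq, hqmax⟩, rfl⟩
    refine ⟨⟨?_, fun y hy hyq => ?_⟩, fun e => hpU ⟨q, e⟩⟩
    · rintro ⟨a, ha⟩
      refine hq ⟨a, c.isOpenEmbedding.injective ?_⟩
      rw [← ha]
      exact congrArg (fun φ : X ⟶ A.E => φ a) hcu
    · obtain ⟨y', rfl⟩ : y ∈ Set.range c := hyq.mem_open c.isOpenEmbedding.isOpen_range ⟨q, rfl⟩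
      refine congrArg c (hqmax y' ?_ (c.isEmbedding.isInducing.specializes_iff.1 hyq))
      rintro ⟨a, rfl⟩
      exact hy ⟨a, (congrArg (fun φ : X ⟶ A.E => φ a) hcu).symm⟩
  have hfinA : (maxIn ((Set.range A.u)ᶜ)).Finite := finite_maxIn hAo.isClosed_compl
  change (maxIn ((Set.range C.u)ᶜ)).ncard < (maxIn ((Set.range A.u)ᶜ)).ncard
  rw [← Set.ncard_image_of_injective _ c.isOpenEmbedding.injective]
  exact (Set.ncard_le_ncard hsub (hfinA.subset Set.sdiff_subset)).trans_lt
    (Set.ncard_sdiff_singleton_lt_of_mem hp hfinA)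

/-- The infimum. -/
theorem exists_inf [Surjective f] [Etale g₁] [Etale g₂] [IsAffineHom g₁] [IsAffineHom g₂]
    [IsSchemeTheoreticallyDominant u₁] [IsSchemeTheoreticallyDominant u₂]
    (hS : ∀ s : S, CAlg2.IsGeomUnibranch (S.presheaf.stalk s))
    (hemb : AssSch.NoEmbedded (Coh.structureModule S)) (h₁ : u₁ ≫ g₁ = f) (h₂ : u₂ ≫ g₂ = f) :
    ∃ (E : Scheme.{u}) (g : E ⟶ S) (u : X ⟶ E) (v₁ : E₁ ⟶ E) (v₂ : E₂ ⟶ E),
      Etale g ∧ IsAffineHom g ∧ IsSchemeTheoreticallyDominant u ∧ u ≫ g = f ∧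
      u₁ ≫ v₁ = u ∧ u₂ ≫ v₂ = u ∧ v₁ ≫ g = g₁ ∧ v₂ ≫ g = g₂ ∧
      ∀ (E' : Scheme.{u}) (g' : E' ⟶ S) (u' : X ⟶ E') (w₁ : E₁ ⟶ E') (w₂ : E₂ ⟶ E'),
        Etale g' → IsAffineHom g' → IsSchemeTheoreticallyDominant u' → u' ≫ g' = f →
        u₁ ≫ w₁ = u' → u₂ ≫ w₂ = u' → w₁ ≫ g' = g₁ → w₂ ≫ g' = g₂ →
        ∃ w : E ⟶ E', u ≫ w = u' ∧ v₁ ≫ w = w₁ ∧ v₂ ≫ w = w₂ := by
  haveI := isNoetherian_over g₁
  haveI := isNoetherian_sq g₁
  let N := {z : ↥(pullback g₁ g₁) | IsMaximalPt z}.ncard
  have hbound : ∀ A : Adm f g₁ g₂ u₁ u₂, A.deg ≤ N := by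
    intro A
    haveI := A.etale
    haveI := A.affine
    haveI := isNoetherian_over A.g
    obtain ⟨-, hAd⟩ := A.isOpen_range
    haveI : IsDominant A.v₁ := ⟨hAd.mono (by
      rintro _ ⟨a, rfl⟩
      exact ⟨u₁ a, congrArg (fun φ : X ⟶ A.E => φ a) A.hv₁⟩)⟩
    change Set.ncard _ ≤ Set.ncard _
    rw [← (Set.image_subset_iff.2 (mapsTo_maximal g₁ A.g A.v₁ A.hg₁)).antisymm
      (surjOn_maximal g₁ A.g A.v₁ A.hg₁)]
    exact Set.ncard_image_le (finite_maximal _)
  have key : ∀ A : Adm f g₁ g₂ u₁ u₂, ∃ T : Adm f g₁ g₂ u₁ u₂, ∀ B : Adm f g₁ g₂ u₁ u₂,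
      ∃ w : T.E ⟶ B.E, T.u ≫ w = B.u ∧ w ≫ B.g = T.g := by
    intro A
    induction hk : N - A.deg using Nat.strong_induction_on generalizing A with
    | _ k ih =>
      induction hl : A.bad using Nat.strong_induction_on generalizing A with
      | _ l ih' =>
        by_cases htop : ∀ B : Adm f g₁ g₂ u₁ u₂, ∃ w : A.E ⟶ B.E, A.u ≫ w = B.u ∧ w ≫ B.g = A.g
        · exact ⟨A, htop⟩
        obtain ⟨B, hB⟩ := not_forall.1 htop
        haveI := A.etale
        haveI := A.affine
        haveI := B.etale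
        haveI := B.affine
        obtain ⟨E, g, u, cA, cB, hge, hga, hdom, hug, huA, huB, hgA, hgB, huniv⟩ :=
          EtaleSup.exists_sup hS hemb f A.E B.E A.g B.g A.u B.u A.hu B.hu
        obtain ⟨p₁, hp₁u, hp₁A, -⟩ := huniv E₁ g₁ u₁ A.v₁ B.v₁ inferInstance inferInstance inferInstance h₁
          A.hv₁ B.hv₁ A.hg₁ B.hg₁
        obtain ⟨p₂, hp₂u, hp₂A, -⟩ := huniv E₂ g₂ u₂ A.v₂ B.v₂ inferInstance inferInstance inferInstance h₂
          A.hv₂ B.hv₂ A.hg₂ B.hg₂
        let C : Adm f g₁ g₂ u₁ u₂ :=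
          { E := E, g := g, u := u, v₁ := p₁, v₂ := p₂, etale := hge, affine := hga, dom := hdom, hu := hug
            hv₁ := hp₁u, hv₂ := hp₂u
            hg₁ := by rw [← hgA, ← Category.assoc, hp₁A, A.hg₁]
            hg₂ := by rw [← hgA, ← Category.assoc, hp₂A, A.hg₂] }
        have hniso : ¬ IsIso cA := by
          intro hi
          refine hB ⟨inv cA ≫ cB, ?_, ?_⟩
          · rw [← huA, Category.assoc, IsIso.hom_inv_id_assoc, huB]
          · rw [Category.assoc, hgB, IsIso.inv_comp_eq, hgA]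
        rcases A.refine_lt C cA hgA huA hniso with hlt | ⟨heq, hlt⟩
        · exact ih (N - C.deg) (by have := hbound C; omega) C rfl
        · exact ih' C.bad (by omega) C (by omega) rfl
  haveI : IsSchemeTheoreticallyDominant f := Desc19b.isSchemeTheoreticallyDominant_of_flat f
  obtain ⟨T, hT⟩ := key
    { E := S, g := 𝟙 S, u := f, v₁ := g₁, v₂ := g₂, etale := inferInstance, affine := inferInstance
      dom := inferInstance, hu := Category.comp_id f, hv₁ := h₁, hv₂ := h₂
      hg₁ := Category.comp_id g₁, hg₂ := Category.comp_id g₂ }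
  refine ⟨T.E, T.g, T.u, T.v₁, T.v₂, T.etale, T.affine, T.dom, T.hu, T.hv₁, T.hv₂, T.hg₁, T.hg₂, ?_⟩
  intro E' g' u' w₁ w₂ hge hga hdom hug hw₁ hw₂ hgw₁ hgw₂
  obtain ⟨w, hwu, hwg⟩ := hT ⟨E', g', u', w₁, w₂, hge, hga, hdom, hug, hw₁, hw₂, hgw₁, hgw₂⟩
  haveI : IsAffineHom g' := hga
  refine ⟨w, hwu, ?_, ?_⟩
  · refine FlatMor12.RegularExtend.ext_of_isSchemeTheoreticallyDominant g' ?_ u₁ ?_
    · rw [Category.assoc, hwg, T.hg₁, hgw₁]
    · rw [← Category.assoc, T.hv₁, hwu, hw₁]
  · refine FlatMor12.RegularExtend.ext_of_isSchemeTheoreticallyDominant g' ?_ u₂ ?_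
    · rw [Category.assoc, hwg, T.hg₂, hgw₂]
    · rw [← Category.assoc, T.hv₂, hwu, hw₂]

end Main

end Groth.Agent.Et18.EtaleInf
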