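import Groth.Agent.AssSch12.MaxSupport
import Groth.Agent.AssSch12.PullbackPoint
import Groth.Agent.QCohLoc.Unit
import Groth.Agent.SGA3cLib.UnibranchTwConst
import Groth.Agent.FlatMor12.RegularExtend
import Groth.Agent.Desc19b.IdealDescent
import Groth.Agent.FEtLib.EqLocus
import Groth.Agent.AlgSpLib.FibreDimChart

/-! Suprema of etale affine dominant factorizations. -/

set_option autoImplicit false
set_option backward.isDefEq.respectTransparency.types false
set_option linter.style.haveILetI false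

universe u

open CategoryTheory CategoryTheory.Limits AlgebraicGeometry TopologicalSpace IsLocalRing
open Groth.Agent.FlatMorWeight (IsMaximalPt)

namespace Groth.Agent.Et18.EtaleSup

/-- Off the maximal points, a scheme without embedded points has regular elements in its stalks. -/
theorem exists_regular {S : Scheme.{u}} [IsLocallyNoetherian S]
    (hemb : AssSch.NoEmbedded (Coh.structureModule S)) (s s' : S) (hs : s' ⤳ s) (hne : s' ≠ s) :
    ∃ a ∈ maximalIdeal (S.presheaf.stalk s), IsSMulRegular (S.presheaf.stalk s) a := by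
  let M := Coh.structureModule S
  let e : ∀ x : S, S.presheaf.stalk x ≃ₗ[S.presheaf.stalk x] M.presheaf.stalk x := fun x =>
    LinearEquiv.ofBijective (LinearMap.toSpanSingleton (S.presheaf.stalk x) _ (AssSch12.unitOne x))
      (AssSch12.bijective_smul_unitOne x)
  have hnass : s ∉ AssSch.Ass M := by
    intro h
    have h' := ((AssSch12.ass_max_iff M (QCohLoc.isQCoh_structureModule S) s).1
      ⟨h, fun y hy hys => (hemb s h y hy hys).symm⟩).2 s' (e s').toEquiv.symm.nontrivial hs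
    exact hne h'
  by_contra hno
  push_neg at hno
  have hle : (maximalIdeal (S.presheaf.stalk s) : Set (S.presheaf.stalk s)) ⊆
      ⋃ p ∈ associatedPrimes (S.presheaf.stalk s) (M.presheaf.stalk s), (p : Set (S.presheaf.stalk s)) := by
    rw [biUnion_associatedPrimes_eq_zero_divisors]
    intro a ha
    have hna := hno a ha
    rw [isSMulRegular_iff_right_eq_zero_of_smul] at hna
    push_neg at hna
    obtain ⟨m, hm, hm0⟩ := hna
    exact ⟨e s m, (e s).map_ne_zero_iff.2 hm0, by rw [← map_smul, hm, map_zero]⟩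
  haveI : Module.Finite (S.presheaf.stalk s) (M.presheaf.stalk s) := Module.Finite.equiv (e s)
  obtain ⟨p, hp, hmp⟩ := (Ideal.subset_union_prime_finite (associatedPrimes.finite _ _) ⊥ ⊥
    (fun p hp _ _ => hp.isPrime)).1 hle
  have : p = maximalIdeal (S.presheaf.stalk s) :=
    ((IsLocalRing.maximalIdeal.isMaximal _).eq_of_le hp.isPrime.ne_top hmp).symm
  exact hnass (this ▸ hp :)

variable {X S : Scheme.{u}}

theorem flat_lfp_of_comp_etale {P : Scheme.{u}} (w : X ⟶ P) (h : P ⟶ S) [Etale h] (f : X ⟶ S)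
    (hw : w ≫ h = f) [Flat f] [LocallyOfFinitePresentation f] :
    Flat w ∧ LocallyOfFinitePresentation w := by
  let Γw : X ⟶ pullback f h := pullback.lift (𝟙 X) w (by rw [Category.id_comp, hw])
  have h1 : Γw ≫ pullback.fst f h = 𝟙 X := pullback.lift_fst _ _ _
  haveI : Etale (pullback.fst f h) := MorphismProperty.pullback_fst _ _ ‹Etale h›
  haveI : Etale (Γw ≫ pullback.fst f h) := by rw [h1]; infer_instance
  haveI : Etale Γw := Etale.of_comp Γw (pullback.fst f h)
  haveI : Flat (pullback.snd f h) := MorphismProperty.pullback_snd _ _ ‹Flat f›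
  haveI : LocallyOfFinitePresentation (pullback.snd f h) :=
    MorphismProperty.pullback_snd _ _ ‹LocallyOfFinitePresentation f›
  have h2 : Γw ≫ pullback.snd f h = w := pullback.lift_snd _ _ _
  rw [← h2]
  exact ⟨inferInstance, inferInstance⟩

/-- A flat map to an etale scheme over a geometrically unibranch base without embedded points factors as
a schematically dominant map followed by an open and closed immersion. -/
theorem exists_clopen_factor [AlgebraicGeometry.IsNoetherian S]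
    (hS : ∀ s : S, CAlg2.IsGeomUnibranch (S.presheaf.stalk s))
    (hemb : AssSch.NoEmbedded (Coh.structureModule S)) {P : Scheme.{u}} [AlgebraicGeometry.IsNoetherian P]
    (h : P ⟶ S) [Etale h] (w : X ⟶ P) [Flat w] [LocallyOfFinitePresentation w] [QuasiCompact w] :
    ∃ C : P.Opens, IsClosed (C : Set P) ∧ (C : Set P) = closure (Set.range w) ∧
      ∃ w' : X ⟶ (C : Scheme.{u}), IsSchemeTheoreticallyDominant w' ∧ w' ≫ C.ι = w := by
  have hVo : IsOpen (Set.range w) := w.isOpenMap.isOpen_range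
  have hcomp : ∀ y ∈ closure (Set.range w), ∃ ζ ∈ Set.range w, ζ ⤳ y ∧
      connectedComponent y ⊆ closure (Set.range w) := by
    intro y hy
    obtain ⟨hK, ζ, hζ, hζK⟩ := SGA3cLib.UnibranchTwConst.exists_component h hS y
    obtain ⟨z, hzK, hzV⟩ := mem_closure_iff.1 hy _ hK mem_connectedComponent
    have hζV : ζ ∈ Set.range w := (hζK z hzK).mem_open hVo hzV
    exact ⟨ζ, hζV, hζK y mem_connectedComponent, fun v hv => (hζK v hv).mem_closed isClosed_closure
      (subset_closure hζV)⟩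
  let C : P.Opens := ⟨closure (Set.range w), isOpen_iff_forall_mem_open.2 fun y hy => by
    obtain ⟨-, -, -, hsub⟩ := hcomp y hy
    exact ⟨_, hsub, (SGA3cLib.UnibranchTwConst.exists_component h hS y).1, mem_connectedComponent⟩⟩
  have hr : Set.range w ⊆ Set.range C.ι := by
    rw [Scheme.Opens.range_ι]
    exact subset_closure
  let w' : X ⟶ (C : Scheme.{u}) := IsOpenImmersion.lift C.ι w hr
  have hw' : w' ≫ C.ι = w := IsOpenImmersion.lift_fac _ _ _
  refine ⟨C, isClosed_closure, rfl, w', ?_, hw'⟩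
  let W₀ : (C : Scheme.{u}).Opens := C.ι ⁻¹ᵁ ⟨_, hVo⟩
  have hw₀ : Set.range w' ⊆ Set.range W₀.ι := by
    rintro _ ⟨a, rfl⟩
    rw [Scheme.Opens.range_ι]
    exact ⟨a, (congrArg (fun φ : X ⟶ P => φ a) hw').symm⟩
  let v : X ⟶ (W₀ : Scheme.{u}) := IsOpenImmersion.lift W₀.ι w' hw₀
  have hv : v ≫ W₀.ι = w' := IsOpenImmersion.lift_fac _ _ _
  let j : (W₀ : Scheme.{u}) ⟶ P := W₀.ι ≫ C.ι
  have hj : v ≫ j = w := by rw [← hw', ← hv, Category.assoc]
  haveI : Flat v := by
    haveI : Flat (v ≫ j) := hj ▸ inferInstance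
    exact MorphismProperty.of_postcomp (W := @Flat) (W' := @IsOpenImmersion) v j inferInstance ‹_›
  haveI : QuasiCompact v := by
    haveI : QuasiCompact (v ≫ j) := hj ▸ inferInstance
    exact QuasiCompact.of_comp v j
  haveI : Surjective v := ⟨fun q => by
    obtain ⟨a, ha⟩ : C.ι (W₀.ι q) ∈ Set.range w := q.2
    refine ⟨a, j.isOpenEmbedding.injective ?_⟩
    rw [← Scheme.Hom.comp_apply, hj, ha]
    rfl⟩
  haveI := Desc19b.isSchemeTheoreticallyDominant_of_flat v
  have hd : FlatMor12.RegularExtend.DepthOne W₀ := by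
    intro z hz
    obtain ⟨ζ, hζV, hζz, -⟩ := hcomp (C.ι z) z.2
    have hne : ζ ≠ C.ι z := fun e => hz (e ▸ hζV :)
    have hne' : h ζ ≠ h (C.ι z) := fun e => hne
      (AlgSpLib.eq_of_specializes_of_etale h hζz e)
    obtain ⟨a, ha, hreg⟩ := exists_regular hemb ((C.ι ≫ h) z) (h ζ)
      (hζz.map h.continuous) hne'
    let φ := ((C.ι ≫ h).stalkMap z).hom
    letI := φ.toAlgebra
    haveI : Module.Flat (S.presheaf.stalk ((C.ι ≫ h) z)) ((C : Scheme.{u}).presheaf.stalk z) :=
      Flat.stalkMap (C.ι ≫ h) z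
    haveI : IsLocalHom φ := inferInstanceAs (IsLocalHom ((C.ι ≫ h).stalkMap z).hom)
    exact ⟨φ a, fun hu => ha (isUnit_of_map_unit φ a hu), hreg.of_flat⟩
  haveI : QuasiCompact W₀.ι := by
    haveI : IsLocallyNoetherian (C : Scheme.{u}) := LocallyOfFiniteType.isLocallyNoetherian C.ι
    haveI : CompactSpace (C : Scheme.{u}) := isCompact_iff_compactSpace.1 (NoetherianSpace.isCompact _)
    haveI : AlgebraicGeometry.IsNoetherian (C : Scheme.{u}) := {}
    infer_instance
  haveI := FlatMor12.RegularExtend.isSchemeTheoreticallyDominant_ι W₀ hd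
  rw [← hv]
  infer_instance

/-- The supremum of two admissible factorizations. -/
theorem exists_sup [AlgebraicGeometry.IsNoetherian S]
    (hS : ∀ s : S, CAlg2.IsGeomUnibranch (S.presheaf.stalk s))
    (hemb : AssSch.NoEmbedded (Coh.structureModule S))
    (f : X ⟶ S) [Flat f] [LocallyOfFinitePresentation f] [QuasiCompact f]
    (E₁ E₂ : Scheme.{u}) (g₁ : E₁ ⟶ S) (g₂ : E₂ ⟶ S) (u₁ : X ⟶ E₁) (u₂ : X ⟶ E₂)
    [Etale g₁] [Etale g₂] [IsAffineHom g₁] [IsAffineHom g₂]
    (h₁ : u₁ ≫ g₁ = f) (h₂ : u₂ ≫ g₂ = f) :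
    ∃ (E : Scheme.{u}) (g : E ⟶ S) (u : X ⟶ E) (v₁ : E ⟶ E₁) (v₂ : E ⟶ E₂),
      Etale g ∧ IsAffineHom g ∧ IsSchemeTheoreticallyDominant u ∧ u ≫ g = f ∧
      u ≫ v₁ = u₁ ∧ u ≫ v₂ = u₂ ∧ v₁ ≫ g₁ = g ∧ v₂ ≫ g₂ = g ∧
      ∀ (E' : Scheme.{u}) (g' : E' ⟶ S) (u' : X ⟶ E') (w₁ : E' ⟶ E₁) (w₂ : E' ⟶ E₂),
        Etale g' → IsAffineHom g' → IsSchemeTheoreticallyDominant u' → u' ≫ g' = f →
        u' ≫ w₁ = u₁ → u' ≫ w₂ = u₂ → w₁ ≫ g₁ = g' → w₂ ≫ g₂ = g' →
        ∃ w : E' ⟶ E, u' ≫ w = u ∧ w ≫ v₁ = w₁ ∧ w ≫ v₂ = w₂ := by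
  let P := pullback g₁ g₂
  let h : P ⟶ S := pullback.fst g₁ g₂ ≫ g₁
  haveI : Etale h := MorphismProperty.comp_mem _ _ _ (MorphismProperty.pullback_fst _ _ ‹Etale g₂›) ‹Etale g₁›
  haveI : IsAffineHom h :=
    MorphismProperty.comp_mem _ _ _ (MorphismProperty.pullback_fst _ _ ‹IsAffineHom g₂›) ‹IsAffineHom g₁›
  let w : X ⟶ P := pullback.lift u₁ u₂ (h₁.trans h₂.symm)
  have hw : w ≫ h = f := by
    change pullback.lift u₁ u₂ _ ≫ pullback.fst g₁ g₂ ≫ g₁ = f
    rw [pullback.lift_fst_assoc, h₁]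
  obtain ⟨hwf, hwlfp⟩ := flat_lfp_of_comp_etale w h f hw
  haveI : QuasiCompact w := by
    haveI : QuasiCompact (w ≫ h) := hw ▸ inferInstance
    exact QuasiCompact.of_comp w h
  haveI : IsLocallyNoetherian P := LocallyOfFiniteType.isLocallyNoetherian h
  haveI : CompactSpace P := QuasiCompact.compactSpace_of_compactSpace h
  haveI : AlgebraicGeometry.IsNoetherian P := {}
  obtain ⟨C, hCc, hCeq, w', hdom, hw'⟩ := exists_clopen_factor hS hemb h w
  haveI : IsClosedImmersion C.ι := .of_isPreimmersion _ (by rwa [Scheme.Opens.range_ι])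
  refine ⟨C, C.ι ≫ h, w', C.ι ≫ pullback.fst g₁ g₂, C.ι ≫ pullback.snd g₁ g₂, inferInstance,
    inferInstance, hdom, by rw [← Category.assoc, hw', hw], by rw [← Category.assoc, hw']; exact pullback.lift_fst _ _ _,
    by rw [← Category.assoc, hw']; exact pullback.lift_snd _ _ _, by simp [h],
    by simp only [h, Category.assoc, pullback.condition], ?_⟩
  intro E' g' u' w₁ w₂ hg' hga' hu' hug' hw₁ hw₂ hwg₁ hwg₂
  let l : E' ⟶ P := pullback.lift w₁ w₂ (hwg₁.trans hwg₂.symm)
  have hul : u' ≫ l = w := by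
    refine pullback.hom_ext ?_ ?_
    · rw [Category.assoc, pullback.lift_fst, hw₁, pullback.lift_fst]
    · rw [Category.assoc, pullback.lift_snd, hw₂, pullback.lift_snd]
  haveI := hga'
  haveI : QuasiCompact u' := by
    haveI : QuasiCompact (u' ≫ g') := hug' ▸ inferInstance
    exact QuasiCompact.of_comp u' g'
  have hl : Set.range l ⊆ Set.range C.ι := by
    rw [Scheme.Opens.range_ι, Set.range_subset_iff]
    intro a
    have h1 : a ∈ l ⁻¹' (C : Set P) := by
      refine closure_minimal ?_ (hCc.preimage l.continuous) (u'.denseRange a)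
      rintro _ ⟨b, rfl⟩
      change l (u' b) ∈ (C : Set P)
      rw [← Scheme.Hom.comp_apply, hul, hCeq]
      exact subset_closure ⟨b, rfl⟩
    exact h1
  have hfac := IsOpenImmersion.lift_fac C.ι l hl
  refine ⟨IsOpenImmersion.lift C.ι l hl, ?_, ?_, ?_⟩
  · rw [← cancel_mono C.ι, Category.assoc, hfac, hul, hw']
  · rw [reassoc_of% hfac]; exact pullback.lift_fst _ _ _
  · rw [reassoc_of% hfac]; exact pullback.lift_snd _ _ _

end Groth.Agent.Et18.EtaleSup
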