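import Groth.Agent.Et18.ConstMaps
import Groth.Agent.Et18.ConstTorsorUnibranch
import Groth.Agent.SGA3cLib.BCPoints
import Groth.Agent.FEtFF.NormalGeomUnibranch
import Groth.Agent.AlgGrpLib.KernelGrp

/-! Extensions by a constant torsion-free group over a field have scheme-theoretic sections. -/

set_option autoImplicit false
set_option backward.isDefEq.respectTransparency.types false
set_option linter.style.haveILetI false

universe u

open CategoryTheory CategoryTheory.Limits MonoidalCategory CartesianMonoidalCategory MonObj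
open AlgebraicGeometry TopologicalSpace

namespace Groth.Agent.Et18.ExtField

section Torsor

variable {S : Scheme.{u}} {G E P : Over S} [GrpObj G] [GrpObj E] [GrpObj P] {u : G ⟶ E} {v : E ⟶ P}

lemma mono_u (hsq : IsPullback (fst E G) ((E ◁ u) ≫ μ[E]) v v) : Mono u := ⟨fun {T} g g' h => by
    have h1 : lift (1 : T ⟶ E) g ≫ fst E G = lift (1 : T ⟶ E) g' ≫ fst E G := by simp
    have h2 : lift (1 : T ⟶ E) g ≫ (E ◁ u) ≫ μ[E] = lift (1 : T ⟶ E) g' ≫ (E ◁ u) ≫ μ[E] := by
      rw [lift_whiskerLeft_assoc, lift_whiskerLeft_assoc, h]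
    have := hsq.hom_ext h1 h2
    simpa using congrArg (· ≫ snd E G) this⟩

lemma exists_kernel (hsq : IsPullback (fst E G) ((E ◁ u) ≫ μ[E]) v v) [IsMonHom v]
    {T : Over S} (x : T ⟶ E) (hx : x ≫ v = 1) : ∃ n : T ⟶ G, n ≫ u = x := by
  let L := hsq.lift (1 : T ⟶ E) x (by rw [hx, MonObj.one_comp])
  refine ⟨L ≫ snd E G, ?_⟩
  have h1 : L ≫ fst E G = 1 := hsq.lift_fst _ _ _
  have h2 : L ≫ (E ◁ u) ≫ μ[E] = x := hsq.lift_snd _ _ _
  have h3 : L = lift (1 : T ⟶ E) (L ≫ snd E G) := by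
    rw [← h1]
    exact (lift_comp_fst_snd L).symm
  rw [h3, lift_whiskerLeft_assoc, ← Hom.mul_def, _root_.one_mul] at h2
  exact h2

variable (G E P u v)

/-- The group pulled back to the quotient. -/
noncomputable abbrev GB : Over P.left := Red.bc P.hom G

/-- The extension as a scheme over the quotient. -/
abbrev XB : Over P.left := Over.mk v.left

variable {G E P u v}

/-- Points of `XB` as points of `E`. -/
noncomputable def Ξ {T : Over P.left} (f : T ⟶ XB E P v) : (Over.map P.hom).obj T ⟶ E :=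
  Over.homMk f.left (by
    change f.left ≫ E.hom = T.hom ≫ P.hom
    have hf : f.left ≫ v.left = T.hom := Over.w f
    rw [← Over.w v, ← Category.assoc, hf])

omit [GrpObj E] [GrpObj P] in
lemma Ξ_injective {T : Over P.left} {f f' : T ⟶ XB E P v} (h : Ξ f = Ξ f') : f = f' :=
  Over.OverMorphism.ext (congrArg CommaMorphism.left h :)

omit [GrpObj E] [GrpObj P] in
lemma Ξ_comp {T T' : Over P.left} (t : T' ⟶ T) (f : T ⟶ XB E P v) :
    Ξ (t ≫ f) = (Over.map P.hom).map t ≫ Ξ f := Over.OverMorphism.ext rfl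

/-- Points of the pulled back group as points of the group. -/
noncomputable def Γ' {T : Over P.left} (g : T ⟶ GB G P) : (Over.map P.hom).obj T ⟶ G :=
  (SGA3cLib.BCPoints.pt P.hom G T).symm g

omit [GrpObj P] in
lemma Γ'_mul {T : Over P.left} (g g' : T ⟶ GB G P) : Γ' (g * g') = Γ' g * Γ' g' := by
  apply (SGA3cLib.BCPoints.pt P.hom G T).injective
  rw [SGA3cLib.BCPoints.pt_mul, Γ', Γ', Γ', Equiv.apply_symm_apply, Equiv.apply_symm_apply,
    Equiv.apply_symm_apply]

omit [GrpObj P] in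
lemma Γ'_one {T : Over P.left} : Γ' (1 : T ⟶ GB G P) = 1 :=
  map_one (MonoidHom.mk' (Γ' (G := G) (P := P) (T := T)) Γ'_mul)

omit [GrpObj P] in
lemma Γ'_comp {T T' : Over P.left} (t : T' ⟶ T) (g : T ⟶ GB G P) :
    Γ' (t ≫ g) = (Over.map P.hom).map t ≫ Γ' g := by
  apply (SGA3cLib.BCPoints.pt P.hom G T').injective
  rw [SGA3cLib.BCPoints.pt_map_comp, Γ', Γ', Equiv.apply_symm_apply, Equiv.apply_symm_apply]

variable [IsMonHom u] [IsMonHom v]

/-- The translation action. -/
theorem exists_action (huv : u ≫ v = 1) :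
    ∃ a : AlgGrp.Action (GB G P) (XB E P v), ∀ (T : Over P.left) (g : T ⟶ GB G P) (x : T ⟶ XB E P v),
      Ξ (lift g x ≫ a.act) = (Γ' g ≫ u) * Ξ x := by
  let q : (Over.map P.hom).obj (GB G P ⊗ XB E P v) ⟶ E :=
    (Γ' (fst (GB G P) (XB E P v)) ≫ u) * Ξ (snd (GB G P) (XB E P v))
  let act : GB G P ⊗ XB E P v ⟶ XB E P v := Over.homMk q.left (by
    change (q ≫ v).left = _
    have h : q ≫ v = Ξ (snd (GB G P) (XB E P v)) ≫ v := by
      simp only [q, MonObj.mul_comp, Category.assoc, huv, MonObj.comp_one, _root_.one_mul]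
    rw [h]
    exact Over.w (snd (GB G P) (XB E P v)))
  have hact : Ξ act = q := Over.OverMorphism.ext rfl
  have key : ∀ (T : Over P.left) (g : T ⟶ GB G P) (x : T ⟶ XB E P v),
      Ξ (lift g x ≫ act) = (Γ' g ≫ u) * Ξ x := by
    intro T g x
    rw [Ξ_comp, hact, MonObj.comp_mul, ← Category.assoc, ← Γ'_comp, ← Ξ_comp, lift_fst, lift_snd]
  refine ⟨⟨act, ?_, ?_⟩, key⟩
  · refine Ξ_injective ?_
    have h : η[GB G P] ▷ XB E P v = lift (fst _ _ ≫ η[GB G P]) (snd _ _) := by
      ext <;> simp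
    have h1 : fst (𝟙_ (Over P.left)) (XB E P v) ≫ η[GB G P] = 1 := by
      rw [Hom.one_def, toUnit_unique (toUnit _) (fst (𝟙_ (Over P.left)) (XB E P v))]
    rw [h, key, h1, Γ'_one, MonObj.one_comp, _root_.one_mul, leftUnitor_hom]
  · refine Ξ_injective ?_
    have h : μ[GB G P] ▷ XB E P v =
        lift ((fst _ _ ≫ fst _ _) * (fst _ _ ≫ snd _ _)) (snd _ _) := by
      refine CartesianMonoidalCategory.hom_ext _ _ ?_ ?_
      · rw [lift_fst, whiskerRight_fst, Hom.mul_def, ← comp_lift_assoc, lift_fst_snd, Category.id_comp]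
      · rw [lift_snd, whiskerRight_snd]
    have h' : (α_ (GB G P) (GB G P) (XB E P v)).hom ≫ (GB G P ◁ act) ≫ act =
        lift (fst _ _ ≫ fst _ _) (lift (fst _ _ ≫ snd _ _) (snd _ _) ≫ act) ≫ act := by
      rw [← Category.assoc]
      congr 1
      refine CartesianMonoidalCategory.hom_ext _ _ ?_ ?_
      · simp
      · rw [Category.assoc, whiskerLeft_snd, lift_snd, ← Category.assoc]
        congr 1
        refine CartesianMonoidalCategory.hom_ext _ _ ?_ ?_ <;> simp
    rw [h, key, Γ'_mul, MonObj.mul_comp, h', key, key, _root_.mul_assoc]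

theorem isIso_lift (huv : u ≫ v = 1) (hsq : IsPullback (fst E G) ((E ◁ u) ≫ μ[E]) v v)
    (a : AlgGrp.Action (GB G P) (XB E P v))
    (ha : ∀ (T : Over P.left) (g : T ⟶ GB G P) (x : T ⟶ XB E P v),
      Ξ (lift g x ≫ a.act) = (Γ' g ≫ u) * Ξ x) : IsIso (lift a.act (snd (GB G P) (XB E P v))) := by
  haveI := mono_u hsq
  let X := XB E P v
  have hv : (Ξ (fst X X) * (Ξ (snd X X))⁻¹) ≫ v = 1 := by
    rw [MonObj.mul_comp, GrpObj.inv_comp, mul_inv_eq_one]
    refine Over.OverMorphism.ext ?_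
    exact (Over.w (fst X X)).trans (Over.w (snd X X)).symm
  obtain ⟨n, hn⟩ := exists_kernel hsq _ hv
  let g : X ⊗ X ⟶ GB G P := SGA3cLib.BCPoints.pt P.hom G _ n
  have hg : Γ' g = n := Equiv.symm_apply_apply _ _
  have h1 : lift g (snd X X) ≫ a.act = fst X X := by
    refine Ξ_injective ?_
    rw [ha, hg, hn, inv_mul_cancel_right]
  refine ⟨lift g (snd X X), ?_, ?_⟩
  · refine CartesianMonoidalCategory.hom_ext _ _ ?_ ?_
    · rw [Category.assoc, lift_fst, Category.id_comp]
      apply (SGA3cLib.BCPoints.pt P.hom G _).symm.injective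
      change Γ' _ = Γ' _
      rw [← cancel_mono u, Γ'_comp, hg, Category.assoc, hn, MonObj.comp_mul, GrpObj.comp_inv, ← Ξ_comp,
        ← Ξ_comp, lift_fst, lift_snd, mul_inv_eq_iff_eq_mul, ← ha, lift_fst_snd, Category.id_comp]
    · simp [X]
  · refine CartesianMonoidalCategory.hom_ext _ _ ?_ ?_
    · rw [Category.assoc, lift_fst, h1, Category.id_comp]
    · simp [X]

end Torsor

lemma isGeomUnibranch_field (K : Type u) [Field K] (t : ↥(Spec (CommRingCat.of K))) :
    CAlg2.IsGeomUnibranch ((Spec (CommRingCat.of K)).presheaf.stalk t) := by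
  let e := (Spec.stalkIso (R := CommRingCat.of K) t).commRingCatIsoToRingEquiv
  haveI : IsDomain ((Spec (CommRingCat.of K)).presheaf.stalk t) := inferInstance
  haveI : IsIntegrallyClosed (Localization.AtPrime t.asIdeal) :=
    isIntegrallyClosed_of_isLocalization (R := K) _ t.asIdeal.primeCompl t.asIdeal.primeCompl_le_nonZeroDivisors
  haveI : IsIntegrallyClosed ((Spec (CommRingCat.of K)).presheaf.stalk t) := IsIntegrallyClosed.of_equiv e.symm
  exact FEtFF.isGeomUnibranch_of_normal _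

variable {k : Type u} [Field k] {Z : Type u} [Group Z]
  {G E P : Over (Spec (CommRingCat.of k))} [GrpObj G] [GrpObj E] [GrpObj P]

/-- An extension of a smooth group by a constant torsion-free group has a normalised section. -/
theorem exists_section (hZ : ∀ z : Z, IsOfFinOrder z → z = 1)
    (eG : G ≅ TwC.const (Spec (CommRingCat.of k)) Z) (hG : TwC.IsConstGrp Z G eG) [Smooth P.hom]
    (u : G ⟶ E) (v : E ⟶ P) (hex : NonAbH1.IsExactSeq Scheme.fppfPrecoverage u v) :
    ∃ σ : P ⟶ E, σ ≫ v = 𝟙 P ∧ η[P] ≫ σ = η[E] := by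
  obtain ⟨hu, hv, huv, hsq, hloc⟩ := hex
  haveI := hu
  haveI := hv
  obtain ⟨a, ha⟩ := exists_action (u := u) (v := v) huv
  obtain ⟨eB, hB⟩ := ConstMaps.exists_isConstGrp_bc eG hG P.hom
  haveI := ConstTorsor.isIso_θ a (isIso_lift huv hsq a ha)
  obtain ⟨s, hs⟩ := ConstTorsor.exists_section_unibranch eB hB a hZ (isGeomUnibranch_field k) P.hom hloc
  let σ₀ : P ⟶ E := Over.homMk s (by
    have hs' : s ≫ v.left = 𝟙 P.left := hs
    rw [← Over.w v, reassoc_of% hs'])
  have hσ₀ : σ₀ ≫ v = 𝟙 P := Over.OverMorphism.ext hs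
  refine ⟨((1 : P ⟶ P) ≫ σ₀)⁻¹ * σ₀, ?_, ?_⟩
  · rw [MonObj.mul_comp, GrpObj.inv_comp, Category.assoc, hσ₀, Category.comp_id, inv_one, _root_.one_mul]
  · rw [MonObj.comp_mul, GrpObj.comp_inv, ← Category.assoc, MonObj.comp_one]
    have h : η[P] = (1 : 𝟙_ (Over (Spec (CommRingCat.of k))) ⟶ P) := by
      rw [Hom.one_def, toUnit_unit, Category.id_comp]
    rw [h, inv_mul_cancel, Hom.one_def, toUnit_unit, Category.id_comp]

end Groth.Agent.Et18.ExtField
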