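import Mathlib
import Groth.Prelude.Def_NonAbH2
import Groth.Agent.SGA3cLib.BCPoints
import Groth.Agent.Et18.ExtField

/-! Extending an extension from the generic fibre. -/

set_option autoImplicit false
set_option backward.isDefEq.respectTransparency.types false
set_option linter.style.haveILetI false

universe u

open CategoryTheory CategoryTheory.Limits MonoidalCategory CartesianMonoidalCategory MonObj
open AlgebraicGeometry TopologicalSpace

namespace Groth.Agent.Et18.ExtExtend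

noncomputable section

variable {S : Scheme.{u}}

lemma smooth_tensor (X Y : Over S) [Smooth X.hom] [Smooth Y.hom] : Smooth (X ⊗ Y).hom := by
  change Smooth (pullback.fst X.hom Y.hom ≫ X.hom)
  haveI : Smooth (pullback.fst X.hom Y.hom) := MorphismProperty.pullback_fst _ _ ‹Smooth Y.hom›
  infer_instance

lemma smooth_unit : Smooth (𝟙_ (Over S)).hom := by
  change Smooth (𝟙 S)
  infer_instance

/-- The underlying scheme of the extension. -/
def Obj (G P : Over S) : Over S := G ⊗ P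

/-- The constant component. -/
def pG (G P : Over S) : Obj G P ⟶ G := fst G P

/-- The projection. -/
def pP (G P : Over S) : Obj G P ⟶ P := snd G P

/-- Pairing. -/
def mk {G P T : Over S} (a : T ⟶ G) (b : T ⟶ P) : T ⟶ Obj G P := lift a b

@[reassoc (attr := simp)] lemma mk_pG {G P T : Over S} (a : T ⟶ G) (b : T ⟶ P) : mk a b ≫ pG G P = a :=
  lift_fst a b

@[reassoc (attr := simp)] lemma mk_pP {G P T : Over S} (a : T ⟶ G) (b : T ⟶ P) : mk a b ≫ pP G P = b :=
  lift_snd a b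

lemma obj_ext {G P T : Over S} {f f' : T ⟶ Obj G P} (h1 : f ≫ pG G P = f' ≫ pG G P)
    (h2 : f ≫ pP G P = f' ≫ pP G P) : f = f' := CartesianMonoidalCategory.hom_ext _ _ h1 h2

lemma comp_mk {G P T T' : Over S} (t : T' ⟶ T) (a : T ⟶ G) (b : T ⟶ P) :
    t ≫ mk a b = mk (t ≫ a) (t ≫ b) := comp_lift t a b

lemma smooth_obj (G P : Over S) [Smooth G.hom] [Smooth P.hom] : Smooth (Obj G P).hom := smooth_tensor G P

variable {B : Scheme.{u}} (i : B ⟶ S) {G P : Over S} [GrpObj G] [GrpObj P] {E' : Over B} [GrpObj E']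
  (u' : Red.bc i G ⟶ E') (v' : E' ⟶ Red.bc i P) [IsMonHom u'] [IsMonHom v'] (σ : Red.bc i P ⟶ E')

/-- The comparison map. -/
def φ : Red.bc i (Obj G P) ⟶ E' :=
  ((Over.pullback i).map (pG G P) ≫ u') * ((Over.pullback i).map (pP G P) ≫ σ)

/-- Points of the extension as points of the given one. -/
def Ψ {X : Over S} (f : X ⟶ Obj G P) : Red.bc i X ⟶ E' := (Over.pullback i).map f ≫ φ i u' σ

omit [IsMonHom u'] in
lemma Ψ_mk {X : Over S} (a : X ⟶ G) (b : X ⟶ P) :
    Ψ i u' σ (mk a b) = ((Over.pullback i).map a ≫ u') * ((Over.pullback i).map b ≫ σ) := by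
  rw [Ψ, φ, MonObj.comp_mul, ← Category.assoc, ← Category.assoc, ← Functor.map_comp, ← Functor.map_comp,
    mk_pG, mk_pP]

omit [IsMonHom u'] in
lemma Ψ_comp {X Y : Over S} (t : Y ⟶ X) (f : X ⟶ Obj G P) :
    Ψ i u' σ (t ≫ f) = (Over.pullback i).map t ≫ Ψ i u' σ f := by
  rw [Ψ, Ψ, Functor.map_comp, Category.assoc]

omit [GrpObj G] [GrpObj P] in
lemma pullback_ext {T : Over B} {a b : T ⟶ Red.bc i (Obj G P)}
    (h1 : a ≫ (Over.pullback i).map (pG G P) = b ≫ (Over.pullback i).map (pG G P))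
    (h2 : a ≫ (Over.pullback i).map (pP G P) = b ≫ (Over.pullback i).map (pP G P)) : a = b := by
  let F := Over.pullback i
  refine (cancel_mono (Functor.OplaxMonoidal.δ F G P)).1 (CartesianMonoidalCategory.hom_ext _ _ ?_ ?_)
  · rw [Category.assoc, Category.assoc, Functor.OplaxMonoidal.δ_fst]
    exact h1
  · rw [Category.assoc, Category.assoc, Functor.OplaxMonoidal.δ_snd]
    exact h2

structure Input : Prop where
  huv : u' ≫ v' = 1
  hsq : IsPullback (fst E' (Red.bc i G)) ((E' ◁ u') ≫ μ[E']) v' v'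
  hσv : σ ≫ v' = 𝟙 (Red.bc i P)
  hσ1 : η[Red.bc i P] ≫ σ = η[E']
  hbij : ∀ X : Over S, Smooth X.hom → Function.Bijective (fun f : X ⟶ G => (Over.pullback i).map f)
  hG : Smooth G.hom
  hP : Smooth P.hom

variable {i u' v' σ} (H : Input i u' v' σ)

include H

lemma φ_v : φ i u' σ ≫ v' = (Over.pullback i).map (pP G P) := by
  rw [φ, MonObj.mul_comp, Category.assoc, Category.assoc, H.huv, H.hσv, MonObj.comp_one, _root_.one_mul,
    Category.comp_id]

lemma isIso_φ : IsIso (φ i u' σ) := by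
  haveI := ExtField.mono_u H.hsq
  obtain ⟨n, hn⟩ := ExtField.exists_kernel H.hsq (𝟙 E' * (v' ≫ σ)⁻¹) (by
    rw [MonObj.mul_comp, GrpObj.inv_comp, Category.id_comp, Category.assoc, H.hσv, Category.comp_id,
      mul_inv_cancel])
  let ψ : E' ⟶ Red.bc i (Obj G P) := lift n v' ≫ Functor.LaxMonoidal.μ (Over.pullback i) G P
  have hψG : ψ ≫ (Over.pullback i).map (pG G P) = n := by
    change (lift n v' ≫ _) ≫ (Over.pullback i).map (fst G P) = n
    rw [Category.assoc, Functor.Monoidal.μ_fst, lift_fst]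
  have hψP : ψ ≫ (Over.pullback i).map (pP G P) = v' := by
    change (lift n v' ≫ _) ≫ (Over.pullback i).map (snd G P) = v'
    rw [Category.assoc, Functor.Monoidal.μ_snd, lift_snd]
  refine ⟨ψ, pullback_ext i ?_ ?_, ?_⟩
  · rw [Category.id_comp, Category.assoc, hψG, ← cancel_mono u', Category.assoc, hn, MonObj.comp_mul,
      GrpObj.comp_inv, Category.comp_id, ← Category.assoc, φ_v H, φ, mul_inv_cancel_right]
  · rw [Category.id_comp, Category.assoc, hψP, φ_v H]
  · rw [φ, MonObj.comp_mul, ← Category.assoc, ← Category.assoc, hψG, hψP, hn, inv_mul_cancel_right]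

lemma ext_Ψ {X : Over S} (hX : Smooth X.hom) {f f' : X ⟶ Obj G P}
    (h1 : Ψ i u' σ f = Ψ i u' σ f') (h2 : f ≫ pP G P = f' ≫ pP G P) : f = f' := by
  haveI := isIso_φ H
  refine obj_ext ((H.hbij X hX).1 ?_) h2
  change (Over.pullback i).map (f ≫ pG G P) = (Over.pullback i).map (f' ≫ pG G P)
  rw [Functor.map_comp, Functor.map_comp, (cancel_mono (φ i u' σ)).1 h1]

lemma exists_Ψ {X : Over S} (hX : Smooth X.hom) (a : Red.bc i X ⟶ E') (b : X ⟶ P)
    (hab : a ≫ v' = (Over.pullback i).map b) :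
    ∃ f : X ⟶ Obj G P, Ψ i u' σ f = a ∧ f ≫ pP G P = b := by
  haveI := isIso_φ H
  obtain ⟨g, hg⟩ := (H.hbij X hX).2 (a ≫ inv (φ i u' σ) ≫ (Over.pullback i).map (pG G P))
  refine ⟨mk g b, ?_, mk_pP g b⟩
  rw [Ψ, ← IsIso.eq_comp_inv]
  refine pullback_ext i ?_ ?_
  · rw [← Functor.map_comp, mk_pG, Category.assoc]
    exact hg
  · rw [← Functor.map_comp, mk_pP, Category.assoc, ← φ_v H, IsIso.inv_hom_id_assoc]
    exact hab.symm

lemma exists_mul : ∃ m : Obj G P ⊗ Obj G P ⟶ Obj G P,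
    Ψ i u' σ m = Ψ i u' σ (fst _ _) * Ψ i u' σ (snd _ _) ∧
      m ≫ pP G P = (fst _ _ ≫ pP G P) * (snd _ _ ≫ pP G P) := by
  haveI := H.hG
  haveI := H.hP
  haveI := smooth_obj G P
  refine exists_Ψ H (smooth_tensor _ _) _ _ ?_
  rw [MonObj.mul_comp, Ψ, Ψ, Category.assoc, Category.assoc, φ_v H, ← Functor.map_comp, ← Functor.map_comp,
    Functor.map_mul]

lemma exists_inv : ∃ j : Obj G P ⟶ Obj G P,
    Ψ i u' σ j = (Ψ i u' σ (𝟙 _))⁻¹ ∧ j ≫ pP G P = (pP G P)⁻¹ := by
  haveI := H.hG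
  haveI := H.hP
  refine exists_Ψ H (smooth_obj G P) _ _ ?_
  rw [GrpObj.inv_comp, Ψ, Category.assoc, φ_v H, CategoryTheory.Functor.map_id, Category.id_comp]
  exact (map_inv (MonoidHom.mk' (fun x : Obj G P ⟶ P => (Over.pullback i).map x)
    fun x y => Functor.map_mul (F := Over.pullback i) x y) (pP G P)).symm

/-- The multiplication. -/
def mulE : Obj G P ⊗ Obj G P ⟶ Obj G P := (exists_mul H).choose

lemma Ψ_mulE {X : Over S} (x y : X ⟶ Obj G P) :
    Ψ i u' σ (lift x y ≫ mulE H) = Ψ i u' σ x * Ψ i u' σ y := by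
  rw [Ψ_comp, mulE, (exists_mul H).choose_spec.1, MonObj.comp_mul, ← Ψ_comp, ← Ψ_comp, lift_fst, lift_snd]

lemma mulE_pP {X : Over S} (x y : X ⟶ Obj G P) :
    (lift x y ≫ mulE H) ≫ pP G P = (x ≫ pP G P) * (y ≫ pP G P) := by
  rw [Category.assoc, mulE, (exists_mul H).choose_spec.2, MonObj.comp_mul, lift_fst_assoc, lift_snd_assoc]

/-- The inverse. -/
def invE : Obj G P ⟶ Obj G P := (exists_inv H).choose

lemma Ψ_one {X : Over S} : Ψ i u' σ (mk (1 : X ⟶ G) (1 : X ⟶ P)) = 1 := by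
  rw [Ψ_mk, Functor.map_one, Functor.map_one, MonObj.one_comp, _root_.one_mul, Hom.one_def, Category.assoc,
    H.hσ1, ← Hom.one_def]

/-- The group structure. -/
@[reducible]
def grpObj : GrpObj (Obj G P) where
  one := mk 1 1
  mul := mulE H
  one_mul := by
    haveI := H.hG
    haveI := H.hP
    haveI := smooth_obj G P
    haveI := smooth_unit (S := S)
    have h : (mk (1 : 𝟙_ (Over S) ⟶ G) (1 : 𝟙_ (Over S) ⟶ P)) ▷ Obj G P =
        lift (mk 1 1) (snd (𝟙_ (Over S)) (Obj G P)) := by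
      refine CartesianMonoidalCategory.hom_ext _ _ ?_ ?_
      · rw [lift_fst, whiskerRight_fst, comp_mk, MonObj.comp_one, MonObj.comp_one]
      · rw [lift_snd, whiskerRight_snd]
    rw [h, leftUnitor_hom]
    refine ext_Ψ H (smooth_tensor _ _) ?_ ?_
    · rw [Ψ_mulE, Ψ_one H, _root_.one_mul]
    · rw [mulE_pP, mk_pP, _root_.one_mul]
  mul_one := by
    haveI := H.hG
    haveI := H.hP
    haveI := smooth_obj G P
    haveI := smooth_unit (S := S)
    have h : Obj G P ◁ (mk (1 : 𝟙_ (Over S) ⟶ G) (1 : 𝟙_ (Over S) ⟶ P)) =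
        lift (fst (Obj G P) (𝟙_ (Over S))) (mk 1 1) := by
      refine CartesianMonoidalCategory.hom_ext _ _ ?_ ?_
      · rw [lift_fst, whiskerLeft_fst]
      · rw [lift_snd, whiskerLeft_snd, comp_mk, MonObj.comp_one, MonObj.comp_one]
    rw [h, rightUnitor_hom]
    refine ext_Ψ H (smooth_tensor _ _) ?_ ?_
    · rw [Ψ_mulE, Ψ_one H, _root_.mul_one]
    · rw [mulE_pP, mk_pP, _root_.mul_one]
  mul_assoc := by
    haveI := H.hG
    haveI := H.hP
    haveI := smooth_obj G P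
    haveI := smooth_tensor (Obj G P) (Obj G P)
    have h : mulE H ▷ Obj G P =
        lift (lift (fst _ _ ≫ fst _ _) (fst _ _ ≫ snd _ _) ≫ mulE H) (snd _ _) := by
      refine CartesianMonoidalCategory.hom_ext _ _ ?_ ?_
      · rw [lift_fst, whiskerRight_fst, ← comp_lift, lift_fst_snd, Category.comp_id]
      · rw [lift_snd, whiskerRight_snd]
    have h' : (α_ (Obj G P) (Obj G P) (Obj G P)).hom ≫ (Obj G P ◁ mulE H) =
        lift (fst _ _ ≫ fst _ _) (lift (fst _ _ ≫ snd _ _) (snd _ _) ≫ mulE H) := by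
      refine CartesianMonoidalCategory.hom_ext _ _ ?_ ?_
      · simp
      · rw [Category.assoc, whiskerLeft_snd, lift_snd, ← Category.assoc]
        congr 1
        refine CartesianMonoidalCategory.hom_ext _ _ ?_ ?_ <;> simp
    rw [← Category.assoc (α_ _ _ _).hom, h', h]
    refine ext_Ψ H (smooth_tensor _ _) ?_ ?_
    · rw [Ψ_mulE, Ψ_mulE, Ψ_mulE, Ψ_mulE, _root_.mul_assoc]
    · rw [mulE_pP, mulE_pP, mulE_pP, mulE_pP, _root_.mul_assoc]
  inv := invE H
  left_inv := by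
    haveI := H.hG
    haveI := H.hP
    rw [comp_mk, MonObj.comp_one, MonObj.comp_one]
    refine ext_Ψ H (smooth_obj G P) ?_ ?_
    · rw [Ψ_mulE, Ψ_one H, invE, (exists_inv H).choose_spec.1, inv_mul_cancel]
    · rw [mulE_pP, mk_pP, invE, (exists_inv H).choose_spec.2, Category.id_comp, inv_mul_cancel]
  right_inv := by
    haveI := H.hG
    haveI := H.hP
    rw [comp_mk, MonObj.comp_one, MonObj.comp_one]
    refine ext_Ψ H (smooth_obj G P) ?_ ?_
    · rw [Ψ_mulE, Ψ_one H, invE, (exists_inv H).choose_spec.1, mul_inv_cancel]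
    · rw [mulE_pP, mk_pP, invE, (exists_inv H).choose_spec.2, Category.id_comp, mul_inv_cancel]

lemma Ψ_mul [GrpObj (Obj G P)] (hμ : μ[Obj G P] = mulE H) {X : Over S} (x y : X ⟶ Obj G P) :
    Ψ i u' σ (x * y) = Ψ i u' σ x * Ψ i u' σ y := by
  rw [Hom.mul_def, hμ, Ψ_mulE]

/-- The extension over the base. -/
theorem exists_extension :
    ∃ (E : Over S) (_ : GrpObj E) (u : G ⟶ E) (v : E ⟶ P) (φ : Red.bc i E ≅ E'),
      NonAbH1.IsExactSeq Scheme.fppfPrecoverage u v ∧ IsMonHom φ.hom ∧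
        (Over.pullback i).map u ≫ φ.hom = u' ∧ φ.hom ≫ v' = (Over.pullback i).map v := by
  haveI := H.hG
  haveI := H.hP
  letI := grpObj H
  haveI := isIso_φ H
  have hμ : μ[Obj G P] = mulE H := rfl
  have hPmul : ∀ (X : Over S) (x y : X ⟶ Obj G P), (x * y) ≫ pP G P = (x ≫ pP G P) * (y ≫ pP G P) := by
    intro X x y
    rw [Hom.mul_def, hμ, mulE_pP]
  let u : G ⟶ Obj G P := mk (𝟙 G) 1
  have hΨu : Ψ i u' σ u = u' := by
    rw [Ψ_mk, CategoryTheory.Functor.map_id, Category.id_comp, Functor.map_one, Hom.one_def, Category.assoc, H.hσ1,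
      ← Hom.one_def, _root_.mul_one]
  have huP : u ≫ pP G P = 1 := mk_pP _ _
  have hu0 : (fst G G * snd G G) ≫ u = (fst G G ≫ u) * (snd G G ≫ u) := by
    refine ext_Ψ H (smooth_tensor G G) ?_ ?_
    · rw [Ψ_mul H hμ, Ψ_comp, Ψ_comp, Ψ_comp, hΨu, Functor.map_mul, MonObj.mul_comp]
    · rw [hPmul, Category.assoc, Category.assoc, Category.assoc, huP, MonObj.comp_one, MonObj.comp_one,
        MonObj.comp_one, _root_.one_mul]
  haveI hu : IsMonHom u := SGA3cLib.BCPoints.isMonHom_of_mul u fun T x y => by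
    have h := congrArg (lift x y ≫ ·) hu0
    simp only [← Category.assoc, MonObj.comp_mul, lift_fst, lift_snd] at h
    exact h
  haveI hv : IsMonHom (pP G P) := SGA3cLib.BCPoints.isMonHom_of_mul _ hPmul
  refine ⟨Obj G P, grpObj H, u, pP G P, asIso (φ i u' σ), ⟨hu, hv, huP, ?_, ?_⟩, ?_, hΨu, φ_v H⟩
  · have huG : ∀ {T : Over S} (g : T ⟶ G), (g ≫ u) ≫ pG G P = g := fun g => by
      rw [Category.assoc, mk_pG, Category.comp_id]
    have hkey : ∀ {T : Over S} (a : T ⟶ Obj G P), a ≫ pP G P = 1 → a = (a ≫ pG G P) ≫ u := fun a ha =>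
      obj_ext (huG _).symm (by rw [ha, Category.assoc, huP, MonObj.comp_one])
    have hw : fst (Obj G P) G ≫ pP G P = ((Obj G P ◁ u) ≫ μ[Obj G P]) ≫ pP G P := by
      rw [show (Obj G P ◁ u) ≫ μ[Obj G P] = fst (Obj G P) G * (snd (Obj G P) G ≫ u) by
        rw [Hom.mul_def]; congr 1, hPmul, Category.assoc, huP, MonObj.comp_one,
        _root_.mul_one]
    refine ⟨⟨hw⟩, ⟨PullbackCone.IsLimit.mk hw (fun s => lift s.fst ((s.fst⁻¹ * s.snd) ≫ pG G P))
      (fun s => lift_fst _ _) (fun s => ?_) fun s m h₁ h₂ => ?_⟩⟩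
    · have ha : (s.fst⁻¹ * s.snd) ≫ pP G P = 1 := by
        rw [hPmul, GrpObj.inv_comp, s.condition, inv_mul_cancel]
      rw [lift_whiskerLeft_assoc, ← Hom.mul_def, ← hkey _ ha, mul_inv_cancel_left]
    · refine CartesianMonoidalCategory.hom_ext _ _ ?_ ?_
      · rw [lift_fst]
        exact h₁
      · rw [lift_snd]
        have e : m = lift (m ≫ fst (Obj G P) G) (m ≫ snd (Obj G P) G) := (lift_comp_fst_snd m).symm
        rw [e, h₁, lift_whiskerLeft_assoc, ← Hom.mul_def] at h₂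
        rw [← h₂, inv_mul_cancel_left, huG]
  · refine ⟨Presieve.singleton (𝟙 P.left), Precoverage.mem_coverings_of_isIso (𝟙 P.left), ?_⟩
    intro Y f hf
    cases hf
    exact ⟨(mk (1 : P ⟶ G) (𝟙 P)).left, congrArg CommaMorphism.left (mk_pP (1 : P ⟶ G) (𝟙 P))⟩
  · refine SGA3cLib.BCPoints.isMonHom_of_mul _ fun T x y => ?_
    have h := Ψ_mulE H (fst (Obj G P) (Obj G P)) (snd _ _)
    rw [lift_fst_snd, Category.id_comp] at h
    change (x * y) ≫ φ i u' σ = (x ≫ φ i u' σ) * (y ≫ φ i u' σ)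
    rw [Hom.mul_def, Functor.obj.μ_def, Category.assoc, Category.assoc, hμ]
    change lift x y ≫ _ ≫ Ψ i u' σ (mulE H) = _
    rw [h, Ψ, Ψ, MonObj.comp_mul, MonObj.comp_mul, Functor.Monoidal.μ_fst_assoc,
      Functor.Monoidal.μ_snd_assoc, lift_fst_assoc, lift_snd_assoc]

end

end Groth.Agent.Et18.ExtExtend
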