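import Groth.Agent.Et18.ExtZeroFLC
import Groth.Agent.Et18.StrataApps

/-!
# `j_!` preserves constructibility (separated case)
-/

universe u

open CategoryTheory CategoryTheory.Limits AlgebraicGeometry Opposite Topology

set_option backward.isDefEq.respectTransparency.types false
set_option backward.isDefEq.respectTransparency false

namespace Groth.Agent.Et18

variable {U X : Scheme.{u}}

/-- Restrictions of opens have base-changed lifts. -/
lemma hasLifts_preimage {T : Scheme.{u}} (j : U ⟶ X) (g : T ⟶ X) (O : U.Opens) {Ω : Type u} [Field Ω]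
    [IsSepClosed Ω] (η : Spec (CommRingCat.of Ω) ⟶ T) (k : ℕ) :
    HasLifts ((pullback.fst j g ⁻¹ᵁ O).ι ≫ pullback.snd j g) η k ↔ HasLifts (O.ι ≫ j) (η ≫ g) k := by
  constructor
  · rintro ⟨e, he⟩
    have : ∀ i, ∃ t, t ≫ O.ι = ((e i).1 ≫ (pullback.fst j g ⁻¹ᵁ O).ι) ≫ pullback.fst j g := fun i =>
      exists_lift_of_mem _ _ (by
        rw [Scheme.Opens.range_ι]
        exact ((e i).1 default).2)
    choose t ht using this
    refine ⟨fun i => ⟨t i, ?_⟩, fun a b hab => he (Subtype.ext ?_)⟩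
    · rw [← Category.assoc, ht, Category.assoc, pullback.condition, ← Category.assoc]
      exact congrArg (fun z => z ≫ g) ((Category.assoc _ _ _).trans (e i).2)
    · have hab' : t a = t b := congrArg Subtype.val hab
      refine (cancel_mono (pullback.fst j g ⁻¹ᵁ O).ι).mp (pullback.hom_ext ?_ ?_)
      · rw [← ht, ← ht, hab']
      · rw [Category.assoc, Category.assoc, (e a).2, (e b).2]
  · rintro ⟨e, he⟩
    have h' : ∀ i, ((e i).1 ≫ O.ι) ≫ j = η ≫ g := fun i => (Category.assoc _ _ _).trans (e i).2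
    have : ∀ i, ∃ t, t ≫ (pullback.fst j g ⁻¹ᵁ O).ι = pullback.lift ((e i).1 ≫ O.ι) η (h' i) := fun i =>
      exists_lift_of_mem _ _ (by
        rw [Scheme.Opens.range_ι]
        show (pullback.lift ((e i).1 ≫ O.ι) η (h' i) ≫ pullback.fst j g) default ∈ O
        rw [pullback.lift_fst]
        exact ((e i).1 default).2)
    choose t ht using this
    refine ⟨fun i => ⟨t i, ?_⟩, fun a b hab => he (Subtype.ext ((cancel_mono O.ι).mp ?_))⟩
    · rw [← Category.assoc, ht, pullback.lift_snd]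
    · have hab' : t a = t b := congrArg Subtype.val hab
      have := congrArg (fun z => z ≫ (pullback.fst j g ⁻¹ᵁ O).ι ≫ pullback.fst j g) hab'
      simpa [reassoc_of% ht] using this

/-- An open with constant lift count is closed when the ambient lift count is constant. -/
theorem isClosed_of_constLifts (j : U ⟶ X) [Etale j] [IsSeparated j] {n m : ℕ} (hn : ConstLifts j n)
    (O : U.Opens) (hm : ConstLifts (O.ι ≫ j) m) : IsClosed (O : Set U) := by
  classical
  refine ⟨isOpen_iff_forall_mem_open.mpr fun y hy => ?_⟩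
  let v := sepPoint U y
  let ξ := v ≫ j
  obtain ⟨e, he⟩ := (hn _ ξ).1
  obtain ⟨W, w, s, hw, hs, hws, hinj⟩ := exists_nhd_sections j n ξ e he
  obtain ⟨eO, heO⟩ := (hm _ ξ).1
  have hsurj : Function.Surjective e := fun u => by
    by_contra hu
    simp only [not_exists] at hu
    exact (hn _ ξ).2 ⟨Fin.cons u e, Fin.cons_injective_iff.mpr ⟨fun ⟨i, hi⟩ => hu i hi, he⟩⟩
  choose a ha using fun k => hsurj ⟨(eO k).1 ≫ O.ι, (Category.assoc _ _ _).trans (eO k).2⟩
  have hain : Function.Injective a := fun k l hkl => heO (Subtype.ext ((cancel_mono O.ι).mp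
    (congrArg Subtype.val ((ha k).symm.trans ((congrArg e hkl).trans (ha l))))))
  obtain ⟨i₀, hi₀⟩ := hsurj ⟨v, rfl⟩
  have hni : ∀ k, a k ≠ i₀ := fun k hk => by
    refine hy ?_
    have h : (eO k).1 ≫ O.ι = v := congrArg Subtype.val ((ha k).symm.trans ((congrArg e hk).trans hi₀))
    rw [← sepPoint_default U y]
    change v default ∈ O
    rw [← h]
    exact ((eO k).1 default).2
  haveI := etale_lift j (s i₀) (hs i₀)
  let W' : Set W.left := ⋂ k, s (a k) ⁻¹' (O : Set U)
  refine ⟨s i₀ '' W', ?_, (s i₀).isOpenMap _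
    (isOpen_iInter_of_finite fun k => O.2.preimage (Scheme.Hom.continuous _)), ⟨w default, ?_, ?_⟩⟩
  · rintro _ ⟨p, hp, rfl⟩ hpO
    let η := sepPoint W.left p
    have hη : η default = p := sepPoint_default _ _
    have hmem : ∀ i : Fin n, s i p ∈ O → ∃ t : {t : Spec (CommRingCat.of _) ⟶ O.toScheme //
        t ≫ O.ι ≫ j = η ≫ W.hom}, t.1 ≫ O.ι = η ≫ s i := fun i hi => by
      obtain ⟨t, ht⟩ := exists_lift_of_mem (η ≫ s i) O.ι (by
        rw [Scheme.Opens.range_ι]
        show s i (η default) ∈ O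
        rw [hη]; exact hi)
      exact ⟨⟨t, by rw [← Category.assoc, ht, Category.assoc, hs]⟩, ht⟩
    let b : Fin (m + 1) → Fin n := Fin.cons i₀ a
    have hb : ∀ k, s (b k) p ∈ O := fun k => by
      cases k using Fin.cases with
      | zero => exact hpO
      | succ k => exact Set.mem_iInter.mp hp k
    choose t ht using fun k => hmem (b k) (hb k)
    refine (hm _ (η ≫ W.hom)).2 ⟨t, fun k l hkl => ?_⟩
    have hbi : Function.Injective b := Fin.cons_injective_iff.mpr ⟨fun ⟨k, hk⟩ => hni k hk, hain⟩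
    refine hbi (hinj _ η ?_)
    show η ≫ s (b k) = η ≫ s (b l)
    rw [← ht, ← ht, hkl]
  · refine Set.mem_iInter.mpr fun k => ?_
    show (w ≫ s (a k)) default ∈ O
    rw [hws, ha]
    exact ((eO k).1 default).2
  · show (w ≫ s i₀) default = y
    rw [hws, hi₀]
    exact sepPoint_default U y

/-- On a qcqs base, `j_!` of a stratified sheaf along a separated quasi-compact étale morphism is
stratified. -/
theorem stratified_extZero [CompactSpace X] [QuasiSeparatedSpace X] (j : U ⟶ X) [Etale j]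
    [EtShriek.JCont j] [IsSeparated j] [QuasiCompact j] {F : EtCoh.Ab U}
    (hF : Stratified F Set.univ) : Stratified ((EtShriek.extZero j).obj F) Set.univ := by
  classical
  haveI : CompactSpace U := QuasiCompact.compactSpace_of_compactSpace j
  haveI : QuasiSeparatedSpace U := quasiSeparatedSpace_of_quasiSeparated j
  obtain ⟨ι, hι, T, g, hg, hc, hd, hu, hFi⟩ := hF
  choose OO hOf hOo hOp using fun i => H8Top.exists_pattern (hc i).isConstructible
  let PP : Set (Set U) := insert Set.univ (⋃ i, OO i)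
  haveI : Finite PP := ((Set.finite_iUnion hOf).insert _).to_subtype
  have hPP : ∀ O : PP, IsOpen (O : Set U) ∧ IsRetrocompact (O : Set U) := by
    rintro ⟨O, rfl | hO⟩
    · exact ⟨isOpen_univ, .univ⟩
    · obtain ⟨i, hi⟩ := Set.mem_iUnion.mp hO
      exact hOo i O hi
  let op' : PP → U.Opens := fun O => ⟨O.1, (hPP O).1⟩
  have hqc : ∀ O : PP, QuasiCompact ((op' O).ι) := fun O =>
    haveI : CompactSpace (op' O).toScheme :=
      isCompact_iff_compactSpace.mp (show IsCompact (O : Set U) from (hPP O).2.isCompact)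
    quasiCompact_iff_isSpectralMap.mpr (IsRetrocompact_iff_isSpectralMap_subtypeVal.mp (hPP O).2)
  have hjqc : ∀ O : PP, QuasiCompact ((op' O).ι ≫ j) := fun O => by
    haveI := hqc O; infer_instance
  choose N hN using fun O : PP => haveI := hjqc O; exists_bound_lifts ((op' O).ι ≫ j)
  choose E hEo hEc _ hE using fun O : PP => fun k => exists_atLeast k ((op' O).ι ≫ j)
  let K := Σ O : PP, Fin (N O + 1)
  obtain ⟨r, ⟨eK⟩⟩ := Finite.exists_equiv_fin K
  obtain ⟨I, _, _, S, hS, hSu, hSd, -, hST⟩ := H8Top.exists_stratification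
    (fun p : Fin r => E (eK.symm p).1 (eK.symm p).2)
    (fun p => (hEc _ _ (hjqc _) ‹_›).isConstructible (hEo _ _))
  rw [← hSu]
  refine Stratified.iUnion (fun a b hab => hSd a b hab) fun i => ?_
  rcases Set.eq_empty_or_nonempty (S i) with hemp | ⟨x₀, hx₀⟩
  · rw [hemp]; exact stratified_empty _
  obtain ⟨T₀, g₀, hg₀, hr₀⟩ := exists_immersion_range (hS i).1
  refine ⟨Unit, inferInstance, fun _ => T₀, fun _ => g₀, fun _ => hg₀,
    fun _ => hr₀ ▸ (hS i).2.isLocallyConstructible, Subsingleton.pairwise,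
    by rw [Set.iUnion_const, hr₀], fun _ => ?_⟩
  -- the lift count of every piece is constant on the stratum
  have hcount : ∀ O : PP, ∃ m, ConstLifts ((pullback.fst j g₀ ⁻¹ᵁ op' O).ι ≫ pullback.snd j g₀) m := by
    intro O
    have hmem : ∀ k, k ≤ N O → ∀ x ∈ S i, (x ∈ E O k ↔ x₀ ∈ E O k) := fun k hk x hx => by
      have key' : ∀ q : K, (S i ∩ E q.1 q.2).Nonempty → S i ⊆ E q.1 q.2 := fun q =>
        eK.symm_apply_apply q ▸ hST i (eK q)
      have key : (S i ∩ E O k).Nonempty → S i ⊆ E O k := key' ⟨O, ⟨k, Nat.lt_succ_of_le hk⟩⟩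
      exact ⟨fun h => key ⟨x, hx, h⟩ hx₀, fun h => key ⟨x₀, hx₀, h⟩ hx⟩
    have hex : ∃ k, x₀ ∉ E O k := ⟨N O, fun h => hN O _ (sepPoint X x₀)
      ((hE O _ _ _).mpr (by rw [sepPoint_default]; exact h))⟩
    have h0 : x₀ ∈ E O 0 := by
      rw [← sepPoint_default X x₀, ← hE]
      exact ⟨Fin.elim0, fun a => a.elim0⟩
    obtain ⟨m, hm⟩ : ∃ m, Nat.find hex = m + 1 :=
      ⟨Nat.find hex - 1, (Nat.succ_pred_eq_of_ne_zero fun h => (h ▸ Nat.find_spec hex) h0).symm⟩
    have hmN : m + 1 ≤ N O := hm ▸ Nat.find_min' hex (fun h => hN O _ (sepPoint X x₀)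
      ((hE O _ _ _).mpr (by rw [sepPoint_default]; exact h)))
    refine ⟨m, fun Ω _ _ η => ?_⟩
    have hη : g₀ (η default) ∈ S i := hr₀ ▸ ⟨_, rfl⟩
    rw [hasLifts_preimage, hasLifts_preimage, hE, hE]
    show g₀ (η default) ∈ E O m ∧ g₀ (η default) ∉ E O (m + 1)
    rw [hmem m (Nat.le_of_succ_le hmN) _ hη, hmem (m + 1) hmN _ hη]
    exact ⟨by_contra fun h => Nat.find_min hex (hm ▸ m.lt_succ_self) h, hm ▸ Nat.find_spec hex⟩
  let jT := pullback.snd j g₀
  obtain ⟨n, hn⟩ : ∃ n, ConstLifts jT n := by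
    obtain ⟨n, hn⟩ := hcount ⟨Set.univ, Set.mem_insert _ _⟩
    refine ⟨n, fun Ω _ _ η => ?_⟩
    have h := hn Ω η
    have key : ∀ k, HasLifts ((pullback.fst j g₀ ⁻¹ᵁ op' ⟨Set.univ, Set.mem_insert _ _⟩).ι ≫ jT) η k ↔
        HasLifts jT η k := fun k => by
      constructor
      · rintro ⟨e, he⟩
        exact ⟨fun a => ⟨(e a).1 ≫ Scheme.Opens.ι _, (Category.assoc _ _ _).trans (e a).2⟩,
          fun a b hab => he (Subtype.ext ((cancel_mono (Scheme.Opens.ι _)).mp (congrArg Subtype.val hab)))⟩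
      · rintro ⟨e, he⟩
        have : ∀ a, ∃ t, t ≫ (pullback.fst j g₀ ⁻¹ᵁ op' ⟨Set.univ, Set.mem_insert _ _⟩).ι = (e a).1 :=
          fun a => exists_lift_of_mem _ _ (by rw [Scheme.Opens.range_ι]; trivial)
        choose t ht using this
        exact ⟨fun a => ⟨t a, by rw [← Category.assoc, ht, (e a).2]⟩, fun a b hab => he (Subtype.ext (by
          rw [← ht, ← ht]; exact congrArg (fun z => z.1 ≫ _) hab))⟩
    exact ⟨(key n).mp h.1, fun h' => h.2 ((key (n + 1)).mpr h')⟩
  have hclosed : ∀ O : PP, IsClosed ((pullback.fst j g₀ ⁻¹ᵁ op' O : (pullback j g₀).Opens) : Set ↥(pullback j g₀)) :=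
    fun O => (hcount O).elim fun m hm => isClosed_of_constLifts jT hn _ hm
  let P := (EtCoh.pull (pullback.fst j g₀)).obj F
  have hP : EtCoh.IsFiniteLocallyConstant P := by
    refine isFLC_iff.mpr (LocTriv.of_nhds fun y => ?_)
    let π := pullback.fst j g₀
    obtain ⟨l, hl⟩ := Set.mem_iUnion.mp (hu.symm ▸ Set.mem_univ (π y) : π y ∈ ⋃ i, Set.range (g i))
    let Z : Set ↥(pullback j g₀) := ⋂ O : OO l, if π y ∈ O.1 then π ⁻¹' O.1 else (π ⁻¹' O.1)ᶜ
    have hZo : IsOpen Z := by
      haveI := (hOf l).to_subtype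
      refine isOpen_iInter_of_finite fun O => ?_
      split
      · exact ((hOo l O.1 O.2).1).preimage π.continuous
      · exact (hclosed ⟨O.1, Or.inr (Set.mem_iUnion.mpr ⟨l, O.2⟩)⟩).isOpen_compl
    have hyZ : y ∈ Z := Set.mem_iInter.mpr fun O => by
      split <;> assumption
    have hZsub : Z ⊆ π ⁻¹' Set.range (g l) := fun z hz => by
      refine (hOp l (π y) (π z) fun O hO => ?_).mp hl
      have := Set.mem_iInter.mp hz ⟨O, hO⟩
      split at this
      · exact iff_of_true ‹_› this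
      · exact iff_of_false ‹_› this
    let Q : (pullback j g₀).Opens := ⟨Z, hZo⟩
    refine ⟨Scheme.Etale.mk Q.ι, ⟨y, hyZ⟩, rfl, isFLC_iff.mp ?_⟩
    haveI : Surjective (pullback.fst (Q.ι ≫ π) (g l)) := ⟨fun q => by
      have : q ∈ Set.range (pullback.fst (Q.ι ≫ π) (g l)) := by
        rw [Scheme.Pullback.range_fst]
        exact hZsub q.2
      exact this⟩
    refine isFLC_of_pull_immersion (pullback.fst (Q.ι ≫ π) (g l)) ?_
    refine isFLC_of_iso (isFLC_pull_comp (hFi l) (pullback.snd (Q.ι ≫ π) (g l))) ?_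
    exact (EtCore.pullCongr pullback.condition.symm).app F ≪≫ (EtCore.pullComp _ _).app F ≪≫
      (EtCoh.pull _).mapIso ((EtCore.pullComp Q.ι π).app F)
  haveI : EtShriek.JCont jT := jCont jT
  exact isFLC_of_iso (isFLC_extZero_of_constLifts jT hn hP)
    ((extZeroBaseChangeIso j g₀ jT (pullback.fst j g₀) (IsPullback.of_hasPullback j g₀).flip).app F)

/-- A base change of `j_!` to an open. -/
theorem isConstructible_extZero_of_separated (j : U ⟶ X) [Etale j] [EtShriek.JCont j] [IsSeparated j]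
    [QuasiCompact j] {F : EtCoh.Ab U} (hF : EtPBC.IsConstructible F) :
    EtPBC.IsConstructible ((EtShriek.extZero j).obj F) := by
  rw [isConstructible_iff_affine]
  intro V hV
  have := (qcqs_of_isAffineOpen hV).1
  have := (qcqs_of_isAffineOpen hV).2
  let j' := pullback.snd j V.ι
  haveI : EtShriek.JCont j' := jCont j'
  haveI : CompactSpace ↥(pullback j V.ι) := QuasiCompact.compactSpace_of_compactSpace j'
  haveI : QuasiSeparatedSpace ↥(pullback j V.ι) := quasiSeparatedSpace_of_quasiSeparated j'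
  exact (stratified_extZero j'
    ((isConstructible_iff_stratified _).mp (isConstructible_pull (pullback.fst j V.ι) hF))).of_iso
    ((extZeroBaseChangeIso j V.ι j' (pullback.fst j V.ι) (IsPullback.of_hasPullback j V.ι).flip).app F)

end Groth.Agent.Et18
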