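import Groth.Agent.Et18.FLC
import Groth.Prelude.Def_EtMod2

/-!
# Locally constant sheaves of modules and inverse images
-/

universe u

open CategoryTheory CategoryTheory.Limits AlgebraicGeometry Opposite

set_option backward.isDefEq.respectTransparency.types false
set_option backward.isDefEq.respectTransparency false

namespace Groth.Agent.Et18

variable (Λ : Type (u + 1)) [CommRing Λ] {X Y Z : Scheme.{u}}

/-- Composition of direct images of sheaves of modules. -/
noncomputable def modPushComp (f : X ⟶ Y) (g : Z ⟶ X) :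
    EtModW.push Λ g ⋙ EtModW.push Λ f ≅ EtModW.push Λ (g ≫ f) :=
  Functor.sheafPushforwardContinuousComp' (F := EtCoh.bc f) (G := EtCoh.bc g)
    (FG := EtCoh.bc (g ≫ f))
    ((MorphismProperty.Over.pullbackComp (P := EtCoh.etaleMP) (Q := ⊤) g f).symm :
      EtCoh.bc f ⋙ EtCoh.bc g ≅ EtCoh.bc (g ≫ f))
    (ModuleCat.{u + 1} Λ) Y.smallEtaleTopology X.smallEtaleTopology Z.smallEtaleTopology

/-- The adjunction of inverse and direct images of sheaves of modules. -/
noncomputable abbrev modAdj (f : X ⟶ Y) : EtModW.pull Λ f ⊣ EtModW.push Λ f :=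
  (EtCoh.bc f).sheafAdjunctionContinuous (ModuleCat.{u + 1} Λ) Y.smallEtaleTopology X.smallEtaleTopology

/-- Composition of inverse images of sheaves of modules. -/
noncomputable def modPullComp (f : X ⟶ Y) (g : Y ⟶ Z) :
    EtModW.pull Λ (f ≫ g) ≅ EtModW.pull Λ g ⋙ EtModW.pull Λ f :=
  Adjunction.leftAdjointUniq (modAdj Λ (f ≫ g))
    (((modAdj Λ g).comp (modAdj Λ f)).ofNatIsoRight (modPushComp Λ g f))

/-- Global sections of a direct image. -/
noncomputable def modPushSectIso (f : X ⟶ Y) :
    EtModW.push Λ f ⋙ (sheafSections Y.smallEtaleTopology (ModuleCat.{u + 1} Λ)).obj (op (EtCoh.top Y)) ≅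
      (sheafSections X.smallEtaleTopology (ModuleCat.{u + 1} Λ)).obj (op (EtCoh.top X)) :=
  NatIso.ofComponents (fun F => F.obj.mapIso (EtCore.bcTopIso f).op.symm) (fun {F G} φ => by
    simp only [Functor.comp_map, Functor.mapIso_hom, Iso.symm_hom]
    exact (φ.hom.naturality _).symm)

/-- Inverse images of constant sheaves of modules. -/
noncomputable def modPullConstIso (f : X ⟶ Y) :
    constantSheaf Y.smallEtaleTopology (ModuleCat.{u + 1} Λ) ⋙ EtModW.pull Λ f ≅
      constantSheaf X.smallEtaleTopology (ModuleCat.{u + 1} Λ) :=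
  Adjunction.leftAdjointUniq
    (((constantSheafAdj Y.smallEtaleTopology (ModuleCat.{u + 1} Λ) (EtCore.topIsTerminal Y)).comp
      (modAdj Λ f)).ofNatIsoRight (modPushSectIso Λ f))
    (constantSheafAdj X.smallEtaleTopology (ModuleCat.{u + 1} Λ) (EtCore.topIsTerminal X))

instance {J : Type (u + 1)} [Category.{u} J] : HasLimitsOfShape J (ModuleCat.{u + 1} Λ) :=
  ModuleCat.hasLimitsOfShape

variable (U : X.Etale)

/-- Sheaves of modules on the localised site are sheaves on the small étale site. -/
noncomputable abbrev modOverRestr :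
    Sheaf (X.smallEtaleTopology.over U) (ModuleCat.{u + 1} Λ) ⥤ EtModW.Mod Λ U.left :=
  (overEtale U).sheafPushforwardContinuous (ModuleCat.{u + 1} Λ) U.left.smallEtaleTopology
    (X.smallEtaleTopology.over U)

instance : (modOverRestr Λ U).IsEquivalence :=
  (Functor.IsDenseSubsite.sheafEquiv U.left.smallEtaleTopology (X.smallEtaleTopology.over U)
    (overEtale U) (ModuleCat.{u + 1} Λ)).isEquivalence_inverse

/-- Constant sheaves of modules on either site. -/
noncomputable def modOverConstIso :
    constantSheaf (X.smallEtaleTopology.over U) (ModuleCat.{u + 1} Λ) ⋙ modOverRestr Λ U ≅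
      constantSheaf U.left.smallEtaleTopology (ModuleCat.{u + 1} Λ) :=
  (equivCommuteConstant' U.left.smallEtaleTopology (ModuleCat.{u + 1} Λ)
    (X.smallEtaleTopology.over U) (overEtale U) (EtCore.topIsTerminal U.left)
    ((EtCore.topIsTerminal U.left).isTerminalObj (overEtale U))).symm

/-- The restriction of a sheaf of modules as an inverse image. -/
noncomputable def modOverPullIso :
    X.smallEtaleTopology.overPullback (ModuleCat.{u + 1} Λ) U ⋙ modOverRestr Λ U ≅
      EtModW.pull Λ U.hom :=
  haveI := etale_structureHom U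
  haveI : (EtCoh.bc U.hom).IsContinuous X.smallEtaleTopology U.left.smallEtaleTopology :=
    EtCoh.bcCont U.hom
  haveI : (EtShriek.compEtale U.hom).IsContinuous U.left.smallEtaleTopology X.smallEtaleTopology :=
    jCont_structureHom U
  haveI := Functor.isContinuous_comp (overEtale U) (Over.forget U) U.left.smallEtaleTopology
    (X.smallEtaleTopology.over U) X.smallEtaleTopology
  haveI := jCont_structureHom U
  Functor.sheafPushforwardContinuousComp (overEtale U) (Over.forget U) (ModuleCat.{u + 1} Λ)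
      U.left.smallEtaleTopology (X.smallEtaleTopology.over U) X.smallEtaleTopology ≪≫
    (Adjunction.leftAdjointUniq (modAdj Λ U.hom)
      ((compBcAdj U.hom).sheafPushforwardContinuous U.left.smallEtaleTopology X.smallEtaleTopology)).symm

/-- The criterion by inverse images. -/
theorem nonempty_modRestr_iso_const_iff (F : EtModW.Mod Λ X) (M : ModuleCat.{u + 1} Λ) :
    Nonempty (EtModW.restr Λ F U ≅
      (constantSheaf (X.smallEtaleTopology.over U) (ModuleCat.{u + 1} Λ)).obj M) ↔
    Nonempty ((EtModW.pull Λ U.hom).obj F ≅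
      (constantSheaf U.left.smallEtaleTopology (ModuleCat.{u + 1} Λ)).obj M) := by
  let a : (modOverRestr Λ U).obj (EtModW.restr Λ F U) ≅ (EtModW.pull Λ U.hom).obj F :=
    (modOverPullIso Λ U).app F
  let b := (modOverConstIso Λ U).app M
  constructor
  · rintro ⟨i⟩
    exact ⟨a.symm ≪≫ (modOverRestr Λ U).mapIso i ≪≫ b⟩
  · rintro ⟨i⟩
    exact ⟨(modOverRestr Λ U).preimageIso (a ≪≫ i ≪≫ b.symm)⟩

/-- Inverse images preserve locally constant sheaves of modules of finite type. -/
theorem isFTLocConst_pull (f : X ⟶ Y) {G : EtModW.Mod Λ Y} (h : EtModW.IsFTLocConst Λ G) :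
    EtModW.IsFTLocConst Λ ((EtModW.pull Λ f).obj G) := by
  obtain ⟨ι, U, hU, hG⟩ := h
  refine ⟨ι, fun i => (EtCoh.bc f).obj (U i), fun x => ?_, fun i => ?_⟩
  · obtain ⟨i, v, hv⟩ := hU (f x)
    obtain ⟨z, -, hz⟩ := Scheme.Pullback.exists_preimage_pullback (f := (U i).hom) (g := f) v x hv
    exact ⟨i, z, hz⟩
  · obtain ⟨M, _, _, _, h⟩ := hG i
    refine ⟨M, inferInstance, inferInstance, inferInstance,
      (nonempty_modRestr_iso_const_iff Λ _ _ _).mpr ?_⟩
    obtain ⟨e⟩ := (nonempty_modRestr_iso_const_iff Λ (U i) G _).mp h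
    let p : ((EtCoh.bc f).obj (U i)).left ⟶ (U i).left := pullback.fst (U i).hom f
    have w : ((EtCoh.bc f).obj (U i)).hom ≫ f = p ≫ (U i).hom := pullback.condition.symm
    exact ⟨((modPullComp Λ _ f).app G).symm ≪≫
      (eqToIso (congrArg (fun k => (EtModW.pull Λ k).obj G) w) : (EtModW.pull Λ (((EtCoh.bc f).obj (U i)).hom ≫ f)).obj G ≅
        (EtModW.pull Λ (p ≫ (U i).hom)).obj G) ≪≫
      (modPullComp Λ p (U i).hom).app G ≪≫ (EtModW.pull Λ p).mapIso e ≪≫
      (modPullConstIso Λ p).app _⟩

end Groth.Agent.Et18
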