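import Groth.Agent.Et18.ExtZero
import Groth.Agent.Et18.GermBasics
import Groth.Agent.H8ProCons.ConsTopology
import Groth.Agent.H8Lim.Constructible
import Mathlib.AlgebraicGeometry.Morphisms.Immersion
import Mathlib.AlgebraicGeometry.Morphisms.Finite
import Mathlib.AlgebraicGeometry.Morphisms.FlatMono

/-!
# Numbers of geometric lifts along separated étale morphisms
-/

universe u

open CategoryTheory CategoryTheory.Limits AlgebraicGeometry Opposite

set_option backward.isDefEq.respectTransparency.types false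
set_option backward.isDefEq.respectTransparency false

namespace Groth.Agent.Et18

/-- There are at least `k` lifts of `ξ` along `j`. -/
def HasLifts {U X : Scheme.{u}} (j : U ⟶ X) {Ω : Type u} [Field Ω] [IsSepClosed Ω]
    (ξ : Spec (CommRingCat.of Ω) ⟶ X) (k : ℕ) : Prop :=
  ∃ e : Fin k → {v : Spec (CommRingCat.of Ω) ⟶ U // v ≫ j = ξ}, Function.Injective e

lemma HasLifts.mono {U X : Scheme.{u}} {j : U ⟶ X} {Ω : Type u} [Field Ω] [IsSepClosed Ω]
    {ξ : Spec (CommRingCat.of Ω) ⟶ X} {k l : ℕ} (h : HasLifts j ξ l) (hkl : k ≤ l) :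
    HasLifts j ξ k :=
  ⟨_, h.choose_spec.comp (Fin.castLE_injective hkl)⟩

/-- A point of `T` factors through an open immersion containing its image. -/
lemma exists_lift_of_mem {T W : Scheme.{u}} {Ω : Type u} [Field Ω] (v : Spec (CommRingCat.of Ω) ⟶ T)
    (i : W ⟶ T) [IsOpenImmersion i] (h : v default ∈ Set.range i) : ∃ v', v' ≫ i = v := by
  refine ⟨IsOpenImmersion.lift i v ?_, IsOpenImmersion.lift_fac _ _ _⟩
  rintro _ ⟨p, rfl⟩
  rw [Subsingleton.elim p default]
  exact h

/-- The complement of the diagonal. -/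
noncomputable def offDiag {U X : Scheme.{u}} (j : U ⟶ X) [IsSeparated j] : (pullback j j).Opens :=
  ⟨(Set.range (pullback.diagonal j))ᶜ,
    (pullback.diagonal j).isClosedEmbedding.isClosed_range.isOpen_compl⟩

lemma range_offDiag {U X : Scheme.{u}} (j : U ⟶ X) [IsSeparated j] :
    Set.range (offDiag j).ι = (Set.range (pullback.diagonal j))ᶜ := Scheme.Opens.range_ι _

instance isClosedImmersion_offDiag {U X : Scheme.{u}} (j : U ⟶ X) [IsSeparated j] [Etale j] :
    IsClosedImmersion (offDiag j).ι :=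
  IsClosedImmersion.of_isPreimmersion _ (by
    rw [range_offDiag]
    exact (pullback.diagonal j).isOpenEmbedding.isOpen_range.isClosed_compl)

/-- The projection off the diagonal. -/
noncomputable abbrev offDiagSnd {U X : Scheme.{u}} (j : U ⟶ X) [IsSeparated j] :
    (offDiag j).toScheme ⟶ U :=
  (offDiag j).ι ≫ pullback.snd j j

lemma hasLifts_offDiag {U X : Scheme.{u}} (j : U ⟶ X) [IsSeparated j] [Etale j] {Ω : Type u} [Field Ω]
    [IsSepClosed Ω] (v : Spec (CommRingCat.of Ω) ⟶ U) (k : ℕ) :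
    HasLifts (offDiagSnd j) v k ↔
      ∃ e : Fin k → {v' : Spec (CommRingCat.of Ω) ⟶ U // v' ≫ j = v ≫ j},
        Function.Injective e ∧ ∀ i, (e i).1 ≠ v := by
  constructor
  · rintro ⟨e, he⟩
    have h2 : ∀ i, ((e i).1 ≫ (offDiag j).ι) ≫ pullback.snd j j = v := fun i =>
      (Category.assoc _ _ _).trans (e i).2
    refine ⟨fun i => ⟨((e i).1 ≫ (offDiag j).ι) ≫ pullback.fst j j, ?_⟩, fun a b hab => he ?_,
      fun i hi => ?_⟩
    · rw [Category.assoc, pullback.condition, ← Category.assoc, h2]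
    · refine Subtype.ext ((cancel_mono (offDiag j).ι).mp (pullback.hom_ext ?_ ?_))
      · exact congrArg Subtype.val hab
      · rw [h2, h2]
    · have hd : (e i).1 ≫ (offDiag j).ι = v ≫ pullback.diagonal j := by
        refine pullback.hom_ext (hi.trans ?_) ((h2 i).trans ?_)
        · rw [Category.assoc, pullback.diagonal_fst, Category.comp_id]
        · rw [Category.assoc, pullback.diagonal_snd, Category.comp_id]
      have hmem : ((e i).1 ≫ (offDiag j).ι) default ∈ Set.range (offDiag j).ι := ⟨_, rfl⟩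
      rw [range_offDiag] at hmem
      exact hmem (hd ▸ ⟨v default, rfl⟩)
  · rintro ⟨e, he, hne⟩
    have : ∀ i, ∃ t, t ≫ (offDiag j).ι = pullback.lift (e i).1 v (e i).2 := fun i => by
      refine exists_lift_of_mem _ _ ?_
      rw [range_offDiag]
      intro hmem
      obtain ⟨w, hw⟩ := exists_lift_of_mem (pullback.lift (e i).1 v (e i).2) (pullback.diagonal j) hmem
      refine hne i ?_
      have h1 := congrArg (fun t => t ≫ pullback.fst j j) hw
      have h2 := congrArg (fun t => t ≫ pullback.snd j j) hw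
      simp only [Category.assoc, pullback.diagonal_fst, pullback.diagonal_snd, Category.comp_id,
        pullback.lift_fst, pullback.lift_snd] at h1 h2
      exact h1.symm.trans h2
    choose t ht using this
    refine ⟨fun i => ⟨t i, by rw [← Category.assoc, ht, pullback.lift_snd]⟩, fun a b hab => he ?_⟩
    have hab' : t a = t b := congrArg Subtype.val hab
    refine Subtype.ext ?_
    rw [← pullback.lift_fst (e a).1 v (e a).2, ← ht, hab', ht, pullback.lift_fst]

/-- The loci with at least `k` geometric lifts. -/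
theorem exists_atLeast : ∀ (k : ℕ) {U X : Scheme.{u}} (j : U ⟶ X) [Etale j] [IsSeparated j],
    ∃ E : Set X, IsOpen E ∧ (QuasiCompact j → CompactSpace X → IsCompact E) ∧
      (IsFinite j → IsClosed E) ∧
      ∀ (Ω : Type u) [Field Ω] [IsSepClosed Ω] (ξ : Spec (CommRingCat.of Ω) ⟶ X),
        HasLifts j ξ k ↔ ξ default ∈ E
  | 0, _, _, _, _, _ => ⟨Set.univ, isOpen_univ, fun _ _ => isCompact_univ, fun _ => isClosed_univ,
      fun _ _ _ _ => ⟨fun _ => trivial, fun _ => ⟨Fin.elim0, fun a => a.elim0⟩⟩⟩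
  | k + 1, U, X, j, _, _ => by
    obtain ⟨E, hEo, hEc, hEf, hE⟩ := exists_atLeast k (offDiagSnd j)
    refine ⟨j '' E, j.isOpenMap _ hEo, fun _ _ => ?_, fun _ => ?_, fun Ω _ _ ξ => ?_⟩
    · haveI : CompactSpace U := QuasiCompact.compactSpace_of_compactSpace j
      exact (hEc inferInstance inferInstance).image j.continuous
    · exact j.isClosedMap _ (hEf inferInstance)
    · constructor
      · rintro ⟨e, he⟩
        refine ⟨(e 0).1 default, ?_, ?_⟩
        · rw [← hE, hasLifts_offDiag]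
          refine ⟨fun i => ⟨(e i.succ).1, (e i.succ).2.trans (e 0).2.symm⟩, fun a b hab => ?_,
            fun i hi => Fin.succ_ne_zero i (he (Subtype.ext hi))⟩
          exact Fin.succ_injective _ (he (Subtype.ext (congrArg Subtype.val hab :)))
        · exact congrArg (fun t : Spec (CommRingCat.of Ω) ⟶ X => t default) (e 0).2
      · rintro ⟨y, hy, hyx⟩
        obtain ⟨v, hv, hvd⟩ := Scheme.exists_fac_of_etale_of_isSepClosed j ξ y hyx
        have hy' : v default ∈ E := by rwa [hvd]
        rw [← hE, hasLifts_offDiag] at hy'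
        obtain ⟨e, he, hne⟩ := hy'
        refine ⟨Fin.cons ⟨v, hv⟩ fun i => ⟨(e i).1, (e i).2.trans hv⟩,
          Fin.cons_injective_iff.mpr ⟨?_, fun a b hab => he (Subtype.ext (congrArg Subtype.val hab :))⟩⟩
        rintro ⟨i, hi⟩
        exact hne i (congrArg Subtype.val hi)

/-- Lifts of a geometric point along a quasi-compact separated étale morphism are finite in
number. -/
theorem finite_lifts_of_etale {U X : Scheme.{u}} (j : U ⟶ X) [Etale j] [IsSeparated j]
    [QuasiCompact j] {Ω : Type u} [Field Ω] [IsSepClosed Ω] (ξ : Spec (CommRingCat.of Ω) ⟶ X) :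
    Finite {v : Spec (CommRingCat.of Ω) ⟶ U // v ≫ j = ξ} := by
  let π := pullback.snd j ξ
  haveI : CompactSpace ↥(pullback j ξ) := QuasiCompact.compactSpace_of_compactSpace π
  let S := {s : Spec (CommRingCat.of Ω) ⟶ pullback j ξ // s ≫ π = 𝟙 _}
  have hopen : ∀ s : S, IsOpenImmersion s.1 := fun s => by
    haveI : IsOpenImmersion (s.1 ≫ π) := by rw [s.2]; infer_instance
    haveI : Etale (s.1 ≫ π) := inferInstance
    haveI : Mono s.1 := mono_of_mono_fac s.2
    haveI : Etale s.1 := Etale.of_comp s.1 π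
    exact IsOpenImmersion.of_flat_of_mono s.1
  have hrange : ∀ s : S, Set.range s.1 = {s.1 default} := fun s => by
    refine Set.eq_singleton_iff_unique_mem.mpr ⟨⟨_, rfl⟩, ?_⟩
    rintro _ ⟨p, rfl⟩
    rw [Subsingleton.elim p default]
  have hsurj : ∀ p : ↥(pullback j ξ), ∃ s : S, s.1 default = p := fun p => by
    obtain ⟨s, hs, hsd⟩ := Scheme.exists_fac_of_etale_of_isSepClosed π (𝟙 _) p (Subsingleton.elim _ _)
    exact ⟨⟨s, hs⟩, hsd⟩
  have hinj : Function.Injective fun s : S => s.1 default := fun s t h => by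
    haveI := hopen s
    haveI := hopen t
    obtain ⟨r, hr⟩ := exists_lift_of_mem s.1 t.1 ⟨default, h.symm⟩
    refine Subtype.ext ?_
    have hr' : r = 𝟙 _ := by
      calc r = r ≫ (t.1 ≫ π) := by rw [t.2, Category.comp_id]
        _ = 𝟙 _ := by rw [← Category.assoc, hr, s.2]
    rw [← hr, hr', Category.id_comp]
  have : DiscreteTopology ↥(pullback j ξ) := discreteTopology_iff_isOpen_singleton.mpr fun p => by
    obtain ⟨s, rfl⟩ := hsurj p
    haveI := hopen s
    exact hrange s ▸ s.1.isOpenEmbedding.isOpen_range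
  haveI : Finite ↥(pullback j ξ) := finite_of_compact_of_discrete
  haveI : Finite S := Finite.of_injective _ hinj
  refine Finite.of_surjective (fun s : S => (⟨s.1 ≫ pullback.fst j ξ, ?_⟩ :
    {v : Spec (CommRingCat.of Ω) ⟶ U // v ≫ j = ξ})) ?_
  · rw [Category.assoc, pullback.condition, ← Category.assoc, s.2, Category.id_comp]
  · rintro ⟨v, hv⟩
    refine ⟨⟨pullback.lift v (𝟙 _) (by rw [hv, Category.id_comp]), pullback.lift_snd _ _ _⟩, ?_⟩
    exact Subtype.ext (pullback.lift_fst _ _ _)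

/-- On a qcqs base the number of lifts is bounded. -/
theorem exists_bound_lifts {U X : Scheme.{u}} (j : U ⟶ X) [Etale j] [IsSeparated j] [QuasiCompact j]
    [CompactSpace X] [QuasiSeparatedSpace X] :
    ∃ N : ℕ, ∀ (Ω : Type u) [Field Ω] [IsSepClosed Ω] (ξ : Spec (CommRingCat.of Ω) ⟶ X),
      ¬ HasLifts j ξ N := by
  choose E hEo hEc _ hE using fun k => exists_atLeast k j
  have hE' : ∀ k, @IsClosed X (constructibleTopology X) (E k) := fun k =>
    H8ProCons.isClosed_cons_of_isConstructible ((hEc k ‹_› ‹_›).isConstructible (hEo k))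
  have hcov : (Set.univ : Set X) ⊆ ⋃ k, (E k)ᶜ := fun x _ => by
    by_contra hx
    simp only [Set.mem_iUnion, Set.mem_compl_iff, not_exists, not_not] at hx
    haveI := finite_lifts_of_etale j (sepPoint X x)
    cases nonempty_fintype {v : Spec (CommRingCat.of _) ⟶ U // v ≫ j = sepPoint X x}
    obtain ⟨e, he⟩ := (hE (Fintype.card {v : Spec (CommRingCat.of _) ⟶ U // v ≫ j = sepPoint X x} + 1)
      _ (sepPoint X x)).mpr (by rw [sepPoint_default]; exact hx _)
    simpa using Fintype.card_le_of_injective e he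
  obtain ⟨t, ht⟩ := @IsCompact.elim_finite_subcover X (constructibleTopology X) Set.univ ℕ
    (H8ProCons.isCompact_cons (@isClosed_univ X (constructibleTopology X))) (fun k => (E k)ᶜ)
    (fun k => @IsClosed.isOpen_compl X (constructibleTopology X) _ (hE' k)) hcov
  refine ⟨t.sup id, fun Ω _ _ ξ h => ?_⟩
  obtain ⟨k, hk, hx⟩ := Set.mem_iUnion₂.mp (ht (Set.mem_univ (ξ default)))
  exact hx ((hE k Ω ξ).mp (h.mono (Finset.le_sup (f := id) hk)))

/-- Distinct-valued sections through all lifts of a geometric point exhaust the lifts nearby when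
the number of lifts is constant. -/
theorem exists_nhd_sections {U X : Scheme.{u}} (j : U ⟶ X) [Etale j] [IsSeparated j] (n : ℕ)
    {Ω : Type u} [Field Ω] [IsSepClosed Ω] (ξ : Spec (CommRingCat.of Ω) ⟶ X)
    (e : Fin n → {v : Spec (CommRingCat.of Ω) ⟶ U // v ≫ j = ξ}) (he : Function.Injective e) :
    ∃ (W : X.Etale) (w : Spec (CommRingCat.of Ω) ⟶ W.left) (s : Fin n → (W.left ⟶ U)),
      w ≫ W.hom = ξ ∧ (∀ i, s i ≫ j = W.hom) ∧ (∀ i, w ≫ s i = (e i).1) ∧
      ∀ (Ω' : Type u) [Field Ω'] [IsSepClosed Ω'] (η : Spec (CommRingCat.of Ω') ⟶ W.left),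
        Function.Injective fun i => η ≫ s i := by
  classical
  obtain ⟨S, hS⟩ := IsCofiltered.inf_objs_exists
    (Finset.univ.image fun i => (Scheme.pointSmallEtale ξ).fiber.elementsMk (Scheme.Etale.mk j)
      (Over.homMk (e i).1 (e i).2))
  let g : ∀ i, S ⟶ (Scheme.pointSmallEtale ξ).fiber.elementsMk (Scheme.Etale.mk j)
      (Over.homMk (e i).1 (e i).2) := fun i => (hS (Finset.mem_image_of_mem _ (Finset.mem_univ i))).some
  let w₁ : Spec (CommRingCat.of Ω) ⟶ S.1.left := S.2.left
  let s₁ : Fin n → (S.1.left ⟶ U) := fun i => (g i).val.left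
  have hs₁ : ∀ i, s₁ i ≫ j = S.1.hom := fun i => MorphismProperty.Over.w (g i).val
  have hw₁ : ∀ i, w₁ ≫ s₁ i = (e i).1 := fun i => congrArg CommaMorphism.left (g i).property
  let bad : Fin n × Fin n → Set S.1.left := fun p =>
    (pullback.lift (s₁ p.1) (s₁ p.2) ((hs₁ _).trans (hs₁ _).symm)) ⁻¹' Set.range (pullback.diagonal j)
  let O : S.1.left.Opens := ⟨(⋃ p : {p : Fin n × Fin n // p.1 ≠ p.2}, bad p.1)ᶜ,
    (isClosed_iUnion_of_finite fun p =>
      ((pullback.diagonal j).isClosedEmbedding.isClosed_range.preimage (Scheme.Hom.continuous _))).isOpen_compl⟩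
  haveI : Etale S.1.hom := S.1.prop
  have hmem : w₁ default ∈ O := by
    simp only [O, bad]
    rintro ⟨_, ⟨⟨⟨a, b⟩, hab⟩, rfl⟩, hm⟩
    refine hab (he (Subtype.ext ?_))
    obtain ⟨v, hv⟩ := exists_lift_of_mem
      (w₁ ≫ pullback.lift (s₁ a) (s₁ b) ((hs₁ _).trans (hs₁ _).symm)) (pullback.diagonal j) hm
    rw [← hw₁ a, ← hw₁ b]
    have h1 := congrArg (fun t => t ≫ pullback.fst j j) hv
    have h2 := congrArg (fun t => t ≫ pullback.snd j j) hv
    simp only [Category.assoc, pullback.diagonal_fst, pullback.diagonal_snd, Category.comp_id,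
      pullback.lift_fst, pullback.lift_snd] at h1 h2
    exact h1.symm.trans h2
  obtain ⟨w, hw⟩ := exists_lift_of_mem w₁ O.ι (by rw [Scheme.Opens.range_ι]; exact hmem)
  refine ⟨Scheme.Etale.mk (O.ι ≫ S.1.hom), w, fun i => O.ι ≫ s₁ i, ?_, fun i => ?_, fun i => ?_, ?_⟩
  · show w ≫ O.ι ≫ S.1.hom = ξ
    rw [← Category.assoc, hw]
    exact Over.w S.2
  · rw [Category.assoc, hs₁]; rfl
  · rw [← Category.assoc, hw]; exact hw₁ i
  · intro Ω' _ _ η a b hab
    by_contra hne
    have hz : (η ≫ O.ι) default ∈ O := by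
      have : (η ≫ O.ι) default ∈ Set.range O.ι := ⟨_, rfl⟩
      rwa [Scheme.Opens.range_ι] at this
    refine hz (Set.mem_iUnion.mpr ⟨⟨(a, b), hne⟩, ?_⟩)
    show pullback.lift (s₁ a) (s₁ b) ((hs₁ _).trans (hs₁ _).symm) ((η ≫ O.ι) default) ∈
      Set.range (pullback.diagonal j)
    refine ⟨((η ≫ O.ι) ≫ s₁ a) default, ?_⟩
    have hfac : ((η ≫ O.ι) ≫ s₁ a) ≫ pullback.diagonal j =
        (η ≫ O.ι) ≫ pullback.lift (s₁ a) (s₁ b) ((hs₁ _).trans (hs₁ _).symm) := by
      refine pullback.hom_ext ?_ ?_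
      · simp
      · simpa using hab
    exact congrArg (fun t : Spec (CommRingCat.of Ω') ⟶ pullback j j => t default) hfac

end Groth.Agent.Et18
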