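import Groth.Agent.FlatMor12.EtaleRadicial
import Groth.Agent.H8Lim.Descent
import Groth.Agent.H8Lim.SchemeDescent
import Groth.Agent.H8Lim.FlatDescent
import Groth.Agent.H8Lim.GeomConnected
import Groth.Agent.LimSmooth.Scheme
import Groth.Agent.EGA43.Limit.Properties

/-!
# Strata over which a surjective morphism has a finite etale-then-finite radicial section
-/

set_option autoImplicit false
set_option backward.isDefEq.respectTransparency false
set_option maxHeartbeats 1000000

universe u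

open CategoryTheory CategoryTheory.Limits AlgebraicGeometry

namespace Groth.Agent.Et18.FinEtaleRadicial

/-- Over a field, a nonempty scheme locally of finite type has a point after an etale then a radicial
finite extension. -/
theorem exists_field_point {k : Type u} [Field k] {F : Scheme.{u}} [Nonempty F]
    (π : F ⟶ Spec (CommRingCat.of k)) [LocallyOfFiniteType π] :
    ∃ (T' T'' : Scheme.{u}) (h : T' ⟶ Spec (CommRingCat.of k)) (g : T'' ⟶ T') (σ : T'' ⟶ F),
      Etale h ∧ Surjective h ∧ QuasiCompact h ∧ QuasiSeparated h ∧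
      Flat g ∧ UniversallyInjective g ∧ Surjective g ∧ LocallyOfFinitePresentation g ∧ QuasiCompact g ∧
      QuasiSeparated g ∧ IsFinite h ∧ IsFinite g ∧ σ ≫ π = g ≫ h := by
  obtain ⟨x⟩ := ‹Nonempty F›
  obtain ⟨V, hV, hxV, -⟩ := exists_isAffineOpen_mem_and_subset (x := x) (U := ⊤) trivial
  haveI : Nontrivial Γ(F, V) := by
    by_contra hn
    haveI : Subsingleton Γ(F, V) := not_nontrivial_iff_subsingleton.1 hn
    exact IsEmpty.false (α := PrimeSpectrum Γ(F, V)) (hV.primeIdealOf ⟨x, hxV⟩)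
  obtain ⟨m, hm⟩ := Ideal.exists_maximal Γ(F, V)
  let φ : CommRingCat.of k ⟶ Γ(F, V) := Spec.preimage (hV.fromSpec ≫ π)
  have hφ : Spec.map φ = hV.fromSpec ≫ π := Spec.map_preimage _
  letI : Algebra k Γ(F, V) := φ.hom.toAlgebra
  haveI : Algebra.FiniteType k Γ(F, V) := by
    have h : LocallyOfFiniteType (Spec.map φ) := hφ ▸ inferInstance
    exact HasRingHomProperty.Spec_iff.1 h
  letI := Ideal.Quotient.field m
  let L := Γ(F, V) ⧸ m
  haveI : Module.Finite k L := finite_of_finite_type_of_isJacobsonRing k L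
  let K := separableClosure k L
  haveI : Algebra.Etale k K :=
    { formallyEtale := Algebra.FormallyEtale.of_isSeparable k K
      finitePresentation := Algebra.FinitePresentation.of_finiteType.1 inferInstance }
  haveI : Module.Finite K L := Module.Finite.of_restrictScalars_finite k K L
  haveI : IsPurelyInseparable K L := separableClosure.isPurelyInseparable k L
  refine ⟨Spec (CommRingCat.of K), Spec (CommRingCat.of L), H8Lim.algSpec k K, H8Lim.algSpec K L,
    Spec.map (CommRingCat.ofHom (Ideal.Quotient.mk m)) ≫ hV.fromSpec, ?_, ?_, inferInstance, inferInstance, ?_,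
    H8Lim.universallyInjective_algSpec K L, ?_, ?_, inferInstance, inferInstance, ?_, ?_, ?_⟩
  · exact (HasRingHomProperty.Spec_iff (P := @Etale)).2 (RingHom.etale_algebraMap.2 inferInstance)
  · exact ⟨fun z => ⟨Classical.arbitrary _, Subsingleton.elim _ _⟩⟩
  · exact (HasRingHomProperty.Spec_iff (P := @Flat)).2 (RingHom.flat_algebraMap_iff.2 inferInstance)
  · exact ⟨fun z => ⟨Classical.arbitrary _, Subsingleton.elim _ _⟩⟩
  · exact HasRingHomProperty.Spec_iff.2
      (RingHom.finitePresentation_algebraMap.2 (Algebra.FinitePresentation.of_finiteType.1 inferInstance))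
  · exact (IsFinite.SpecMap_iff _).2 (RingHom.finite_algebraMap.2
      (Module.Finite.of_injective ((separableClosure k L).val.toLinearMap) Subtype.val_injective))
  · exact (IsFinite.SpecMap_iff _).2 (RingHom.finite_algebraMap.2 inferInstance)
  · rw [Category.assoc, ← hφ, H8Lim.algSpec, H8Lim.algSpec, ← Spec.map_comp, ← Spec.map_comp]
    congr 1

variable {X S : Scheme.{u}}

/-- A section of `f` over `t` after an etale surjection followed by a radicial flat surjection. -/
def Good (f : X ⟶ S) (T : Scheme.{u}) (t : T ⟶ S) : Prop :=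
  ∃ (T' T'' : Scheme.{u}) (h : T' ⟶ T) (g : T'' ⟶ T') (σ : T'' ⟶ X),
    (Etale h ∧ Surjective h ∧ IsFinite h) ∧
    (Flat g ∧ UniversallyInjective g ∧ Surjective g ∧ LocallyOfFinitePresentation g ∧ IsFinite g) ∧
    σ ≫ f = g ≫ h ≫ t

theorem Good.precomp {f : X ⟶ S} {T T₁ : Scheme.{u}} (a : T₁ ⟶ T) (t : T ⟶ S) (hG : Good f T t) :
    Good f T₁ (a ≫ t) := by
  obtain ⟨T', T'', h, g, σ, ⟨h1, h2, h3⟩, ⟨g1, g2, g3, g4, g5⟩, hσ⟩ := hG
  have sh := IsPullback.of_hasPullback h a
  have sg := IsPullback.of_hasPullback g (pullback.fst h a)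
  refine ⟨_, _, pullback.snd h a, pullback.snd g (pullback.fst h a), pullback.fst g (pullback.fst h a) ≫ σ,
    ⟨MorphismProperty.of_isPullback sh h1, MorphismProperty.of_isPullback sh h2,
      MorphismProperty.of_isPullback sh h3⟩,
    ⟨MorphismProperty.of_isPullback sg g1, MorphismProperty.of_isPullback sg g2,
      MorphismProperty.of_isPullback sg g3, MorphismProperty.of_isPullback sg g4,
      MorphismProperty.of_isPullback sg g5⟩, ?_⟩
  rw [Category.assoc, hσ, pullback.condition_assoc, pullback.condition_assoc]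

open H8Lim in
theorem exists_good (f : X ⟶ S) [LocallyOfFinitePresentation f] [Surjective f] (s : S) :
    ∃ (T : Scheme.{u}) (t : T ⟶ S), IsAffine T ∧ IsImmersion t ∧ LocallyOfFinitePresentation t ∧
      s ∈ Set.range t ∧ Good f T t := by
  obtain ⟨I, _, _, D, c, hc, hD, e, U, t, _, hU, ht, htc, htt⟩ := H8Lim.exists_immersion_system s
  haveI : ∀ i, IsAffine (D.obj i) := fun i => (ht i).1
  haveI : Nonempty ↥(f.fiber s) := by
    obtain ⟨x, hx⟩ := f.surjective s
    exact ⟨f.asFiber x |> (hx ▸ ·)⟩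
  haveI : LocallyOfFiniteType (f.fiberToSpecResidueField s) :=
    inferInstanceAs (LocallyOfFiniteType (pullback.snd f (S.fromSpecResidueField s)))
  obtain ⟨K', L', h₁, g₁, σ₁, hEt, hSh, hqh, hqsh, hFl, hUI, hSg, hlg, hqg, hqsg, hfh, hfg, hσ₁⟩ :=
    exists_field_point (k := S.residueField s) (F := f.fiber s) (f.fiberToSpecResidueField s)
  let hI : K' ⟶ c.pt := h₁ ≫ inv e
  haveI : IsFinite hI := inferInstanceAs (IsFinite (_ ≫ _))
  haveI : Etale hI := inferInstanceAs (Etale (_ ≫ _))
  haveI : Surjective hI := inferInstanceAs (Surjective (_ ≫ _))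
  haveI : LocallyOfFinitePresentation hI := inferInstance
  haveI : QuasiCompact hI := inferInstanceAs (QuasiCompact (_ ≫ _))
  haveI : QuasiSeparated hI := inferInstanceAs (QuasiSeparated (_ ≫ _))
  obtain ⟨j₀, Y₀, hj₀, qY₀, hl₀, hqc₀, hqs₀, sq₀⟩ := exists_stage_scheme hc hI
  obtain ⟨j, a, hjEt, hjS, hjF⟩ : ∃ (j : I) (a : j ⟶ j₀), Etale (pullback.snd hj₀ (D.map a)) ∧
      Surjective (pullback.snd hj₀ (D.map a)) ∧ IsFinite (pullback.snd hj₀ (D.map a)) := by
    obtain ⟨n, χ, hn⟩ := H8Lim.descends_isFinite D c hc (fun φ => inferInstance) j₀ hj₀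
      (inferInstance : LocallyOfFiniteType hj₀) hI qY₀ sq₀ ‹IsFinite hI›
    haveI : CompactSpace Y₀ := QuasiCompact.compactSpace_of_compactSpace hj₀
    obtain ⟨k, φ, Xk, Yk, fk, gk, pY, pX, hY, hX, hk⟩ :=
      LimSmooth.exists_stage hc (g₀ := 𝟙 (D.obj j₀)) (f₀ := hj₀) (f := hI) (g := 𝟙 c.pt)
        (qY := c.π.app j₀) IsPullback.of_id_snd sq₀ LimSmooth.affineSpreads_etale (fun _ _ ↦ inferInstance) ‹Etale hI›
    haveI : IsIso gk := hY.isIso_snd_of_isIso
    haveI := hk
    have hk' : Etale (pullback.snd hj₀ (D.map φ)) :=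
      prop_snd_of_isPullback (by simpa using hX.paste_vert hY) (inferInstance : Etale (fk ≫ gk))
    obtain ⟨l, ψ, hl⟩ := EGA43.Limit.descends_surjective D c hc j₀ hj₀ hl₀ qY₀ hI sq₀ ‹Surjective hI›
    obtain ⟨m, φ', ψ', hm⟩ := IsCofiltered.cospan φ ψ
    have key : ∀ {x y : I} (p : x ⟶ y) (q : y ⟶ j₀),
        IsPullback (pullback.lift (pullback.fst _ _) (pullback.snd hj₀ (D.map (p ≫ q)) ≫ D.map p)
          (by rw [Category.assoc, ← D.map_comp, pullback.condition]))
          (pullback.snd hj₀ (D.map (p ≫ q))) (pullback.snd hj₀ (D.map q)) (D.map p) := fun p q =>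
      IsPullback.of_right (h₁₂ := pullback.fst hj₀ (D.map q))
        (by simpa using IsPullback.of_hasPullback hj₀ (D.map (p ≫ q)))
        (pullback.lift_snd _ _ _) (IsPullback.of_hasPullback hj₀ (D.map q))
    obtain ⟨m', φ'', χ', hm'⟩ := IsCofiltered.cospan (φ' ≫ φ) χ
    have hEt' := MorphismProperty.of_isPullback (key φ' φ) hk'
    have hS' : Surjective (pullback.snd hj₀ (D.map (φ' ≫ φ))) := by
      rw [hm]
      exact MorphismProperty.of_isPullback (key ψ' ψ) hl
    refine ⟨m', φ'' ≫ φ' ≫ φ, MorphismProperty.of_isPullback (key φ'' (φ' ≫ φ)) hEt',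
      MorphismProperty.of_isPullback (key φ'' (φ' ≫ φ)) hS', ?_⟩
    rw [hm']
    exact MorphismProperty.of_isPullback (key χ' χ) hn
  let Y := pullback hj₀ (D.map a)
  let hj : Y ⟶ D.obj j := pullback.snd hj₀ (D.map a)
  have sq : IsPullback (pullback.lift qY₀ (hI ≫ c.π.app j) (by rw [Category.assoc, c.w, sq₀.w])) hI hj
      (c.π.app j) :=
    IsPullback.of_right (h₁₂ := pullback.fst hj₀ (D.map a))
      (by rw [pullback.lift_fst, c.w]; exact sq₀) (pullback.lift_snd _ _ _) (IsPullback.of_hasPullback _ _)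
  haveI : QuasiCompact hj := MorphismProperty.of_isPullback (IsPullback.of_hasPullback _ _) hqc₀
  haveI : QuasiSeparated hj := MorphismProperty.of_isPullback (IsPullback.of_hasPullback _ _) hqs₀
  haveI : CompactSpace Y := QuasiCompact.compactSpace_of_compactSpace hj
  haveI : QuasiSeparatedSpace Y := quasiSeparatedSpace_of_quasiSeparated hj
  let E := stage D hj
  let cE := stageCone hj c _ hI sq
  have hcE : IsLimit cE := isLimitStageCone hj _ hI sq hc
  haveI : ∀ l, CompactSpace (E.obj l) := fun l => inferInstanceAs (CompactSpace ((stage D hj).obj l))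
  haveI : ∀ l, QuasiSeparatedSpace (E.obj l) := fun l => inferInstanceAs (QuasiSeparatedSpace ((stage D hj).obj l))
  obtain ⟨k, X₀, gk, qX, hlk, hqk, hqsk, sqX⟩ := exists_stage_scheme (D := E) (c := cE) hcE (X := L') g₁
  haveI : CompactSpace X₀ := QuasiCompact.compactSpace_of_compactSpace gk
  haveI : QuasiSeparatedSpace X₀ := quasiSeparatedSpace_of_quasiSeparated gk
  obtain ⟨l₁, hl₁⟩ : ∃ l : Over k, Flat (stageSnd E gk l) := by
    have hY : IsPullback (cE.π.app k) hI (stageSnd D hj k) (c.π.app k.left) :=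
      IsPullback.of_right (h₁₂ := stageFst D hj k)
        (by
          convert sq using 1
          all_goals first | rfl | exact stageProj_fst hj c _ hI sq k | exact c.w k.hom) (stageProj_snd hj c _ hI sq k) (isPullback_stage D hj k)
    obtain ⟨m, φ, Xm, Ym, fm, gm, pY, pX, hYm, hXm, hm⟩ :=
      LimSmooth.exists_stage hc (g₀ := stageSnd D hj k) (f₀ := gk) (f := g₁) (g := hI)
        hY sqX H8Lim.affineSpreads_flat (fun _ _ ↦ inferInstance) hFl
    let i₁ : Over j := Over.mk (φ ≫ k.hom)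
    let ψ : i₁ ⟶ k := Over.homMk φ rfl
    have sqψ := isPullback_stageMap D hj ψ
    let ε := IsPullback.isoIsPullback _ _ hYm sqψ
    haveI := hm
    have sq1 : IsPullback pX (fm ≫ ε.hom) gk (E.map ψ) :=
      IsPullback.of_iso hXm (Iso.refl _) (Iso.refl _) ε (Iso.refl _) (by simp) (by simp) (by simp)
        (by simp [ε, E])
    exact ⟨Over.mk ψ, prop_snd_of_isPullback sq1 (inferInstance : Flat (fm ≫ ε.hom))⟩
  obtain ⟨l₂, ψ₂, hl₂⟩ := EGA43.Limit.descends_surjective E cE hcE k gk hlk qX g₁ sqX hSg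
  obtain ⟨l₃, ψ₃, hl₃⟩ :=
    EGA43.Limit.descends_universallyInjective E cE hcE k gk (inferInstance : LocallyOfFiniteType gk) qX g₁ sqX hUI
  obtain ⟨l₅, ψ₅, hl₅⟩ := H8Lim.descends_isFinite E cE hcE (fun φ => inferInstance) k gk
    (inferInstance : LocallyOfFiniteType gk) g₁ qX sqX hfg
  let E₂ := stage E gk
  let cE₂ := stageCone gk cE qX g₁ sqX
  have hcE₂ : IsLimit cE₂ := isLimitStageCone gk qX g₁ sqX hcE
  haveI : ∀ l, CompactSpace (E₂.obj l) := fun l => inferInstanceAs (CompactSpace ((stage E gk).obj l))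
  haveI : ∀ l, QuasiSeparatedSpace (E₂.obj l) := fun l => inferInstanceAs (QuasiSeparatedSpace ((stage E gk).obj l))
  obtain ⟨l₄, τ, -, hτ⟩ := Scheme.exists_π_app_comp_eq_of_locallyOfFinitePresentation E₂
    { app := fun l => stageSnd E gk l ≫ stageSnd D hj l.left ≫ t l.left.left ≫ U.ι
      naturality := fun l l' b => by
        dsimp
        rw [stageMap_snd_assoc, stageMap_snd_assoc, ← Category.assoc (D.map _), htt b.left.left, Category.comp_id] }
    f cE₂ hcE₂ (σ₁ ≫ f.fiberι s) (by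
      ext l
      show stageProj gk cE qX g₁ sqX l ≫ stageSnd E gk l ≫ stageSnd D hj l.left ≫ t l.left.left ≫ U.ι = _
      rw [stageProj_snd_assoc]
      show g₁ ≫ stageProj hj c _ hI sq l.left ≫ stageSnd D hj l.left ≫ t l.left.left ≫ U.ι = _
      rw [stageProj_snd_assoc]
      show g₁ ≫ (h₁ ≫ inv e) ≫ c.π.app l.left.left ≫ t l.left.left ≫ U.ι = (σ₁ ≫ f.fiberι s) ≫ f
      rw [htc, Category.assoc, IsIso.inv_hom_id_assoc, ← reassoc_of% hσ₁, Category.assoc, f.fiber_fac])
  classical
  obtain ⟨l, hl⟩ := IsCofiltered.inf_objs_exists ({l₁, Over.mk ψ₂, Over.mk ψ₃, l₄, Over.mk ψ₅} : Finset (Over k))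
  obtain ⟨b₁⟩ := hl (X := l₁) (by simp)
  obtain ⟨b₂⟩ := hl (X := Over.mk ψ₂) (by simp)
  obtain ⟨b₃⟩ := hl (X := Over.mk ψ₃) (by simp)
  obtain ⟨b₄⟩ := hl (X := l₄) (by simp)
  obtain ⟨b₅⟩ := hl (X := Over.mk ψ₅) (by simp)
  refine ⟨D.obj l.left.left, t l.left.left ≫ U.ι, inferInstance, ?_, ?_, ?_, E.obj l.left, E₂.obj l,
    stageSnd D hj l.left, stageSnd E gk l, E₂.map b₄ ≫ τ, ⟨?_, ?_, ?_⟩, ⟨?_, ?_, ?_, ?_, ?_⟩, ?_⟩
  · haveI := (ht l.left.left).2.2; infer_instance
  · haveI := (ht l.left.left).2.1; infer_instance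
  · refine ⟨c.π.app l.left.left ((inv e) (IsLocalRing.closedPoint _)), ?_⟩
    rw [← Scheme.Hom.comp_apply, htc, Scheme.Hom.comp_apply]
    exact S.fromSpecResidueField_apply s _
  · exact MorphismProperty.of_isPullback (isPullback_stage D hj l.left) hjEt
  · exact MorphismProperty.of_isPullback (isPullback_stage D hj l.left) hjS
  · exact MorphismProperty.of_isPullback (isPullback_stage D hj l.left) hjF
  · exact MorphismProperty.of_isPullback (isPullback_stageMap E gk b₁) hl₁
  · exact MorphismProperty.of_isPullback (isPullback_stageMap E gk b₃) hl₃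
  · exact MorphismProperty.of_isPullback (isPullback_stageMap E gk b₂) hl₂
  · exact MorphismProperty.of_isPullback (isPullback_stage E gk l) hlk
  · exact MorphismProperty.of_isPullback (isPullback_stageMap E gk b₅) hl₅
  · rw [Category.assoc, hτ]
    show (stage E gk).map b₄ ≫ stageSnd E gk l₄ ≫ stageSnd D hj l₄.left ≫ t l₄.left.left ≫ U.ι = _
    rw [stageMap_snd_assoc, stageMap_snd_assoc, ← Category.assoc (D.map _), htt b₄.left.left]

end Groth.Agent.Et18.FinEtaleRadicial
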