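import Groth.Agent.Et18.BaseChange0Stalk
import Groth.Agent.Et18.Recollement

/-!
# Direct images along finite morphisms commute with extension by zero
-/

universe u

open CategoryTheory CategoryTheory.Limits AlgebraicGeometry Opposite

set_option backward.isDefEq.respectTransparency.types false
set_option backward.isDefEq.respectTransparency false

namespace Groth.Agent.Et18

variable {U X V Y : Scheme.{u}}

/-- Restricting an extension by zero along an open immersion gives the sheaf back. -/
noncomputable def pullExtZeroIso (j : U ⟶ X) [IsOpenImmersion j] [EtShriek.JCont j] :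
    EtShriek.extZero j ⋙ EtShriek.restrAlong j ≅ 𝟭 (EtCoh.Ab U) :=
  ((EtShriek.extZeroAdj j).comp (restrPushAdj j)).leftAdjointUniq
    (Adjunction.id.ofNatIsoRight ((asIso (EtCoh.pullPushAdj j).counit).symm ≪≫
      Functor.isoWhiskerLeft (EtCoh.push j) (pullRestrIso j)))

/-- A stalk vanishes if it vanishes at the algebraically closed points over it. -/
lemma isZero_stalk_of_algClosed {Ω : Type u} [Field Ω] [IsSepClosed Ω]
    (η : Spec (CommRingCat.of Ω) ⟶ X) (G : EtCoh.Ab X)
    (h : ∀ (K : Type u) [Field K] [IsAlgClosed K] (ρ : Spec (CommRingCat.of K) ⟶ Spec (CommRingCat.of Ω)),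
      IsZero ((EtCoh.stalk (ρ ≫ η)).obj G)) : IsZero ((EtCoh.stalk η).obj G) := by
  let P := (EtCoh.pull η).obj G
  let ρ : Spec (CommRingCat.of (AlgebraicClosure Ω)) ⟶ Spec (CommRingCat.of Ω) :=
    Spec.map (CommRingCat.ofHom (algebraMap Ω _))
  have hP : IsZero P := by
    rw [IsZero.iff_id_eq_zero]
    have : IsIso (0 : P ⟶ P) := isIso_of_stalks_family (ι := ULift.{u + 1} Unit) (fun _ => ρ)
      (fun t => ⟨⟨()⟩, Subsingleton.elim _ _⟩) _ fun _ => by
        have z : IsZero ((EtCoh.stalk ρ).obj P) :=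
          IsZero.of_iso (h _ ρ) ((stalkPullIso η ρ).app G)
        exact isIso_of_source_target_iso_zero _ z.isoZero z.isoZero
    rw [← cancel_mono (0 : P ⟶ P)]
    simp
  have := IsZero.of_iso ((EtCoh.stalk (𝟙 (Spec (CommRingCat.of Ω)))).map_isZero hP)
    ((stalkPullIso η (𝟙 _)).app G).symm
  exact this.of_iso (eqToIso (congrArg (fun t => (EtCoh.stalk t).obj G) (Category.id_comp η).symm))

/-- `f_* j'_! ≅ j_! g_*`. -/
theorem nonempty_push_extZero_iso (f : X ⟶ Y) [IsFinite f] (j : V ⟶ Y) [IsOpenImmersion j]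
    [EtShriek.JCont j] (j' : U ⟶ X) [IsOpenImmersion j'] [EtShriek.JCont j'] (g : U ⟶ V)
    (h : IsPullback j' g f j) (F : EtCoh.Ab U) :
    Nonempty ((EtCoh.push f).obj ((EtShriek.extZero j').obj F) ≅
      (EtShriek.extZero j).obj ((EtCoh.push g).obj F)) := by
  let G := (EtShriek.extZero j').obj F
  haveI := isIso_baseChange0_of_isFinite f j g j' h G
  refine nonempty_iso_extZero j _ _
    (((pullRestrIso j).app _).symm ≪≫ asIso (EtCoh.baseChange0 f j g j' h.w G) ≪≫
      (EtCoh.push g).mapIso ((pullRestrIso j').app G ≪≫ (pullExtZeroIso j').app F)) fun x hx => ?_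
  refine isZero_stalk_of_algClosed _ _ fun K _ _ ρ => ?_
  have : Subsingleton ((EtCoh.stalk (ρ ≫ sepPoint Y x)).obj ((EtCoh.push f).obj G)) := by
    have : ∀ ξ : FibrePts f (ρ ≫ sepPoint Y x), Subsingleton ((EtCoh.stalk ξ.1).obj G) := fun ξ => by
      refine AddCommGrpCat.subsingleton_of_isZero (IsZero.of_iso ?_ (extZeroStalkIso j' ξ.1 F))
      have : IsEmpty (PointLift j' ξ.1) := ⟨fun v => hx ⟨g (v.1 default), by
        have e : v.1 ≫ g ≫ j = ρ ≫ sepPoint Y x := by rw [← h.w, reassoc_of% v.2, ξ.2]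
        have e' : j (g (v.1 default)) = sepPoint Y x (ρ default) := congrArg (fun t => t default) e
        rw [e', Subsingleton.elim (ρ default) default, sepPoint_default]⟩⟩
      exact isZero_sigma_of_isEmpty _
    exact (fibreNat_bijective f (ρ ≫ sepPoint Y x) AddCommGrpCat.{u + 1} G).injective.subsingleton
  exact AddCommGrpCat.isZero_of_subsingleton _

end Groth.Agent.Et18
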