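import Groth.Agent.Et18.FiniteFibreAffine
import Groth.Agent.Et18.PropBEpi
import Mathlib.AlgebraicGeometry.Morphisms.Finite

/-!
# Étale neighbourhoods along a finite geometric fibre

For a finite morphism `f : X ⟶ Y` and a geometric point `η` of `Y`, étale neighbourhoods of the
finitely many points over `η` are refined by one étale neighbourhood of `η` whose base change
splits into one piece per point.
-/

universe u

open CategoryTheory CategoryTheory.Limits AlgebraicGeometry Opposite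

set_option backward.isDefEq.respectTransparency.types false
set_option backward.isDefEq.respectTransparency false

namespace Groth.Agent.Et18

variable {X Y : Scheme.{u}} (f : X ⟶ Y)

/-- The points over a geometric point. -/
abbrev FibrePts {Ω : Type u} [Field Ω] (η : Spec (CommRingCat.of Ω) ⟶ Y) : Type u :=
  {ξ : Spec (CommRingCat.of Ω) ⟶ X // ξ ≫ f = η}

/-- A finite morphism has finitely many lifts of a point with values in a field. -/
theorem finite_lifts_of_isFinite [IsFinite f] {Ω : Type u} [Field Ω]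
    (η : Spec (CommRingCat.of Ω) ⟶ Y) : Finite (FibrePts f η) := by
  let U := pullback f η
  let q : U ⟶ Spec (CommRingCat.of Ω) := pullback.snd f η
  have : IsFinite q := MorphismProperty.pullback_snd _ _ inferInstance
  have : IsAffine U := isAffine_of_isAffineHom q
  let φ : CommRingCat.of Ω ⟶ Γ(U, ⊤) := Spec.preimage (U.isoSpec.inv ≫ q)
  have hφ : Spec.map φ = U.isoSpec.inv ≫ q := Spec.map_preimage _
  have hfin : φ.hom.Finite := (IsFinite.SpecMap_iff φ).mp (by rw [hφ]; infer_instance)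
  algebraize [φ.hom]
  have : Module.Finite Ω Γ(U, ⊤) := hfin
  let s : FibrePts f η → (Spec (CommRingCat.of Ω) ⟶ U) := fun ξ =>
    pullback.lift ξ.1 (𝟙 _) (by rw [ξ.2, Category.id_comp])
  let F : FibrePts f η → (Γ(U, ⊤) →ₐ[Ω] Ω) := fun ξ =>
    { (Spec.preimage (s ξ ≫ U.isoSpec.hom)).hom with
      commutes' := fun r => by
        have : φ ≫ Spec.preimage (s ξ ≫ U.isoSpec.hom) = 𝟙 _ := Spec.map_injective (by
          rw [Spec.map_comp, Spec.map_preimage, hφ, Category.assoc, Iso.hom_inv_id_assoc,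
            pullback.lift_snd, Spec.map_id])
        exact congrArg (fun k : CommRingCat.of Ω ⟶ CommRingCat.of Ω => k r) this }
  refine Finite.of_injective F fun ξ ξ' h => Subtype.ext ?_
  have h1 : Spec.preimage (s ξ ≫ U.isoSpec.hom) = Spec.preimage (s ξ' ≫ U.isoSpec.hom) :=
    CommRingCat.hom_ext (congrArg AlgHom.toRingHom h)
  have h2 : s ξ = s ξ' := by
    rw [← cancel_mono U.isoSpec.hom, ← Spec.map_preimage (s ξ ≫ U.isoSpec.hom), h1,
      Spec.map_preimage]
  simpa [s] using congrArg (fun t => t ≫ pullback.fst f η) h2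

variable {Ω : Type u} [Field Ω] [IsSepClosed Ω] (η : Spec (CommRingCat.of Ω) ⟶ Y)

/-- The point of a base change over a point of the fibre. -/
noncomputable def bcLift (ξ : FibrePts f η) (V : Y.Etale)
    (v : (Scheme.pointSmallEtale η).fiber.obj V) :
    (Scheme.pointSmallEtale ξ.1).fiber.obj ((EtCoh.bc f).obj V) :=
  let vl : Spec (CommRingCat.of Ω) ⟶ V.left := v.left
  Over.homMk (pullback.lift vl ξ.1 ((Over.w v).trans ξ.2.symm)) (pullback.lift_snd _ _ _)

/-- Refining étale neighbourhoods of all the points over `η`. -/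
theorem exists_split [IsAlgClosed Ω] [IsFinite f] (V : Y.Etale)
    (v : (Scheme.pointSmallEtale η).fiber.obj V) (W : FibrePts f η → X.Etale)
    (g : ∀ i, W i ⟶ (EtCoh.bc f).obj V) (w : ∀ i, (Scheme.pointSmallEtale i.1).fiber.obj (W i))
    (hw : ∀ i, (Scheme.pointSmallEtale i.1).fiber.map (g i) (w i) = bcLift f η i V v) :
    ∃ (V' : Y.Etale) (a : V' ⟶ V) (v' : (Scheme.pointSmallEtale η).fiber.obj V')
      (_ : (Scheme.pointSmallEtale η).fiber.map a v' = v)
      (D : FibrePts f η → ((EtCoh.bc f).obj V').left.Opens)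
      (_ : ∀ i j, i ≠ j → Disjoint (D i) (D j)) (_ : (⨆ i, D i) = ⊤)
      (h : ∀ i, etalePiece ((EtCoh.bc f).obj V') (D i) ⟶ W i)
      (d : ∀ i, (Scheme.pointSmallEtale i.1).fiber.obj (etalePiece ((EtCoh.bc f).obj V') (D i))),
      ∀ i, h i ≫ g i = etalePieceHom _ (D i) ≫ (EtCoh.bc f).map a ∧
        (Scheme.pointSmallEtale i.1).fiber.map (etalePieceHom _ (D i)) (d i) = bcLift f η i V' v' ∧
        (Scheme.pointSmallEtale i.1).fiber.map (h i) (d i) = w i := by
  have := finite_lifts_of_isFinite f η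
  let B := (EtCoh.bc f).obj V
  let vl : Spec (CommRingCat.of Ω) ⟶ V.left := v.left
  have hvl : vl ≫ V.hom = η := Over.w v
  let wl : ∀ i, Spec (CommRingCat.of Ω) ⟶ (W i).left := fun i => (w i).left
  let φ₀ : B.left ⟶ V.left := pullback.fst V.hom f
  have : Etale V.hom := V.prop
  have : Etale B.hom := B.prop
  have hg : ∀ i, (g i).left ≫ B.hom = (W i).hom := fun i => Over.w (g i).hom
  have hwg : ∀ i, wl i ≫ (g i).left = (bcLift f η i V v).left := fun i =>
    congrArg (fun t => t.left) (hw i)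
  have : ∀ i, Etale (g i).left := fun i => by
    have : Etale ((g i).left ≫ B.hom) := (hg i).symm ▸ (W i).prop
    exact Etale.of_comp (g i).left B.hom
  -- shrink to an affine piece of `V`
  obtain ⟨U, hU, hvU, -⟩ := exists_isAffineOpen_mem_and_subset (X := V.left)
    (x := vl default) (U := ⊤) trivial
  let V₁ : Y.Etale := Scheme.Etale.mk (U.ι ≫ V.hom)
  let a₁ : V₁ ⟶ V := MorphismProperty.Over.homMk U.ι rfl
  have : IsAffine V₁.left := hU
  let φ₁ : ((EtCoh.bc f).obj V₁).left ⟶ V₁.left := pullback.fst V₁.hom f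
  let π₁ : ((EtCoh.bc f).obj V₁).left ⟶ X := pullback.snd V₁.hom f
  let j₁ : ((EtCoh.bc f).obj V₁).left ⟶ B.left := ((EtCoh.bc f).map a₁).left
  have sq₁ : IsPullback j₁ φ₁ φ₀ U.ι := EtCoh.isPullback_bc_map f a₁
  have hj₁π : j₁ ≫ B.hom = π₁ := Over.w ((EtCoh.bc f).map a₁).hom
  have : IsFinite φ₁ := inferInstanceAs (IsFinite (pullback.fst V₁.hom f))
  have : IsAffine ((EtCoh.bc f).obj V₁).left := isAffine_of_isAffineHom φ₁
  let v₁ : Spec (CommRingCat.of Ω) ⟶ V₁.left := IsOpenImmersion.lift U.ι vl (by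
    rintro _ ⟨t, rfl⟩
    exact ⟨⟨vl default, hvU⟩, congrArg vl (Subsingleton.elim default t)⟩)
  have hv₁ : v₁ ≫ U.ι = vl := IsOpenImmersion.lift_fac _ _ _
  have hv₁η : v₁ ≫ V₁.hom = η := (Category.assoc _ _ _).symm.trans
    ((congrArg (fun t => t ≫ V.hom) hv₁).trans hvl)
  let z : FibrePts f η → (Spec (CommRingCat.of Ω) ⟶ ((EtCoh.bc f).obj V₁).left) := fun i =>
    pullback.lift v₁ i.1 (hv₁η.trans i.2.symm)
  have hzφ : ∀ i, z i ≫ φ₁ = v₁ := fun i => pullback.lift_fst _ _ _
  have hzπ : ∀ i, z i ≫ π₁ = i.1 := fun i => pullback.lift_snd _ _ _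
  have hzj : ∀ i, z i ≫ j₁ = wl i ≫ (g i).left := fun i => by
    rw [hwg i]
    refine pullback.hom_ext ?_ ?_
    · exact (Category.assoc _ _ _).trans ((congrArg (fun t => z i ≫ t) sq₁.w).trans
        ((Category.assoc _ _ _).symm.trans ((congrArg (fun t => t ≫ U.ι) (hzφ i)).trans
          (hv₁.trans (pullback.lift_fst _ _ _).symm))))
    · exact (Category.assoc _ _ _).trans ((congrArg (fun t => z i ≫ t) hj₁π).trans
        ((hzπ i).trans (pullback.lift_snd _ _ _).symm))
  -- affine pieces of the neighbourhoods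
  let w₁ : ∀ i, Spec (CommRingCat.of Ω) ⟶ pullback (g i).left j₁ := fun i =>
    pullback.lift (wl i) (z i) (hzj i).symm
  have hO := fun i => exists_isAffineOpen_mem_and_subset (X := pullback (g i).left j₁)
    (x := w₁ i default) (U := ⊤) trivial
  choose O hO hwO _ using hO
  have : ∀ i, IsAffine (O i).toScheme := hO
  let w₂ : ∀ i, Spec (CommRingCat.of Ω) ⟶ (O i).toScheme := fun i =>
    IsOpenImmersion.lift (O i).ι (w₁ i) (by
      rw [Scheme.Opens.range_ι]
      rintro _ ⟨t, rfl⟩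
      rw [Subsingleton.elim t default]
      exact hwO i)
  have hw₂ : ∀ i, w₂ i ≫ (O i).ι = w₁ i := fun i => IsOpenImmersion.lift_fac _ _ _
  obtain ⟨A', p, _, v₂, hv₂, P, r, l, sq, D, hdis, hcov, h, x, hx⟩ :=
    exists_affine_split φ₁ v₁ z hzφ
      (fun i j hij => Subtype.ext (((hzπ i).symm.trans (congrArg (fun t => t ≫ π₁) hij)).trans (hzπ j)))
      (fun t ht => ⟨⟨t ≫ π₁, by
          rw [Category.assoc, show π₁ ≫ f = φ₁ ≫ V₁.hom from pullback.condition.symm,
            ← Category.assoc, ht]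
          exact hv₁η⟩,
        pullback.hom_ext ((hzφ _).trans ht.symm) (hzπ _)⟩)
      (fun i => (O i).toScheme) (fun i => (O i).ι ≫ pullback.snd (g i).left j₁) w₂
      (fun i => by rw [reassoc_of% hw₂ i]; exact pullback.lift_snd _ _ _)
  let V₂ : Y.Etale := Scheme.Etale.mk (p ≫ V₁.hom)
  let a₂ : V₂ ⟶ V₁ := MorphismProperty.Over.homMk p rfl
  let B₂ := (EtCoh.bc f).obj V₂
  have sq₂ : IsPullback ((EtCoh.bc f).map a₂).left
      (pullback.fst V₂.hom f : B₂.left ⟶ V₂.left) φ₁ p := EtCoh.isPullback_bc_map f a₂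
  let e : B₂.left ≅ P := sq₂.isoIsPullback _ _ sq
  have he : e.hom ≫ r = ((EtCoh.bc f).map a₂).left := sq₂.isoIsPullback_hom_fst _ _ sq
  have he' : e.hom ≫ l = (pullback.fst V₂.hom f : B₂.left ⟶ V₂.left) :=
    sq₂.isoIsPullback_hom_snd _ _ sq
  let D' : FibrePts f η → B₂.left.Opens := fun i => e.hom ⁻¹ᵁ D i
  let hl : ∀ i, (D' i).toScheme ⟶ (W i).left := fun i =>
    (e.hom ∣_ D i) ≫ h i ≫ (O i).ι ≫ pullback.fst (g i).left j₁
  have hlg : ∀ i, hl i ≫ (g i).left = (D' i).ι ≫ ((EtCoh.bc f).map (a₂ ≫ a₁)).left := fun i => by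
    simp only [hl, Category.assoc, pullback.condition, reassoc_of% (hx i).1]
    rw [Functor.map_comp, morphismRestrict_ι_assoc, reassoc_of% he]
    rfl
  have ha : ((EtCoh.bc f).map (a₂ ≫ a₁)).left ≫ B.hom = B₂.hom :=
    Over.w ((EtCoh.bc f).map (a₂ ≫ a₁)).hom
  let h' : ∀ i, etalePiece B₂ (D' i) ⟶ W i := fun i => MorphismProperty.Over.homMk (hl i)
    ((congrArg (fun k => hl i ≫ k) (hg i).symm).trans ((Category.assoc _ _ _).symm.trans
      ((congrArg (fun k => k ≫ B.hom) (hlg i)).trans ((Category.assoc _ _ _).trans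
        (congrArg (fun k => (D' i).ι ≫ k) ha)))))
  have hv₂η : v₂ ≫ V₂.hom = η := (Category.assoc _ _ _).symm.trans
    ((congrArg (fun t => t ≫ V₁.hom) hv₂).trans hv₁η)
  let v' : (Scheme.pointSmallEtale η).fiber.obj V₂ := Over.homMk v₂ hv₂η
  let dl : ∀ i, Spec (CommRingCat.of Ω) ⟶ (D' i).toScheme := fun i => x i ≫ inv (e.hom ∣_ D i)
  have hdl : ∀ i, dl i ≫ hl i = wl i := fun i => by
    simp only [dl, hl, Category.assoc, IsIso.inv_hom_id_assoc, reassoc_of% (hx i).2.2,
      reassoc_of% hw₂ i]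
    exact pullback.lift_fst _ _ _
  have hdι : ∀ i, dl i ≫ (D' i).ι = (bcLift f η i V₂ v').left := fun i => by
    have h0 : dl i ≫ (D' i).ι ≫ e.hom = x i ≫ (D i).ι := by
      simp only [dl, D', Category.assoc, ← morphismRestrict_ι, IsIso.inv_hom_id_assoc]
    have h1 : x i ≫ (D i).ι ≫ r = z i := by
      rw [← (hx i).1, reassoc_of% (hx i).2.2, reassoc_of% hw₂ i]
      exact pullback.lift_snd _ _ _
    have hfst : (bcLift f η i V₂ v').left ≫ (pullback.fst V₂.hom f : B₂.left ⟶ V₂.left) = v₂ :=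
      pullback.lift_fst _ _ _
    have hsnd : (bcLift f η i V₂ v').left ≫ B₂.hom = i.1 := pullback.lift_snd _ _ _
    refine pullback.hom_ext ?_ ?_
    · refine Eq.trans ?_ hfst.symm
      rw [← he', Category.assoc, reassoc_of% h0, (hx i).2.1]
    · refine Eq.trans ?_ hsnd.symm
      change (dl i ≫ (D' i).ι) ≫ B₂.hom = i.1
      rw [← ha, Functor.map_comp]
      change (dl i ≫ (D' i).ι) ≫ (((EtCoh.bc f).map a₂).left ≫ j₁) ≫ B.hom = i.1
      rw [← he]
      simp only [Category.assoc]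
      rw [reassoc_of% h0, hj₁π, reassoc_of% h1, hzπ]
  refine ⟨V₂, a₂ ≫ a₁, v', ?_, D', fun i j hij => ?_, ?_, h',
    fun i => Over.homMk (dl i) ?_, fun i => ⟨?_, ?_, ?_⟩⟩
  · refine Over.OverMorphism.ext ?_
    change v₂ ≫ p ≫ U.ι = vl
    rw [reassoc_of% hv₂, hv₁]
  · rw [disjoint_iff, ← Scheme.Hom.preimage_inf, disjoint_iff.mp (hdis i j hij), Scheme.Hom.preimage_bot]
  · rw [← Scheme.Hom.preimage_iSup, hcov, Scheme.Hom.preimage_top]
  · exact (Category.assoc _ _ _).symm.trans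
      ((congrArg (fun t => t ≫ B₂.hom) (hdι i)).trans (pullback.lift_snd _ _ _))
  · exact (Scheme.Etale.forget X).map_injective (Over.OverMorphism.ext (hlg i))
  · exact Over.OverMorphism.ext (hdι i)
  · exact Over.OverMorphism.ext (hdl i)

end Groth.Agent.Et18
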