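import Groth.Agent.Et18.FiniteFibreSplit
import Mathlib.AlgebraicGeometry.Morphisms.Integral
import Mathlib.AlgebraicGeometry.Morphisms.Etale

/-!
# Splitting an affine integral scheme along a finite geometric fibre
-/

universe u

open CategoryTheory CategoryTheory.Limits AlgebraicGeometry Opposite TensorProduct

set_option backward.isDefEq.respectTransparency.types false
set_option backward.isDefEq.respectTransparency false

namespace Groth.Agent.Et18

/-- Near a geometric point with finitely many lifts, an integral scheme is a disjoint union of one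
piece per lift, each mapping to a given étale neighbourhood of the lift. -/
theorem exists_affine_split {A Z : Scheme.{u}} [IsAffine A] [IsAffine Z] (φ : Z ⟶ A)
    [IsIntegralHom φ] {Ω : Type u} [Field Ω] [IsAlgClosed Ω]
    (η : Spec (CommRingCat.of Ω) ⟶ A) {I : Type*} [Finite I]
    (z : I → (Spec (CommRingCat.of Ω) ⟶ Z)) (hz : ∀ i, z i ≫ φ = η) (hzi : Function.Injective z)
    (hzs : ∀ t, t ≫ φ = η → ∃ i, z i = t)
    (O : I → Scheme.{u}) [∀ i, IsAffine (O i)] (q : ∀ i, O i ⟶ Z) [∀ i, Etale (q i)]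
    (w : ∀ i, Spec (CommRingCat.of Ω) ⟶ O i) (hw : ∀ i, w i ≫ q i = z i) :
    ∃ (V' : Scheme.{u}) (p : V' ⟶ A) (_ : Etale p) (v' : Spec (CommRingCat.of Ω) ⟶ V')
      (_ : v' ≫ p = η) (P : Scheme.{u}) (r : P ⟶ Z) (l : P ⟶ V') (_ : IsPullback r l φ p)
      (D : I → P.Opens) (_ : ∀ i j, i ≠ j → Disjoint (D i) (D j)) (_ : (⨆ i, D i) = ⊤)
      (h : ∀ i, (D i).toScheme ⟶ O i) (x : ∀ i, Spec (CommRingCat.of Ω) ⟶ (D i).toScheme),
      ∀ i, h i ≫ q i = (D i).ι ≫ r ∧ x i ≫ (D i).ι ≫ l = v' ∧ x i ≫ h i = w i := by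
  classical
  have : Fintype I := Fintype.ofFinite I
  let R : Type u := Γ(A, ⊤)
  let S : Type u := Γ(Z, ⊤)
  let C : I → Type u := fun i => Γ(O i, ⊤)
  algebraize [φ.appTop.hom]
  letI : ∀ i, Algebra S (C i) := fun i => (q i).appTop.hom.toAlgebra
  let η₀ : CommRingCat.of R ⟶ CommRingCat.of Ω := Spec.preimage (η ≫ A.isoSpec.hom)
  algebraize [η₀.hom]
  let ζ : I → (CommRingCat.of S ⟶ CommRingCat.of Ω) := fun i => Spec.preimage (z i ≫ Z.isoSpec.hom)
  let ω : ∀ i, CommRingCat.of (C i) ⟶ CommRingCat.of Ω := fun i =>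
    Spec.preimage (w i ≫ (O i).isoSpec.hom)
  have hζη : ∀ i, φ.appTop ≫ ζ i = η₀ := fun i => Spec.map_injective (by
    rw [Spec.map_comp, Spec.map_preimage, Spec.map_preimage, Category.assoc,
      Scheme.isoSpec_hom_naturality, reassoc_of% hz i])
  have hωζ : ∀ i, (q i).appTop ≫ ω i = ζ i := fun i => Spec.map_injective (by
    rw [Spec.map_comp, Spec.map_preimage, Spec.map_preimage, Category.assoc,
      Scheme.isoSpec_hom_naturality, reassoc_of% hw i])
  have : Algebra.IsIntegral R S := ⟨(IsIntegralHom.SpecMap_iff (φ := φ.appTop)).mp (by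
    rw [show Spec.map φ.appTop = Z.isoSpec.inv ≫ φ ≫ A.isoSpec.hom by
      rw [← Scheme.isoSpec_inv_naturality_assoc, Iso.inv_hom_id, Category.comp_id]]
    infer_instance)⟩
  have : ∀ i, Algebra.Etale S (C i) := fun i => by
    have : Etale (Spec.map (q i).appTop) := by
      rw [show Spec.map (q i).appTop = (O i).isoSpec.inv ≫ q i ≫ Z.isoSpec.hom by
        rw [← Scheme.isoSpec_inv_naturality_assoc, Iso.inv_hom_id, Category.comp_id]]
      infer_instance
    exact (HasRingHomProperty.Spec_iff (P := @Etale)).mp this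
  let ξ : I → (S →ₐ[R] Ω) := fun i =>
    { (ζ i).hom with commutes' := fun a => congrArg (fun t => t.hom a) (hζη i) }
  have hξ : Function.Bijective ξ := by
    refine ⟨fun i j hij => hzi ?_, fun t => ?_⟩
    · have h1 : ζ i = ζ j := CommRingCat.hom_ext (congrArg AlgHom.toRingHom hij)
      rw [← cancel_mono Z.isoSpec.hom, ← Spec.map_preimage (z i ≫ Z.isoSpec.hom),
        ← Spec.map_preimage (z j ≫ Z.isoSpec.hom)]
      exact congrArg Spec.map h1
    · obtain ⟨i, hi⟩ := hzs (Spec.map (CommRingCat.ofHom t.toRingHom) ≫ Z.isoSpec.inv) (by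
        rw [Category.assoc, ← Scheme.isoSpec_inv_naturality, ← Category.assoc, ← Spec.map_comp,
          show φ.appTop ≫ CommRingCat.ofHom t.toRingHom = η₀ from
            CommRingCat.hom_ext t.comp_algebraMap,
          Spec.map_preimage, Category.assoc, Iso.hom_inv_id, Category.comp_id])
      refine ⟨i, AlgHom.coe_ringHom_injective ?_⟩
      exact congrArg CommRingCat.Hom.hom (Spec.map_injective (show Spec.map (ζ i) =
        Spec.map (CommRingCat.ofHom t.toRingHom) by
          rw [Spec.map_preimage, hi, Category.assoc, Iso.inv_hom_id, Category.comp_id]))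
  obtain ⟨N, E, hu, g, hE, hg, hgw⟩ := SHensel.exists_split_of_finite ξ hξ C (fun i => (ω i).hom)
    fun i => congrArg CommRingCat.Hom.hom (hωζ i)
  let a : CommRingCat.of R ⟶ CommRingCat.of N.A := CommRingCat.ofHom (algebraMap R N.A)
  have : Etale (Spec.map a) := by
    rw [HasRingHomProperty.Spec_iff (P := @Etale)]
    exact RingHom.etale_algebraMap.mpr inferInstance
  let il : CommRingCat.of N.A ⟶ CommRingCat.of (N.A ⊗[R] S) :=
    CommRingCat.ofHom Algebra.TensorProduct.includeLeftRingHom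
  let ir : CommRingCat.of S ⟶ CommRingCat.of (N.A ⊗[R] S) :=
    CommRingCat.ofHom (Algebra.TensorProduct.includeRight : S →ₐ[R] N.A ⊗[R] S).toRingHom
  have sqS : IsPullback (Spec.map ir) (Spec.map il) (Spec.map φ.appTop) (Spec.map a) :=
    isPullback_SpecMap_of_isPushout _ _ _ _ (CommRingCat.isPushout_tensorProduct R N.A S).flip
  let m : ∀ i, CommRingCat.of (N.A ⊗[R] S) ⟶ CommRingCat.of (Localization.Away (E i)) := fun i =>
    CommRingCat.ofHom (algebraMap (N.A ⊗[R] S) (Localization.Away (E i)))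
  haveI : ∀ i, IsOpenImmersion (Spec.map (m i)) := fun i => inferInstance
  let D : I → (Spec (CommRingCat.of (N.A ⊗[R] S))).Opens := fun i => (Spec.map (m i)).opensRange
  have hD : ∀ i, D i = PrimeSpectrum.basicOpen (E i) := fun i => TopologicalSpace.Opens.ext
    (PrimeSpectrum.localization_away_comap_range (Localization.Away (E i)) (E i))
  refine ⟨_, Spec.map a ≫ A.isoSpec.inv, inferInstance, Spec.map (CommRingCat.ofHom N.pt.toRingHom),
    ?_, _, Spec.map ir ≫ Z.isoSpec.inv, Spec.map il,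
    sqS.paste_horiz (IsPullback.of_horiz_isIso ⟨(Scheme.isoSpec_inv_naturality φ).symm⟩), D,
    fun i j hij => ?_, ?_,
    fun i => (Spec.map (m i)).isoOpensRange.inv ≫ Spec.map (CommRingCat.ofHom (g i)) ≫
      (O i).isoSpec.inv,
    fun i => Spec.map (CommRingCat.ofHom (IsLocalization.Away.lift (E i) (hu i))) ≫
      (Spec.map (m i)).isoOpensRange.hom, fun i => ⟨?_, ?_, ?_⟩⟩
  · rw [← Category.assoc, ← Spec.map_comp,
      show a ≫ CommRingCat.ofHom N.pt.toRingHom = η₀ from CommRingCat.hom_ext N.pt.comp_algebraMap,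
      Spec.map_preimage, Category.assoc, Iso.hom_inv_id, Category.comp_id]
  · rw [hD, hD, disjoint_iff]
    refine (PrimeSpectrum.basicOpen_mul _ _).symm.trans ?_
    rw [hE.ortho hij, PrimeSpectrum.basicOpen_zero]
  · rw [show D = fun i => PrimeSpectrum.basicOpen (E i) from funext hD]
    refine PrimeSpectrum.iSup_basicOpen_eq_top_iff.mpr ?_
    rw [Ideal.eq_top_iff_one, ← hE.complete]
    exact Ideal.sum_mem _ fun i _ => Ideal.subset_span ⟨i, rfl⟩
  · rw [← cancel_epi (Spec.map (m i)).isoOpensRange.hom]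
    simp only [D, Category.assoc, Iso.hom_inv_id_assoc, ← Scheme.isoSpec_inv_naturality,
      Scheme.Hom.isoOpensRange_hom_ι_assoc]
    rw [← Spec.map_comp_assoc, ← Spec.map_comp_assoc]
    congr 2
    exact CommRingCat.hom_ext (hg i)
  · simp only [D, Category.assoc, Scheme.Hom.isoOpensRange_hom_ι_assoc]
    rw [← Spec.map_comp, ← Spec.map_comp]
    congr 1
    refine CommRingCat.hom_ext (RingHom.ext fun b => ?_)
    refine (IsLocalization.Away.lift_eq (E i) (hu i) _).trans ?_
    change N.eval (ξ i) (b ⊗ₜ[R] (1 : S)) = N.pt b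
    rw [SHensel.Nbhd.eval_tmul, map_one, mul_one]
  · simp only [Category.assoc, Iso.hom_inv_id_assoc]
    rw [← Spec.map_comp_assoc,
      show CommRingCat.ofHom (g i) ≫ CommRingCat.ofHom (IsLocalization.Away.lift (E i) (hu i)) = ω i
        from CommRingCat.hom_ext (hgw i),
      Spec.map_preimage, Category.assoc, Iso.hom_inv_id, Category.comp_id]

end Groth.Agent.Et18
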