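import Groth.Agent.Et18.FiniteFibreStalk
import Groth.Agent.Et18.IntegralPush

/-!
# Consequences of the stalk formula for finite morphisms
-/

universe u

open CategoryTheory CategoryTheory.Limits AlgebraicGeometry Opposite

set_option backward.isDefEq.respectTransparency.types false
set_option backward.isDefEq.respectTransparency false

namespace Groth.Agent.Et18

variable {X Y : Scheme.{u}} (f : X ⟶ Y) [IsFinite f]

/-- Direct image along a finite morphism reflects isomorphisms. -/
theorem push_reflectsIsomorphisms_of_isFinite : (EtCoh.push f).ReflectsIsomorphisms where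
  reflects {F G} a _ := by
    classical
    refine isIso_of_stalks_family (ι := ULift.{u + 1} X) (fun x => algPoint X x.down)
      (fun x => ⟨⟨x⟩, algPoint_default X x⟩) a fun x => ?_
    let ξ : FibrePts f (algPoint X x.down ≫ f) := ⟨algPoint X x.down, rfl⟩
    let N := fun i => fibreNat f (algPoint X x.down ≫ f) AddCommGrpCat.{u + 1} i
    have hF := fibreNat_bijective f (algPoint X x.down ≫ f) AddCommGrpCat.{u + 1} F
    have hG := fibreNat_bijective f (algPoint X x.down ≫ f) AddCommGrpCat.{u + 1} G
    let m := fun i : FibrePts f (algPoint X x.down ≫ f) => (EtCoh.stalk i.1).map a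
    have hm : Function.Bijective (fun (q : ∀ i : FibrePts f (algPoint X x.down ≫ f),
        ToType ((EtCoh.stalk i.1).obj F)) i => m i (q i)) := by
      refine (Function.Bijective.of_comp_iff _ hF).mp ?_
      have hb : Function.Bijective ((EtCoh.stalk (algPoint X x.down ≫ f)).map ((EtCoh.push f).map a)) :=
        (ConcreteCategory.isIso_iff_bijective _).mp inferInstance
      convert hG.comp hb using 1
      funext p i
      exact ((ConcreteCategory.comp_apply _ _ p).symm.trans
        (ConcreteCategory.congr_hom ((N i).naturality a) p).symm).trans
          (ConcreteCategory.comp_apply _ _ p)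
    refine (ConcreteCategory.isIso_iff_bijective _).mpr ⟨fun p q h => ?_, fun r => ?_⟩
    · have := hm.1 (a₁ := Function.update (fun i => 0) ξ p) (a₂ := Function.update (fun i => 0) ξ q)
        (funext fun i => by
          by_cases hi : i = ξ
          · subst hi; simpa using h
          · simp [hi])
      simpa using congrFun this ξ
    · obtain ⟨q, hq⟩ := hm.2 (Function.update (fun i => 0) ξ r)
      exact ⟨q ξ, by simpa using congrFun hq ξ⟩

end Groth.Agent.Et18
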