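import Groth.Agent.Et18.StrictHenselCover

/-!
# Splitting along a finite geometric fibre

If a geometric point has finitely many lifts to an integral algebra, then near it the algebra is
the product of one piece per lift, and on each piece any étale neighbourhood of the lift has a
section.
-/

universe u

open TensorProduct

namespace Groth.Agent.Et18.SHensel

variable {R Ω : Type u} [CommRing R] [Field Ω] [Algebra R Ω] {S : Type u} [CommRing S] [Algebra R S]
  [IsAlgClosed Ω] [Algebra.IsIntegral R S]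

lemma isUnit_algebraMap_of_dvd {B : Type*} [CommRing B] {x e : B} (h : x ∣ e) :
    IsUnit (algebraMap B (Localization.Away e) x) := by
  obtain ⟨c, hc⟩ := h
  have hu := IsLocalization.Away.algebraMap_isUnit (S := Localization.Away e) e
  conv at hu => arg 1; arg 2; rw [hc]
  rw [map_mul] at hu
  exact isUnit_of_mul_isUnit_left hu

/-- One clopen piece per lift, with sections of the given étale neighbourhoods of the lifts. -/
theorem exists_split_of_finite {ι : Type*} [Fintype ι] [DecidableEq ι] (ξ : ι → (S →ₐ[R] Ω))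
    (hξ : Function.Bijective ξ) (C : ι → Type u) [∀ i, CommRing (C i)] [∀ i, Algebra S (C i)]
    [∀ i, Algebra.Etale S (C i)] (w : ∀ i, C i →+* Ω)
    (hw : ∀ i, (w i).comp (algebraMap S (C i)) = (ξ i).toRingHom) :
    ∃ (N : Nbhd R Ω) (E : ι → N.A ⊗[R] S) (hu : ∀ i, IsUnit ((N.eval (ξ i)).toRingHom (E i)))
      (g : ∀ i, C i →+* Localization.Away (E i)),
      CompleteOrthogonalIdempotents E ∧
      (∀ i, (g i).comp (algebraMap S (C i)) =
        (algebraMap (N.A ⊗[R] S) (Localization.Away (E i))).comp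
          (Algebra.TensorProduct.includeRight : S →ₐ[R] N.A ⊗[R] S).toRingHom) ∧
      ∀ i, (IsLocalization.Away.lift (E i) (hu i)).comp (g i) = w i := by
  have hex := fun i => exists_idempotent_section (ξ i) (C i) (w i) (hw i)
  choose M e he he1 g hg hgw using hex
  have hsep := fun i => exists_separate_finset (Finset.univ.erase i) ξ (ξ i)
    fun j hj h => (Finset.mem_erase.mp hj).1 (hξ.1 h)
  choose M' s hs hs1 hs0 using hsep
  obtain ⟨L, ⟨φ⟩⟩ := exists_common (Fintype.card ι)
    fun k => (M ((Fintype.equivFin ι).symm k)).prod (M' ((Fintype.equivFin ι).symm k))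
  have φ' : ∀ i, ((M i).prod (M' i)).Hom L := fun i => by
    have := φ (Fintype.equivFin ι i)
    rwa [Equiv.symm_apply_apply] at this
  let α : ∀ i, (M i).Hom L := fun i => ((M i).prodLeft (M' i)).trans (φ' i)
  let β : ∀ i, (M' i).Hom L := fun i => ((M i).prodRight (M' i)).trans (φ' i)
  let d : ι → L.A ⊗[R] S := fun i => (α i).bc (e i) * (β i).bc (s i)
  have hd : ∀ i, IsIdempotentElem (d i) := fun i =>
    ((he i).map (α i).bc).mul ((hs i).map (β i).bc)
  have hd1 : ∀ i, L.eval (ξ i) (d i) = 1 := fun i => by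
    simp [d, Nbhd.Hom.eval_bc, he1, hs1]
  have hd0 : ∀ i j, j ≠ i → L.eval (ξ j) (d i) = 0 := fun i j h => by
    simp [d, Nbhd.Hom.eval_bc, hs0 i j (Finset.mem_erase.mpr ⟨h, Finset.mem_univ j⟩)]
  let D : ι → L.A ⊗[R] S := fun i => d i * ∏ j ∈ Finset.univ.erase i, (1 - d j)
  have hD : OrthogonalIdempotents D := by
    refine ⟨fun i => (hd i).mul (Finset.prod_induction _ IsIdempotentElem
      (fun a b ha hb => ha.mul hb) .one fun j _ => (hd j).one_sub), fun i j hij => ?_⟩
    change D i * D j = 0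
    simp only [D]
    rw [← Finset.mul_prod_erase (Finset.univ.erase j) (fun l => 1 - d l)
        (Finset.mem_erase.mpr ⟨hij, Finset.mem_univ i⟩)]
    have : d i * (1 - d i) = 0 := by rw [mul_sub, mul_one, (hd i).eq, sub_self]
    linear_combination ((∏ l ∈ Finset.univ.erase i, (1 - d l)) * d j *
      (∏ l ∈ (Finset.univ.erase j).erase i, (1 - d l))) * this
  have hD1 : ∀ i, L.eval (ξ i) (D i) = 1 := fun i => by
    simp only [D, map_mul, map_prod, map_sub, map_one, hd1, one_mul]
    refine Finset.prod_eq_one fun j hj => ?_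
    rw [hd0 j i (Finset.mem_erase.mp hj).1.symm, sub_zero]
  have hD0 : ∀ i j, j ≠ i → L.eval (ξ j) (D i) = 0 := fun i j h => by
    simp only [D, map_mul, hd0 i j h, zero_mul]
  obtain ⟨L', χ, hu⟩ := exists_hom_isUnit L (∑ i, D i) fun ζ => by
    obtain ⟨j, rfl⟩ := hξ.2 ζ
    rw [map_sum, Finset.sum_eq_single j (fun i _ hi => hD0 i j (Ne.symm hi))
      (fun h => absurd (Finset.mem_univ j) h), hD1]
    exact one_ne_zero
  have hsum : χ.bc (∑ i, D i) = 1 :=
    (IsIdempotentElem.iff_eq_one_of_isUnit hu).mp (hD.isIdempotentElem_sum.map χ.bc)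
  let E : ι → L'.A ⊗[R] S := fun i => χ.bc (D i)
  have hE : CompleteOrthogonalIdempotents E :=
    ⟨hD.map χ.bc.toRingHom, by rw [← map_sum, hsum]⟩
  let ψ : ∀ i, (M i).Hom L' := fun i => (α i).trans χ
  have hdvd : ∀ i, (ψ i).bc (e i) ∣ E i := fun i => by
    rw [Nbhd.Hom.trans_bc]
    exact map_dvd χ.bc (Dvd.intro _ (mul_assoc _ _ _).symm)
  let res : ∀ i, Localization.Away (e i) →+* Localization.Away (E i) := fun i =>
    IsLocalization.Away.lift (e i)
      (g := (algebraMap (L'.A ⊗[R] S) (Localization.Away (E i))).comp (ψ i).bc.toRingHom)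
      (isUnit_algebraMap_of_dvd (hdvd i))
  have hres : ∀ i, (res i).comp (algebraMap _ _) =
      (algebraMap (L'.A ⊗[R] S) (Localization.Away (E i))).comp (ψ i).bc.toRingHom := fun i =>
    IsLocalization.Away.lift_comp (e i) _
  have hu' : ∀ i, IsUnit ((L'.eval (ξ i)).toRingHom (E i)) := fun i => by
    change IsUnit (L'.eval (ξ i) (χ.bc (D i)))
    rw [Nbhd.Hom.eval_bc, hD1]
    exact isUnit_one
  refine ⟨L', E, hu', fun i => (res i).comp (g i), hE, fun i => ?_, fun i => ?_⟩
  · rw [RingHom.comp_assoc, hg, ← RingHom.comp_assoc, hres, RingHom.comp_assoc]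
    congr 1
    ext x
    simp [Nbhd.Hom.bc]
  · rw [← RingHom.comp_assoc]
    refine Eq.trans ?_ (hgw i)
    congr 1
    apply IsLocalization.ringHom_ext (Submonoid.powers (e i))
    rw [RingHom.comp_assoc, hres, ← RingHom.comp_assoc, IsLocalization.Away.lift_comp,
      IsLocalization.Away.lift_comp]
    exact RingHom.ext fun a => (ψ i).eval_bc (ξ i) a

end Groth.Agent.Et18.SHensel
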