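import Groth.Agent.Et18.FiniteFibre
import Groth.Agent.Et18.PointComap
import Groth.Agent.Et18.Stalk

/-!
# Stalks of direct images along finite morphisms
-/

universe u w' v' u'

open CategoryTheory CategoryTheory.Limits AlgebraicGeometry Opposite

set_option backward.isDefEq.respectTransparency.types false
set_option backward.isDefEq.respectTransparency false

namespace Groth.Agent.Et18

variable {X Y : Scheme.{u}} (f : X ⟶ Y) {Ω : Type u} [Field Ω] [IsSepClosed Ω]
  (η : Spec (CommRingCat.of Ω) ⟶ Y)

/-- Points of a base change over a point of the fibre are points of the neighbourhood. -/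
noncomputable def bcLiftEquiv (ξ : FibrePts f η) (V : Y.Etale) :
    (Scheme.pointSmallEtale η).fiber.obj V ≃
      (Scheme.pointSmallEtale ξ.1).fiber.obj ((EtCoh.bc f).obj V) where
  toFun := bcLift f η ξ V
  invFun x :=
    let xl : Spec (CommRingCat.of Ω) ⟶ pullback V.hom f := x.left
    Over.homMk (xl ≫ pullback.fst V.hom f) (by
      refine (Category.assoc _ _ _).trans ?_
      refine (congrArg (fun t => xl ≫ t) pullback.condition).trans ?_
      refine (Category.assoc _ _ _).symm.trans ?_
      exact (congrArg (fun t => t ≫ f) (Over.w x)).trans ξ.2)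
  left_inv v := Over.OverMorphism.ext (pullback.lift_fst _ _ _)
  right_inv x := Over.OverMorphism.ext (pullback.hom_ext (pullback.lift_fst _ _ _)
    ((pullback.lift_snd _ _ _).trans (Over.w x).symm))

/-- The comparison of fibre functors. -/
noncomputable def fibreFiberHom (ξ : FibrePts f η) :
    (Scheme.pointSmallEtale η).fiber ⟶ EtCoh.bc f ⋙ (Scheme.pointSmallEtale ξ.1).fiber where
  app V := ↾(bcLift f η ξ V)
  naturality V V' a := by
    ext v
    refine Over.OverMorphism.ext (pullback.hom_ext ?_ ?_)
    · refine (pullback.lift_fst _ _ _).trans ?_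
      refine Eq.symm ((Category.assoc _ _ _).trans ?_)
      refine (congrArg (fun t => (bcLift f η ξ V v).left ≫ t) (EtCoh.isPullback_bc_map f a).w).trans ?_
      exact (Category.assoc _ _ _).symm.trans
        (congrArg (fun t => t ≫ a.left) (pullback.lift_fst _ _ _))
    · refine (pullback.lift_snd _ _ _).trans ?_
      exact (Over.w ((Scheme.pointSmallEtale ξ.1).fiber.map ((EtCoh.bc f).map a)
        (bcLift f η ξ V v))).symm

/-- The comap point is the point `η`. -/
noncomputable def fibrePointHom (ξ : FibrePts f η) :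
    (Scheme.pointSmallEtale ξ.1).comap (EtCoh.bc f) (EtCoh.coverPreserving_bc f) ⟶
      Scheme.pointSmallEtale η :=
  ⟨fibreFiberHom f η ξ⟩

variable (A : Type u') [Category.{v'} A] [HasProducts.{u} A] [HasColimitsOfSize.{u, u} A]
  [(EtCoh.bc f).IsContinuous Y.smallEtaleTopology X.smallEtaleTopology]
  [((EtCoh.bc f).sheafPushforwardContinuous A Y.smallEtaleTopology
    X.smallEtaleTopology).IsRightAdjoint]

/-- The map from the stalk of a direct image to the stalk at a point of the fibre. -/
noncomputable def fibreNat (ξ : FibrePts f η) :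
    (EtCoh.bc f).sheafPushforwardContinuous A Y.smallEtaleTopology X.smallEtaleTopology ⋙
        (Scheme.pointSmallEtale η).sheafFiber ⟶
      (Scheme.pointSmallEtale ξ.1).sheafFiber where
  app G := ((fibrePointHom f η ξ).sheafFiber (A := A)).app _ ≫
    pushFiberMap (Scheme.pointSmallEtale ξ.1) (EtCoh.bc f) (EtCoh.coverPreserving_bc f) A G
  naturality G G' a := by
    simp only [Functor.comp_map, pushFiberMap, NatTrans.naturality_assoc, Category.assoc,
      Functor.id_map]
    congr 2
    rw [← Functor.map_comp]
    refine Eq.trans ?_ (((Scheme.pointSmallEtale ξ.1).sheafFiber (A := A)).map_comp _ _)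
    exact congrArg _ (((EtCoh.bc f).sheafAdjunctionContinuous A Y.smallEtaleTopology
      X.smallEtaleTopology).counit.naturality a)

lemma toPresheafFiber_fibreNat (ξ : FibrePts f η) (G : Sheaf X.smallEtaleTopology A) (V : Y.Etale)
    (v : (Scheme.pointSmallEtale η).fiber.obj V) :
    (Scheme.pointSmallEtale η).toPresheafFiber V v
        (((EtCoh.bc f).sheafPushforwardContinuous A Y.smallEtaleTopology
          X.smallEtaleTopology).obj G).obj ≫ (fibreNat f η A ξ).app G =
      (Scheme.pointSmallEtale ξ.1).toPresheafFiber ((EtCoh.bc f).obj V) (bcLift f η ξ V v) G.obj := by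
  refine (Category.assoc _ _ _).symm.trans (Eq.trans ?_ (toPresheafFiber_pushFiberMap
    (Scheme.pointSmallEtale ξ.1) (EtCoh.bc f) (EtCoh.coverPreserving_bc f) A G V _))
  congr 1
  exact (colimit.ι_desc _ _).trans rfl

variable {FA : A → A → Type*} {CA : A → Type w'} [∀ X Y, FunLike (FA X Y) (CA X) (CA Y)]
  [ConcreteCategory A FA] [PreservesFilteredColimitsOfSize.{u, u} (forget A)]
  [X.smallEtaleTopology.HasSheafCompose (forget A)]

/-- The stalk of a direct image along a finite morphism is the product of the stalks over it. -/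
theorem fibreNat_bijective [IsAlgClosed Ω] [IsFinite f] (G : Sheaf X.smallEtaleTopology A) :
    Function.Bijective fun (p : ToType ((Scheme.pointSmallEtale η).sheafFiber.obj
      (((EtCoh.bc f).sheafPushforwardContinuous A Y.smallEtaleTopology
        X.smallEtaleTopology).obj G))) (ξ : FibrePts f η) => (fibreNat f η A ξ).app G p := by
  let Φ := Scheme.pointSmallEtale η
  let P := (((EtCoh.bc f).sheafPushforwardContinuous A Y.smallEtaleTopology
        X.smallEtaleTopology).obj G)
  have hG : Presieve.IsSheaf X.smallEtaleTopology (G.obj ⋙ forget A) :=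
    (isSheaf_iff_isSheaf_of_type _ _).mp ((sheafCompose X.smallEtaleTopology (forget A)).obj G).property
  have key : ∀ (ξ : FibrePts f η) (V : Y.Etale) (v : Φ.fiber.obj V)
      (s : ToType (((sheafToPresheaf Y.smallEtaleTopology A).obj P).obj (op V))),
      (fibreNat f η A ξ).app G (Φ.toPresheafFiber V v
        ((sheafToPresheaf Y.smallEtaleTopology A).obj P) s : ToType (Φ.sheafFiber.obj P)) =
      (Scheme.pointSmallEtale ξ.1).toPresheafFiber ((EtCoh.bc f).obj V) (bcLift f η ξ V v) G.obj s :=
    fun ξ V v s => (ConcreteCategory.comp_apply _ _ s).symm.trans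
      (congrArg (fun t => t s) (toPresheafFiber_fibreNat f η A ξ G V v))
  constructor
  · intro p q hpq
    obtain ⟨V, v, s, t, rfl, rfl⟩ := Φ.toPresheafFiber_jointly_surjective₂ p q
    have h0 := fun ξ => (key ξ V v s).symm.trans ((congrFun hpq ξ).trans (key ξ V v t))
    choose W g w hw hst using fun ξ : FibrePts f η =>
      ((Scheme.pointSmallEtale ξ.1).toPresheafFiber_eq_iff' _ _ _ _).mp (h0 ξ)
    obtain ⟨V', a, v', hv', D, -, hcov, h, d, hh⟩ := exists_split f η V v W g w hw
    rw [Φ.toPresheafFiber_eq_iff']
    refine ⟨V', a, v', hv', (isSheafFor_etalePieces hG _ D hcov).isSeparatedFor.ext ?_⟩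
    rintro Z k ⟨i⟩
    change G.obj.map (etalePieceHom _ (D i)).op (G.obj.map ((EtCoh.bc f).map a).op s) =
      G.obj.map (etalePieceHom _ (D i)).op (G.obj.map ((EtCoh.bc f).map a).op t)
    rw [← ConcreteCategory.comp_apply, ← ConcreteCategory.comp_apply, ← Functor.map_comp, ← op_comp,
      ← (hh i).1, op_comp, Functor.map_comp, ConcreteCategory.comp_apply, ConcreteCategory.comp_apply,
      hst i]
  · intro p
    choose W w s hs using fun ξ : FibrePts f η =>
      (Scheme.pointSmallEtale ξ.1).toPresheafFiber_jointly_surjective (p ξ)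
    let v : Φ.fiber.obj (EtCoh.top Y) := Over.homMk η (Category.comp_id η)
    obtain ⟨V', a, v', hv', D, hdis, hcov, h, d, hh⟩ := exists_split f η (EtCoh.top Y) v W
      (fun ξ => (EtCore.bcTopIsTerminal f).from (W ξ)) w fun ξ => by
        refine (bcLiftEquiv f η ξ (EtCoh.top Y)).symm.injective ?_
        refine Eq.trans ?_ ((bcLiftEquiv f η ξ (EtCoh.top Y)).symm_apply_apply v).symm
        refine Over.OverMorphism.ext ?_
        exact ((Category.comp_id _).symm.trans (Over.w _)).trans ((Category.comp_id η).symm.trans rfl)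
    obtain ⟨t, ht⟩ := exists_glue_etalePieces hG _ D hdis hcov
      fun ξ => G.obj.map (h ξ).op (s ξ)
    refine ⟨Φ.toPresheafFiber V' v' ((sheafToPresheaf Y.smallEtaleTopology A).obj P) t, funext fun ξ => ?_⟩
    refine (key ξ V' v' t).trans ?_
    rw [← (hh ξ).2.1, ← GrothendieckTopology.Point.toPresheafFiber_w_apply, ← hs ξ]
    refine (congrArg _ (ht ξ)).trans ?_
    rw [GrothendieckTopology.Point.toPresheafFiber_w_apply, (hh ξ).2.2]
    rfl

/-- A map to a product is invertible if it is bijective componentwise. -/
lemma isIso_piLift_of_bijective {A : Type u'} [Category.{u + 1} A] {FA : A → A → Type*}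
    {CA : A → Type (u + 1)} [∀ X Y, FunLike (FA X Y) (CA X) (CA Y)] [ConcreteCategory A FA]
    [(forget A).ReflectsIsomorphisms] {I : Type u} (F : I → A) [HasProduct F]
    [PreservesLimit (Discrete.functor F) (forget A)] {P : A} (m : ∀ i, P ⟶ F i)
    (h : Function.Bijective fun (p : ToType P) i => m i p) : IsIso (Pi.lift m) := by
  rw [ConcreteCategory.isIso_iff_bijective]
  refine ((Concrete.productEquiv F).comp_bijective _).mp ?_
  convert h using 1
  funext p i
  rw [Function.comp_apply, Concrete.productEquiv_apply_apply, ← ConcreteCategory.comp_apply,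
    Pi.lift_π]

end Groth.Agent.Et18
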