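import Groth.Agent.Et18.HpullComp
import Groth.Prelude.Def_LefMon

universe u

open CategoryTheory CategoryTheory.Limits CategoryTheory.Abelian AlgebraicGeometry Opposite

namespace Groth.Agent.Et18.PullConstComp

variable {X Y Z : Scheme.{u}} (f : X ⟶ Y) (g : Y ⟶ Z)

theorem homEquiv_comp_ofNatIsoRight {C D E : Type*} [Category C] [Category D] [Category E]
    {L₁ : C ⥤ D} {R₁ : D ⥤ C} {L₂ : D ⥤ E} {R₂ : E ⥤ D} {R₃ : E ⥤ C} (a₁ : L₁ ⊣ R₁) (a₂ : L₂ ⊣ R₂)
    (e : R₂ ⋙ R₁ ≅ R₃) {M : C} {N : E} (h : L₂.obj (L₁.obj M) ⟶ N) :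
    a₁.homEquiv _ _ (a₂.homEquiv _ _ h) ≫ e.hom.app N =
      ((a₁.comp a₂).ofNatIsoRight e).homEquiv M N h := by
  have := e.hom.naturality h
  simp only [Functor.comp_map] at this
  simp [Adjunction.ofNatIsoRight, Adjunction.homEquiv_unit, this]

theorem homEquiv_pullConstIso (M : AddCommGrpCat.{u + 1}) :
    (EtCore.constAdj Y).homEquiv _ _
        ((EtCoh.pullPushAdj f).homEquiv _ _ ((EtCore.pullConstIso f).hom.app M)) ≫
      (EtCore.pushGsecIso f).hom.app _ = (EtCore.constAdj X).unit.app M :=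
  (homEquiv_comp_ofNatIsoRight (EtCore.constAdj Y) (EtCoh.pullPushAdj f) (EtCore.pushGsecIso f) _).trans
    (Adjunction.homEquiv_leftAdjointUniq_hom_app
      (((EtCore.constAdj Y).comp (EtCoh.pullPushAdj f)).ofNatIsoRight (EtCore.pushGsecIso f))
      (EtCore.constAdj X) M)

theorem pushGsec_cocycle (N : EtCoh.Ab X) :
    (EtCore.gsec Z).map ((EtCoh.pushComp g f).hom.app N) ≫ (EtCore.pushGsecIso (f ≫ g)).hom.app N =
      (EtCore.pushGsecIso g).hom.app ((EtCoh.push f).obj N) ≫ (EtCore.pushGsecIso f).hom.app N := by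
  obtain ⟨m, hm⟩ := Groth.Agent.Et18.HpullComp.exists_pushComp_app f g N (EtCoh.top Z)
  change ((EtCoh.pushComp g f).hom.app N).hom.app (op (EtCoh.top Z)) ≫
      N.obj.map (EtCore.bcTopIso (f ≫ g)).op.inv =
    N.obj.map ((EtCoh.bc f).map (EtCore.bcTopIso g).inv).op ≫ N.obj.map (EtCore.bcTopIso f).op.inv
  refine (congrArg (· ≫ _) hm).trans ?_
  refine (N.obj.map_comp _ _).symm.trans (Eq.trans ?_ (N.obj.map_comp _ _))
  exact congrArg N.obj.map (Quiver.Hom.unop_inj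
    ((IsTerminal.isTerminalObj (EtCoh.bc f) _ (EtCore.bcTopIsTerminal g)).hom_ext _ _))

theorem pullConst_comp (M : AddCommGrpCat.{u + 1}) :
    (EtCore.pullComp f g).hom.app _ ≫ (EtCoh.pull f).map ((EtCore.pullConstIso g).hom.app M) ≫
      (EtCore.pullConstIso f).hom.app M = (EtCore.pullConstIso (f ≫ g)).hom.app M := by
  apply ((EtCoh.pullPushAdj (f ≫ g)).homEquiv _ _).injective
  apply ((EtCore.constAdj Z).homEquiv _ _).injective
  rw [← cancel_mono ((EtCore.pushGsecIso (f ≫ g)).hom.app _)]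
  refine Eq.trans ?_ (homEquiv_pullConstIso (f ≫ g) M).symm
  have h1 : (EtCoh.pullPushAdj (f ≫ g)).homEquiv _ _
      ((EtCore.pullComp f g).hom.app _ ≫ (EtCoh.pull f).map ((EtCore.pullConstIso g).hom.app M) ≫
        (EtCore.pullConstIso f).hom.app M) =
      (EtCoh.pullPushAdj g).homEquiv _ _ ((EtCore.pullConstIso g).hom.app M) ≫
        (EtCoh.push g).map ((EtCoh.pullPushAdj f).homEquiv _ _ ((EtCore.pullConstIso f).hom.app M)) ≫
          (EtCoh.pushComp g f).hom.app _ := by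
    rw [Adjunction.homEquiv_naturality_right, Groth.Agent.Et18.HpullComp.homEquiv_pullComp]
    simp only [Category.assoc]
    rw [← (EtCoh.pushComp g f).hom.naturality]
    simp only [Functor.comp_map, ← Functor.map_comp_assoc, Adjunction.homEquiv_unit, Category.assoc]
    simp only [Functor.map_comp, Category.assoc, Adjunction.unit_naturality_assoc]
  rw [h1, Adjunction.homEquiv_naturality_right]
  simp only [Category.assoc, Functor.map_comp]
  rw [pushGsec_cocycle]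
  have hn := (EtCore.pushGsecIso g).hom.naturality_assoc
    ((EtCoh.pullPushAdj f).homEquiv _ _ ((EtCore.pullConstIso f).hom.app M))
    ((EtCore.pushGsecIso f).hom.app _)
  refine (congrArg _ hn).trans ?_
  rw [← Category.assoc, homEquiv_pullConstIso g M, ← Category.assoc, ← Adjunction.homEquiv_unit]
  exact homEquiv_pullConstIso f M

theorem HF_map_map {n : ℕ} {F G K : EtCoh.Ab X} (a : F ⟶ G) (b : G ⟶ K) (z : EtCoh.H X F n) :
    (EtCoh.HF X n).map (a ≫ b) z = (EtCoh.HF X n).map b ((EtCoh.HF X n).map a z) :=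
  by
  change z.comp (Ext.mk₀ (a ≫ b)) (add_zero n) =
    (z.comp (Ext.mk₀ a) (add_zero n)).comp (Ext.mk₀ b) (add_zero n)
  rw [Ext.comp_assoc_of_third_deg_zero, Ext.mk₀_comp_mk₀]

theorem Hpull_natural {F G : EtCoh.Ab Y} (a : F ⟶ G) [PreservesFiniteLimits (EtCoh.pull f)] (n : ℕ)
    (z : EtCoh.H Y F n) :
    EtCore.Hpull f G n ((EtCoh.HF Y n).map a z) =
      (EtCoh.HF X n).map ((EtCoh.pull f).map a) (EtCore.Hpull f F n z) := by
  change (Ext.mk₀ _).comp ((z.comp (Ext.mk₀ a) (add_zero n)).mapExactFunctor (EtCoh.pull f)) (zero_add n) =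
    ((Ext.mk₀ _).comp (z.mapExactFunctor (EtCoh.pull f)) (zero_add n)).comp (Ext.mk₀ _) (add_zero n)
  rw [Ext.mapExactFunctor_comp, Ext.mapExactFunctor_mk₀, Ext.comp_assoc_of_third_deg_zero]

theorem Hmap_comp (ℓ i ν : ℕ) [hf : PreservesFiniteLimits (EtCoh.pull f)]
    [hg : PreservesFiniteLimits (EtCoh.pull g)] [hfg : PreservesFiniteLimits (EtCoh.pull (f ≫ g))]
    (x : EtAdic.Hmod Z ℓ i ν) :
    EtAdic.Hmap ℓ (f ≫ g) hfg i ν x = EtAdic.Hmap ℓ f hf i ν (EtAdic.Hmap ℓ g hg i ν x) := by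
  change (EtCoh.HF X i).map (EtCore.pullConst (f ≫ g) (ZMod (ℓ ^ ν))).hom
      (EtCore.Hpull (f ≫ g) _ i x) =
    (EtCoh.HF X i).map (EtCore.pullConst f (ZMod (ℓ ^ ν))).hom
      (EtCore.Hpull f _ i ((EtCoh.HF Y i).map (EtCore.pullConst g (ZMod (ℓ ^ ν))).hom
        (EtCore.Hpull g _ i x)))
  rw [Hpull_natural]
  erw [Groth.Agent.Et18.HpullComp.Hpull_comp f g i (EtCoh.const Z (ZMod (ℓ ^ ν))) x]
  refine Eq.trans ?_ (HF_map_map _ _ _)
  refine Eq.trans ?_ (HF_map_map _ _ _)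
  refine congrArg (fun m => (EtCoh.HF X i).map m _) ?_
  exact (pullConst_comp f g _).symm.trans (Category.assoc _ _ _).symm

theorem Hmap_congr (ℓ i ν : ℕ) {f f' : X ⟶ Y} (h : f = f') [hf : PreservesFiniteLimits (EtCoh.pull f)]
    [hf' : PreservesFiniteLimits (EtCoh.pull f')] (x : EtAdic.Hmod Y ℓ i ν) :
    EtAdic.Hmap ℓ f hf i ν x = EtAdic.Hmap ℓ f' hf' i ν x := by
  subst h; rfl

end Groth.Agent.Et18.PullConstComp
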