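import Groth.Agent.Et18.FrobTrans
import Groth.Agent.Et18.PullConstComp
import Groth.Agent.LVFrob.Basic
import Groth.Prelude.Def_FinFr

/-!
# Frobenius endomorphism and geometric Frobenius with constant coefficients
-/

set_option autoImplicit false
set_option backward.isDefEq.respectTransparency.types false
set_option backward.isDefEq.respectTransparency false
set_option linter.unusedSectionVars false
set_option synthInstance.maxHeartbeats 400000

universe u

open CategoryTheory CategoryTheory.Limits CategoryTheory.Abelian AlgebraicGeometry Opposite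

namespace Groth.Agent.Et18.FrobAbs

variable {p r : ℕ} [Fact p.Prime] {X : Scheme.{u}} {φ : X ⟶ X} {φU : ∀ U : X.Etale, U.left ⟶ U.left}

theorem frTrans_const (hchar : (p : Γ(X, ⊤)) = 0) (hφ : IsFr (p ^ r) φ) (hU : ∀ U, IsFr (p ^ r) (φU U))
    (hw : ∀ U : X.Etale, φU U ≫ U.hom = U.hom ≫ φ) (M : AddCommGrpCat.{u + 1}) :
    (frTrans hchar hφ hU hw).app ((constantSheaf X.smallEtaleTopology AddCommGrpCat.{u + 1}).obj M) =
      (EtCore.pullConstIso φ).hom.app M := by
  refine ((EtCoh.pullPushAdj φ).homEquiv _ _).injective ((Equiv.apply_symm_apply _ _).trans ?_)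
  refine ((EtCore.constAdj X).homEquiv M _).injective ?_
  rw [← cancel_mono ((EtCore.pushGsecIso φ).hom.app _)]
  refine Eq.trans ?_ (PullConstComp.homEquiv_pullConstIso φ M).symm
  rw [Adjunction.homEquiv_unit, Category.assoc]
  refine (congrArg ((EtCore.constAdj X).unit.app M ≫ ·) ?_).trans (Category.comp_id _)
  let G : EtCoh.Ab X := (constantSheaf X.smallEtaleTopology AddCommGrpCat.{u + 1}).obj M
  change G.obj.map ((relFrNatIso hchar hφ hU hw).inv.app (EtCoh.top X)).op ≫
    G.obj.map (EtCore.bcTopIso φ).inv.op = 𝟙 (G.obj.obj (op (EtCoh.top X)))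
  rw [← G.obj.map_comp, ← op_comp, ← G.obj.map_id, ← op_id]
  exact congrArg (fun k : EtCoh.top X ⟶ EtCoh.top X => G.obj.map k.op)
    ((EtCore.topIsTerminal X).hom_ext _ _)

theorem isFr_FN (r : ℕ) (X : Scheme.{u}) [FrobSch.IsCharP X p] : IsFr (p ^ r) (LVFrob.FN p X r) where
  base x := LVFrob.FN_apply p r x
  opens V := LVFrob.FN_preimage p r V
  app V s := by
    have e : V ≤ LVFrob.FN p X r ⁻¹ᵁ V := (LVFrob.FN_preimage p r V).ge
    rw [← LVFrob.FN_appLE p r V e s, Scheme.Hom.appLE, ConcreteCategory.comp_apply,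
      ← Functor.map_comp_apply, ← op_comp]
    exact (ConcreteCategory.congr_hom ((congrArg (fun k : LVFrob.FN p X r ⁻¹ᵁ V ⟶ LVFrob.FN p X r ⁻¹ᵁ V =>
      X.presheaf.map k.op) (Subsingleton.elim _ _)).trans (X.presheaf.map_id _)) _).symm

variable {Λ : Type} [CommRing Λ] [Fact FinFr.PullExact.{u}]

theorem endConstAdd_FN [FrobSch.IsCharP X p] (r n : ℕ) (x : EtCoh.H X (EtCoh.const X Λ) n) :
    FinFr.endConstAdd (Λ := Λ) (LVFrob.FN p X r) n x = x := by
  have hU : ∀ U : X.Etale, FrobSch.IsCharP U.left p := fun U => FrobSch.IsCharP.of_hom (Y := X) U.hom p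
  have := FinFr.pullExact_out (LVFrob.FN p X r)
  have h := map_Hpull (φU := fun U : X.Etale => haveI := hU U; LVFrob.FN p U.left r)
    FrobSch.IsCharP.natCast_eq_zero (isFr_FN r X) (fun U => haveI := hU U; isFr_FN r U.left)
    (fun U => haveI := hU U; LVFrob.FN_comm (X := U.left) (Y := X) p U.hom r) (EtCoh.const X Λ) n x
  rw [frTrans_const] at h
  exact h

theorem endConstAdd_comp (f g : X ⟶ X) (n : ℕ) (x : EtCoh.H X (EtCoh.const X Λ) n) :
    FinFr.endConstAdd (Λ := Λ) (f ≫ g) n x =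
      FinFr.endConstAdd (Λ := Λ) f n (FinFr.endConstAdd (Λ := Λ) g n x) := by
  have := FinFr.pullExact_out f
  have := FinFr.pullExact_out g
  have := FinFr.pullExact_out (f ≫ g)
  change (EtCoh.HF X n).map (EtCore.pullConst (f ≫ g) Λ).hom (EtCore.Hpull (f ≫ g) _ n x) =
    (EtCoh.HF X n).map (EtCore.pullConst f Λ).hom
      (EtCore.Hpull f _ n ((EtCoh.HF X n).map (EtCore.pullConst g Λ).hom (EtCore.Hpull g _ n x)))
  rw [PullConstComp.Hpull_natural]
  erw [Groth.Agent.Et18.HpullComp.Hpull_comp f g n (EtCoh.const X Λ) x]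
  refine Eq.trans ?_ (PullConstComp.HF_map_map _ _ _)
  refine Eq.trans ?_ (PullConstComp.HF_map_map _ _ _)
  refine congrArg (fun m => (EtCoh.HF X n).map m _) ?_
  exact (PullConstComp.pullConst_comp f g _).symm.trans (Category.assoc _ _ _).symm

theorem pullCongr_pullConst {Y : Scheme.{u}} {a b : Y ⟶ X} (h : a = b) (M : AddCommGrpCat.{u + 1}) :
    (EtCore.pullCongr h).hom.app _ ≫ (EtCore.pullConstIso b).hom.app M = (EtCore.pullConstIso a).hom.app M := by
  subst h
  exact Category.id_comp _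

theorem HpullVia_const {Y : Scheme.{u}} (g : Y ⟶ Y) (π : Y ⟶ X) (w : g ≫ π = π) (n : ℕ)
    [PreservesFiniteLimits (EtCoh.pull g)] (x : EtCoh.H Y ((EtCoh.pull π).obj (EtCoh.const X Λ)) n) :
    EtCore.HpullVia g π π w (EtCoh.const X Λ) n x =
      (EtCoh.HF Y n).map (EtCore.pullConst π Λ).inv
        (FinFr.endConstAdd (Λ := Λ) g n ((EtCoh.HF Y n).map (EtCore.pullConst π Λ).hom x)) := by
  change (EtCoh.HF Y n).map _ (EtCore.Hpull g _ n x) =
    (EtCoh.HF Y n).map (EtCore.pullConst π Λ).inv ((EtCoh.HF Y n).map (EtCore.pullConst g Λ).hom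
      (EtCore.Hpull g _ n ((EtCoh.HF Y n).map (EtCore.pullConst π Λ).hom x)))
  rw [PullConstComp.Hpull_natural, ← PullConstComp.HF_map_map, ← PullConstComp.HF_map_map]
  refine congrArg (fun m => (EtCoh.HF Y n).map m (EtCore.Hpull g _ n x)) ?_
  rw [Iso.app_hom, Iso.trans_hom, NatTrans.comp_app, Iso.symm_hom, ← cancel_mono (EtCore.pullConst π Λ).hom,
    ← cancel_epi ((EtCore.pullComp g π).hom.app (EtCoh.const X Λ))]
  simp only [Category.assoc, Iso.inv_hom_id, Category.comp_id]
  rw [Iso.hom_inv_id_app_assoc]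
  exact (pullCongr_pullConst w _).trans (PullConstComp.pullConst_comp g π _).symm

end Groth.Agent.Et18.FrobAbs
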