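import Mathlib.Algebra.Homology.DerivedCategory.FullyFaithful
import Mathlib.Algebra.Homology.DerivedCategory.HomologySequence
import Mathlib.Algebra.Homology.DerivedCategory.TStructure
import Mathlib.CategoryTheory.Triangulated.TStructure.TruncLTGE
import Mathlib.CategoryTheory.ComposableArrows.Basic

/-!
# Chains of maps vanishing on cohomology in the derived category
-/

set_option autoImplicit false

universe u v

open CategoryTheory CategoryTheory.Limits DerivedCategory Pretriangulated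

attribute [local instance] HasDerivedCategory.standard

namespace Groth.Agent.Et18.GhostChain

variable {A : Type u} [Category.{v} A] [Abelian A]

local notation "τ" => (DerivedCategory.TStructure.t (C := A))

theorem epi_truncGEπ (X : DerivedCategory A) (j : ℤ) :
    Epi ((homologyFunctor A j).map (((τ).truncGEπ j).app X)) := by
  refine (HomologySequence.epi_homologyMap_mor₂_iff _ ((τ).triangleLTGE_distinguished j X) j (j + 1)).2 ?_
  exact (isZero_of_isLE (((τ).truncLT j).obj X) (j - 1) (j + 1) (by omega)).eq_of_tgt _ _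

theorem mono_truncLTι (X : DerivedCategory A) (j : ℤ) :
    Mono ((homologyFunctor A j).map (((τ).truncLTι (j + 1)).app X)) := by
  refine (HomologySequence.mono_homologyMap_mor₁_iff _ ((τ).triangleLTGE_distinguished (j + 1) X) (j - 1) j).2 ?_
  exact (isZero_of_isGE (((τ).truncGE (j + 1)).obj X) (j + 1) (j - 1) (by omega)).eq_of_src _ _

/-- A map from `≤ j` to `≥ j` vanishes when it vanishes on `H^j`. -/
theorem eq_zero_of_homology {L N : DerivedCategory A} (j : ℤ) [L.IsLE j] [N.IsGE j] (φ : L ⟶ N)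
    (h : (homologyFunctor A j).map φ = 0) : φ = 0 := by
  let φ₁ : ((τ).truncGE j).obj L ⟶ N := (τ).descTruncGE φ j
  have h1 : ((τ).truncGEπ j).app L ≫ φ₁ = φ := (τ).π_descTruncGE φ j
  let φ₂ : ((τ).truncGE j).obj L ⟶ ((τ).truncLT (j + 1)).obj N := (τ).liftTruncLT φ₁ j (j + 1) rfl
  have h2 : φ₂ ≫ ((τ).truncLTι (j + 1)).app N = φ₁ := (τ).liftTruncLT_ι φ₁ j (j + 1) rfl
  obtain ⟨P, ⟨eP⟩⟩ := exists_iso_singleFunctor_obj_of_isGE_of_isLE (((τ).truncGE j).obj L) j
  obtain ⟨Q, ⟨eQ⟩⟩ := exists_iso_singleFunctor_obj_of_isGE_of_isLE (((τ).truncLT (j + 1)).obj N) j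
  obtain ⟨ψ, hψ⟩ := (singleFunctor A j).map_surjective (eP.inv ≫ φ₂ ≫ eQ.hom)
  have h3 : (homologyFunctor A j).map φ₂ = 0 := by
    have := epi_truncGEπ L j
    have := mono_truncLTι N j
    rw [← h1, ← h2, Functor.map_comp, Functor.map_comp] at h
    rw [← cancel_epi ((homologyFunctor A j).map (((τ).truncGEπ j).app L)),
      ← cancel_mono ((homologyFunctor A j).map (((τ).truncLTι (j + 1)).app N))]
    simpa using h
  have h4 : ψ = 0 := by
    let α := singleFunctorCompHomologyFunctorIso A j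
    have h5 : (homologyFunctor A j).map ((singleFunctor A j).map ψ) = 0 := by
      rw [hψ, Functor.map_comp, Functor.map_comp, h3, zero_comp, comp_zero]
    have h6 : (homologyFunctor A j).map ((singleFunctor A j).map ψ) ≫ α.hom.app Q =
        α.hom.app P ≫ ψ := α.hom.naturality ψ
    rw [h5, zero_comp] at h6
    rw [← cancel_epi (α.hom.app P), ← h6, comp_zero]
  have h7 : φ₂ = 0 := by
    rw [h4, Functor.map_zero] at hψ
    rw [← cancel_epi eP.inv, ← cancel_mono eQ.hom, Category.assoc, ← hψ, comp_zero, zero_comp]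
  rw [← h1, ← h2, h7, zero_comp, comp_zero]

/-- A map from `≤ j` killed by `H^j` factors through something `≤ j - 1`. -/
theorem exists_fac {L K : DerivedCategory A} (j : ℤ) [L.IsLE j] (g : L ⟶ K)
    (h : (homologyFunctor A j).map g = 0) :
    ∃ g' : L ⟶ ((τ).truncLT j).obj K, g' ≫ ((τ).truncLTι j).app K = g := by
  have h0 : g ≫ ((τ).truncGEπ j).app K = 0 :=
    eq_zero_of_homology j _ (by rw [Functor.map_comp, h, zero_comp])
  obtain ⟨g', hg'⟩ := Triangle.coyoneda_exact₂ _ ((τ).triangleLTGE_distinguished j K) g h0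
  exact ⟨g', hg'.symm⟩

/-- A chain of `j + 1` maps vanishing on `H^p`, `p ≤ j`, kills anything `≤ j` when the target is
`≥ 0`. -/
theorem comp_eq_zero {n : ℕ} (K : ComposableArrows (DerivedCategory A) n) (k : ℤ)
    (hK : ∀ (i : ℕ) (hi : i ≤ n), (K.obj' i).IsGE 0)
    (hf : ∀ (i : ℕ) (hi : i < n) (p : ℤ), p < k → (homologyFunctor A p).map (K.map' i (i + 1)) = 0) :
    ∀ (m : ℕ) (i : ℕ) (hi : i + m ≤ n) (_ : (m : ℤ) - 1 < k) (L : DerivedCategory A)
      [L.IsLE ((m : ℤ) - 1)] (g : L ⟶ K.obj' i), g ≫ K.map' i n = 0 := by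
  intro m
  induction m with
  | zero =>
    intro i hi hm L hL g
    have := hK i (by omega)
    rw [(τ).zero g ((0 : ℕ) - 1 : ℤ) 0 (by omega), zero_comp]
  | succ m ih =>
    intro i hi hm L hL g
    have : L.IsLE (m : ℤ) := by
      have e : ((m + 1 : ℕ) : ℤ) - 1 = m := by omega
      rwa [e] at hL
    obtain ⟨g', hg'⟩ := exists_fac (m : ℤ) (g ≫ K.map' i (i + 1))
      (by rw [Functor.map_comp, hf i (by omega) m (by omega), comp_zero])
    have h' := ih (i + 1) (by omega) (by omega) (((τ).truncLT (m : ℤ)).obj (K.obj' (i + 1) (by omega)))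
      (((τ).truncLTι (m : ℤ)).app _)
    rw [ComposableArrows.map'_comp K i (i + 1) n, ← Category.assoc, ← hg', Category.assoc, h',
      comp_zero]

theorem main (k : ℕ)
    (K : ComposableArrows (DerivedCategory A) (2 * k))
    (hK : ∀ (i : ℕ) (hi : i ≤ 2 * k) (p : ℤ), p < 0 ∨ (k : ℤ) < p →
      IsZero ((homologyFunctor A p).obj (K.obj' i)))
    (hf : ∀ (i : ℕ) (hi : i < 2 * k) (p : ℤ), p < (k : ℤ) →
      (homologyFunctor A p).map (K.map' i (i + 1)) = 0)
    (π : K.obj' 0 ⟶ (singleFunctor A (k : ℤ)).obj ((homologyFunctor A (k : ℤ)).obj (K.obj' 0)))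
    (hπ : (homologyFunctor A (k : ℤ)).map π ≫
      (singleFunctorCompHomologyFunctorIso A (k : ℤ)).hom.app
        ((homologyFunctor A (k : ℤ)).obj (K.obj' 0)) = 𝟙 _) :
    ∃ φ : (singleFunctor A (k : ℤ)).obj ((homologyFunctor A (k : ℤ)).obj (K.obj' 0)) ⟶ K.obj' (2 * k),
      K.map' 0 (2 * k) = π ≫ φ := by
  have hge : ∀ (i : ℕ) (hi : i ≤ 2 * k), (K.obj' i).IsGE 0 := fun i hi =>
    (isGE_iff _ _).2 fun p hp => hK i hi p (Or.inl hp)
  have hle : (K.obj' 0).IsLE (k : ℤ) :=
    (isLE_iff _ _).2 fun p hp => hK 0 (by omega) p (Or.inr hp)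
  have h0 : ((τ).truncLTι (k : ℤ)).app (K.obj' 0) ≫ K.map' 0 (2 * k) = 0 :=
    comp_eq_zero K k hge hf k 0 (by omega) (by omega) (((τ).truncLT (k : ℤ)).obj (K.obj' 0)) _
  obtain ⟨ψ, hψ⟩ := Triangle.yoneda_exact₂ _ ((τ).triangleLTGE_distinguished (k : ℤ) (K.obj' 0)) _ h0
  let q := ((τ).truncGEπ (k : ℤ)).app (K.obj' 0)
  let π' := (τ).descTruncGE π (k : ℤ)
  have hπ' : q ≫ π' = π := (τ).π_descTruncGE π (k : ℤ)
  have : IsIso π' := by
    rw [DerivedCategory.isIso_iff]
    intro p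
    rcases lt_trichotomy p (k : ℤ) with hp | rfl | hp
    · exact ⟨0, (isZero_of_isGE _ (k : ℤ) p hp).eq_of_src _ _, (isZero_of_isGE _ (k : ℤ) p hp).eq_of_src _ _⟩
    · have hq : Epi ((homologyFunctor A (k : ℤ)).map q) := epi_truncGEπ _ _
      have h1 : IsIso ((homologyFunctor A (k : ℤ)).map π) :=
        ⟨_, hπ, by rw [← cancel_mono ((singleFunctorCompHomologyFunctorIso A (k : ℤ)).hom.app _),
          Category.assoc, hπ, Category.comp_id, Category.id_comp]⟩
      rw [← hπ', Functor.map_comp] at h1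
      have h2 : Mono ((homologyFunctor A (k : ℤ)).map q) := mono_of_mono _ ((homologyFunctor A (k : ℤ)).map π')
      have : IsIso ((homologyFunctor A (k : ℤ)).map q) := isIso_of_mono_of_epi _
      exact IsIso.of_isIso_comp_left ((homologyFunctor A (k : ℤ)).map q) _
    · exact ⟨0, (isZero_of_isLE _ (k : ℤ) p hp).eq_of_src _ _, (isZero_of_isLE _ (k : ℤ) p hp).eq_of_src _ _⟩
  refine ⟨inv π' ≫ ψ, ?_⟩
  rw [← hπ', Category.assoc]
  exact hψ.trans (congrArg (q ≫ ·) (IsIso.hom_inv_id_assoc π' ψ).symm)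

end Groth.Agent.Et18.GhostChain
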