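import Groth.Prelude.Def_EtGlue
import Groth.Prelude.Def_DRing2
import Groth.Agent.HenselLib.BLFlat
import Groth.Agent.CAlgH3.TorBridge

/-! `Tor₁(R', M) = 0` along a glueing pair when `M_f` is flat over `R_f`. -/

universe u

namespace Groth.Agent.Et18.GlueTor

open TensorProduct Function CategoryTheory CategoryTheory.Limits

variable {R R' : Type u} [CommRing R] [CommRing R'] [Algebra R R'] {f : R}

theorem torVanish_of_presentation (h : EtGlue.IsGlueingPair R R' f) {K F M : Type u} [AddCommGroup K]
    [Module R K] [AddCommGroup F] [Module R F] [Module.Flat R F] [AddCommGroup M] [Module R M]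
    [Module.Flat (Localization.Away f) (Localization.Away f ⊗[R] M)]
    {j : K →ₗ[R] F} {g : F →ₗ[R] M} (hex : Exact j g) (hg : Surjective g) (hj : Injective j) :
    FlatCrit.TorVanish R M R' := by
  intro A B _ _ _ _ i p hip hp hi
  exact CAlgH3.rTensor_injective_of_lTensor_injective hip hp hex hg
    (Module.Flat.rTensor_preserves_injective_linearMap i hi)
    (HenselLib.BL.baseChange_injective h hex hg hj)

theorem torVanish (h : EtGlue.IsGlueingPair R R' f) (M : Type u) [AddCommGroup M] [Module R M]
    [Module.Flat (Localization.Away f) (Localization.Away f ⊗[R] M)] : FlatCrit.TorVanish R M R' := by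
  let g : (M →₀ R) →ₗ[R] M := Finsupp.linearCombination R (id : M → M)
  exact torVanish_of_presentation h (g := g) (LinearMap.exact_subtype_ker_map g)
    (fun m => ⟨Finsupp.single m 1, by simp [g]⟩) (Submodule.injective_subtype _)

theorem subsingleton_tor (h : EtGlue.IsGlueingPair R R' f) (M : Type u) [AddCommGroup M] [Module R M]
    [Module.Flat (Localization.Away f) (Localization.Away f ⊗[R] M)] :
    Subsingleton (DRing.Tor R 1 R' M) :=
  ModuleCat.subsingleton_of_isZero ((CAlgH3.isZero_tor_one_iff R' M).2 (torVanish h M))

/-- `R_f ⊗ T = 0` for `f`-power torsion `T` -/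
theorem subsingleton_away_tensor (T : Type u) [AddCommGroup T] [Module R T]
    (hT : ∀ t : T, ∃ n : ℕ, f ^ n • t = 0) : Subsingleton (Localization.Away f ⊗[R] T) := by
  refine subsingleton_of_forall_eq 0 fun z => ?_
  induction z with
  | zero => rfl
  | add a b ha hb => rw [ha, hb, add_zero]
  | tmul a t =>
    obtain ⟨n, hn⟩ := hT t
    obtain ⟨w, hw⟩ := (IsLocalization.Away.algebraMap_isUnit (S := Localization.Away f) f).pow n |>.exists_left_inv
    have ha : a = f ^ n • (a * w) := by
      rw [Algebra.smul_def, map_pow, mul_left_comm, mul_comm (algebraMap R _ f ^ n) w, hw, mul_one]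
    rw [ha, TensorProduct.smul_tmul, hn, TensorProduct.tmul_zero]

theorem flat_of_bijective {M : Type u} [AddCommGroup M] [Module R M]
    (e : Localization.Away f ⊗[R] M →ₗ[Localization.Away f] Localization.Away f ⊗[R] R) (he : Bijective e) :
    Module.Flat (Localization.Away f) (Localization.Away f ⊗[R] M) :=
  Module.Flat.of_linearEquiv
    ((LinearEquiv.ofBijective e he).trans (AlgebraTensorModule.rid R (Localization.Away f) (Localization.Away f)))

end Groth.Agent.Et18.GlueTor
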