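import Groth.Agent.Et18.StalkSh
import Groth.Agent.Et18.StalkPush
import Groth.Agent.Et18.PropBEpi
import Groth.Agent.Et18.Recollement

/-!
# Direct images of sheaves of sets along immersions and closed supports
-/

universe u

open CategoryTheory CategoryTheory.Limits AlgebraicGeometry Opposite

set_option backward.isDefEq.respectTransparency.types false
set_option backward.isDefEq.respectTransparency false

namespace Groth.Agent.Et18

variable {X Y Z U : Scheme.{u}}

instance preservesFilteredColimits_forget_type :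
    PreservesFilteredColimitsOfSize.{u, u} (forget (Type (u + 1))) :=
  preservesFilteredColimitsOfSize_shrink.{u, u + 1, u, u + 1} _

theorem isIso_stalkSh_map_counit {f : X ⟶ Y} (hf : BCLiftsEtale f) {Ω : Type u} [Field Ω]
    [IsSepClosed Ω] (ξ : Spec (CommRingCat.of Ω) ⟶ X) (F : EtDesc.Sh X) :
    IsIso ((stalkSh ξ).map ((EtDesc.adjSh f).counit.app F)) := by
  refine isIso_sheafFiber_map_counit (Scheme.pointSmallEtale ξ) (EtCoh.bc f)
    (EtCoh.coverPreserving_bc f) (Type (u + 1)) (exists_bc_cover hf ξ) ?_ F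
  intro V W g w
  obtain ⟨V', a, x, h, hg, hx⟩ := exists_bc_lift hf ξ V W g w
  refine ⟨V', a, x, h, hg, ?_⟩
  rw [← hg, Functor.map_comp, ConcreteCategory.comp_apply, hx]

theorem isIso_counitSh (f : X ⟶ Y) [IsImmersion f] : IsIso (EtDesc.adjSh f).counit := by
  have : ∀ F, IsIso ((EtDesc.adjSh f).counit.app F) := fun F =>
    isIso_of_stalksSh_family _ (exists_sepPoint X) _
      fun _ => isIso_stalkSh_map_counit (bcLiftsEtale_of_isImmersion f) _ F
  exact NatIso.isIso_of_isIso_app _

lemma isIso_stalkSh_map_of_pull (f : Y ⟶ X) {Ω : Type u} [Field Ω] [IsSepClosed Ω]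
    (ξ : Spec (CommRingCat.of Ω) ⟶ Y) {F G : EtDesc.Sh X} (a : F ⟶ G)
    [IsIso ((EtDesc.pullSh f).map a)] : IsIso ((stalkSh (ξ ≫ f)).map a) :=
  (NatIso.isIso_map_iff (stalkShPullIso f ξ) a).mp
    (inferInstanceAs (IsIso ((stalkSh ξ).map ((EtDesc.pullSh f).map a))))

/-- Isomorphy can be checked on two jointly surjective pieces. -/
theorem isIso_of_pullsSh {f : Y ⟶ X} {g : Z ⟶ X} (hfg : JointlySurjective f g) {F G : EtDesc.Sh X}
    (a : F ⟶ G) [IsIso ((EtDesc.pullSh f).map a)] [IsIso ((EtDesc.pullSh g).map a)] : IsIso a := by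
  classical
  let p : ULift.{u + 1} X → GeomPt X := fun x =>
    if h : x.down ∈ Set.range f then ⟨_, sepPoint Y h.choose ≫ f⟩
    else ⟨_, sepPoint Z ((hfg x.down).resolve_left h).choose ≫ g⟩
  have key : ∀ x, (p x).pt default = x.down ∧ IsIso ((stalkSh (p x).pt).map a) := by
    rintro ⟨x⟩
    let Q : GeomPt X → Prop := fun q => q.pt default = x ∧ IsIso ((stalkSh q.pt).map a)
    change Q (p ⟨x⟩)
    simp only [p]
    split_ifs with h
    · exact ⟨(congrArg f (sepPoint_default Y _)).trans h.choose_spec,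
        isIso_stalkSh_map_of_pull f _ a⟩
    · exact ⟨(congrArg g (sepPoint_default Z _)).trans ((hfg x).resolve_left h).choose_spec,
        isIso_stalkSh_map_of_pull g _ a⟩
  exact isIso_of_stalksSh_family (Ω := fun x => (p x).Ω) (fun x => (p x).pt)
    (fun x => ⟨⟨x⟩, (key ⟨x⟩).1⟩) a fun x => (key x).2

/-- The inverse image on the complement of a direct image is the final object. -/
theorem nonempty_unique_stalkSh_pushSh (f : X ⟶ Y) (G : EtDesc.Sh X) {Ω : Type u} [Field Ω]
    [IsSepClosed Ω] (η : Spec (CommRingCat.of Ω) ⟶ Y) (O : Y.Opens) (hη : η default ∈ O)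
    (hO : Disjoint (O : Set Y) (Set.range f)) :
    Nonempty (Unique ((stalkSh η).obj ((EtDesc.pushSh f).obj G))) := by
  let Φ := Scheme.pointSmallEtale η
  let P := (EtDesc.pushSh f).obj G
  have hempty : ∀ V : Y.Etale, IsEmpty ((EtCoh.bc f).obj (etaleAway V O)).left := fun V => ⟨fun t =>
    Set.disjoint_left.mp hO (range_etaleAway_hom_subset V O ⟨_, rfl⟩)
      ⟨((EtCoh.bc f).obj (etaleAway V O)).hom t,
        congrArg (fun g => g t) (pullback.condition (f := (etaleAway V O).hom) (g := f)).symm⟩⟩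
  have hG := (isSheaf_iff_isSheaf_of_type _ _).mp G.property
  have hsub : ∀ V : Y.Etale, Subsingleton (P.obj.obj (op (etaleAway V O))) := fun V =>
    subsingleton_sections_of_isEmpty hG _ (hempty V)
  have hne : Nonempty (P.obj.obj (op (etaleAway (EtCoh.top Y) O))) := by
    obtain ⟨t, -⟩ := exists_glue_etalePieces hG ((EtCoh.bc f).obj (etaleAway (EtCoh.top Y) O))
      (μ := PEmpty.{u + 1}) (fun a => a.elim) (fun a => a.elim)
      (TopologicalSpace.Opens.ext (by
        ext x
        exact ((hempty (EtCoh.top Y)).false x).elim)) (fun a => a.elim)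
    exact ⟨t⟩
  obtain ⟨v₀, -⟩ := exists_fiber_etaleAway η (EtCoh.top Y) O hη (Over.homMk η (Category.comp_id η))
  refine ⟨{ default := Φ.toPresheafFiber _ v₀ P.obj hne.some, uniq := fun p => ?_ }⟩
  have : Subsingleton ((stalkSh η).obj P) := ⟨fun p q => by
    obtain ⟨V, v, s, t, rfl, rfl⟩ := Φ.toPresheafFiber_jointly_surjective₂ (P := P.obj) p q
    obtain ⟨v', hv'⟩ := exists_fiber_etaleAway η V O hη v
    rw [Φ.toPresheafFiber_eq_iff']
    exact ⟨_, etaleAwayHom V O, v', hv', @Subsingleton.elim _ (hsub V) _ _⟩⟩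
  exact Subsingleton.elim _ _

/-- A sheaf of sets is final iff its stalks are singletons. -/
theorem isIso_from_iff (F : EtDesc.Sh X) :
    IsIso (terminal.from F) ↔ ∀ x : X, Nonempty (Unique ((stalkSh (sepPoint X x)).obj F)) := by
  have hT : ∀ x : X, Unique ((stalkSh (sepPoint X x)).obj (⊤_ (EtDesc.Sh X))) := fun x =>
    Types.isTerminalEquivUnique _ (IsTerminal.isTerminalObj (stalkSh (sepPoint X x)) _ terminalIsTerminal)
  constructor
  · intro _ x
    haveI := hT x
    exact ⟨(asIso ((stalkSh (sepPoint X x)).map (terminal.from F))).toEquiv.unique⟩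
  · intro h
    refine isIso_of_stalksSh_family _ (exists_sepPoint X) _ fun x => ?_
    haveI := hT x.down
    haveI := (h x.down).some
    rw [isIso_iff_bijective]
    exact ⟨fun a b _ => Subsingleton.elim a b, fun b => ⟨default, Subsingleton.elim _ b⟩⟩

/-- A sheaf of sets is a direct image from a closed piece iff it is final on the complement. -/
theorem essImage_pushSh_iff (i : Z ⟶ X) [IsClosedImmersion i] (j : U ⟶ X) [IsOpenImmersion j]
    (hZU : Set.range j = (Set.range i)ᶜ) (F : EtDesc.Sh X) :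
    (EtDesc.pushSh i).essImage F ↔ IsIso (terminal.from ((EtDesc.pullSh j).obj F)) := by
  let O : X.Opens := ⟨(Set.range i)ᶜ, i.isClosedEmbedding.isClosed_range.isOpen_compl⟩
  have hO : ∀ y : U, (sepPoint U y ≫ j) default ∈ O := fun y => by
    change j (sepPoint U y default) ∈ (Set.range i)ᶜ
    rw [← hZU]
    exact ⟨_, rfl⟩
  have hpush : ∀ (G : EtDesc.Sh Z) (y : U),
      Nonempty (Unique ((stalkSh (sepPoint U y)).obj ((EtDesc.pullSh j).obj
        ((EtDesc.pushSh i).obj G)))) := fun G y => by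
    obtain ⟨hu⟩ := nonempty_unique_stalkSh_pushSh i G _ O (hO y) disjoint_compl_left
    exact ⟨(((stalkShPullIso j (sepPoint U y)).app _).toEquiv).unique⟩
  constructor
  · rintro ⟨G, ⟨e⟩⟩
    rw [isIso_from_iff]
    intro y
    obtain ⟨hu⟩ := hpush G y
    exact ⟨((stalkSh (sepPoint U y)).mapIso ((EtDesc.pullSh j).mapIso e)).toEquiv.symm.unique⟩
  · intro h
    haveI := isIso_counitSh i
    haveI : IsIso ((EtDesc.pullSh i).map ((EtDesc.adjSh i).unit.app F)) :=
      have : IsIso ((EtDesc.pullSh i).map ((EtDesc.adjSh i).unit.app F) ≫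
          (EtDesc.adjSh i).counit.app ((EtDesc.pullSh i).obj F)) := by
        erw [(EtDesc.adjSh i).left_triangle_components]
        exact IsIso.id _
      IsIso.of_isIso_comp_right _ ((EtDesc.adjSh i).counit.app _)
    haveI : IsIso ((EtDesc.pullSh j).map ((EtDesc.adjSh i).unit.app F)) := by
      refine isIso_of_stalksSh_family _ (exists_sepPoint U) _ fun y => ?_
      let h1 := ((isIso_from_iff _).mp h y.down).some
      let h2 := (hpush ((EtDesc.pullSh i).obj F) y.down).some
      rw [isIso_iff_bijective]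
      exact ⟨fun a b _ => (h1.uniq a).trans (h1.uniq b).symm,
        fun b => ⟨h1.default, (h2.uniq _).trans (h2.uniq b).symm⟩⟩
    haveI := isIso_of_pullsSh (jointlySurjective_of_compl hZU) ((EtDesc.adjSh i).unit.app F)
    exact ⟨_, ⟨(asIso ((EtDesc.adjSh i).unit.app F)).symm⟩⟩

end Groth.Agent.Et18
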