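import Groth.Agent.Et18.Stalk
import Groth.Prelude.Def_SGA4b

/-!
# Stalks of sheaves of sets on the small étale site
-/

universe u

open CategoryTheory CategoryTheory.Limits AlgebraicGeometry Opposite

set_option backward.isDefEq.respectTransparency.types false
set_option backward.isDefEq.respectTransparency false

namespace Groth.Agent.Et18

variable {X Y : Scheme.{u}}

/-- The fibre functor of sheaves of sets at a geometric point. -/
noncomputable abbrev stalkSh {Ω : Type u} [Field Ω] [IsSepClosed Ω]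
    (ξ : Spec (CommRingCat.of Ω) ⟶ X) : EtDesc.Sh X ⥤ Type (u + 1) :=
  (Scheme.pointSmallEtale ξ).sheafFiber

/-- The fibre at the lifted point. -/
noncomputable def bigStalkShIso {Ω : Type u} [Field Ω] [IsSepClosed Ω]
    (ξ : Spec (CommRingCat.of Ω) ⟶ X) :
    ((liftPoint.{u + 1} (Scheme.pointSmallEtale ξ)).sheafFiber : EtDesc.Sh X ⥤ Type (u + 1)) ≅
      stalkSh ξ :=
  liftSheafFiberIso.{u + 1} _ _

instance stalkSh_preservesFiniteLimits {Ω : Type u} [Field Ω] [IsSepClosed Ω]
    (ξ : Spec (CommRingCat.of Ω) ⟶ X) : PreservesFiniteLimits (stalkSh ξ) :=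
  preservesFiniteLimits_of_natIso (bigStalkShIso ξ)

lemma stalkSh_injective {Ω : Type u} [Field Ω] [IsSepClosed Ω] (ξ : Spec (CommRingCat.of Ω) ⟶ X)
    {F G : EtDesc.Sh X} (a : F ⟶ G) [Mono a] : Function.Injective ((stalkSh ξ).map a) :=
  (mono_iff_injective _).mp ((stalkSh ξ).map_mono a)

lemma stalkSh_surjective {Ω : Type u} [Field Ω] [IsSepClosed Ω] (ξ : Spec (CommRingCat.of Ω) ⟶ X)
    {F G : EtDesc.Sh X} (a : F ⟶ G) [Epi a] : Function.Surjective ((stalkSh ξ).map a) :=
  haveI : (stalkSh ξ).IsLeftAdjoint :=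
    ⟨_, ⟨(Scheme.pointSmallEtale ξ).skyscraperSheafAdjunction (A := Type (u + 1))⟩⟩
  (epi_iff_surjective _).mp ((stalkSh ξ).map_epi a)

section Family

variable {ι : Type (u + 1)} {Ω : ι → Type u} [∀ i, Field (Ω i)] [∀ i, IsSepClosed (Ω i)]
  (s : ∀ i, Spec (CommRingCat.of (Ω i)) ⟶ X) (hs : ∀ x : X, ∃ i, s i default = x)

include hs in
theorem isIso_of_stalksSh_family {F G : EtDesc.Sh X} (a : F ⟶ G)
    (h : ∀ i, IsIso ((stalkSh (s i)).map a)) : IsIso a := by
  have : ∀ Φ : (bigPoints s).FullSubcategory, IsIso (Φ.obj.sheafFiber.map a) := by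
    rintro ⟨_, ⟨i⟩⟩
    exact (NatIso.isIso_map_iff (bigStalkShIso (s i)) a).mpr (h i)
  exact ((bigPoints_isConservative s hs).jointlyReflectIsomorphisms (Type (u + 1))).isIso a

include hs in
theorem mono_of_stalksSh_family {F G : EtDesc.Sh X} (a : F ⟶ G)
    (h : ∀ i, Function.Injective ((stalkSh (s i)).map a)) : Mono a := by
  have : ∀ Φ : (bigPoints s).FullSubcategory, Mono (Φ.obj.sheafFiber.map a) := by
    rintro ⟨_, ⟨i⟩⟩
    exact ((MorphismProperty.monomorphisms _).arrow_mk_iso_iff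
      ((Functor.mapArrowFunctor _ _).mapIso (bigStalkShIso (s i)) |>.app (Arrow.mk a))).mpr
        ((mono_iff_injective _).mpr (h i))
  exact ((bigPoints_isConservative s hs).jointlyReflectIsomorphisms (Type (u + 1))).jointlyReflectMonomorphisms.mono a

include hs in
theorem epi_of_stalksSh_family {F G : EtDesc.Sh X} (a : F ⟶ G)
    (h : ∀ i, Function.Surjective ((stalkSh (s i)).map a)) : Epi a := by
  have : ∀ Φ : (bigPoints s).FullSubcategory, Epi (Φ.obj.sheafFiber.map a) := by
    rintro ⟨_, ⟨i⟩⟩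
    exact ((MorphismProperty.epimorphisms _).arrow_mk_iso_iff
      ((Functor.mapArrowFunctor _ _).mapIso (bigStalkShIso (s i)) |>.app (Arrow.mk a))).mpr
        ((epi_iff_surjective _).mpr (h i))
  exact ((bigPoints_isConservative s hs).jointlyReflectIsomorphisms (Type (u + 1))).jointlyReflectEpimorphisms.epi a

include hs in
theorem eq_of_stalksSh_family {F G : EtDesc.Sh X} (a b : F ⟶ G)
    (h : ∀ i, (stalkSh (s i)).map a = (stalkSh (s i)).map b) : a = b := by
  refine ((bigPoints_isConservative s hs).jointlyFaithful (Type (u + 1))).map_injective ?_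
  rintro ⟨_, ⟨i⟩⟩
  rw [← cancel_mono ((bigStalkShIso (s i)).hom.app G)]
  exact ((bigStalkShIso (s i)).hom.naturality a).trans
    ((congrArg ((bigStalkShIso (s i)).hom.app F ≫ ·) (h i)).trans
      ((bigStalkShIso (s i)).hom.naturality b).symm)

end Family

theorem mono_iff_stalksSh {F G : EtDesc.Sh X} (v : F ⟶ G) :
    Mono v ↔ ∀ (Ω : Type u) [Field Ω] [IsSepClosed Ω] (ξ : Spec (CommRingCat.of Ω) ⟶ X),
      Function.Injective ((stalkSh ξ).map v) :=
  ⟨fun _ _ _ _ ξ => stalkSh_injective ξ v, fun h =>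
    mono_of_stalksSh_family _ (exists_sepPoint X) v fun _ => h _ _⟩

theorem epi_iff_stalksSh {F G : EtDesc.Sh X} (v : F ⟶ G) :
    Epi v ↔ ∀ (Ω : Type u) [Field Ω] [IsSepClosed Ω] (ξ : Spec (CommRingCat.of Ω) ⟶ X),
      Function.Surjective ((stalkSh ξ).map v) :=
  ⟨fun _ _ _ _ ξ => stalkSh_surjective ξ v, fun h =>
    epi_of_stalksSh_family _ (exists_sepPoint X) v fun _ => h _ _⟩

/-- The stalk of an inverse image of a sheaf of sets. -/
noncomputable def stalkShPullIso (f : X ⟶ Y) {Ω : Type u} [Field Ω] [IsSepClosed Ω]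
    (ξ : Spec (CommRingCat.of Ω) ⟶ X) : EtDesc.pullSh f ⋙ stalkSh ξ ≅ stalkSh (ξ ≫ f) :=
  ((Scheme.pointSmallEtale ξ).sheafFiberComapIso (EtCoh.bc f) (EtCoh.coverPreserving_bc f)
    (Type (u + 1))).symm ≪≫ sheafFiberIsoOfIso (comapPointIso f ξ)

/-- Inverse image along a surjective morphism is faithful and conservative on sheaves of sets. -/
theorem pullSh_faithful_reflectsIsos (f : X ⟶ Y) [Surjective f] :
    (EtDesc.pullSh f).Faithful ∧ (EtDesc.pullSh f).ReflectsIsomorphisms := by
  choose g hg using f.surjective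
  let s := fun y : ULift.{u + 1} Y => sepPoint X (g y.down) ≫ f
  have hs : ∀ y : Y, ∃ i, s i default = y := fun y => ⟨⟨y⟩, by
    rw [Scheme.Hom.comp_apply, sepPoint_default, hg]⟩
  refine ⟨⟨fun {F G} a b h => eq_of_stalksSh_family s hs a b fun i => ?_⟩,
    ⟨fun {F G} a _ => isIso_of_stalksSh_family s hs a fun i => ?_⟩⟩
  · rw [← cancel_epi ((stalkShPullIso f (sepPoint X (g i.down))).hom.app F)]
    exact ((stalkShPullIso f (sepPoint X (g i.down))).hom.naturality a).symm.trans
      ((congrArg (fun k => (stalkSh (sepPoint X (g i.down))).map k ≫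
        (stalkShPullIso f (sepPoint X (g i.down))).hom.app G) h).trans
        ((stalkShPullIso f (sepPoint X (g i.down))).hom.naturality b))
  · exact (NatIso.isIso_map_iff (stalkShPullIso f (sepPoint X (g i.down))) a).mp
      (inferInstanceAs (IsIso ((stalkSh (sepPoint X (g i.down))).map ((EtDesc.pullSh f).map a))))

end Groth.Agent.Et18
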