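import Groth.Agent.Et18.StrictlyHenselBase
import Groth.Agent.Et18.StalkSh
import Mathlib.CategoryTheory.Sites.ConstantSheaf
import Mathlib.CategoryTheory.Sites.Point.Skyscraper

/-!
# Sheaves of sets on the spectrum of a strictly henselian local ring
-/

set_option autoImplicit false

universe u

open CategoryTheory CategoryTheory.Limits AlgebraicGeometry Opposite

set_option backward.isDefEq.respectTransparency.types false
set_option backward.isDefEq.respectTransparency false

namespace Groth.Agent.Et18

variable (R : Type u) [CommRing R] [HenselianLocalRing R] [IsSepClosed (IsLocalRing.ResidueField R)]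
  {K : Type u} [Field K] [IsSepClosed K] (ρ : IsLocalRing.ResidueField R →+* K)

/-- Global sections of sheaves of sets and the closed geometric stalk. -/
noncomputable def sectTopIsoStalk :
    (sheafSections (Spec (CommRingCat.of R)).smallEtaleTopology (Type (u + 1))).obj
        (op (EtCoh.top (Spec (CommRingCat.of R)))) ≅
      stalkSh (Spec.map (CommRingCat.ofHom (ρ.comp (IsLocalRing.residue R)))) :=
  let ξ := Spec.map (CommRingCat.ofHom (ρ.comp (IsLocalRing.residue R)))
  let v : (Scheme.pointSmallEtale ξ).fiber.obj (EtCoh.top (Spec (CommRingCat.of R))) :=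
    Over.homMk ξ (Category.comp_id _)
  haveI : ∀ F : EtDesc.Sh (Spec (CommRingCat.of R)),
      IsIso ((Scheme.pointSmallEtale ξ).toPresheafFiber _ v F.obj) := fun F =>
    (isIso_iff_bijective _).2 (bijective_toPresheafFiber_top R ρ F.obj)
  NatIso.ofComponents (fun F => asIso ((Scheme.pointSmallEtale ξ).toPresheafFiber _ v F.obj))
    (fun a => ((Scheme.pointSmallEtale ξ).toPresheafFiber_naturality a.hom _ v).symm)

/-- On the spectrum of a separably closed field, global sections are an equivalence. -/
theorem isEquivalence_sectTop (k : Type u) [Field k] [IsSepClosed k] :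
    ((sheafSections (Spec (CommRingCat.of k)).smallEtaleTopology (Type (u + 1))).obj
      (op (EtCoh.top (Spec (CommRingCat.of k))))).IsEquivalence := by
  let X := Spec (CommRingCat.of k)
  let J := X.smallEtaleTopology
  have : IsSepClosed (IsLocalRing.ResidueField k) := by
    let e := RingEquiv.ofBijective (IsLocalRing.residue k)
      ⟨RingHom.injective _, IsLocalRing.residue_surjective⟩
    refine IsSepClosed.of_exists_root _ fun p _ hp hs => ?_
    obtain ⟨x, hx⟩ := IsSepClosed.exists_eval₂_eq_zero e.symm.toRingHom p
      (fun h0 => hp.degree_pos.ne' h0) hs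
    refine ⟨e x, e.symm.injective ?_⟩
    rw [map_zero]
    refine Eq.trans ?_ hx
    rw [Polynomial.eval₂_eq_eval_map, ← Polynomial.eval₂_eq_eval_map]
    refine (Polynomial.hom_eval₂ p (RingHom.id _) e.symm.toRingHom (e x)).trans ?_
    simp
  let ρ : IsLocalRing.ResidueField k →+* IsLocalRing.ResidueField k := RingHom.id _
  let Γ := (sheafSections J (Type (u + 1))).obj (op (EtCoh.top X))
  let ξ := Spec.map (CommRingCat.ofHom (ρ.comp (IsLocalRing.residue k)))
  let e : Γ ≅ stalkSh ξ := sectTopIsoStalk k ρ
  let adj : constantSheaf J (Type (u + 1)) ⊣ Γ :=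
    constantSheafAdj J (Type (u + 1)) (EtCore.topIsTerminal X)
  have hsub : ∀ x y : X, x = y := fun (x y : PrimeSpectrum k) => Subsingleton.elim x y
  have hcons : ∀ {F G : EtDesc.Sh X} (a : F ⟶ G), IsIso (Γ.map a) → IsIso a := fun a ha => by
    refine isIso_of_stalksSh_family (ι := PUnit.{u + 2}) (fun _ => ξ) (fun x => ⟨⟨⟩, hsub _ _⟩) a fun _ => ?_
    exact (NatIso.isIso_map_iff e a).1 ha
  have hunit : ∀ M, IsIso (adj.unit.app M) := fun M => by
    rw [isIso_iff_bijective]
    let P : X.Etaleᵒᵖ ⥤ Type (u + 1) := (Functor.const _).obj M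
    let v : (Scheme.pointSmallEtale ξ).fiber.obj (EtCoh.top X) := Over.homMk ξ (Category.comp_id _)
    have hs : Function.Bijective ((CategoryTheory.toSheafify J P).app (op (EtCoh.top X))) := by
      have h := (Scheme.pointSmallEtale ξ).toPresheafFiber_naturality (CategoryTheory.toSheafify J P)
        (EtCoh.top X) v
      have hi : IsIso ((Scheme.pointSmallEtale ξ).presheafFiber.map (CategoryTheory.toSheafify J P)) :=
        inferInstance
      have h1 := bijective_toPresheafFiber_top k ρ P
      have h2 := bijective_toPresheafFiber_top k ρ (CategoryTheory.sheafify J P)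
      refine (Function.Bijective.of_comp_iff' h2 _).1 ?_
      have h3 := ((isIso_iff_bijective _).1 hi).comp h1
      convert h3 using 1
      exact funext fun x => (ConcreteCategory.congr_hom h x).symm
    have e : adj.unit.app M = (CategoryTheory.toSheafify J P).app (op (EtCoh.top X)) := by
      simp [adj, constantSheafAdj, constantPresheafAdj]
      rfl
    rw [e]
    exact hs
  have : IsIso adj.unit := NatIso.isIso_of_isIso_app _
  have : ∀ F, IsIso (adj.counit.app F) := fun F => hcons _ (by
    have := adj.right_triangle_components F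
    have hh : IsIso (adj.unit.app (Γ.obj F) ≫ Γ.map (adj.counit.app F)) := by rw [this]; exact IsIso.id _
    exact IsIso.of_isIso_comp_left (adj.unit.app (Γ.obj F)) _)
  have : IsIso adj.counit := NatIso.isIso_of_isIso_app _
  exact (Adjunction.toEquivalence adj).isEquivalence_inverse

/-- The stalk of a sheaf of sets is its sections on the strict localisation. -/
noncomputable def stalkShIsoPullSections {S : Scheme.{u}} (g : Spec (CommRingCat.of R) ⟶ S) :
    stalkSh (Spec.map (CommRingCat.ofHom (ρ.comp (IsLocalRing.residue R))) ≫ g) ≅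
      EtDesc.pullSh g ⋙ (sheafSections (Spec (CommRingCat.of R)).smallEtaleTopology (Type (u + 1))).obj
        (op (EtCoh.top (Spec (CommRingCat.of R)))) :=
  (stalkShPullIso g _).symm ≪≫ Functor.isoWhiskerLeft (EtDesc.pullSh g) (sectTopIsoStalk R ρ).symm

end Groth.Agent.Et18

namespace Groth.Agent.Et18

/-- Extension of separably closed fields. -/
theorem isEquivalence_pullSh_sepClosed (k k' : Type u) [Field k] [IsSepClosed k] [Field k'] [IsSepClosed k']
    (φ : k →+* k') : (EtDesc.pullSh (Spec.map (CommRingCat.ofHom φ))).IsEquivalence := by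
  let Γ := (sheafSections (Spec (CommRingCat.of k)).smallEtaleTopology (Type (u + 1))).obj
    (op (EtCoh.top (Spec (CommRingCat.of k))))
  let Γ' := (sheafSections (Spec (CommRingCat.of k')).smallEtaleTopology (Type (u + 1))).obj
    (op (EtCoh.top (Spec (CommRingCat.of k'))))
  have : Γ.IsEquivalence := isEquivalence_sectTop k
  have : Γ'.IsEquivalence := isEquivalence_sectTop k'
  have sc : ∀ (F : Type u) [Field F] [IsSepClosed F], IsSepClosed (IsLocalRing.ResidueField F) := by
    intro F _ _
    let e := RingEquiv.ofBijective (IsLocalRing.residue F)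
      ⟨RingHom.injective _, IsLocalRing.residue_surjective⟩
    refine IsSepClosed.of_exists_root _ fun p _ hp hs => ?_
    obtain ⟨x, hx⟩ := IsSepClosed.exists_eval₂_eq_zero e.symm.toRingHom p
      (fun h0 => hp.degree_pos.ne' h0) hs
    refine ⟨e x, e.symm.injective ?_⟩
    rw [map_zero]
    refine Eq.trans ?_ hx
    refine (Polynomial.hom_eval₂ p (RingHom.id _) e.symm.toRingHom (e x)).trans ?_
    simp
  have := sc k
  have := sc k'
  let e := RingEquiv.ofBijective (IsLocalRing.residue k)
    ⟨RingHom.injective _, IsLocalRing.residue_surjective⟩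
  let ρ : IsLocalRing.ResidueField k →+* IsLocalRing.ResidueField k' :=
    ((IsLocalRing.residue k').comp φ).comp e.symm.toRingHom
  have he : ρ.comp (IsLocalRing.residue k) = (IsLocalRing.residue k').comp φ := by
    refine RingHom.ext fun x => ?_
    change IsLocalRing.residue k' (φ (e.symm (e x))) = _
    rw [e.symm_apply_apply]
    rfl
  have hξ : Spec.map (CommRingCat.ofHom ((RingHom.id _).comp (IsLocalRing.residue k'))) ≫
      Spec.map (CommRingCat.ofHom φ) = Spec.map (CommRingCat.ofHom (ρ.comp (IsLocalRing.residue k))) := by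
    rw [← Spec.map_comp, ← CommRingCat.ofHom_comp, RingHom.id_comp, he]
  let i : EtDesc.pullSh (Spec.map (CommRingCat.ofHom φ)) ⋙ Γ' ≅ Γ :=
    (stalkShIsoPullSections k' (RingHom.id _) _).symm ≪≫ eqToIso (congrArg stalkSh hξ) ≪≫
      (sectTopIsoStalk k ρ).symm
  have : (EtDesc.pullSh (Spec.map (CommRingCat.ofHom φ)) ⋙ Γ').IsEquivalence :=
    Functor.isEquivalence_of_iso i.symm
  exact Functor.isEquivalence_of_comp_right _ Γ'

end Groth.Agent.Et18
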