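import Groth.Agent.HenselLib.LocalHens
import Groth.Agent.HenselLib.HullFlat
import Groth.Agent.CAlgMisc2.Nbhd
import Mathlib.RingTheory.TensorProduct.Maps

/-!
# Idempotents of geometric fibres of maps of hulls come from finite stages
-/

set_option autoImplicit false
set_option backward.isDefEq.respectTransparency.types false
set_option backward.isDefEq.respectTransparency false

universe u

open CategoryTheory CategoryTheory.Limits IsLocalRing
open scoped TensorProduct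

namespace Groth.Agent.Et18.StageTensor

open HenselLib

variable {R₀ A K : Type u} [CommRing R₀] [CommRing A] [Algebra R₀ A] [CommRing K] [Algebra A K]
  (Ω : Type u) [CommRing Ω] [Algebra R₀ Ω]

/-- The diagram of base changes of the stages of a hull. -/
noncomputable def tensorDiagram : Pt A K ⥤ CommRingCat.{u} where
  obj P := CommRingCat.of (P.Ring ⊗[R₀] Ω)
  map f := CommRingCat.ofHom
    (Algebra.TensorProduct.map (f.map.restrictScalars R₀) (AlgHom.id R₀ Ω)).toRingHom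
  map_id P := CommRingCat.hom_ext (RingHom.ext fun z => congr($(Algebra.TensorProduct.map_id) z))
  map_comp f g := CommRingCat.hom_ext (RingHom.ext fun z => by
    induction z using TensorProduct.induction_on with
    | zero => simp
    | tmul p w => rfl
    | add a b ha hb => rw [map_add, map_add, ha, hb])

/-- An element of a stage vanishing in the colimit vanishes at some stage. -/
theorem exists_stage_zero {R : Type u} [CommRing R] [Algebra A R] [Algebra R₀ R] [IsScalarTower R₀ A R]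
    (e : Hull A K ≃ₐ[A] R) (P : Pt A K) (w : P.Ring ⊗[R₀] Ω)
    (hw : Algebra.TensorProduct.map ((e.toAlgHom.comp (ι P)).restrictScalars R₀) (AlgHom.id R₀ Ω) w = 0) :
    ∃ (S : Pt A K) (f : P ⟶ S),
      Algebra.TensorProduct.map (f.map.restrictScalars R₀) (AlgHom.id R₀ Ω) w = 0 := by
  let D := tensorDiagram (A := A) (K := K) (R₀ := R₀) Ω
  let L : CommRingCat.{u} := colimit D
  let c : Cocone (hullDiagram A K) :=
    { pt := L
      ι :=
        { app := fun Q => CommRingCat.ofHom ((colimit.ι D Q).hom.comp Algebra.TensorProduct.includeLeftRingHom)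
          naturality := fun Q S f => CommRingCat.hom_ext (RingHom.ext fun x =>
            congr($(colimit.w D f).hom (x ⊗ₜ[R₀] (1 : Ω)))) } }
  let G : R →+* L := (colimit.desc (hullDiagram A K) c).hom.comp e.symm.toAlgHom.toRingHom
  have hG : ∀ (Q : Pt A K) (x : Q.Ring), G (e (ι Q x)) = (colimit.ι D Q).hom (x ⊗ₜ[R₀] (1 : Ω)) :=
    fun Q x => (congrArg (colimit.desc (hullDiagram A K) c).hom (e.symm_apply_apply _)).trans
      (colimit_desc_ι c Q x)
  let : Algebra R₀ L := (G.comp (algebraMap R₀ R)).toAlgebra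
  let GR : R →ₐ[R₀] L := { G with commutes' := fun _ => rfl }
  let GΩ : Ω →ₐ[R₀] L :=
    { (colimit.ι D P).hom.comp Algebra.TensorProduct.includeRight.toRingHom with
      commutes' := fun r => by
        show (colimit.ι D P).hom ((1 : P.Ring) ⊗ₜ[R₀] algebraMap R₀ Ω r) = G (algebraMap R₀ R r)
        rw [Algebra.algebraMap_eq_smul_one (A := Ω), ← TensorProduct.smul_tmul,
          ← Algebra.algebraMap_eq_smul_one,
          ← ((e.toAlgHom.comp (ι P)).restrictScalars R₀).commutes r]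
        exact (hG P _).symm }
  let Θ := Algebra.TensorProduct.lift GR GΩ fun _ _ => Commute.all _ _
  have hΘ : ∀ z : P.Ring ⊗[R₀] Ω, Θ (Algebra.TensorProduct.map
      ((e.toAlgHom.comp (ι P)).restrictScalars R₀) (AlgHom.id R₀ Ω) z) = (colimit.ι D P).hom z := by
    intro z
    induction z using TensorProduct.induction_on with
    | zero => simp
    | tmul p ω =>
        rw [Algebra.TensorProduct.map_tmul]
        show Θ (e (ι P p) ⊗ₜ[R₀] ω) = _
        rw [Algebra.TensorProduct.lift_tmul]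
        show G (e (ι P p)) * (colimit.ι D P).hom ((1 : P.Ring) ⊗ₜ[R₀] ω) = _
        rw [hG, ← map_mul, Algebra.TensorProduct.tmul_mul_tmul, mul_one, one_mul]
    | add a b ha hb => rw [map_add, map_add, map_add, ha, hb]
  have h0 : (colimit.ι D P).hom w = (colimit.ι D P).hom 0 := by rw [← hΘ, hw, map_zero, map_zero]
  obtain ⟨S, f, g, hfg⟩ := (Concrete.colimit_rep_eq_iff_exists D w (0 : P.Ring ⊗[R₀] Ω)).1 h0
  exact ⟨S, f, hfg.trans (map_zero (D.map g).hom)⟩

/-- Ring maps out of a tensor product. -/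
theorem exists_lift_ringHom {B C D S : Type u} [CommRing B] [CommRing C] [CommRing D] [CommRing S]
    [Algebra B C] [Algebra B D] (fC : C →+* S) (fD : D →+* S)
    (h : ∀ b, fC (algebraMap B C b) = fD (algebraMap B D b)) :
    ∃ F : C ⊗[B] D →+* S, ∀ c d, F (c ⊗ₜ[B] d) = fC c * fD d := by
  let : Algebra B S := (fC.comp (algebraMap B C)).toAlgebra
  exact ⟨(Algebra.TensorProduct.lift ({ fC with commutes' := fun _ => rfl } : C →ₐ[B] S)
    ({ fD with commutes' := fun b => (h b).symm } : D →ₐ[B] S) fun _ _ => Commute.all _ _).toRingHom,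
    fun _ _ => Algebra.TensorProduct.lift_tmul _ _ _ _ _⟩

section Idempotent

variable {RY RX : Type u} [CommRing RY] [CommRing RX] [HenselianLocalRing RX] [Algebra R₀ RY]
  [Algebra A RX] [Algebra R₀ RX] [IsScalarTower R₀ A RX] [Algebra RY RX] [IsScalarTower R₀ RY RX]
  {KY : Type u} [CommRing KY] [Algebra R₀ KY] (eY : Hull R₀ KY ≃ₐ[R₀] RY)
  (eX : Hull A (ResidueField RX) ≃ₐ[A] RX)
  [Algebra RY Ω] [IsScalarTower R₀ RY Ω]

/-- The comparison from a stage. -/
noncomputable def toFibre (P : Pt A (ResidueField RX)) : P.Ring ⊗[R₀] Ω →ₐ[R₀] RX ⊗[RY] Ω :=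
  (Algebra.TensorProduct.lift ((Algebra.TensorProduct.includeLeft : RX →ₐ[RY] RX ⊗[RY] Ω).restrictScalars R₀)
    ((Algebra.TensorProduct.includeRight : Ω →ₐ[RY] RX ⊗[RY] Ω).restrictScalars R₀)
    fun _ _ => Commute.all _ _).comp
    (Algebra.TensorProduct.map ((eX.toAlgHom.comp (ι P)).restrictScalars R₀) (AlgHom.id R₀ Ω))

theorem toFibre_tmul (P : Pt A (ResidueField RX)) (p : P.Ring) (ω : Ω) :
    toFibre Ω eX P (p ⊗ₜ[R₀] ω) = (eX (ι P p)) ⊗ₜ[RY] ω := by
  simp [toFibre]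

/-- An element with `ε * ε = n * ε` of a fibre comes from a stage. -/
theorem exists_stage_rel (heX : ∀ h, residue RX (eX h) = hullPt A (ResidueField RX) h)
    (n : ℕ) (ε : RX ⊗[RY] Ω) (hε : ε * ε = n * ε) :
    ∃ (Q : Pt R₀ KY) (P : Pt A (ResidueField RX)) (ψ : Q.Ring →ₐ[R₀] P.Ring) (z : P.Ring ⊗[R₀] Ω),
      (∀ q, eX (ι P (ψ q)) = algebraMap RY RX (eY (ι Q q))) ∧ toFibre Ω eX P z = ε ∧
      z * z - n * z ∈ Ideal.span (Set.range fun q : Q.Ring =>
        ψ q ⊗ₜ[R₀] (1 : Ω) - 1 ⊗ₜ[R₀] algebraMap RY Ω (eY (ι Q q))) := by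
  classical
  let π : RX ⊗[R₀] Ω →ₐ[R₀] RX ⊗[RY] Ω := Algebra.TensorProduct.lift
    ((Algebra.TensorProduct.includeLeft : RX →ₐ[RY] RX ⊗[RY] Ω).restrictScalars R₀)
    ((Algebra.TensorProduct.includeRight : Ω →ₐ[RY] RX ⊗[RY] Ω).restrictScalars R₀)
    fun _ _ => Commute.all _ _
  have hπ : ∀ r ω, π (r ⊗ₜ[R₀] ω) = r ⊗ₜ[RY] ω := fun r ω => by simp [π]
  let gen : RY → RX ⊗[R₀] Ω := fun b =>
    algebraMap RY RX b ⊗ₜ[R₀] (1 : Ω) - 1 ⊗ₜ[R₀] algebraMap RY Ω b
  let J : Ideal (RX ⊗[R₀] Ω) := Ideal.span (Set.range gen)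
  have hker : ∀ m, π m = 0 → m ∈ J := by
    obtain ⟨back, hback⟩ := exists_lift_ringHom (B := RY) (C := RX) (D := Ω)
      ((Ideal.Quotient.mk J).comp Algebra.TensorProduct.includeLeftRingHom)
      ((Ideal.Quotient.mk J).comp Algebra.TensorProduct.includeRight.toRingHom)
      (fun b => Ideal.Quotient.eq.mpr (Ideal.subset_span ⟨b, rfl⟩))
    have hb : ∀ m, back (π m) = Ideal.Quotient.mk J m := by
      intro m
      induction m using TensorProduct.induction_on with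
      | zero => simp
      | tmul r ω =>
          rw [hπ, hback]
          show Ideal.Quotient.mk J (r ⊗ₜ[R₀] (1 : Ω)) * Ideal.Quotient.mk J ((1 : RX) ⊗ₜ[R₀] ω) = _
          rw [← map_mul, Algebra.TensorProduct.tmul_mul_tmul, mul_one, one_mul]
      | add a b ha hb => rw [map_add, map_add, map_add, ha, hb]
    exact fun m hm => Ideal.Quotient.eq_zero_iff_mem.1 ((hb m).symm.trans (by rw [hm, map_zero]))
  obtain ⟨m, hm⟩ : ∃ m, π m = ε := by
    clear hε
    induction ε using TensorProduct.induction_on with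
    | zero => exact ⟨0, map_zero π⟩
    | tmul r ω => exact ⟨r ⊗ₜ ω, hπ r ω⟩
    | add a b ha hb =>
        obtain ⟨a', rfl⟩ := ha
        obtain ⟨b', rfl⟩ := hb
        exact ⟨a' + b', map_add π a' b'⟩
  have hmem : m * m - n * m ∈ J := hker _ (by rw [map_sub, map_mul, map_mul, map_natCast, hm, hε, sub_self])
  obtain ⟨c, hc⟩ := Finsupp.mem_span_range_iff_exists_finsupp.1 hmem
  -- the stage on the base
  obtain ⟨Q, bQ, hbQ⟩ := exists_rep_finset (R := R₀) (K := KY) c.support fun b => eY.symm b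
  -- the point of the base change of the stage
  let jQ : Q.Ring →ₐ[R₀] RX := (IsScalarTower.toAlgHom R₀ RY RX).comp (eY.toAlgHom.comp (ι Q))
  let σQ : Q.Ring →ₐ[R₀] ResidueField RX := (IsScalarTower.toAlgHom R₀ RX (ResidueField RX)).comp jQ
  let σ : A ⊗[R₀] Q.Ring →ₐ[A] ResidueField RX :=
    Algebra.TensorProduct.lift (Algebra.ofId A _) σQ fun _ _ => Commute.all _ _
  obtain ⟨P₁, e₁, he₁⟩ := Pt.exists_equiv (A ⊗[R₀] Q.Ring) σ
  let ψ₁ : Q.Ring →ₐ[R₀] P₁.Ring :=
    (e₁.symm.toAlgHom.restrictScalars R₀).comp Algebra.TensorProduct.includeRight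
  have hψ₁ : ∀ q, eX (ι P₁ (ψ₁ q)) = jQ q := by
    intro q
    refine congr($((existsUnique_to_residueField RX σQ).unique
      (y₁ := ((eX.toAlgHom.comp (ι P₁)).restrictScalars R₀).comp ψ₁) (y₂ := jQ) (fun q => ?_)
      (fun q => rfl)) q)
    show residue RX (eX (ι P₁ (e₁.symm (1 ⊗ₜ[R₀] q)))) = σQ q
    rw [heX, hullPt_ι, ← he₁, e₁.apply_symm_apply]
    simp [σ]
  -- the stage on the source
  obtain ⟨T, hT⟩ := TensorProduct.exists_finset m
  obtain ⟨U, hU⟩ : ∃ U : RY → Finset (RX × Ω), ∀ b, c b = ∑ i ∈ U b, i.1 ⊗ₜ[R₀] i.2 := by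
    choose U hU using fun b => TensorProduct.exists_finset (c b)
    exact ⟨U, hU⟩
  let s : Finset RX := T.image Prod.fst ∪ c.support.biUnion fun b => (U b).image Prod.fst
  obtain ⟨P₂, x₂, hx₂⟩ := exists_rep_finset (R := A) (K := ResidueField RX) s fun r => eX.symm r
  obtain ⟨P₃, f₁, f₂, -⟩ := IsFilteredOrEmpty.cocone_objs P₁ P₂
  let x : RX → P₃.Ring := fun r => f₂.map (x₂ r)
  have hx : ∀ r ∈ s, eX (ι P₃ (x r)) = r := fun r hr => by
    rw [ι_map f₂, hx₂ r hr, eX.apply_symm_apply]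
  let ψ₃ : Q.Ring →ₐ[R₀] P₃.Ring := (f₁.map.restrictScalars R₀).comp ψ₁
  have hψ₃ : ∀ q, eX (ι P₃ (ψ₃ q)) = jQ q := fun q => (congrArg eX (ι_map f₁ (ψ₁ q))).trans (hψ₁ q)
  let z₃ : P₃.Ring ⊗[R₀] Ω := ∑ i ∈ T, x i.1 ⊗ₜ[R₀] i.2
  let g₃ : RY → P₃.Ring ⊗[R₀] Ω := fun b =>
    ψ₃ (bQ b) ⊗ₜ[R₀] (1 : Ω) - 1 ⊗ₜ[R₀] algebraMap RY Ω (eY (ι Q (bQ b)))
  let w : P₃.Ring ⊗[R₀] Ω :=
    z₃ * z₃ - n * z₃ - ∑ b ∈ c.support, (∑ i ∈ U b, x i.1 ⊗ₜ[R₀] i.2) * g₃ b
  let μ := Algebra.TensorProduct.map ((eX.toAlgHom.comp (ι P₃)).restrictScalars R₀) (AlgHom.id R₀ Ω)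
  have hμt : ∀ (p : P₃.Ring) (ω : Ω), μ (p ⊗ₜ[R₀] ω) = eX (ι P₃ p) ⊗ₜ[R₀] ω := fun p ω => rfl
  have hz : μ z₃ = m := by
    rw [map_sum, hT]
    refine Finset.sum_congr rfl fun i hi => ?_
    rw [hμt, hx _ (Finset.mem_union_left _ (Finset.mem_image_of_mem _ hi))]
  have hw : μ w = 0 := by
    rw [map_sub, map_sub, map_mul, map_mul, map_natCast, hz, ← hc, map_sum, sub_eq_zero, Finsupp.sum]
    refine Finset.sum_congr rfl fun b hb => ?_
    rw [map_mul, map_sum, hU b, smul_eq_mul]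
    congr 1
    · refine Finset.sum_congr rfl fun i hi => ?_
      rw [hμt, hx _ (Finset.mem_union_right _ (Finset.mem_biUnion.2 ⟨b, hb, Finset.mem_image_of_mem _ hi⟩))]
    · simp only [gen, g₃, map_sub, hμt, map_one]
      rw [hψ₃, show eY (ι Q (bQ b)) = b by rw [hbQ b hb, eY.apply_symm_apply],
        show jQ (bQ b) = algebraMap RY RX b from by
          show algebraMap RY RX (eY (ι Q (bQ b))) = _
          rw [hbQ b hb, eY.apply_symm_apply]]
  obtain ⟨P, f, hf⟩ := exists_stage_zero Ω eX P₃ w hw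
  let F := Algebra.TensorProduct.map (f.map.restrictScalars R₀) (AlgHom.id R₀ Ω)
  refine ⟨Q, P, (f.map.restrictScalars R₀).comp ψ₃, F z₃,
    fun q => (congrArg eX (ι_map f (ψ₃ q))).trans (hψ₃ q), ?_, ?_⟩
  · rw [← hm, ← hz]
    show toFibre Ω eX P (F z₃) = π (μ z₃)
    simp only [z₃, map_sum]
    refine Finset.sum_congr rfl fun i _ => ?_
    rw [hμt, hπ, show F (x i.1 ⊗ₜ[R₀] i.2) = f.map (x i.1) ⊗ₜ[R₀] i.2 from rfl, toFibre_tmul, ι_map f]
  · have h1 : F z₃ * F z₃ - n * F z₃ = ∑ b ∈ c.support, F (∑ i ∈ U b, x i.1 ⊗ₜ[R₀] i.2) * F (g₃ b) := by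
      have : F w = 0 := hf
      simp only [w, map_sub, map_mul, map_natCast, map_sum] at this ⊢
      exact sub_eq_zero.1 this
    rw [h1]
    refine Ideal.sum_mem _ fun b _ => Ideal.mul_mem_left _ _ (Ideal.subset_span ⟨bQ b, ?_⟩)
    simp [F, g₃]


/-- An idempotent of a geometric fibre comes from a stage. -/
theorem exists_stage_idempotent (heX : ∀ h, residue RX (eX h) = hullPt A (ResidueField RX) h)
    (ε : RX ⊗[RY] Ω) (hε : IsIdempotentElem ε) :
    ∃ (Q : Pt R₀ KY) (P : Pt A (ResidueField RX)) (ψ : Q.Ring →ₐ[R₀] P.Ring) (z : P.Ring ⊗[R₀] Ω),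
      (∀ q, eX (ι P (ψ q)) = algebraMap RY RX (eY (ι Q q))) ∧ toFibre Ω eX P z = ε ∧
      z * z - z ∈ Ideal.span (Set.range fun q : Q.Ring =>
        ψ q ⊗ₜ[R₀] (1 : Ω) - 1 ⊗ₜ[R₀] algebraMap RY Ω (eY (ι Q q))) := by
  simpa using exists_stage_rel Ω eY eX heX 1 ε (by simpa using hε.eq)

end Idempotent

end Groth.Agent.Et18.StageTensor
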