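import Groth.Agent.Et18.HofPushSquare
import Groth.Agent.Et18.FLC
import Groth.Agent.Et18.Presentation
import Groth.Agent.Et18.FilteredSections
import Groth.Agent.EtFLC.Represent

/-!
# Degree one classes of finite locally constant sheaves die on finite étale covers
-/

set_option autoImplicit false
set_option linter.all false
set_option backward.isDefEq.respectTransparency.types false
set_option backward.isDefEq.respectTransparency false
set_option synthInstance.maxHeartbeats 400000
set_option maxHeartbeats 1000000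

universe u

open CategoryTheory CategoryTheory.Limits CategoryTheory.Abelian AlgebraicGeometry Opposite
open Groth.Agent.EtLimit Groth.Agent.SiteCoh

namespace Groth.Agent.Et18.H1Kill

variable {X : Scheme.{u}}

/-- The unique map to the terminal object. -/
noncomputable def toTop (W : X.Etale) : W ⟶ EtCoh.top X := (EtCore.topIsTerminal X).from W

theorem secOf_comp {F G : EtCoh.Ab X} (k : EtCoh.const X ℤ ⟶ F) (a : F ⟶ G) :
    secOf (k ≫ a) = a.hom.app (op (EtCoh.top X)) (secOf k) := by
  rw [secOf, secOf, (EtCore.constAdj X).homEquiv_naturality_right]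
  rfl

/-- A class `y ∘ δ` dies after pullback to `W` once `y` lifts to a section of the middle term over `W`. -/
theorem Hpull_eq_zero_of_lift {S : ShortComplex (EtCoh.Ab X)} (hS : S.ShortExact)
    (y : EtCoh.const X ℤ ⟶ S.X₃) (W : X.Etale) [PreservesFiniteLimits (EtCoh.pull W.hom)]
    (s : S.X₂.obj.obj (op W))
    (hs : S.g.hom.app (op W) s = S.X₃.obj.map (toTop W).op (secOf y)) :
    EtCore.Hpull W.hom S.X₁ 1 ((Ext.mk₀ y).comp hS.extClass (zero_add 1)) = 0 := by
  let P := EtCoh.pull W.hom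
  let adj := EtCoh.pullPushAdj W.hom
  have hg := hS.map_of_exact P
  let d : EtCoh.top W.left ⟶ (EtCoh.bc W.hom).obj W :=
    MorphismProperty.Over.homMk (pullback.lift (𝟙 W.left) (𝟙 W.left) rfl) (pullback.lift_snd _ _ _)
  obtain ⟨l, hl⟩ := exists_secOf (F := P.obj S.X₂)
    ((P.obj S.X₂).obj.map d.op ((adj.unit.app S.X₂).hom.app (op W) s))
  rw [HpullComp.Hpull_eq_hPull]
  refine (extPull_extClass P (EtCore.pullConst W.hom ℤ).inv hS hg (𝟙 _) 0 (Ext.mk₀ y)).trans ?_
  refine (congrArg (fun z => Ext.comp z hg.extClass (zero_add 1))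
    (extPull_mk₀ P (EtCore.pullConst W.hom ℤ).inv (𝟙 _) y)).trans ?_
  suffices he : (EtCore.pullConst W.hom ℤ).inv ≫ P.map y ≫ 𝟙 _ = l ≫ P.map S.g by
    refine (congrArg (fun z => Ext.comp (Ext.mk₀ z) hg.extClass (zero_add 1)) he).trans ?_
    rw [← Ext.mk₀_comp_mk₀, Ext.comp_assoc _ _ _ (zero_add 0) (zero_add 1) (by omega)]
    refine (congrArg (fun z => (Ext.mk₀ l).comp z (zero_add 1)) hg.comp_extClass).trans ?_
    exact Ext.comp_zero _ _ _ _ _
  refine secOf_injective ((HpullComp.secOf_pull_id W.hom S.X₃ y).trans ?_)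
  rw [secOf_comp, hl]
  refine Eq.trans ?_ (NatTrans.naturality_apply (P.map S.g).hom d.op _).symm
  have h1 : (P.map S.g).hom.app (op ((EtCoh.bc W.hom).obj W)) ((adj.unit.app S.X₂).hom.app (op W) s) =
      (adj.unit.app S.X₃).hom.app (op W) (S.g.hom.app (op W) s) :=
    (congrArg (fun k : S.X₂ ⟶ (EtCoh.push W.hom).obj (P.obj S.X₃) => k.hom.app (op W) s)
      (adj.unit.naturality S.g)).symm
  refine Eq.trans ?_ (congrArg ((P.obj S.X₃).obj.map d.op)
    (h1.trans ((congrArg _ hs).trans (HpullComp.map_unit_bc W.hom S.X₃ (toTop W) (secOf y))))).symm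
  refine Eq.trans ?_ (Functor.map_comp_apply _ _ _ _)
  refine congrArg (fun a => (P.obj S.X₃).obj.map a ((adj.unit.app S.X₃).hom.app (op (EtCoh.top X)) (secOf y)))
    (Quiver.Hom.unop_inj ?_)
  exact (EtCore.bcTopIsTerminal W.hom).hom_ext _ _

section Extension

variable {S : ShortComplex (EtCoh.Ab X)} (hS : S.ShortExact) {C : EtCoh.Ab X} (y : C ⟶ S.X₃)

/-- The pullback of an extension along a map into its quotient. -/
noncomputable def extPullback : ShortComplex (EtCoh.Ab X) :=
  ShortComplex.mk (pullback.lift S.f 0 (by rw [S.zero, zero_comp]) : S.X₁ ⟶ pullback S.g y) (pullback.snd S.g y)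
    (pullback.lift_snd _ _ _)

include hS in
theorem extPullback_shortExact : (extPullback y).ShortExact := by
  haveI := hS.mono_f
  haveI := hS.epi_g
  haveI : Mono ((extPullback (S := S) y).f ≫ pullback.fst S.g y) := by
    rw [show (extPullback (S := S) y).f ≫ pullback.fst S.g y = S.f from pullback.lift_fst _ _ _]; infer_instance
  refine { exact := ?_, mono_f := mono_of_mono _ (pullback.fst S.g y), epi_g := ?_ }
  · rw [ShortComplex.exact_iff_exact_up_to_refinements]
    intro A x (hx : x ≫ pullback.snd S.g y = 0)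
    have h : (x ≫ pullback.fst S.g y) ≫ S.g = 0 := by
      rw [Category.assoc, pullback.condition, reassoc_of% hx, zero_comp]
    refine ⟨A, 𝟙 A, inferInstance, hS.exact.lift _ h, ?_⟩
    show 𝟙 A ≫ x = hS.exact.lift _ h ≫ pullback.lift S.f 0 _
    apply pullback.hom_ext
    · refine Eq.trans ?_ (Category.assoc _ _ _).symm
      rw [pullback.lift_fst, Category.id_comp]
      exact (hS.exact.lift_f _ h).symm
    · refine Eq.trans ?_ (Category.assoc _ _ _).symm
      rw [pullback.lift_snd, comp_zero, Category.id_comp]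
      exact hx
  · show Epi (pullback.snd S.g y)
    infer_instance

end Extension

/-- A preimage of a section of a finite locally constant sheaf along an epimorphism of such sheaves exists
on a finite étale surjective cover. -/
theorem exists_finite_lift {E C : EtCoh.Ab X} (π : E ⟶ C) [Epi π] (hE : EtCoh.IsFiniteLocallyConstant E)
    (hC : EtCoh.IsFiniteLocallyConstant C) (c : C.obj.obj (op (EtCoh.top X))) :
    ∃ (W : X.Etale) (s : E.obj.obj (op W)), IsFinite W.hom ∧ Surjective W.hom ∧
      π.hom.app (op W) s = C.obj.map (toTop W).op c := by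
  obtain ⟨A, hA, ⟨eE⟩⟩ := EtFLC.exists_representing E hE
  obtain ⟨B, hB, ⟨eC⟩⟩ := EtFLC.exists_representing C hC
  -- the correspondences between sections and maps
  let hom : ∀ {T : X.Etale}, C.obj.obj (op T) → (T ⟶ B) := fun {T} x => (eC.hom.app (op T) x).down
  have hom_inj : ∀ {T : X.Etale} (x x' : C.obj.obj (op T)), hom x = hom x' → x = x' := fun {T} x x' h =>
    ((Iso.app eC (op T)).toEquiv).injective (ULift.ext _ _ h)
  have hom_map : ∀ {T T' : X.Etale} (g : T' ⟶ T) (x : C.obj.obj (op T)),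
      hom (C.obj.map g.op x) = g ≫ hom x := fun {T T'} g x =>
    congrArg ULift.down (NatTrans.naturality_apply eC.hom g.op x)
  let sec : ∀ {T : X.Etale}, (T ⟶ A) → E.obj.obj (op T) := fun {T} a => eE.inv.app (op T) (@ULift.up.{u + 1, u} (T ⟶ A) a)
  have sec_surj : ∀ {T : X.Etale} (x : E.obj.obj (op T)), ∃ a, sec a = x := fun {T} x =>
    ⟨(eE.hom.app (op T) x).down, eE.hom_inv_id_app_apply (op T) x⟩
  have sec_map : ∀ {T T' : X.Etale} (g : T' ⟶ T) (a : T ⟶ A), sec (g ≫ a) = E.obj.map g.op (sec a) :=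
    fun {T T'} g a => NatTrans.naturality_apply eE.inv g.op (@ULift.up.{u + 1, u} (T ⟶ A) a)
  let p : A ⟶ B := hom (π.hom.app (op A) (sec (𝟙 A)))
  have hp : ∀ {T : X.Etale} (a : T ⟶ A), hom (π.hom.app (op T) (sec a)) = a ≫ p := fun {T} a => by
    rw [← hom_map, ← NatTrans.naturality_apply π.hom a.op, ← sec_map, Category.comp_id]
  let q : EtCoh.top X ⟶ B := hom c
  haveI := A.prop
  haveI := B.prop
  haveI := hA
  haveI := hB
  haveI : Etale q.left := by
    haveI : Etale (q.left ≫ B.hom) := by rw [MorphismProperty.Over.w q]; exact (EtCoh.top X).prop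
    exact MorphismProperty.of_postcomp (W := @Etale) (W' := @Etale) q.left B.hom inferInstance ‹_›
  haveI : IsFinite q.left := by
    haveI : IsFinite (q.left ≫ B.hom) := by
      rw [MorphismProperty.Over.w q]; exact inferInstanceAs (IsFinite (𝟙 X))
    exact IsFinite.of_comp q.left B.hom
  let W : X.Etale := Scheme.Etale.mk (pullback.fst p.left q.left ≫ A.hom)
  let w : W ⟶ A := MorphismProperty.Over.homMk (pullback.fst p.left q.left) rfl
  refine ⟨W, sec w, inferInstanceAs (IsFinite (pullback.fst p.left q.left ≫ A.hom)), ⟨fun x => ?_⟩, ?_⟩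
  · haveI : Sheaf.IsLocallySurjective π := (Sheaf.isLocallySurjective_iff_epi' (φ := π) ..).mpr inferInstance
    obtain ⟨Z, f, ⟨e, he⟩, z, hz⟩ := exists_mem_sieve_point
      (Presheaf.imageSieve_mem X.smallEtaleTopology π.hom c) (x : (EtCoh.top X).left)
    obtain ⟨a, rfl⟩ := sec_surj e
    have h : a ≫ p = f ≫ q := by rw [← hp, he, hom_map]
    let v := pullback.lift a.left f.left (congrArg (fun k => k.left) h)
    refine ⟨v z, ?_⟩
    show (v ≫ pullback.fst p.left q.left ≫ A.hom) z = x
    rw [pullback.lift_fst_assoc, MorphismProperty.Over.w a, ← MorphismProperty.Over.w f]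
    exact hz
  · refine hom_inj _ _ ?_
    rw [hp, hom_map]
    refine MorphismProperty.Over.Hom.ext ?_
    show pullback.fst p.left q.left ≫ p.left = (toTop W).left ≫ q.left
    rw [pullback.condition]
    congr 1
    have h1 := MorphismProperty.Over.w (toTop W)
    have h2 : pullback.snd p.left q.left = pullback.fst p.left q.left ≫ A.hom := by
      have h3 := congrArg (· ≫ B.hom) (pullback.condition (f := p.left) (g := q.left))
      simp only [Category.assoc, MorphismProperty.Over.w p, MorphismProperty.Over.w q] at h3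
      exact (Category.comp_id _).symm.trans h3.symm
    rw [h2]
    exact h1.symm.trans (Category.comp_id _)

/-- Multiplication by `n` on `ℤ`. -/
noncomputable abbrev mulN (n : ℕ) : AddCommGrpCat.of (ULift.{u + 1} ℤ) ⟶ AddCommGrpCat.of (ULift.{u + 1} ℤ) :=
  n • 𝟙 _

/-- Reduction modulo `n`. -/
noncomputable abbrev castN (n : ℕ) : AddCommGrpCat.of (ULift.{u + 1} ℤ) ⟶ AddCommGrpCat.of (ULift.{u + 1} (ZMod n)) :=
  AddCommGrpCat.ofHom (AddEquiv.ulift.symm.toAddMonoidHom.comp
    ((Int.castAddHom (ZMod n)).comp AddEquiv.ulift.toAddMonoidHom))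

theorem mulN_down (n : ℕ) (a : ULift.{u + 1} ℤ) : (mulN.{u} n a).down = (n : ℤ) * a.down := by
  show ((n • 𝟙 (AddCommGrpCat.of (ULift.{u + 1} ℤ)) : _ ⟶ _) a).down = _
  simp

theorem castN_down (n : ℕ) (a : ULift.{u + 1} ℤ) : (castN.{u} n a).down = (a.down : ZMod n) := rfl

theorem mulN_castN (n : ℕ) : mulN.{u} n ≫ castN.{u} n = 0 := by
  refine AddCommGrpCat.hom_ext (AddMonoidHom.ext fun a => ULift.ext _ _ ?_)
  refine ((castN_down n (mulN n a)).trans (congrArg (Int.cast : ℤ → ZMod n) (mulN_down n a))).trans ?_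
  simp

/-- `0 → ℤ → ℤ → ℤ/n → 0`. -/
noncomputable abbrev zmodCx (n : ℕ) : ShortComplex AddCommGrpCat.{u + 1} :=
  ShortComplex.mk (mulN n) (castN n) (mulN_castN n)

theorem zmodCx_shortExact (n : ℕ) (hn : 0 < n) : (zmodCx.{u} n).ShortExact := by
  refine { exact := ?_, mono_f := ?_, epi_g := ?_ }
  · rw [ShortComplex.ab_exact_iff]
    intro a ha
    obtain ⟨b, hb⟩ := (ZMod.intCast_zmod_eq_zero_iff_dvd a.down n).mp (congrArg ULift.down ha)
    exact ⟨⟨b⟩, ULift.ext _ _ ((mulN_down.{u} n ⟨b⟩).trans hb.symm)⟩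
  · rw [AddCommGrpCat.mono_iff_injective]
    intro a b h
    have := congrArg ULift.down h
    rw [mulN_down, mulN_down] at this
    exact ULift.ext _ _ (mul_left_cancel₀ (by exact_mod_cast hn.ne') this)
  · rw [AddCommGrpCat.epi_iff_surjective]
    intro b
    obtain ⟨a, ha⟩ := ZMod.intCast_surjective (n := n) b.down
    exact ⟨⟨a⟩, ULift.ext _ _ ha⟩

/-- A degree one class of a finite locally constant sheaf killed by `n ≥ 1` dies on a finite étale cover. -/
theorem exists_cover_Hpull_eq_zero (F : EtCoh.Ab X) (hF : EtCoh.IsFiniteLocallyConstant F) (n : ℕ) (hn : 0 < n)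
    (hk : EtCoh.KilledBy n F) (ζ : EtCoh.H X F 1) :
    ∃ (Y' : Scheme.{u}) (g : Y' ⟶ X), IsFinite g ∧ Etale g ∧ Surjective g ∧
      ∀ [PreservesFiniteLimits (EtCoh.pull g)], EtCore.Hpull g F 1 ζ = 0 := by
  haveI : NeZero n := ⟨hn.ne'⟩
  haveI : Finite (AddCommGrpCat.of (ULift.{u + 1} (ZMod n))) := inferInstanceAs (Finite (ULift.{u + 1} (ZMod n)))
  have hT := (zmodCx_shortExact.{u} n hn).map_of_exact (cst X)
  have hz : (Ext.mk₀ ((cst X).map (mulN n))).comp ζ (zero_add 1) = 0 := by
    have h2 : ζ.comp (Ext.mk₀ (n • 𝟙 F)) (add_zero 1) = 0 := by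
      rw [nsmul_id_of_killedBy hk, Ext.mk₀_zero, Ext.comp_zero]
    rw [mulN, Functor.map_nsmul, CategoryTheory.Functor.map_id]
    rw [show (Ext.mk₀ (n • 𝟙 ((cst X).obj (AddCommGrpCat.of (ULift.{u + 1} ℤ))))) = n • Ext.mk₀ (𝟙 _) from
        map_nsmul Ext.addEquiv₀.symm n _]
    rw [show (Ext.mk₀ (n • 𝟙 F)) = n • Ext.mk₀ (𝟙 F) from map_nsmul Ext.addEquiv₀.symm n _] at h2
    refine (map_nsmul (AddMonoidHom.mk' (fun z => Ext.comp z ζ (zero_add 1))
      (fun a b => Ext.add_comp a b ζ _)) n _).trans ?_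
    refine Eq.trans (congrArg (n • ·) ((Ext.mk₀_id_comp ζ).trans (Ext.comp_mk₀_id ζ).symm)) ?_
    exact ((map_nsmul (AddMonoidHom.mk' (fun z => Ext.comp ζ z (add_zero 1))
      (fun a b => Ext.comp_add ζ a b _)) n _)).symm.trans h2
  obtain ⟨ζ', hζ'⟩ := Ext.contravariant_sequence_exact₂ hT F ζ hz
  let S := injEmbed F
  have hS : S.ShortExact := injEmbed_shortExact F
  haveI : Injective S.X₂ := inferInstanceAs (Injective (Injective.under F))
  obtain ⟨y₀, hy₀⟩ := Ext.covariant_sequence_exact₁ _ hS ζ' (Ext.eq_zero_of_injective _) rfl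
  obtain ⟨y', rfl⟩ := (Ext.mk₀_bijective _ _).2 y₀
  have hP := extPullback_shortExact hS y'
  haveI : Epi (pullback.snd S.g y') := hP.epi_g
  obtain ⟨W, e, hW, hWs, he⟩ := exists_finite_lift (pullback.snd S.g y')
    (isFLC_extension hP hF (isFLC_cst _)) (isFLC_cst _) (secOf ((cst X).map (castN n)))
  haveI : PreservesFiniteLimits (EtCoh.pull W.hom) := inferInstance
  have key := Hpull_eq_zero_of_lift hS ((cst X).map (castN n) ≫ y') W ((pullback.fst S.g y').hom.app (op W) e) (by
    refine (congrArg (fun k : pullback S.g y' ⟶ S.X₃ => k.hom.app (op W) e) pullback.condition).trans ?_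
    refine (congrArg (y'.hom.app (op W)) he).trans ?_
    exact (NatTrans.naturality_apply y'.hom (toTop W).op _).trans (congrArg _ (secOf_comp _ _).symm))
  refine ⟨W.left, W.hom, hW, W.prop, hWs, fun {_} => ?_⟩
  rw [← Ext.mk₀_comp_mk₀, Ext.comp_assoc _ _ _ (zero_add 0) (zero_add 1) (by omega)] at key
  rw [← hζ', ← hy₀]
  exact key

end Groth.Agent.Et18.H1Kill
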