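import Mathlib

/-!
# The Hasse–Davenport relation
-/

set_option autoImplicit false

open Polynomial Finset

noncomputable section

namespace Groth.Agent.Et18.HD

variable {F : Type} [Field F] [Fintype F] {R : Type} [CommRing R] (χ : MulChar F R) (ψ : AddChar F R)

/-- The weight of a monic polynomial. -/
def lam (f : F[X]) : R := χ ((-1) ^ f.natDegree * f.coeff 0) * ψ (-f.nextCoeff)

theorem lam_one : lam χ ψ (1 : F[X]) = 1 := by
  simp [lam, nextCoeff]

theorem lam_mul {f g : F[X]} (hf : f.Monic) (hg : g.Monic) : lam χ ψ (f * g) = lam χ ψ f * lam χ ψ g := by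
  simp only [lam]
  rw [hf.natDegree_mul hg, mul_coeff_zero, hf.nextCoeff_mul hg, neg_add, AddChar.map_add_eq_mul,
    show (-1 : F) ^ (f.natDegree + g.natDegree) * (f.coeff 0 * g.coeff 0) =
      ((-1) ^ f.natDegree * f.coeff 0) * ((-1) ^ g.natDegree * g.coeff 0) by ring, map_mul]
  ring

theorem lam_pow {g : F[X]} (hg : g.Monic) (k : ℕ) : lam χ ψ (g ^ k) = lam χ ψ g ^ k := by
  induction k with
  | zero => rw [pow_zero, pow_zero, lam_one]
  | succ k ih => rw [pow_succ, pow_succ, lam_mul χ ψ (hg.pow k) hg, ih]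

variable (F) in
/-- The monic polynomial of degree `m` with the given lower coefficients. -/
def ofCoef (m : ℕ) (c : Fin m → F) : F[X] := X ^ m + ∑ i : Fin m, C (c i) * X ^ (i : ℕ)

theorem coeff_sum_lt (m : ℕ) (c : Fin m → F) (k : ℕ) :
    (∑ i : Fin m, C (c i) * X ^ (i : ℕ)).coeff k = if h : k < m then c ⟨k, h⟩ else 0 := by
  rw [finset_sum_coeff]
  simp only [coeff_C_mul, coeff_X_pow, mul_ite, mul_one, mul_zero]
  split_ifs with h
  · rw [Finset.sum_eq_single (⟨k, h⟩ : Fin m)]
    · simp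
    · intro b _ hb; rw [if_neg fun e => hb (Fin.ext e.symm)]
    · simp
  · refine Finset.sum_eq_zero fun i _ => if_neg fun e => h (by omega)

theorem ofCoef_spec (m : ℕ) (c : Fin m → F) : (ofCoef F m c).Monic ∧ (ofCoef F m c).natDegree = m := by
  have h : (∑ i : Fin m, C (c i) * X ^ (i : ℕ)).degree < (m : WithBot ℕ) :=
    (degree_lt_iff_coeff_zero _ _).2 fun k hk => by rw [coeff_sum_lt, dif_neg (by omega)]
  have h' : (∑ i : Fin m, C (c i) * X ^ (i : ℕ)).degree < (X ^ m : F[X]).degree := by rwa [degree_X_pow]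
  refine ⟨monic_X_pow_add h, natDegree_eq_of_degree_eq_some ?_⟩
  rw [ofCoef, degree_add_eq_left_of_degree_lt h', degree_X_pow]

theorem coeff_ofCoef (m : ℕ) (c : Fin m → F) (i : Fin m) : (ofCoef F m c).coeff i = c i := by
  rw [ofCoef, coeff_add, coeff_sum_lt, dif_pos i.2, coeff_X_pow, if_neg (by omega), zero_add]

variable (F) in
/-- Monic polynomials of degree `m`. -/
def monics (m : ℕ) : Finset F[X] :=
  haveI := Classical.decEq F[X]
  haveI := Classical.decEq F
  (Finset.univ : Finset (Fin m → F)).image (ofCoef F m)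

theorem mem_monics {m : ℕ} {f : F[X]} : f ∈ monics F m ↔ f.Monic ∧ f.natDegree = m := by
  classical
  simp only [monics, Finset.mem_image, Finset.mem_univ, true_and]
  refine ⟨fun ⟨c, hc⟩ => hc ▸ ofCoef_spec m c, fun ⟨hf, hd⟩ => ⟨fun i => f.coeff i, ?_⟩⟩
  ext k
  rw [ofCoef, coeff_add, coeff_sum_lt, coeff_X_pow]
  rcases lt_trichotomy k m with hk | hk | hk
  · rw [dif_pos hk, if_neg hk.ne, zero_add]
  · rw [dif_neg (by omega), if_pos hk, add_zero, hk, ← hd, hf.coeff_natDegree]
  · rw [dif_neg (by omega), if_neg hk.ne', add_zero, coeff_eq_zero_of_natDegree_lt (by omega)]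

/-- The sum of the weights in degree `m`. -/
def A (m : ℕ) : R := ∑ f ∈ monics F m, lam χ ψ f

theorem A_zero : A χ ψ 0 = 1 := by
  have h : monics F 0 = {1} := by
    ext f
    rw [mem_monics, Finset.mem_singleton]
    exact ⟨fun h => (Monic.natDegree_eq_zero h.1).1 h.2, fun h => h ▸ ⟨monic_one, natDegree_one⟩⟩
  rw [A, h, Finset.sum_singleton, lam_one]

theorem A_eq_coef (m : ℕ) : A χ ψ m = ∑ c : Fin m → F, lam χ ψ (ofCoef F m c) := by
  classical
  refine (Finset.sum_bij (fun c _ => ofCoef F m c) (fun c _ => mem_monics.2 (ofCoef_spec m c))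
    (fun c _ d _ h => funext fun i => by rw [← coeff_ofCoef m c i, h, coeff_ofCoef]) (fun f hf => ?_) (fun _ _ => rfl)).symm
  simp only [monics, Finset.mem_image] at hf
  obtain ⟨c, -, hc⟩ := hf
  exact ⟨c, Finset.mem_univ _, hc⟩

theorem A_one : A χ ψ 1 = ∑ x : F, χ x * ψ x := by
  rw [A_eq_coef, ← (Equiv.funUnique (Fin 1) F).symm.sum_comp]
  refine Fintype.sum_equiv (Equiv.neg F) _ _ fun a => ?_
  have h := ofCoef_spec 1 ((Equiv.funUnique (Fin 1) F).symm a)
  simp only [lam, h.2, nextCoeff, if_neg one_ne_zero]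
  have h0 : (ofCoef F 1 ((Equiv.funUnique (Fin 1) F).symm a)).coeff 0 = a :=
    coeff_ofCoef 1 ((Equiv.funUnique (Fin 1) F).symm a) 0
  simp only [Nat.sub_self, h0, pow_one, neg_one_mul]
  rfl

variable [IsDomain R]

theorem A_two (hψ : ψ ≠ 1) {m : ℕ} (hm : 2 ≤ m) : A χ ψ m = 0 := by
  obtain ⟨m, rfl⟩ := Nat.exists_eq_add_of_le' hm
  rw [A_eq_coef, ← (Fin.snocEquiv fun _ => F).sum_comp, Fintype.sum_prod_type_right]
  refine Finset.sum_eq_zero fun c _ => ?_
  have key : ∀ a : F, lam χ ψ (ofCoef F (m + 2) (Fin.snocEquiv (fun _ => F) (a, c))) =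
      χ ((-1) ^ (m + 2) * c 0) * ψ (-a) := fun a => by
    have h := ofCoef_spec (m + 2) (Fin.snocEquiv (fun _ => F) (a, c))
    have h0 := coeff_ofCoef (m + 2) (Fin.snocEquiv (fun _ => F) (a, c)) 0
    have h1 := coeff_ofCoef (m + 2) (Fin.snocEquiv (fun _ => F) (a, c)) (Fin.last (m + 1))
    simp only [Fin.val_zero, Fin.val_last] at h0 h1
    simp only [lam, h.2, nextCoeff, if_neg (show m + 2 ≠ 0 by omega), show m + 2 - 1 = m + 1 from rfl, h0, h1]
    rw [show (0 : Fin (m + 2)) = Fin.castSucc 0 from rfl]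
    simp [Fin.snocEquiv]
  simp only [key]
  rw [← Finset.mul_sum, show (∑ a : F, ψ (-a)) = ∑ a : F, ψ a from Equiv.sum_comp (Equiv.neg F) (fun a => ψ a),
    AddChar.sum_eq_zero_of_ne_one hψ, mul_zero]

variable (F) in
/-- Monic irreducible polynomials of degree dividing `j`. -/
def irr (j : ℕ) : Finset F[X] :=
  haveI : DecidablePred fun g : F[X] => Irreducible g := Classical.decPred _
  haveI := Classical.decEq F[X]
  (j.divisors.biUnion fun d => monics F d).filter Irreducible

theorem mem_irr {j : ℕ} (hj : j ≠ 0) {g : F[X]} :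
    g ∈ irr F j ↔ g.Monic ∧ Irreducible g ∧ g.natDegree ∣ j := by
  classical
  simp only [irr, Finset.mem_filter, Finset.mem_biUnion, mem_monics, Nat.mem_divisors]
  exact ⟨fun ⟨⟨d, hd, hg, hgd⟩, hi⟩ => ⟨hg, hi, hgd ▸ hd.1⟩, fun ⟨hg, hi, hd⟩ => ⟨⟨_, ⟨hd, hj⟩, hg, rfl⟩, hi⟩⟩

/-- The power sums. -/
def S (j : ℕ) : R := ∑ g ∈ irr F j, (g.natDegree : R) * lam χ ψ g ^ (j / g.natDegree)

variable [DecidableEq F]

omit [Fintype F] in
theorem sum_multiples {f : F[X]} (hf : f.Monic) (g : F[X]) (hgm : g.Monic) (hg : Irreducible g) (k : ℕ) :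
    g ^ k ∣ f ↔ k ≤ (UniqueFactorizationMonoid.normalizedFactors f).count g := by
  classical
  rw [pow_dvd_iff_le_emultiplicity, UniqueFactorizationMonoid.emultiplicity_eq_count_normalizedFactors hg hf.ne_zero,
    hgm.normalize_eq_self, Nat.cast_le]

theorem sum_degree {f : F[X]} (hf : f.Monic) {m : ℕ} (hd : f.natDegree = m) :
    (∑ j ∈ Finset.Icc 1 m, ∑ g ∈ irr F j, (haveI := Classical.dec (g ^ (j / g.natDegree) ∣ f);
      if g ^ (j / g.natDegree) ∣ f then g.natDegree else 0)) = m := by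
  classical
  set N := UniqueFactorizationMonoid.normalizedFactors f
  have hmem : ∀ g ∈ N, g.Monic ∧ Irreducible g := fun g hg =>
    ⟨(UniqueFactorizationMonoid.normalize_normalized_factor g hg) ▸
        monic_normalize (UniqueFactorizationMonoid.irreducible_of_normalized_factor g hg).ne_zero,
      UniqueFactorizationMonoid.irreducible_of_normalized_factor g hg⟩
  have hdeg : ∀ g ∈ N, 0 < g.natDegree := fun g hg => (hmem g hg).2.natDegree_pos
  have hsum : ∑ g ∈ N.toFinset, N.count g * g.natDegree = m := by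
    have h1 : N.prod = f := by
      have h2 := UniqueFactorizationMonoid.prod_normalizedFactors_eq (a := f) hf.ne_zero
      rwa [hf.normalize_eq_self] at h2
    rw [← hd, ← h1, natDegree_multiset_prod_of_monic N fun g hg => (hmem g hg).1, Finset.sum_multiset_map_count]
    simp
  calc (∑ j ∈ Finset.Icc 1 m, ∑ g ∈ irr F j, if g ^ (j / g.natDegree) ∣ f then g.natDegree else 0)
      = ∑ p ∈ ((Finset.Icc 1 m).sigma fun j => irr F j).filter (fun p => p.2 ^ (p.1 / p.2.natDegree) ∣ f),
          p.2.natDegree := by rw [Finset.sum_filter, Finset.sum_sigma]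
    _ = ∑ q ∈ N.toFinset.sigma (fun g => Finset.Icc 1 (N.count g)), q.1.natDegree := by
        refine Finset.sum_bij' (fun p _ => ⟨p.2, p.1 / p.2.natDegree⟩) (fun q _ => ⟨q.1.natDegree * q.2, q.1⟩)
          ?_ ?_ ?_ ?_ (fun _ _ => rfl)
        · rintro ⟨j, g⟩ hp
          simp only [Finset.mem_filter, Finset.mem_sigma, Finset.mem_Icc] at hp
          obtain ⟨⟨⟨hj1, -⟩, hg⟩, hdvd⟩ := hp
          obtain ⟨hgm, hgi, hgd⟩ := (mem_irr (by omega)).1 hg
          have hk : 1 ≤ j / g.natDegree := Nat.div_pos (Nat.le_of_dvd (by omega) hgd) hgi.natDegree_pos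
          have hc := (sum_multiples hf g hgm hgi _).1 hdvd
          simp only [Finset.mem_sigma, Multiset.mem_toFinset, Finset.mem_Icc]
          exact ⟨Multiset.count_pos.1 (lt_of_lt_of_le hk hc), hk, hc⟩
        · rintro ⟨g, k⟩ hq
          simp only [Finset.mem_sigma, Multiset.mem_toFinset, Finset.mem_Icc] at hq
          obtain ⟨hgN, hk1, hk2⟩ := hq
          obtain ⟨hgm, hgi⟩ := hmem g hgN
          have hd0 := hdeg g hgN
          have hle : g.natDegree * k ≤ m := by
            refine le_trans ?_ (hsum.le.trans' (Finset.single_le_sum (f := fun g => N.count g * g.natDegree)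
              (fun _ _ => Nat.zero_le _) (Multiset.mem_toFinset.2 hgN)))
            rw [mul_comm g.natDegree]
            exact Nat.mul_le_mul_right _ hk2
          have hne : g.natDegree * k ≠ 0 := Nat.mul_ne_zero hd0.ne' (by omega)
          simp only [Finset.mem_filter, Finset.mem_sigma, Finset.mem_Icc]
          exact ⟨⟨⟨by omega, hle⟩, (mem_irr hne).2 ⟨hgm, hgi, dvd_mul_right _ _⟩⟩, by
            rw [Nat.mul_div_cancel_left _ hd0]; exact (sum_multiples hf g hgm hgi k).2 hk2⟩
        · rintro ⟨j, g⟩ hp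
          simp only [Finset.mem_filter, Finset.mem_sigma, Finset.mem_Icc] at hp
          obtain ⟨-, -, hgd⟩ := (mem_irr (by omega)).1 hp.1.2
          simp only [Nat.mul_div_cancel' hgd]
        · rintro ⟨g, k⟩ hq
          simp only [Finset.mem_sigma, Multiset.mem_toFinset, Finset.mem_Icc] at hq
          simp only [Nat.mul_div_cancel_left _ (hdeg g hq.1)]
    _ = m := by
        rw [Finset.sum_sigma]
        simpa using hsum

omit [IsDomain R] in
theorem recursion (m : ℕ) :
    (m : R) * A χ ψ m = ∑ j ∈ Finset.Icc 1 m, S χ ψ j * A χ ψ (m - j) := by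
  classical
  have h1 : (m : R) * A χ ψ m = ∑ f ∈ monics F m, ∑ j ∈ Finset.Icc 1 m, ∑ g ∈ irr F j,
      if g ^ (j / g.natDegree) ∣ f then (g.natDegree : R) * lam χ ψ f else 0 := by
    rw [A, Finset.mul_sum]
    refine Finset.sum_congr rfl fun f hf => ?_
    obtain ⟨hfm, hfd⟩ := mem_monics.1 hf
    rw [← congrArg (Nat.cast (R := R)) (sum_degree hfm hfd), Nat.cast_sum, Finset.sum_mul]
    refine Finset.sum_congr rfl fun j _ => ?_
    rw [Nat.cast_sum, Finset.sum_mul]
    refine Finset.sum_congr rfl fun g _ => ?_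
    split_ifs <;> simp
  rw [h1, Finset.sum_comm]
  refine Finset.sum_congr rfl fun j hj => ?_
  rw [Finset.sum_comm, S, Finset.sum_mul]
  refine Finset.sum_congr rfl fun g hg => ?_
  rw [Finset.mem_Icc] at hj
  obtain ⟨hgm, hgi, hgd⟩ := (mem_irr (by omega)).1 hg
  set k := j / g.natDegree
  have hk : g.natDegree * k = j := Nat.mul_div_cancel' hgd
  have hkd : (g ^ k).natDegree = j := by rw [hgm.natDegree_pow, mul_comm, hk]
  rw [← Finset.sum_filter, A, Finset.mul_sum]
  refine (Finset.sum_bij (fun h _ => g ^ k * h) (fun h hh => ?_) (fun h _ h' _ e => ?_) (fun f hf => ?_)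
    (fun h hh => ?_)).symm
  · obtain ⟨hhm, hhd⟩ := mem_monics.1 hh
    exact Finset.mem_filter.2 ⟨mem_monics.2 ⟨(hgm.pow k).mul hhm, by
      rw [(hgm.pow k).natDegree_mul hhm, hkd, hhd]; omega⟩, dvd_mul_right _ _⟩
  · exact mul_left_cancel₀ (hgm.pow k).ne_zero e
  · obtain ⟨hfm, h, rfl⟩ := Finset.mem_filter.1 hf
    obtain ⟨hfm, hfd⟩ := mem_monics.1 hfm
    have hhm := (hgm.pow k).of_mul_monic_left hfm
    rw [(hgm.pow k).natDegree_mul hhm, hkd] at hfd
    exact ⟨h, mem_monics.2 ⟨hhm, by omega⟩, rfl⟩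
  · rw [lam_mul χ ψ (hgm.pow k) (mem_monics.1 hh).1, lam_pow χ ψ hgm]
    ring

theorem S_eq (hψ : ψ ≠ 1) (n : ℕ) : S χ ψ (n + 1) = (-1) ^ n * (∑ x : F, χ x * ψ x) ^ (n + 1) := by
  induction n with
  | zero =>
    have h := recursion χ ψ 1
    rw [Finset.Icc_self, Finset.sum_singleton, Nat.sub_self, A_zero, A_one, Nat.cast_one, one_mul, mul_one] at h
    rw [← h]; ring
  | succ n ih =>
    have h := recursion χ ψ (n + 2)
    rw [A_two χ ψ hψ (by omega), mul_zero, Finset.sum_Icc_succ_top (by omega), Nat.sub_self, A_zero,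
      Finset.sum_Icc_succ_top (by omega), show n + 2 - (n + 1) = 1 by omega, A_one,
      Finset.sum_eq_zero (fun j hj => by rw [A_two χ ψ hψ (by rw [Finset.mem_Icc] at hj; omega), mul_zero]), zero_add,
      ih, mul_one] at h
    linear_combination -h

variable {F' : Type} [Field F'] [Fintype F'] [Algebra F F']

omit [IsDomain R] in
theorem char_eq (x : F') :
    χ (Algebra.norm F x) * ψ (Algebra.trace F F' x) =
      lam χ ψ (minpoly F x) ^ (Module.finrank F F' / (minpoly F x).natDegree) := by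
  have hx : IsIntegral F x := Algebra.IsIntegral.isIntegral x
  let K := IntermediateField.adjoin F ({x} : Set F')
  let pb := IntermediateField.adjoin.powerBasis hx
  have hgen : pb.gen = IntermediateField.AdjoinSimple.gen F x := rfl
  have hmin : minpoly F pb.gen = minpoly F x := IntermediateField.minpoly_gen F x
  have hk : Module.finrank K F' = Module.finrank F F' / (minpoly F x).natDegree := by
    rw [← Module.finrank_mul_finrank F K F', IntermediateField.adjoin.finrank hx,
      Nat.mul_div_cancel_left _ (minpoly.natDegree_pos hx)]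
  rw [Algebra.norm_eq_norm_adjoin, trace_eq_trace_adjoin F x, ← hgen, Algebra.PowerBasis.norm_gen_eq_coeff_zero_minpoly,
    PowerBasis.trace_gen_eq_nextCoeff_minpoly, hk, map_pow, AddChar.map_nsmul_eq_pow, ← mul_pow,
    ← pb.natDegree_minpoly, hmin]
  rfl

theorem S_eq_sum :
    S χ ψ (Module.finrank F F') = ∑ x : F', χ (Algebra.norm F x) * ψ (Algebra.trace F F' x) := by
  classical
  have hn : Module.finrank F F' ≠ 0 := Module.finrank_pos.ne'
  have hmaps : ∀ x : F', x ∈ (Finset.univ : Finset F') → minpoly F x ∈ irr F (Module.finrank F F') := fun x _ =>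
    (mem_irr hn).2 ⟨minpoly.monic (Algebra.IsIntegral.isIntegral x), minpoly.irreducible (Algebra.IsIntegral.isIntegral x),
      minpoly.degree_dvd (Algebra.IsIntegral.isIntegral x)⟩
  rw [← Finset.sum_fiberwise_of_maps_to hmaps, S]
  refine Finset.sum_congr rfl fun g hg => ?_
  obtain ⟨hgm, hgi, hgd⟩ := (mem_irr hn).1 hg
  haveI := Fact.mk hgi
  let pb := AdjoinRoot.powerBasis' hgm
  have e : (AdjoinRoot g →ₐ[F] F') ≃ {x : F' // x ∈ (Finset.univ.filter fun x => minpoly F x = g)} :=
    pb.liftEquiv.trans (Equiv.subtypeEquivRight fun x => by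
      rw [Finset.mem_filter, show minpoly F pb.gen = g from AdjoinRoot.minpoly_powerBasis_gen_of_monic hgm]
      exact ⟨fun h => ⟨Finset.mem_univ _, (minpoly.eq_of_irreducible_of_monic hgi h hgm).symm⟩,
        fun h => h.2 ▸ minpoly.aeval F x⟩)
  have hfr : Module.finrank F (AdjoinRoot g) = g.natDegree := pb.finrank
  have hcard : (Finset.univ.filter fun x : F' => minpoly F x = g).card = g.natDegree := by
    rw [← Fintype.card_coe, Fintype.card_eq_nat_card, ← Nat.card_congr e,
      FiniteField.natCard_algHom_of_finrank_dvd (hfr ▸ hgd), hfr]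
  rw [Finset.sum_congr rfl (fun x hx => by rw [char_eq χ ψ x, (Finset.mem_filter.1 hx).2]), Finset.sum_const, hcard,
    nsmul_eq_mul]

end Groth.Agent.Et18.HD
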