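import Groth.Agent.EtLimit.HMaps
import Groth.Agent.Et18.Stalk
import Groth.Agent.Et18.HpullExact

/-!
# Pullback on étale cohomology is compatible with composition
-/

set_option autoImplicit false
set_option linter.style.haveILetI false
set_option backward.isDefEq.respectTransparency.types false
set_option backward.isDefEq.respectTransparency false
set_option backward.defeqAttrib.useBackward true
set_option synthInstance.maxHeartbeats 400000
set_option maxHeartbeats 1000000

universe u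

open CategoryTheory CategoryTheory.Limits CategoryTheory.Abelian AlgebraicGeometry Opposite
open Groth.Agent.SiteCoh Groth.Agent.EtLimit

namespace Groth.Agent.Et18.HpullComp

variable {X Y Z : Scheme.{u}} (f : X ⟶ Y) (g : Y ⟶ Z)

theorem Hpull_eq_hPull (F : EtCoh.Ab Y) [PreservesFiniteLimits (EtCoh.pull f)] (n : ℕ) (x : EtCoh.H Y F n) :
    EtCore.Hpull f F n x = hPull f (𝟙 ((EtCoh.pull f).obj F)) n x := by
  rw [hPull, extPull_apply, Ext.comp_mk₀_id]
  rfl

theorem homEquiv_pullComp (F : EtCoh.Ab Z) :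
    (EtCoh.pullPushAdj (f ≫ g)).homEquiv _ _ ((EtCore.pullComp f g).hom.app F) =
      ((EtCoh.pullPushAdj g).unit.app F ≫ (EtCoh.push g).map ((EtCoh.pullPushAdj f).unit.app _)) ≫
        (EtCoh.pushComp g f).hom.app _ := by
  refine (Adjunction.homEquiv_leftAdjointUniq_hom_app (EtCoh.pullPushAdj (f ≫ g))
    (((EtCoh.pullPushAdj g).comp (EtCoh.pullPushAdj f)).ofNatIsoRight (EtCoh.pushComp g f)) F).trans ?_
  simp [Adjunction.ofNatIsoRight, Adjunction.comp_unit_app]

theorem secOf_pull_id (F : EtCoh.Ab Z) (k : EtCoh.const Z ℤ ⟶ F) :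
    secOf ((EtCore.pullConst g ℤ).inv ≫ (EtCoh.pull g).map k ≫ 𝟙 _) =
      ((EtCoh.pull g).obj F).obj.map (EtCore.bcTopIso g).inv.op
        (((EtCoh.pullPushAdj g).unit.app F).hom.app (op (EtCoh.top Z)) (secOf k)) :=
  (secOf_pull g F (𝟙 _) k).trans
    (congrArg (fun m => ((EtCoh.pull g).obj F).obj.map (EtCore.bcTopIso g).inv.op (m.hom.app (op (EtCoh.top Z)) (secOf k)))
      ((EtCoh.pullPushAdj g).homEquiv_id F))

theorem map_unit_bc (G : EtCoh.Ab Y) {V W : Y.Etale} (e : W ⟶ V) (t : G.obj.obj (op V)) :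
    ((EtCoh.pullPushAdj f).unit.app G).hom.app (op W) (G.obj.map e.op t) =
      ((EtCoh.pull f).obj G).obj.map ((EtCoh.bc f).map e).op (((EtCoh.pullPushAdj f).unit.app G).hom.app (op V) t) :=
  NatTrans.naturality_apply ((EtCoh.pullPushAdj f).unit.app G).hom e.op t

theorem exists_pushComp_app (M : EtCoh.Ab X) (V : Z.Etale) :
    ∃ m : (EtCoh.bc (f ≫ g)).obj V ⟶ (EtCoh.bc f).obj ((EtCoh.bc g).obj V),
      ((EtCoh.pushComp g f).hom.app M).hom.app (op V) = M.obj.map m.op :=
  ⟨_, rfl⟩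

theorem hPull_comp_zero (F : EtCoh.Ab Z) (x : EtCoh.H Z F 0) :
    hPull f (𝟙 _) 0 (hPull g (𝟙 ((EtCoh.pull g).obj F)) 0 x) =
      hPull (f ≫ g) ((EtCore.pullComp f g).hom.app F) 0 x := by
  obtain ⟨k, rfl⟩ := exists_eq_mk₀ x
  rw [extPull_mk₀, extPull_mk₀, extPull_mk₀]
  refine congrArg Ext.mk₀ (secOf_injective ?_)
  let M := (EtCoh.pull f).obj ((EtCoh.pull g).obj F)
  let t := ((EtCoh.pullPushAdj g).unit.app F).hom.app (op (EtCoh.top Z)) (secOf k)
  let w := ((EtCoh.pullPushAdj f).unit.app ((EtCoh.pull g).obj F)).hom.app (op ((EtCoh.bc g).obj (EtCoh.top Z))) t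
  obtain ⟨m, hm⟩ := exists_pushComp_app f g M (EtCoh.top Z)
  refine (secOf_pull_id f _ _).trans ?_
  refine (congrArg (fun z => M.obj.map (EtCore.bcTopIso f).inv.op
    (((EtCoh.pullPushAdj f).unit.app ((EtCoh.pull g).obj F)).hom.app (op (EtCoh.top Y)) z))
      (secOf_pull_id g F k)).trans ?_
  refine Eq.trans ?_ ((secOf_pull (f ≫ g) F _ k).trans
    (congrArg (fun n => M.obj.map (EtCore.bcTopIso (f ≫ g)).inv.op (n.hom.app (op (EtCoh.top Z)) (secOf k)))
      (homEquiv_pullComp f g F))).symm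
  refine (congrArg (M.obj.map (EtCore.bcTopIso f).inv.op) (map_unit_bc f _ (EtCore.bcTopIso g).inv t)).trans ?_
  refine Eq.trans ?_ (congrArg (M.obj.map (EtCore.bcTopIso (f ≫ g)).inv.op)
    (ConcreteCategory.congr_hom hm w)).symm
  refine (Functor.map_comp_apply _ _ _ _).symm.trans (Eq.trans ?_ (Functor.map_comp_apply _ _ _ _))
  refine congrArg (fun a => M.obj.map a w) (Quiver.Hom.unop_inj ?_)
  exact (IsTerminal.isTerminalObj (EtCoh.bc f) _ (EtCore.bcTopIsTerminal g)).hom_ext _ _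

/-- Pullback maps compose. -/
theorem hPull_comp (n : ℕ) : ∀ (F : EtCoh.Ab Z) (x : EtCoh.H Z F n),
    hPull f (𝟙 _) n (hPull g (𝟙 ((EtCoh.pull g).obj F)) n x) =
      hPull (f ≫ g) ((EtCore.pullComp f g).hom.app F) n x := by
  induction n with
  | zero => exact hPull_comp_zero f g
  | succ n ih =>
    intro F x
    let S := injEmbed F
    have hS : S.ShortExact := injEmbed_shortExact F
    haveI : Injective S.X₂ := inferInstanceAs (Injective (Injective.under F))
    obtain ⟨y, rfl⟩ := Ext.covariant_sequence_exact₁ _ hS x (Ext.eq_zero_of_injective _) rfl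
    have hg := hS.map_of_exact (EtCoh.pull g)
    have hfg := hg.map_of_exact (EtCoh.pull f)
    refine Eq.trans (congrArg (hPull f _ (n + 1))
      (extPull_extClass (EtCoh.pull g) (EtCore.pullConst g ℤ).inv hS hg (𝟙 _) n y)) ?_
    refine Eq.trans (extPull_extClass (EtCoh.pull f) (EtCore.pullConst f ℤ).inv hg hfg (𝟙 _) n _) ?_
    refine Eq.trans ?_
      (extPull_extClass (EtCoh.pull (f ≫ g)) (EtCore.pullConst (f ≫ g) ℤ).inv hS hfg
        (S.mapNatTrans (EtCore.pullComp f g).hom) n y).symm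
    exact congrArg (fun z => Ext.comp z hfg.extClass rfl) (ih S.X₃ y)

theorem Hpull_comp (n : ℕ) (F : EtCoh.Ab Z) (x : EtCoh.H Z F n) :
    EtCore.Hpull f ((EtCoh.pull g).obj F) n (EtCore.Hpull g F n x) =
      ((EtCoh.HF X n).map ((EtCore.pullComp f g).hom.app F)) (EtCore.Hpull (f ≫ g) F n x) := by
  rw [Hpull_eq_hPull, Hpull_eq_hPull, hPull_comp, Hpull_eq_hPull, HF_map_apply]
  show hPull (f ≫ g) _ n x = (hPull (f ≫ g) (𝟙 _) n x).comp (Ext.mk₀ _) (add_zero n)
  rw [hPull, hPull, extPull_apply, extPull_apply, Ext.comp_mk₀_id]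

theorem Hpull_bijective_iff (n : ℕ) (F : EtCoh.Ab Z) :
    (Function.Bijective (EtCore.Hpull (f ≫ g) F n) ↔
      Function.Bijective (fun x => EtCore.Hpull f ((EtCoh.pull g).obj F) n (EtCore.Hpull g F n x))) ∧
    (Function.Injective (EtCore.Hpull (f ≫ g) F n) ↔
      Function.Injective (fun x => EtCore.Hpull f ((EtCoh.pull g).obj F) n (EtCore.Hpull g F n x))) := by
  have e : (fun x => EtCore.Hpull f ((EtCoh.pull g).obj F) n (EtCore.Hpull g F n x)) =
      ⇑((EtCoh.HF X n).map ((EtCore.pullComp f g).hom.app F)) ∘ EtCore.Hpull (f ≫ g) F n :=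
    funext (Hpull_comp f g n F)
  have hb : Function.Bijective ((EtCoh.HF X n).map ((EtCore.pullComp f g).hom.app F)) :=
    ConcreteCategory.bijective_of_isIso _
  rw [e]
  exact ⟨⟨fun h => hb.comp h, fun h => (hb.of_comp_iff' _).1 h⟩,
    ⟨fun h => hb.1.comp h, fun h => h.of_comp⟩⟩

end Groth.Agent.Et18.HpullComp
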