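import Groth.Agent.Et18.TwLattice
import Groth.Agent.Et18.ConstExt
import Groth.Agent.SGA3UnitSec.BaseChange

/-! Extensions of smooth connected groups by twisted lattices split. -/

set_option autoImplicit false
set_option backward.isDefEq.respectTransparency.types false
set_option linter.style.haveILetI false

universe u

set_option maxHeartbeats 800000

open CategoryTheory CategoryTheory.Limits MonoidalCategory CartesianMonoidalCategory MonObj
open AlgebraicGeometry TopologicalSpace

namespace Groth.Agent.Et18.LatticeExt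

section General

variable {S : Scheme.{u}} {M : Over S} [GrpObj M]

lemma unit_left_hom : (η[M]).left ≫ M.hom = 𝟙 S := Over.w η[M]

lemma isOpenImmersion_unit [Etale M.hom] : IsOpenImmersion (η[M]).left := by
  haveI : Etale ((η[M]).left ≫ M.hom) := by rw [unit_left_hom]; change Etale (𝟙 S); infer_instance
  haveI : Etale (η[M]).left := Etale.of_comp (η[M]).left M.hom
  haveI : Mono ((η[M]).left ≫ M.hom) := by rw [unit_left_hom]; change Mono (𝟙 S); infer_instance
  haveI : Mono (η[M]).left := mono_of_mono (η[M]).left M.hom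
  exact FEtLib.isOpenImmersion_of_etale_universallyInjective _

lemma isClosedImmersion_unit [IsSeparated M.hom] : IsClosedImmersion (η[M]).left := by
  haveI : IsClosedImmersion ((η[M]).left ≫ M.hom) := by rw [unit_left_hom]; change IsClosedImmersion (𝟙 S); infer_instance
  exact IsClosedImmersion.of_comp (η[M]).left M.hom

/-- A point of an etale group with values in the unit section is trivial. -/
lemma eq_one_of_range [Etale M.hom] {T : Over S} (n : T ⟶ M)
    (hn : ∀ q : T.left, n.left q ∈ Set.range (η[M]).left) : n = 1 := by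
  haveI := isOpenImmersion_unit (M := M)
  have hr : Set.range n.left ⊆ Set.range (η[M]).left := by
    rintro _ ⟨q, rfl⟩
    exact hn q
  have h1 := IsOpenImmersion.lift_fac (η[M]).left n.left hr
  rw [Hom.one_def]
  refine Over.OverMorphism.ext ?_
  change n.left = T.hom ≫ (η[M]).left
  have h3 : IsOpenImmersion.lift (η[M]).left n.left hr = T.hom := by
    have h4 := congrArg (· ≫ M.hom) h1
    simp only [Category.assoc, Over.w n] at h4
    rw [unit_left_hom] at h4
    exact (Category.comp_id _).symm.trans h4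
  rw [← h3, h1]

lemma mem_unit_of_eq_one {T : Over S} (n : T ⟶ M) (hn : n = 1) (q : T.left) :
    n.left q ∈ Set.range (η[M]).left := by
  rw [hn, Hom.one_def]
  exact ⟨(toUnit T).left q, rfl⟩

/-- Rigidity: trivial along a section of a map with connected fibres. -/
lemma eq_one_of_section [Etale M.hom] [IsSeparated M.hom] {T : Over S} {B : Scheme.{u}}
    (a : T.left ⟶ B) [GeometricallyConnected a] (d : T ⟶ M) (σ : B ⟶ T.left) (hσ : σ ≫ a = 𝟙 B)
    (hd : ∀ b : B, d.left (σ b) ∈ Set.range (η[M]).left) : d = 1 := by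
  haveI := isOpenImmersion_unit (M := M)
  haveI := isClosedImmersion_unit (M := M)
  refine eq_one_of_range d fun q => ?_
  have hclop : IsClopen (d.left ⁻¹' Set.range (η[M]).left) :=
    ⟨(η[M]).left.isClosedEmbedding.isClosed_range.preimage d.left.continuous,
      (η[M]).left.isOpenEmbedding.isOpen_range.preimage d.left.continuous⟩
  have hq : σ (a q) ∈ a ⁻¹' {a q} := congrArg (fun φ : B ⟶ B => φ (a q)) hσ
  exact (a.isConnected_preimage_singleton (a q)).isPreconnected.subset_isClopen hclop
    ⟨σ (a q), hq, hd _⟩ rfl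

/-- Homomorphisms from a group with geometrically connected fibres are trivial. -/
lemma hom_eq_one [Etale M.hom] [IsSeparated M.hom] {P : Over S} [GrpObj P]
    [GeometricallyConnected P.hom] (φ : P ⟶ M) [IsMonHom φ] : φ = 1 := by
  refine eq_one_of_section P.hom φ (η[P]).left (Over.w η[P]) fun b => ?_
  exact ⟨b, (congrArg (fun ψ : 𝟙_ (Over S) ⟶ M => ψ.left b) (IsMonHom.one_hom φ)).symm⟩

lemma bc_unit {T : Scheme.{u}} (g : T ⟶ S) :
    (η[Red.bc g M]).left ≫ pullback.fst M.hom g = g ≫ (η[M]).left := by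
  show (Functor.LaxMonoidal.ε (Over.pullback g) ≫ (Over.pullback g).map η[M]).left ≫ _ = _
  simp only [Over.comp_left, Category.assoc]
  erw [pullback.lift_fst]
  rw [← Category.assoc]
  congr 1
  simp

lemma isSeparated_of_kernelPair {X Y W : Scheme.{u}} (f : X ⟶ Y) (e : W ≅ pullback f f) (d : X ⟶ W)
    (hd : IsClosedImmersion d) (h1 : d ≫ e.hom ≫ pullback.fst f f = 𝟙 X)
    (h2 : d ≫ e.hom ≫ pullback.snd f f = 𝟙 X) : IsSeparated f := by
  constructor
  have h : pullback.diagonal f = d ≫ e.hom := by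
    refine pullback.hom_ext ?_ ?_
    · rw [pullback.diagonal_fst, Category.assoc, h1]
    · rw [pullback.diagonal_snd, Category.assoc, h2]
  haveI := hd
  rw [h]
  infer_instance

end General

section Field

variable {k : Type u} [Field k] {P E M : Over (Spec (CommRingCat.of k))} [GrpObj P] [GrpObj E] [GrpObj M]

/-- Rational points of a compact etale scheme over a field are finitely many. -/
lemma finite_sections {X : Scheme.{u}} [CompactSpace X] (q : X ⟶ Spec (CommRingCat.of k)) [Etale q] :
    Finite {σ : Spec (CommRingCat.of k) ⟶ X // σ ≫ q = 𝟙 _} := by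
  haveI := AlgSpLib.locallyQuasiFinite_of_etale q
  let pt : ↥(Spec (CommRingCat.of k)) := IsLocalRing.closedPoint k
  haveI : DiscreteTopology X := by
    refine isDiscrete_univ_iff.1 ?_
    have h : q.base ⁻¹' {pt} = Set.univ :=
      Set.eq_univ_of_forall fun y => Subsingleton.elim (α := ↥(Spec (CommRingCat.of k))) _ _
    exact h ▸ q.isDiscrete_preimage_singleton pt
  haveI : Finite X := finite_of_compact_of_discrete
  refine Finite.of_injective (fun σ => σ.1 pt) fun σ τ h => ?_
  obtain ⟨σ, hσ⟩ := σ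
  obtain ⟨τ, hτ⟩ := τ
  haveI : Etale (σ ≫ q) := by rw [hσ]; infer_instance
  haveI : Etale σ := Etale.of_comp σ q
  haveI : Mono (σ ≫ q) := by rw [hσ]; infer_instance
  haveI : Mono σ := mono_of_mono σ q
  haveI : IsOpenImmersion σ := FEtLib.isOpenImmersion_of_etale_universallyInjective σ
  have hr : Set.range τ ⊆ Set.range σ := by
    rintro _ ⟨y, rfl⟩
    obtain rfl : y = pt := Subsingleton.elim (α := ↥(Spec (CommRingCat.of k))) _ _
    exact ⟨pt, h⟩
  have h1 := IsOpenImmersion.lift_fac σ τ hr
  have h2 : IsOpenImmersion.lift σ τ hr = 𝟙 _ := by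
    have h3 := congrArg (· ≫ q) h1
    simp only [Category.assoc, hσ, hτ, Category.comp_id] at h3
    exact h3
  rw [h2, Category.id_comp] at h1
  exact Subtype.ext h1

/-- Points of a compact etale open in a field are finitely many. -/
lemma finite_points {X B : Scheme.{u}} (K : X.Opens) [CompactSpace (K : Scheme.{u})] (g : X ⟶ B)
    [QuasiCompact (K.ι ≫ g)] [Etale (K.ι ≫ g)] {L : Type u} [Field L] (x : Spec (CommRingCat.of L) ⟶ B) :
    Finite {y : Spec (CommRingCat.of L) ⟶ (K : Scheme.{u}) // y ≫ K.ι ≫ g = x} := by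
  haveI : CompactSpace ↥(pullback (K.ι ≫ g) x) := by
    haveI : QuasiCompact (pullback.snd (K.ι ≫ g) x) := MorphismProperty.pullback_snd _ _ ‹QuasiCompact _›
    exact QuasiCompact.compactSpace_of_compactSpace (pullback.snd (K.ι ≫ g) x)
  haveI : Etale (pullback.snd (K.ι ≫ g) x) := MorphismProperty.pullback_snd _ _ ‹Etale _›
  haveI := finite_sections (pullback.snd (K.ι ≫ g) x)
  refine Finite.of_injective (fun y => (⟨pullback.lift y.1 (𝟙 _) (by rw [y.2, Category.id_comp]),
    pullback.lift_snd _ _ _⟩ : {σ // σ ≫ pullback.snd (K.ι ≫ g) x = 𝟙 _})) fun y y' h => Subtype.ext ?_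
  have h1 := congrArg (fun σ => σ.1 ≫ pullback.fst (K.ι ≫ g) x) h
  simpa only [pullback.lift_fst] using h1

variable (u : M ⟶ E) (v : E ⟶ P) [IsMonHom u] [IsMonHom v]

/-- Points of the compact open subgroup cut by an open subgroup are trivial. -/
lemma point_eq_one [Etale M.hom] [IsSeparated M.hom] [IsClosedImmersion u.left]
    {E₀ : Over (Spec (CommRingCat.of k))} [GrpObj E₀] (i : E₀ ⟶ E) [IsMonHom i] [IsOpenImmersion i.left]
    [CompactSpace E₀.left]
    (htf : ∀ (L : Type u) [Field L] (x : Spec (CommRingCat.of L) ⟶ Spec (CommRingCat.of k))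
      (n : Over.mk x ⟶ M), IsOfFinOrder n → n = 1)
    (L : Type u) [Field L] (x : Spec (CommRingCat.of L) ⟶ Spec (CommRingCat.of k)) (n : Over.mk x ⟶ M)
    (hn : Set.range (n ≫ u).left ⊆ Set.range i.left) : n = 1 := by
  let T : Over (Spec (CommRingCat.of k)) := Over.mk x
  let H : Subgroup (T ⟶ M) := (MonoidHom.range (UnipStruct.post i T)).comap (UnipStruct.post u T)
  have hnH : n ∈ H := by
    refine ⟨Over.homMk (IsOpenImmersion.lift i.left (n ≫ u).left hn) ?_, ?_⟩
    · rw [← Over.w i, IsOpenImmersion.lift_fac_assoc]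
      exact Over.w (n ≫ u)
    · exact Over.OverMorphism.ext (IsOpenImmersion.lift_fac i.left _ hn)
  let K : M.left.Opens := u.left ⁻¹ᵁ i.left.opensRange
  have hmem : ∀ r ∈ H, Set.range r.left ⊆ (K : Set M.left) := by
    rintro r ⟨r', hr'⟩ _ ⟨y, rfl⟩
    exact ⟨r'.left y, congrArg (fun φ : T ⟶ E => φ.left y) hr'⟩
  haveI : CompactSpace (K : Scheme.{u}) :=
    isCompact_iff_compactSpace.1 (u.left.isClosedEmbedding.isCompact_preimage (isCompact_range i.left.continuous))
  haveI : QuasiCompact (K.ι ≫ M.hom) := quasiCompact_of_compactSpace _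
  haveI : Etale (K.ι ≫ M.hom) := inferInstance
  haveI := finite_points K M.hom x
  let lf : H → {y : Spec (CommRingCat.of L) ⟶ (K : Scheme.{u}) // y ≫ K.ι ≫ M.hom = x} := fun r =>
    ⟨IsOpenImmersion.lift K.ι (r.1.left : Spec (CommRingCat.of L) ⟶ M.left)
      ((hmem r.1 r.2).trans (Scheme.Opens.range_ι K).ge),
      ((Category.assoc _ _ _).symm.trans (congrArg (· ≫ M.hom) (IsOpenImmersion.lift_fac _ _ _))).trans
        (Over.w r.1)⟩
  have hlf : Function.Injective lf := fun r r' h => by
    have h1 := congrArg (fun y => y.1 ≫ K.ι) h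
    exact Subtype.ext (Over.OverMorphism.ext
      ((IsOpenImmersion.lift_fac _ _ _).symm.trans (h1.trans (IsOpenImmersion.lift_fac _ _ _))))
  haveI : Finite H := Finite.of_injective lf hlf
  have h1 : IsOfFinOrder (⟨n, hnH⟩ : H) := isOfFinOrder_of_finite _
  obtain ⟨m, hm, h2⟩ := isOfFinOrder_iff_pow_eq_one.1 h1
  have h3 : n ^ m = 1 := ((SubmonoidClass.coe_pow (⟨n, hnH⟩ : H) m).symm.trans
    (congrArg Subtype.val h2)).trans (OneMemClass.coe_one H)
  exact htf L x n (isOfFinOrder_iff_pow_eq_one.2 ⟨m, hm, h3⟩)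

lemma exists_lift (hker : AlgGrp.IsKernel u v) {T : Over (Spec (CommRingCat.of k))} (x : T ⟶ E)
    (hx : x ≫ v = 1) : ∃ n : T ⟶ M, n ≫ u = x :=
  ⟨hker.lift x (toUnit T) (by rw [hx, Hom.one_def]), hker.lift_fst _ _ _⟩

/-- Over a field, an extension of a connected group by a torsion free etale group splits. -/
theorem splits [LocallyOfFiniteType P.hom] [ConnectedSpace P.left] [Etale M.hom] [IsSeparated M.hom]
    [Etale v.left] (hker : AlgGrp.IsKernel u v)
    (htf : ∀ (L : Type u) [Field L] (x : Spec (CommRingCat.of L) ⟶ Spec (CommRingCat.of k))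
      (n : Over.mk x ⟶ M), IsOfFinOrder n → n = 1) :
    ∃ s : P ⟶ E, IsMonHom s ∧ s ≫ v = 𝟙 P := by
  haveI : LocallyOfFiniteType E.hom := by
    rw [← Over.w v]
    exact MorphismProperty.comp_mem _ _ _ inferInstance inferInstance
  haveI : IsLocallyNoetherian E.left := LocallyOfFiniteType.isLocallyNoetherian E.hom
  haveI : IsSeparated E.hom := SGA3xLib.isSeparated_of_grpObj E
  haveI : IsSeparated P.hom := SGA3xLib.isSeparated_of_grpObj P
  haveI : IsClosedImmersion u.left := by
    have h := hker.map (Over.forget _)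
    exact MorphismProperty.of_isPullback (P := @IsClosedImmersion) h.flip (isClosedImmersion_unit (M := P))
  obtain ⟨E₀, _, i, hi, hic, hif, hir, hgi, hE₀c⟩ := Groth.Agent.S7520.result k E
  haveI := hi
  haveI := hic
  haveI := hif
  haveI := hE₀c
  haveI : LocallyOfFinitePresentation i.left := inferInstance
  haveI : Etale i.left := by
    haveI : FormallyUnramified i.left := inferInstance
    exact Etale.of_formallyUnramified_of_flat i.left
  haveI : IsOpenImmersion i.left := FEtLib.isOpenImmersion_of_etale_universallyInjective i.left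
  haveI : ConnectedSpace E₀.left := by
    haveI := hgi
    haveI : Nonempty E₀.left := ⟨(η[E₀]).left (IsLocalRing.closedPoint k)⟩
    haveI : IrreducibleSpace E₀.left := GeometricallyIrreducible.irreducibleSpace_of_subsingleton E₀.hom
    infer_instance
  haveI hw : IsMonHom (i ≫ v) := inferInstance
  haveI : Mono (i ≫ v) := ⟨fun {T} x y h => by
    haveI : Mono i := Over.mono_of_mono_left i
    have h1 : ((x⁻¹ * y) ≫ i) ≫ v = 1 := by
      rw [Category.assoc, MonObj.mul_comp, GrpObj.inv_comp x (i ≫ v), h, inv_mul_cancel]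
    obtain ⟨n, hn⟩ := exists_lift u v hker _ h1
    have hn1 : n = 1 := by
      refine eq_one_of_range n fun q => ?_
      let T' : Over (Spec (CommRingCat.of k)) := Over.mk (T.left.fromSpecResidueField q ≫ T.hom)
      let t : T' ⟶ T := Over.homMk (T.left.fromSpecResidueField q) rfl
      have hq : t ≫ n = 1 := by
        refine point_eq_one u i htf (T.left.residueField q) _ (t ≫ n) ?_
        rw [Category.assoc, hn]
        rintro _ ⟨w, rfl⟩
        exact ⟨(t ≫ (x⁻¹ * y)).left w, rfl⟩
      have h3 := mem_unit_of_eq_one (t ≫ n) hq (IsLocalRing.closedPoint (T.left.residueField q))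
      change n.left (T.left.fromSpecResidueField q _) ∈ _ at h3
      rwa [Scheme.fromSpecResidueField_apply] at h3
    have h5 : (x⁻¹ * y) ≫ i = 1 ≫ i := by rw [← hn, hn1, MonObj.one_comp, MonObj.one_comp]
    exact (inv_mul_eq_one.1 ((cancel_mono i).1 h5))⟩
  haveI : Etale (i ≫ v).left := by
    change Etale (i.left ≫ v.left)
    infer_instance
  haveI : Mono (i ≫ v).left :=
    (inferInstance : Mono ((Over.forget (Spec (CommRingCat.of k))).map (i ≫ v)))
  haveI : IsOpenImmersion (i ≫ v).left := FEtLib.isOpenImmersion_of_etale_universallyInjective _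
  haveI : Surjective (i ≫ v).left := ⟨fun q => by
    let pt : ↥(Spec (CommRingCat.of k)) := IsLocalRing.closedPoint k
    have h := SGA3cLib.connectedComponentIn_subset_range (i ≫ v) pt ((η[P]).left pt)
      ⟨(η[E₀]).left pt, congrArg (fun φ : 𝟙_ _ ⟶ P => φ.left pt) (IsMonHom.one_hom (i ≫ v))⟩
    have huniv : P.hom.base ⁻¹' {pt} = Set.univ :=
      Set.eq_univ_of_forall fun y => Subsingleton.elim (α := ↥(Spec (CommRingCat.of k))) _ _
    refine h ?_
    rw [huniv, connectedComponentIn_univ, PreconnectedSpace.connectedComponent_eq_univ]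
    trivial⟩
  haveI : IsIso (i ≫ v).left := (isIso_iff_isOpenImmersion_and_epi_base _).2
    ⟨inferInstance, (TopCat.epi_iff_surjective _).2 (i ≫ v).left.surjective⟩
  haveI : IsIso ((Over.forget (Spec (CommRingCat.of k))).map (i ≫ v)) := ‹IsIso (i ≫ v).left›
  haveI : IsIso (i ≫ v) := isIso_of_reflects_iso (i ≫ v) (Over.forget _)
  haveI : IsMonHom (asIso (i ≫ v)).hom := hw
  haveI : IsMonHom (asIso (i ≫ v)).inv := inferInstance
  exact ⟨inv (i ≫ v) ≫ i, inferInstanceAs (IsMonHom ((asIso (i ≫ v)).inv ≫ i)),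
    by rw [Category.assoc, IsIso.inv_hom_id]⟩

end Field

section Main

variable {S : Scheme.{u}} {P E M : Over S} [GrpObj P] [GrpObj E] [GrpObj M]

/-- The splitting. -/
theorem main [Smooth P.hom] [QuasiCompact P.hom] [QuasiSeparated P.hom] [GeometricallyConnected P.hom]
    [Etale M.hom] [IsSeparated M.hom]
    (htf : ∀ (L : Type u) [Field L] (x : Spec (CommRingCat.of L) ⟶ S) (n : Over.mk x ⟶ M),
      IsOfFinOrder n → n = 1)
    (u : M ⟶ E) (v : E ⟶ P) (hex : NonAbH1.IsExactSeq Scheme.fppfPrecoverage u v) :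
    ∃ s : P ⟶ E, IsMonHom s ∧ s ≫ v = 𝟙 P := by
  obtain ⟨hu, hv, huv, hsq, hloc⟩ := hex
  haveI := hu
  haveI := hv
  haveI : Mono u := ⟨fun {T} g g' h => by
    have h1 : lift (1 : T ⟶ E) g ≫ fst E M = lift (1 : T ⟶ E) g' ≫ fst E M := by simp
    have h2 : lift (1 : T ⟶ E) g ≫ (E ◁ u) ≫ μ[E] = lift (1 : T ⟶ E) g' ≫ (E ◁ u) ≫ μ[E] := by
      rw [lift_whiskerLeft_assoc, lift_whiskerLeft_assoc, h]
    have := hsq.hom_ext h1 h2
    simpa using congrArg (· ≫ snd E M) this⟩
  have hlift : ∀ {T : Over S} (x : T ⟶ E), x ≫ v = 1 → ∃ n : T ⟶ M, n ≫ u = x := by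
    intro T x hx
    let L := hsq.lift (1 : T ⟶ E) x (by rw [hx, MonObj.one_comp])
    refine ⟨L ≫ snd E M, ?_⟩
    have h1 : L ≫ fst E M = 1 := hsq.lift_fst _ _ _
    have h2 : L ≫ (E ◁ u) ≫ μ[E] = x := hsq.lift_snd _ _ _
    have h3 : L = lift (1 : T ⟶ E) (L ≫ snd E M) := by
      rw [← h1]
      exact (lift_comp_fst_snd L).symm
    rw [h3, lift_whiskerLeft_assoc, ← Hom.mul_def, _root_.one_mul] at h2
    exact h2
  have hker : AlgGrp.IsKernel u v := AlgGrpLib.isKernel_of_points u v huv fun T g hg => hlift g hg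
  have hsq' := (hsq.map (Over.forget _)).flip
  have hfst : Etale (fst E M).left ∧ IsSeparated (fst E M).left :=
    ⟨MorphismProperty.pullback_fst E.hom M.hom ‹Etale M.hom›,
      MorphismProperty.pullback_fst E.hom M.hom ‹IsSeparated M.hom›⟩
  haveI hvet : Etale v.left := by
    refine ConstTorsor.etale_of_locallyTrivial (X := (Over.mk v.left : Over P.left)) ?_ hloc
    change Etale (pullback.snd v.left v.left)
    rw [show pullback.snd v.left v.left = hsq'.isoPullback.inv ≫ (fst E M).left from
      hsq'.isoPullback_inv_snd.symm]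
    exact MorphismProperty.comp_mem _ _ _ inferInstance hfst.1
  haveI : IsSeparated v.left := by
    let d : E ⟶ E ⊗ M := lift (𝟙 E) 1
    have hd2 : d ≫ (E ◁ u) ≫ μ[E] = 𝟙 E := by
      rw [lift_whiskerLeft_assoc, MonObj.one_comp, ← Hom.mul_def, _root_.mul_one]
    haveI := hfst.2
    haveI : IsClosedImmersion (d.left ≫ (fst E M).left) := by
      rw [← Over.comp_left, lift_fst]
      change IsClosedImmersion (𝟙 E.left)
      infer_instance
    haveI hdc : IsClosedImmersion d.left := IsClosedImmersion.of_comp d.left (fst E M).left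
    exact isSeparated_of_kernelPair v.left hsq'.isoPullback d.left hdc
      ((congrArg (d.left ≫ ·) hsq'.isoPullback_hom_fst).trans (congrArg CommaMorphism.left hd2))
      ((congrArg (d.left ≫ ·) hsq'.isoPullback_hom_snd).trans
        (congrArg CommaMorphism.left (lift_fst (𝟙 E) (1 : E ⟶ M))))
  let e : S ⟶ P.left := (η[P]).left
  let e' : S ⟶ E.left := (η[E]).left
  have he : e ≫ P.hom = 𝟙 S := Over.w η[P]
  have he' : e' ≫ v.left = e := congrArg CommaMorphism.left (IsMonHom.one_hom v)
  -- sections over the fibres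
  have key : ∀ s : S, ∃ g : pullback P.hom (S.fromSpecResidueField s) ⟶ E.left,
      g ≫ v.left = pullback.fst P.hom (S.fromSpecResidueField s) ∧ e' s ∈ Set.range g := by
    intro s
    let ι₀ := S.fromSpecResidueField s
    let F := Over.pullback ι₀
    let uk : Red.bc ι₀ M ⟶ Red.bc ι₀ E := F.map u
    let vk : Red.bc ι₀ E ⟶ Red.bc ι₀ P := F.map v
    haveI : IsMonHom uk := inferInstanceAs (IsMonHom (F.map u))
    haveI : IsMonHom vk := inferInstanceAs (IsMonHom (F.map v))
    haveI : Etale (Red.bc ι₀ M).hom := MorphismProperty.pullback_snd _ _ ‹Etale M.hom›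
    haveI : IsSeparated (Red.bc ι₀ M).hom := MorphismProperty.pullback_snd _ _ ‹IsSeparated M.hom›
    haveI : Smooth (Red.bc ι₀ P).hom := MorphismProperty.pullback_snd _ _ ‹Smooth P.hom›
    haveI : ConnectedSpace (Red.bc ι₀ P).left := inferInstanceAs (ConnectedSpace (P.hom.fiber s))
    haveI : Etale vk.left := by
      have hsqv : IsPullback vk.left (pullback.fst E.hom ι₀) (pullback.fst P.hom ι₀) v.left := by
        refine (IsPullback.of_right ?_ ?_ (IsPullback.of_hasPullback P.hom ι₀).flip).flip.flip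
        · rw [show v.left ≫ P.hom = E.hom from Over.w v,
            show vk.left ≫ pullback.snd P.hom ι₀ = pullback.snd E.hom ι₀ from Over.w vk]
          exact (IsPullback.of_hasPullback E.hom ι₀).flip
        · exact pullback.lift_fst _ _ _
      exact MorphismProperty.of_isPullback (P := @Etale) hsqv.flip hvet
    obtain ⟨sk, hsk, hskv⟩ := splits (k := S.residueField s) uk vk
      (SGA3UnitSec.isKernel_pullback hker ι₀) fun L _ x n hn => by
        let Φ := (SGA3cLib.BCPoints.pt ι₀ M (Over.mk x)).symm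
        refine (SGA3cLib.BCPoints.pt ι₀ M (Over.mk x)).symm.injective ?_
        have hmul : ∀ a b, Φ (a * b) = Φ a * Φ b := fun a b => by
          apply (SGA3cLib.BCPoints.pt ι₀ M (Over.mk x)).injective
          rw [SGA3cLib.BCPoints.pt_mul, Equiv.apply_symm_apply, Equiv.apply_symm_apply, Equiv.apply_symm_apply]
        let Ψ := MonoidHom.mk' Φ hmul
        change Ψ n = Ψ 1
        rw [map_one]
        exact htf L (x ≫ ι₀) (Ψ n) (Ψ.isOfFinOrder hn)
    haveI := hsk
    refine ⟨sk.left ≫ pullback.fst E.hom ι₀, ?_, ?_⟩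
    · have h1 : vk.left ≫ pullback.fst P.hom ι₀ = pullback.fst E.hom ι₀ ≫ v.left := pullback.lift_fst _ _ _
      rw [Category.assoc, ← h1, ← Category.assoc, ← Over.comp_left, hskv]
      exact Category.id_comp _
    · let pt : ↥(Spec (S.residueField s)) := IsLocalRing.closedPoint (S.residueField s)
      refine ⟨(η[Red.bc ι₀ P]).left pt, ?_⟩
      have h1 : (η[Red.bc ι₀ P]).left ≫ sk.left ≫ pullback.fst E.hom ι₀ = ι₀ ≫ (η[E]).left := by
        rw [← bc_unit ι₀, ← Category.assoc]
        congr 1
        exact congrArg CommaMorphism.left (IsMonHom.one_hom sk)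
      have h2 := congrArg (fun φ : Spec (S.residueField s) ⟶ E.left => φ pt) h1
      refine Eq.trans h2 ?_
      change e' (ι₀ pt) = e' s
      rw [Scheme.fromSpecResidueField_apply]
  choose g hg hmem using key
  obtain ⟨σ, hσ, heσ⟩ := ConstTorsor.exists_section (π := v.left) he he' ⟨g, hg, hmem⟩
  let sP : P ⟶ E := Over.homMk σ (by
    rw [← Over.w v, ← Category.assoc, hσ, Category.id_comp])
  have hsv : sP ≫ v = 𝟙 P := Over.OverMorphism.ext hσ
  have hη : η[P] ≫ sP = η[E] := Over.OverMorphism.ext heσ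
  refine ⟨sP, SGA3cLib.BCPoints.isMonHom_of_mul sP fun T x y => ?_, hsv⟩
  -- the defect
  let D : P ⊗ P ⟶ E := (fst P P * snd P P) ≫ sP * ((fst P P ≫ sP) * (snd P P ≫ sP))⁻¹
  have hDv : D ≫ v = 1 := by
    simp only [D, MonObj.mul_comp, GrpObj.inv_comp, Category.assoc, hsv, Category.comp_id, mul_inv_cancel]
  obtain ⟨d, hd⟩ := hlift D hDv
  have h1s : (1 : 𝟙_ (Over S) ⟶ P) ≫ sP = 1 := by
    rw [Hom.one_def, Hom.one_def, Category.assoc, hη]
  have hP1 : ∀ {T : Over S}, (1 : T ⟶ P) ≫ sP = 1 := fun {T} => by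
    rw [Hom.one_def, Hom.one_def, Category.assoc, hη]
  let τ : P ⟶ P ⊗ P := lift (𝟙 P) 1
  have hτd : τ ≫ d = 1 := by
    rw [← cancel_mono u, Category.assoc, hd, MonObj.one_comp]
    simp only [D, τ, MonObj.comp_mul, GrpObj.comp_inv, lift_fst_assoc, lift_snd_assoc, ← Category.assoc,
      lift_fst, lift_snd, _root_.mul_one, Category.id_comp, hP1, mul_inv_cancel]
  haveI : GeometricallyConnected (fst P P).left :=
    inferInstanceAs (GeometricallyConnected (pullback.fst P.hom P.hom))
  have hd1 : d = 1 := eq_one_of_section (fst P P).left d τ.left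
    (congrArg CommaMorphism.left (lift_fst (𝟙 P) (1 : P ⟶ P))) fun b => by
      exact mem_unit_of_eq_one (τ ≫ d) hτd b
  have h2 : (lift x y) ≫ D = 1 := by rw [← hd, hd1, MonObj.one_comp, MonObj.comp_one]
  simp only [D, MonObj.comp_mul, GrpObj.comp_inv, lift_fst_assoc, lift_snd_assoc, ← Category.assoc,
    lift_fst, lift_snd] at h2
  exact mul_inv_eq_one.1 h2

end Main

end Groth.Agent.Et18.LatticeExt
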