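import Groth.Agent.Et18.AffDef
import Groth.Agent.CAlgH.KoszulH1
import Groth.Agent.CAlgH.NLPerfect
import Groth.Agent.FlatCrit.Inj
import Mathlib.LinearAlgebra.Finsupp.LinearCombination
import Mathlib.RingTheory.Localization.Away.Basic

/-!
# Local complete intersections deform without obstruction
-/

set_option autoImplicit false
set_option backward.isDefEq.respectTransparency.types false
set_option linter.style.haveILetI false
universe u

open ArtFun ArtFun.Art CategoryTheory

namespace Groth.Agent.Et18.LiftCI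

/-- `S' → S` has kernel `t S'`, and the annihilator of `t` is the kernel of `S' → S₀`. -/
structure SqZ (S' S S₀ : Type u) [CommRing S'] [CommRing S] [CommRing S₀] where
  /-- first map -/
  g : S' →+* S
  /-- second map -/
  r : S →+* S₀
  /-- generator of the kernel -/
  t : S'
  g_surj : Function.Surjective g
  r_surj : Function.Surjective r
  ker : ∀ x, g x = 0 → ∃ y, x = t * y
  g_t : g t = 0
  ann : ∀ y, t * y = 0 ↔ r (g y) = 0

/-- trivial relations -/
def trivRel {R : Type u} [CommRing R] {c : ℕ} (f : Fin c → R) : Submodule R (Fin c → R) :=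
  Submodule.span R {v : Fin c → R | ∃ i j : Fin c, v = Pi.single i (f j) - Pi.single j (f i)}

theorem sum_eq_zero_of_triv {R : Type u} [CommRing R] {c : ℕ} {f : Fin c → R} {a : Fin c → R}
    (ha : a ∈ trivRel f) : ∑ i, a i * f i = 0 := by
  induction ha using Submodule.span_induction with
  | mem v hv =>
    obtain ⟨i, j, rfl⟩ := hv
    simp [sub_mul, Finset.sum_sub_distrib, Pi.single_apply, ite_mul]; ring
  | zero => simp
  | add x y _ _ hx hy => simp [add_mul, Finset.sum_add_distrib, hx, hy]
  | smul r x _ hx => simp [mul_assoc, ← Finset.mul_sum, hx]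

theorem exists_lift_triv {R R' : Type u} [CommRing R] [CommRing R'] (g : R' →+* R) (hg : Function.Surjective g)
    {c : ℕ} (F : Fin c → R') {a : Fin c → R} (ha : a ∈ trivRel (g ∘ F)) :
    ∃ a' ∈ trivRel F, g ∘ a' = a := by
  induction ha using Submodule.span_induction with
  | mem v hv =>
    obtain ⟨i, j, rfl⟩ := hv
    refine ⟨Pi.single i (F j) - Pi.single j (F i), Submodule.subset_span ⟨i, j, rfl⟩, funext fun m => ?_⟩
    simp [Pi.single_apply, apply_ite g]
  | zero => exact ⟨0, zero_mem _, funext fun m => map_zero g⟩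
  | add x y _ _ hx hy =>
    obtain ⟨x', hx', rfl⟩ := hx
    obtain ⟨y', hy', rfl⟩ := hy
    exact ⟨x' + y', add_mem hx' hy', funext fun m => map_add g _ _⟩
  | smul r x _ hx =>
    obtain ⟨x', hx', rfl⟩ := hx
    obtain ⟨r', rfl⟩ := hg r
    exact ⟨r' • x', Submodule.smul_mem _ _ hx', funext fun m => map_mul g _ _⟩

theorem h1_of_bijective {R R' : Type u} [CommRing R] [CommRing R'] (g : R' →+* R) (hg : Function.Bijective g)
    {c : ℕ} {F : Fin c → R'} (hF : CAlgX.IsH1Regular (g ∘ F)) : CAlgX.IsH1Regular F := by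
  intro a ha
  obtain ⟨a', ha', he⟩ := exists_lift_triv g hg.2 F (a := g ∘ a)
    (hF (g ∘ a) (by simpa [← map_mul, ← map_sum] using congrArg g ha))
  rwa [← funext fun m => hg.1 (congrFun he m)]

section SqZ

variable {S' S S₀ : Type u} [CommRing S'] [CommRing S] [CommRing S₀] (Q : SqZ S' S S₀) {c : ℕ} (F : Fin c → S')
  (hS : CAlgX.IsH1Regular (Q.g ∘ F))

include hS in
theorem exists_rel {w : S'} {e : Fin c → S'} (he : Q.t * w = ∑ i, e i * F i) :
    ∃ a ∈ trivRel F, ∃ d : Fin c → S', e = a + Q.t • d ∧ Q.r (Q.g (w - ∑ i, d i * F i)) = 0 := by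
  have h0 : ∑ i, Q.g (e i) * Q.g (F i) = 0 := by
    simp only [← map_mul, ← map_sum, ← he]
    rw [map_mul, Q.g_t, zero_mul]
  obtain ⟨a, ha, hga⟩ := exists_lift_triv Q.g Q.g_surj F (hS _ h0)
  choose d hd using fun i => Q.ker (e i - a i) (by
    rw [map_sub, sub_eq_zero]; exact (congrFun hga i).symm)
  refine ⟨a, ha, d, funext fun i => ?_, (Q.ann _).1 ?_⟩
  · show e i = a i + Q.t * d i
    rw [← hd i, add_sub_cancel]
  · rw [mul_sub, he, Finset.mul_sum, ← Finset.sum_sub_distrib, ← sum_eq_zero_of_triv ha]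
    refine Finset.sum_congr rfl fun i _ => ?_
    rw [← mul_assoc, ← hd i]
    ring

include hS in
theorem red_mem_of_mem {w : S'} (hw : Q.t * w ∈ Ideal.span (Set.range F)) :
    Q.r (Q.g w) ∈ Ideal.span (Set.range (Q.r ∘ Q.g ∘ F)) := by
  obtain ⟨e, he⟩ := Ideal.mem_span_range_iff_exists_fun.1 hw
  obtain ⟨a, -, d, -, hd⟩ := exists_rel Q F hS he.symm
  rw [map_sub, map_sub, sub_eq_zero, map_sum, map_sum] at hd
  rw [hd]
  refine Ideal.sum_mem _ fun i _ => ?_
  rw [map_mul, map_mul]
  exact Ideal.mul_mem_left _ _ (Ideal.subset_span ⟨i, rfl⟩)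

include hS in
theorem h1_step (h₀ : CAlgX.IsH1Regular (Q.r ∘ Q.g ∘ F)) : CAlgX.IsH1Regular F := by
  intro e he
  obtain ⟨a, ha, d, rfl, hd⟩ := exists_rel Q F hS (w := 0) (e := e) (by rw [mul_zero, he])
  rw [zero_sub, map_neg, map_neg, neg_eq_zero, map_sum, map_sum] at hd
  obtain ⟨b, hb, hgb⟩ := exists_lift_triv (Q.r.comp Q.g) (Q.r_surj.comp Q.g_surj) F (a := fun i => Q.r (Q.g (d i)))
    (h₀ _ (by simpa using hd))
  have : Q.t • d = Q.t • b := funext fun i => sub_eq_zero.1 (by
    show Q.t * d i - Q.t * b i = 0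
    rw [← mul_sub, Q.ann, map_sub, map_sub, sub_eq_zero]
    exact (congrFun hgb i).symm)
  rw [this]
  exact add_mem ha (Submodule.smul_mem _ _ hb)

end SqZ

/-! ### Localization -/

section Loc

variable {P P' P'' : Type u} [CommRing P] [CommRing P'] [CommRing P'']

/-- map of localizations -/
noncomputable def locMap (φ : P →+* P') {x : P} {y : P'} (h : φ x = y) :
    Localization.Away x →+* Localization.Away y :=
  IsLocalization.Away.lift (S := Localization.Away x) x
    (g := (algebraMap P' (Localization.Away y)).comp φ)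
    (by rw [RingHom.comp_apply, h]; exact IsLocalization.Away.algebraMap_isUnit y)

theorem locMap_algebraMap (φ : P →+* P') {x : P} {y : P'} (h : φ x = y) (a : P) :
    locMap φ h (algebraMap P (Localization.Away x) a) = algebraMap P' (Localization.Away y) (φ a) :=
  IsLocalization.Away.lift_eq _ _ a

theorem locMap_comp (φ : P →+* P') (ψ : P' →+* P'') {x : P} {y : P'} {z : P''} (h : φ x = y) (h' : ψ y = z) :
    (locMap ψ h').comp (locMap φ h) = locMap (ψ.comp φ) (by rw [RingHom.comp_apply, h, h']) := by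
  refine IsLocalization.ringHom_ext (Submonoid.powers x) (RingHom.ext fun a => ?_)
  simp [locMap_algebraMap]

theorem exists_mul_pow_eq {x : P} (s : Localization.Away x) :
    ∃ (n : ℕ) (a : P), s * algebraMap P (Localization.Away x) (x ^ n) = algebraMap P _ a := by
  obtain ⟨⟨a, ⟨_, n, rfl⟩⟩, hs⟩ := IsLocalization.surj (Submonoid.powers x) s
  exact ⟨n, a, hs⟩

theorem isUnit_pow (x : P) (n : ℕ) : IsUnit (algebraMap P (Localization.Away x) (x ^ n)) := by
  rw [map_pow]
  exact (IsLocalization.Away.algebraMap_isUnit x).pow n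

theorem eq_zero_iff {x : P} (a : P) :
    algebraMap P (Localization.Away x) a = 0 ↔ ∃ n : ℕ, x ^ n * a = 0 := by
  rw [IsLocalization.map_eq_zero_iff (Submonoid.powers x)]
  exact ⟨fun ⟨⟨_, n, rfl⟩, hn⟩ => ⟨n, hn⟩, fun ⟨n, hn⟩ => ⟨⟨_, n, rfl⟩, hn⟩⟩

theorem locMap_surjective (φ : P →+* P') (hφ : Function.Surjective φ) {x : P} {y : P'} (h : φ x = y) :
    Function.Surjective (locMap φ h) := by
  intro s
  obtain ⟨n, a, hs⟩ := exists_mul_pow_eq s
  obtain ⟨b, rfl⟩ := hφ a
  obtain ⟨v, hv⟩ := (isUnit_pow x n).exists_left_inv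
  refine ⟨v * algebraMap P _ b, ?_⟩
  rw [map_mul, locMap_algebraMap, ← hs]
  have := congrArg (locMap φ h) hv
  rw [map_mul, map_one, locMap_algebraMap, map_pow φ, h] at this
  rw [mul_left_comm, this, mul_one]

theorem locMap_bijective (φ : P →+* P') (hφ : Function.Bijective φ) {x : P} {y : P'} (h : φ x = y) :
    Function.Bijective (locMap φ h) := by
  refine ⟨(injective_iff_map_eq_zero _).2 fun s hs => ?_, locMap_surjective φ hφ.2 h⟩
  obtain ⟨n, a, ha⟩ := exists_mul_pow_eq s
  have := congrArg (locMap φ h) ha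
  rw [map_mul, hs, zero_mul, locMap_algebraMap, eq_comm, eq_zero_iff] at this
  obtain ⟨m, hm⟩ := this
  have h0 : algebraMap P (Localization.Away x) a = 0 :=
    (eq_zero_iff a).2 ⟨m, hφ.1 (by rw [map_mul, map_pow, h, hm, map_zero])⟩
  rw [h0] at ha
  exact (isUnit_pow x n).mul_left_eq_zero.1 ha

/-- Localization of a square-zero triple. -/
noncomputable def SqZ.loc {S' S S₀ : Type u} [CommRing S'] [CommRing S] [CommRing S₀] (Q : SqZ S' S S₀) {G' : S'}
    {G : S} {g₀ : S₀} (h : Q.g G' = G) (h₀ : Q.r G = g₀) :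
    SqZ (Localization.Away G') (Localization.Away G) (Localization.Away g₀) where
  g := locMap Q.g h
  r := locMap Q.r h₀
  t := algebraMap S' _ Q.t
  g_surj := locMap_surjective _ Q.g_surj _
  r_surj := locMap_surjective _ Q.r_surj _
  g_t := by rw [locMap_algebraMap, Q.g_t, map_zero]
  ker s hs := by
    obtain ⟨n, a, ha⟩ := exists_mul_pow_eq s
    have := congrArg (locMap Q.g h) ha
    rw [map_mul, hs, zero_mul, locMap_algebraMap, eq_comm, eq_zero_iff] at this
    obtain ⟨m, hm⟩ := this
    obtain ⟨y, hy⟩ := Q.ker (G' ^ m * a) (by rw [map_mul, map_pow, h, hm])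
    obtain ⟨v, hv⟩ := (isUnit_pow G' (n + m)).exists_left_inv
    refine ⟨v * algebraMap S' _ y, ?_⟩
    rw [mul_left_comm, ← map_mul, ← hy, map_mul, ← ha]
    calc s = v * algebraMap S' _ (G' ^ (n + m)) * s := by rw [hv, one_mul]
      _ = _ := by rw [pow_add, map_mul]; ring
  ann s := by
    obtain ⟨n, a, ha⟩ := exists_mul_pow_eq s
    have hs : ∀ z : Localization.Away G', z * s = 0 ↔ z * algebraMap S' _ a = 0 := fun z => by
      rw [← ha, ← mul_assoc, (isUnit_pow G' n).mul_left_eq_zero]
    rw [hs, ← map_mul, eq_zero_iff]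
    have hr : locMap Q.r h₀ (locMap Q.g h s) = 0 ↔ algebraMap S₀ (Localization.Away g₀) (Q.r (Q.g a)) = 0 := by
      rw [← locMap_algebraMap Q.r h₀, ← locMap_algebraMap Q.g h, ← ha, map_mul, map_mul]
      refine (IsUnit.mul_left_eq_zero ?_).symm
      exact ((isUnit_pow G' n).map (locMap Q.g h)).map (locMap Q.r h₀)
    rw [hr, eq_zero_iff]
    refine exists_congr fun m => ?_
    rw [show G' ^ m * (Q.t * a) = Q.t * (G' ^ m * a) by ring, Q.ann, map_mul, map_mul, map_pow, map_pow, h, h₀]

end Loc

/-! ### Polynomial rings over Artinian rings -/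

variable {Λ k : Type u} [CommRing Λ] [Field k] [Algebra Λ k] {n : ℕ}

/-- reduction of polynomials -/
noncomputable abbrev red (A : Art Λ k) : MvPolynomial (Fin n) A →+* MvPolynomial (Fin n) k :=
  MvPolynomial.map (A.res : (A : Type u) →+* k)

/-- change of coefficients -/
noncomputable abbrev cmap {A B : Art Λ k} (p : B ⟶ A) : MvPolynomial (Fin n) B →+* MvPolynomial (Fin n) A :=
  MvPolynomial.map (p.toAlgHom : (B : Type u) →+* A)

theorem red_cmap {A B : Art Λ k} (p : B ⟶ A) : (red A).comp (cmap p) = (red B : MvPolynomial (Fin n) B →+* _) :=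
  RingHom.ext fun z => by
    simp only [red, cmap, RingHom.comp_apply, MvPolynomial.map_map]
    exact congrArg (fun f => MvPolynomial.map f z) (congrArg AlgHom.toRingHom p.res_comp)

theorem red_surjective (A : Art Λ k) : Function.Surjective (red A : MvPolynomial (Fin n) A →+* _) :=
  MvPolynomial.map_surjective _ A.res_surjective

theorem mem_max_of_red {A : Art Λ k} {z : MvPolynomial (Fin n) A} (hz : red A z = 0) :
    z ∈ (IsLocalRing.maximalIdeal (A : Type u)).map (MvPolynomial.C : (A : Type u) →+* MvPolynomial (Fin n) A) := by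
  rw [← IsLocalRing.eq_maximalIdeal (RingHom.ker_isMaximal_of_surjective (A.res : (A : Type u) →+* k) A.res_surjective),
    ← MvPolynomial.ker_map]
  exact hz

/-- The triple of polynomial rings of a small extension. -/
noncomputable def polySqZ {A B : Art Λ k} (p : B ⟶ A) (hp : IsSmallExt p) :
    SqZ (MvPolynomial (Fin n) B) (MvPolynomial (Fin n) A) (MvPolynomial (Fin n) k) where
  g := cmap p
  r := red A
  t := MvPolynomial.C hp.2.2.1.principal.choose
  g_surj := MvPolynomial.map_surjective _ hp.1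
  r_surj := red_surjective A
  g_t := by
    rw [cmap, MvPolynomial.map_C]
    have : hp.2.2.1.principal.choose ∈ RingHom.ker p.toAlgHom :=
      hp.2.2.1.principal.choose_spec.ge (Submodule.mem_span_singleton_self _)
    exact (congrArg MvPolynomial.C (RingHom.mem_ker.1 this)).trans (map_zero _)
  ker x hx := by
    have hk : RingHom.ker p.toAlgHom = Ideal.span {hp.2.2.1.principal.choose} := hp.2.2.1.principal.choose_spec
    have : x ∈ RingHom.ker (cmap p) := hx
    rw [MvPolynomial.ker_map, show RingHom.ker (p.toAlgHom : (B : Type u) →+* A) = RingHom.ker p.toAlgHom from rfl, hk,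
      Ideal.map_span, Set.image_singleton, Ideal.mem_span_singleton'] at this
    obtain ⟨y, hy⟩ := this
    exact ⟨y, by rw [← hy, mul_comm]⟩
  ann y := by
    generalize hτ : hp.2.2.1.principal.choose = τ
    have hk : RingHom.ker p.toAlgHom = Ideal.span {τ} := hτ ▸ hp.2.2.1.principal.choose_spec
    have hτ0 : p τ = 0 := RingHom.mem_ker.1 (hk ▸ Ideal.mem_span_singleton_self τ)
    have hτne : τ ≠ 0 := fun h => hp.2.1 (by rw [hk, h, Ideal.span_singleton_eq_bot])
    rw [← RingHom.comp_apply, red_cmap, MvPolynomial.ext_iff, MvPolynomial.ext_iff]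
    refine forall_congr' fun m => ?_
    rw [MvPolynomial.coeff_C_mul, MvPolynomial.coeff_zero, MvPolynomial.coeff_zero, red, MvPolynomial.coeff_map]
    refine ⟨fun h => ?_, fun h => ?_⟩
    · by_contra hne
      have hu : IsUnit (MvPolynomial.coeff m y) := by
        by_contra hu
        exact hne ((mem_maximalIdeal_iff B _).1 ((IsLocalRing.mem_maximalIdeal _).2 hu))
      exact hτne (hu.mul_left_eq_zero.1 h)
    · rw [mul_comm]
      exact ArtFunLib.mul_eq_zero_of_semismall hp.isSemismallExt ((mem_maximalIdeal_iff B _).2 h) hτ0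

/-- All lifts of the localized sequence are `H₁`-regular. -/
def RelLift (g₀ : MvPolynomial (Fin n) k) {c : ℕ} (f : Fin c → Localization.Away g₀) (A : Art Λ k) : Prop :=
  ∀ (G : MvPolynomial (Fin n) A) (hG : red A G = g₀) (F : Fin c → Localization.Away G),
    locMap (red A) hG ∘ F = f → CAlgX.IsH1Regular F

theorem relLift [IsNoetherianRing Λ] [Module.Finite Λ k] {g₀ : MvPolynomial (Fin n) k} {c : ℕ}
    {f : Fin c → Localization.Away g₀} (hf : CAlgX.IsH1Regular f) (A : Art Λ k) : RelLift g₀ f A := by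
  refine ArtFunLib.surj_induction (fun A B (_ : B ⟶ A) => RelLift g₀ f A → RelLift g₀ f B) ?_ ?_ ?_
    (toBase A) A.res_surjective ?_
  · intro A B e he hA G hG F hF
    have hc : red A (cmap e G) = g₀ := by rw [← RingHom.comp_apply, red_cmap, hG]
    refine h1_of_bijective (locMap (cmap e) rfl)
      (locMap_bijective _ ⟨MvPolynomial.map_injective _ (ArtFunLib.bijective_of_isIso e).1,
        MvPolynomial.map_surjective _ (ArtFunLib.bijective_of_isIso e).2⟩ _) (hA (cmap e G) hc _ ?_)
    rw [← hF, ← Function.comp_assoc, ← RingHom.coe_comp, locMap_comp]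
    simp only [red_cmap]
  · intro A B p hp hA G hG F hF
    have hc : red A (cmap p G) = g₀ := by rw [← RingHom.comp_apply, red_cmap, hG]
    let Q := (polySqZ p hp).loc (G' := G) (G := cmap p G) (g₀ := g₀) rfl hc
    have hcomp : Q.r ∘ Q.g ∘ F = f := by
      show locMap (red A) hc ∘ locMap (cmap p) rfl ∘ F = f
      rw [← hF, ← Function.comp_assoc, ← RingHom.coe_comp, locMap_comp]
      simp only [red_cmap]
    exact h1_step Q F (hA _ hc _ hcomp) (hcomp ▸ hf)
  · exact fun A B C p q _ _ hp hq h => hp (hq h)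
  · intro G hG F hF
    exact h1_of_bijective _ (locMap_bijective _ ⟨MvPolynomial.map_injective _ fun _ _ h => h,
      red_surjective _⟩ hG) (hF ▸ hf)

end Groth.Agent.Et18.LiftCI
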