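import Groth.Agent.Et18.LiftCI

/-!
# Lifting deformations of a local complete intersection along a small extension
-/

set_option autoImplicit false
set_option maxHeartbeats 1600000
set_option backward.isDefEq.respectTransparency.types false
set_option linter.style.haveILetI false
universe u

open ArtFun ArtFun.Art CategoryTheory
open Groth.Agent.Et18.AffDef

namespace Groth.Agent.Et18.LiftCI

variable {Λ k : Type u} [CommRing Λ] [Field k] [Algebra Λ k] {n : ℕ}

theorem map_max {A B : Art Λ k} (p : B ⟶ A) (hp : Function.Surjective p) :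
    (IsLocalRing.maximalIdeal (B : Type u)).map (p.toAlgHom : (B : Type u) →+* A) =
      IsLocalRing.maximalIdeal (A : Type u) := by
  refine le_antisymm (Ideal.map_le_iff_le_comap.2 fun b hb => ?_) fun a ha => ?_
  · rw [Ideal.mem_comap, mem_maximalIdeal_iff]
    exact (Art.res_app p b).trans ((mem_maximalIdeal_iff B b).1 hb)
  · obtain ⟨b, rfl⟩ := hp a
    refine Ideal.mem_map_of_mem _ ((mem_maximalIdeal_iff B b).2 ?_)
    rw [← Art.res_app p b]
    exact (mem_maximalIdeal_iff A _).1 ha

/-- **Lifting**: deformations of a local complete intersection lift along small extensions. -/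
theorem exists_lift [IsNoetherianRing Λ] [Module.Finite Λ k] {B₀ : Type u} [CommRing B₀] [Algebra k B₀]
    (φ₀ : MvPolynomial (Fin n) k →ₐ[k] B₀) (hφ₀ : Function.Surjective φ₀)
    (hreg : LCI.IsKoszulRegularIdeal (RingHom.ker φ₀.toRingHom))
    {A A' : Art Λ k} (p : A' ⟶ A) (hp : IsSmallExt p) (D : Data B₀ A) :
    ∃ (D' : Data B₀ A') (φ : D'.R →+* D.R),
      (∀ a, φ (algebraMap (A' : Type u) D'.R a) = algebraMap (A : Type u) D.R (p a)) ∧ D.π.comp φ = D'.π := by
  classical
  set I₀ := RingHom.ker φ₀.toRingHom with hI₀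
  let Z := polySqZ (n := n) p hp
  obtain ⟨τ, hτ⟩ : ∃ τ, τ = hp.2.2.1.principal.choose := ⟨_, rfl⟩
  have hkp : RingHom.ker p.toAlgHom = Ideal.span {τ} := hτ ▸ hp.2.2.1.principal.choose_spec
  have hτ0 : p τ = 0 := RingHom.mem_ker.1 (hkp ▸ Ideal.mem_span_singleton_self τ)
  have hτm : τ ∈ IsLocalRing.maximalIdeal (A' : Type u) := by
    rw [mem_maximalIdeal_iff, ← Art.res_app p, hτ0, map_zero]
  have ht : Z.t = MvPolynomial.C τ := by rw [hτ]; rfl
  have hZ : ∀ z, Z.r (Z.g z) = red A' z := fun z => RingHom.congr_fun (red_cmap p) z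
  have hnilA : IsNilpotent (IsLocalRing.maximalIdeal (A : Type u)) := ArtFunLib.maximalIdeal_nilpotent A
  have hnilA' : IsNilpotent (IsLocalRing.maximalIdeal (A' : Type u)) := ArtFunLib.maximalIdeal_nilpotent A'
  -- the presentation over `A`
  choose r hr using fun i => D.surj (φ₀ (MvPolynomial.X i))
  let ψ : MvPolynomial (Fin n) A →ₐ[(A : Type u)] D.R := MvPolynomial.aeval r
  have hψπ : ∀ z, D.π (ψ z) = φ₀ (red A z) := fun z =>
    RingHom.congr_fun (MvPolynomial.ringHom_ext (f := D.π.comp ψ.toRingHom)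
      (g := φ₀.toRingHom.comp (red A))
      (fun a => by
        show D.π (MvPolynomial.aeval r (MvPolynomial.C a)) = φ₀ (MvPolynomial.map _ (MvPolynomial.C a))
        rw [MvPolynomial.aeval_C, MvPolynomial.map_C, D.comp_alg, ← MvPolynomial.algebraMap_eq, φ₀.commutes]
        rfl)
      (fun i => by
        show D.π (MvPolynomial.aeval r (MvPolynomial.X i)) = φ₀ (MvPolynomial.map _ (MvPolynomial.X i))
        rw [MvPolynomial.aeval_X, MvPolynomial.map_X, hr])) z
  have hkerD : ∀ x : D.R, D.π x = 0 → x ∈ IsLocalRing.maximalIdeal (A : Type u) • (⊤ : Submodule (A : Type u) D.R) :=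
    fun x hx => by rw [Ideal.smul_top_eq_map]; exact D.ker_le hx
  have hψ : Function.Surjective ψ := by
    refine (LinearMap.range_eq_top (f := ψ.toLinearMap)).1 (FlatCrit.submodule_eq_top_of_nilpotent hnilA _ ?_)
    rw [eq_top_iff]
    intro x _
    obtain ⟨z₀, hz₀⟩ := hφ₀ (D.π x)
    obtain ⟨z, rfl⟩ := red_surjective A z₀
    refine Submodule.mem_sup.2 ⟨ψ z, ⟨z, rfl⟩, x - ψ z, hkerD _ ?_, add_sub_cancel _ _⟩
    rw [map_sub, hψπ, hz₀, sub_self]
  have hmR : ∀ x : D.R, D.π x = 0 → ∃ z, red A z = 0 ∧ ψ z = x := fun x hx => by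
    refine Submodule.smul_induction_on (hkerD x hx) (fun a ha y _ => ?_) fun a b => ?_
    · obtain ⟨z, rfl⟩ := hψ y
      refine ⟨a • z, ?_, map_smul ψ a z⟩
      rw [MvPolynomial.smul_eq_C_mul, map_mul, red, MvPolynomial.map_C,
        show (A.res : (A : Type u) →+* k) a = 0 from (mem_maximalIdeal_iff A a).1 ha, map_zero, zero_mul]
    · rintro ⟨z, hz, rfl⟩ ⟨z', hz', rfl⟩
      exact ⟨z + z', by rw [map_add, hz, hz', add_zero], map_add ψ z z'⟩
  have hfree : Module.Free (A : Type u) D.R := FlatCrit.free_of_flat_of_isNilpotent hnilA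
  obtain ⟨s, hs⟩ := Module.projective_lifting_property ψ.toLinearMap LinearMap.id hψ
  have htor : ∀ z, ψ z = 0 → red A z = 0 →
      z ∈ (IsLocalRing.maximalIdeal (A : Type u)).map (MvPolynomial.C : (A : Type u) →+* MvPolynomial (Fin n) A) *
        RingHom.ker ψ.toRingHom := by
    intro z hz hz'
    have hz2 : z ∈ IsLocalRing.maximalIdeal (A : Type u) • (⊤ : Submodule (A : Type u) (MvPolynomial (Fin n) A)) := by
      rw [Ideal.smul_top_eq_map]
      exact mem_max_of_red hz'
    suffices z - s (ψ z) ∈ (IsLocalRing.maximalIdeal (A : Type u)).map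
        (MvPolynomial.C : (A : Type u) →+* MvPolynomial (Fin n) A) * RingHom.ker ψ.toRingHom by
      rwa [hz, map_zero, sub_zero] at this
    refine Submodule.smul_induction_on hz2 (fun a ha y _ => ?_) fun a b ha hb => ?_
    · rw [map_smul, map_smul, ← smul_sub, MvPolynomial.smul_eq_C_mul]
      refine Ideal.mul_mem_mul (Ideal.mem_map_of_mem _ ha) (RingHom.mem_ker.2 ?_)
      show ψ (y - s (ψ y)) = 0
      rw [map_sub, show ψ (s (ψ y)) = ψ y from LinearMap.congr_fun hs (ψ y), sub_self]
    · rw [map_add, map_add, add_sub_add_comm]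
      exact add_mem ha hb
  -- the ideals over `A'`
  let Q : Ideal (MvPolynomial (Fin n) A') := (RingHom.ker ψ.toRingHom).comap Z.g
  have hQmem : ∀ z, z ∈ Q ↔ ψ (Z.g z) = 0 := fun z => Iff.rfl
  let 𝔞 : Ideal (MvPolynomial (Fin n) A') := I₀.comap (red A')
  have h𝔞mem : ∀ z, z ∈ 𝔞 ↔ φ₀ (red A' z) = 0 := fun z => Iff.rfl
  have hQ𝔞 : Q ≤ 𝔞 := fun z hz => by
    rw [h𝔞mem, ← hZ]
    show φ₀ (red A (Z.g z)) = 0
    rw [← hψπ, (hQmem z).1 hz, map_zero]
  let mC := (IsLocalRing.maximalIdeal (A' : Type u)).map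
    (MvPolynomial.C : (A' : Type u) →+* MvPolynomial (Fin n) A')
  have hmC : mC ≤ RingHom.ker (red A' : MvPolynomial (Fin n) A' →+* _) := Ideal.map_le_iff_le_comap.2 fun a ha => by
    rw [Ideal.mem_comap, RingHom.mem_ker, red, MvPolynomial.map_C,
      show (A'.res : (A' : Type u) →+* k) a = 0 from (mem_maximalIdeal_iff A' a).1 ha, map_zero]
  have htQ : ∀ w, Z.t * w ∈ Q := fun w => by
    rw [hQmem, map_mul, Z.g_t, zero_mul, map_zero]
  have hredt : ∀ w, red A' (Z.t * w) = 0 := fun w => by
    rw [← hZ, map_mul, Z.g_t, zero_mul, map_zero]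
  have hQred : ∀ f ∈ I₀, ∃ q ∈ Q, red A' q = f := by
    intro f hf
    obtain ⟨z, rfl⟩ := red_surjective A f
    obtain ⟨z', hz', hz''⟩ := hmR (ψ z) (by rw [hψπ]; exact hf)
    obtain ⟨q, hq⟩ := Z.g_surj (z - z')
    exact ⟨q, by rw [hQmem, hq, map_sub, hz'', sub_self],
      by rw [← hZ, hq]; show red A (z - z') = _; rw [map_sub, hz', sub_zero]⟩
  have hQker : ∀ q ∈ Q, red A' q = 0 → ∃ z ∈ mC * Q, ∃ y, q = z + Z.t * y := by
    intro q hq hq'
    have h1 := htor (Z.g q) hq (by rw [← hq', ← hZ]; rfl)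
    have h2 : (mC * Q).map Z.g = (IsLocalRing.maximalIdeal (A : Type u)).map
        (MvPolynomial.C : (A : Type u) →+* MvPolynomial (Fin n) A) * RingHom.ker ψ.toRingHom := by
      rw [Ideal.map_mul, Ideal.map_comap_of_surjective _ Z.g_surj, Ideal.map_map,
        ← map_max p hp.1, Ideal.map_map]
      congr 2
      exact RingHom.ext fun a => MvPolynomial.map_C _ a
    rw [← h2, Ideal.mem_map_iff_of_surjective _ Z.g_surj] at h1
    obtain ⟨z, hz, hz'⟩ := h1
    obtain ⟨y, hy⟩ := Z.ker (q - z) (by rw [map_sub, hz', sub_self])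
    exact ⟨z, hz, y, by rw [← hy, add_sub_cancel]⟩
  -- the key injectivity
  have hinj : ∀ w, Z.t * w ∈ 𝔞 * Q → w ∈ 𝔞 := by
    intro w hw
    by_contra hne
    obtain ⟨M, hM, hKM⟩ := Ideal.exists_le_maximal (I₀.colon ({red A' w} : Set (MvPolynomial (Fin n) k))) (by
      intro htop
      have h1 : (1 : MvPolynomial (Fin n) k) • red A' w ∈ I₀ :=
        Submodule.mem_colon_singleton.1 (htop ▸ Submodule.mem_top)
      rw [one_smul] at h1
      exact hne h1)
    have hI₀M : I₀ ≤ M := le_trans (fun x hx => Submodule.mem_colon_singleton.2 (I₀.mul_mem_right _ hx)) hKM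
    obtain ⟨g₀, hg₀, l, hl, hspan⟩ := hreg ⟨M, hM.isPrime⟩ hI₀M
    rw [← List.ofFn_get l, CAlgH.KoszulRegular.isKoszulRegularSeq_iff] at hl
    have hf := CAlgH.KoszulH1.h1_of_kreg hl
    let f : Fin l.length → Localization.Away g₀ := l.get
    have hfspan : I₀.map (algebraMap _ (Localization.Away g₀)) = Ideal.span (Set.range f) := by
      rw [hspan]
      congr 1
      exact (Set.range_list_get l).symm
    obtain ⟨G', hG'⟩ := red_surjective A' g₀
    have hG : red A (Z.g G') = g₀ := (hZ G').trans hG'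
    let ZS := Z.loc (G' := G') (G := Z.g G') (g₀ := g₀) rfl hG
    let al := algebraMap (MvPolynomial (Fin n) A') (Localization.Away G')
    have hal : ∀ z, ZS.r (ZS.g (al z)) = algebraMap _ (Localization.Away g₀) (red A' z) := fun z => by
      show locMap Z.r hG (locMap Z.g (rfl : Z.g G' = Z.g G') (al z)) = _
      rw [locMap_algebraMap, locMap_algebraMap, hZ]
    let J := Q.map al
    have hI₀J : ∀ x ∈ I₀.map (algebraMap _ (Localization.Away g₀)), ∃ y ∈ J, ZS.r (ZS.g y) = x := by
      intro x hx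
      induction hx using Submodule.span_induction with
      | mem x hx =>
        obtain ⟨a, ha, rfl⟩ := hx
        obtain ⟨q, hq, rfl⟩ := hQred a ha
        exact ⟨al q, Ideal.mem_map_of_mem _ hq, hal q⟩
      | zero => exact ⟨0, J.zero_mem, by rw [map_zero, map_zero]⟩
      | add x y _ _ hx hy =>
        obtain ⟨x', hx', rfl⟩ := hx
        obtain ⟨y', hy', rfl⟩ := hy
        exact ⟨x' + y', J.add_mem hx' hy', by rw [map_add, map_add]⟩
      | smul c x _ hx =>
        obtain ⟨x', hx', rfl⟩ := hx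
        obtain ⟨c₁, rfl⟩ := ZS.r_surj c
        obtain ⟨c', rfl⟩ := ZS.g_surj c₁
        exact ⟨c' * x', J.mul_mem_left _ hx', by rw [map_mul, map_mul, smul_eq_mul]⟩
    choose F hFJ hF using fun i => hI₀J (f i) (hfspan.ge (Ideal.subset_span ⟨i, rfl⟩))
    have hfF : ∀ x : Localization.Away G', ZS.r (ZS.g x) ∈ Ideal.span (Set.range f) →
        ∃ y ∈ Ideal.span (Set.range F), ZS.r (ZS.g (x - y)) = 0 := by
      intro x hx
      obtain ⟨e, he⟩ := Ideal.mem_span_range_iff_exists_fun.1 hx
      choose e' he' using fun i => (ZS.r_surj.comp ZS.g_surj) (e i)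
      refine ⟨∑ i, e' i * F i, Ideal.sum_mem _ fun i _ => Ideal.mul_mem_left _ _ (Ideal.subset_span ⟨i, rfl⟩), ?_⟩
      rw [map_sub, map_sub, ← he, sub_eq_zero, map_sum, map_sum]
      exact (Finset.sum_congr rfl fun i _ => by rw [map_mul, map_mul, hF]; exact congrArg (· * f i) (he' i)).symm
    have hJred : ∀ x ∈ J, ZS.r (ZS.g x) ∈ Ideal.span (Set.range f) := by
      intro x hx
      rw [← hfspan]
      refine (show J ≤ ((I₀.map (algebraMap _ (Localization.Away g₀))).comap ZS.r).comap ZS.g from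
        Ideal.map_le_iff_le_comap.2 fun q hq => ?_) hx
      rw [Ideal.mem_comap, Ideal.mem_comap, Ideal.mem_comap, hal]
      exact Ideal.mem_map_of_mem _ (hQ𝔞 hq)
    have hJker : ∀ x ∈ J, ZS.r (ZS.g x) = 0 → x ∈ mC.map al * J ⊔ Ideal.span {ZS.t} := by
      intro x hx hx0
      obtain ⟨⟨⟨b, hb⟩, ⟨_, i, rfl⟩⟩, hxb⟩ := (IsLocalization.mem_map_algebraMap_iff (Submonoid.powers G') _).1 hx
      have h1 : ZS.r (ZS.g (al b)) = 0 := by
        rw [← show x * al (G' ^ i) = al b from hxb, map_mul, map_mul, hx0, zero_mul]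
      rw [hal, eq_zero_iff] at h1
      obtain ⟨m, hm⟩ := h1
      obtain ⟨z, hz, y, hy⟩ := hQker (G' ^ m * b) (Q.mul_mem_left _ hb) (by rw [map_mul, map_pow, hG', hm])
      refine (Ideal.mul_unit_mem_iff_mem _ (isUnit_pow G' (i + m))).1 ?_
      have he : x * al (G' ^ (i + m)) = al z + ZS.t * al y := by
        show x * al (G' ^ (i + m)) = al z + al Z.t * al y
        rw [← map_mul al Z.t, ← map_add, ← hy, pow_add, map_mul, ← mul_assoc,
          show x * al (G' ^ i) = al b from hxb, ← map_mul, mul_comm]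
      rw [he]
      refine Submodule.add_mem_sup ?_ (Ideal.mul_mem_right _ _ (Ideal.mem_span_singleton_self _))
      rw [← Ideal.map_mul]
      exact Ideal.mem_map_of_mem _ hz
    have hJle : J ≤ Ideal.span (Set.range F) ⊔ Ideal.span {ZS.t} := by
      have hstep : ∀ j : ℕ, J ≤ Ideal.span (Set.range F) ⊔ Ideal.span {ZS.t} ⊔ (mC.map al) ^ j * J := by
        intro j
        induction j with
        | zero => rw [pow_zero, one_mul]; exact le_sup_right
        | succ j ih =>
          refine ih.trans (sup_le le_sup_left ?_)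
          rw [Ideal.mul_le]
          intro a ha x hx
          obtain ⟨y, hy, hy0⟩ := hfF x (hJred x hx)
          have hxy : x - y ∈ J := J.sub_mem hx ((Ideal.span_le.2 (Set.range_subset_iff.2 hFJ)) hy)
          obtain ⟨u, hu, v, hv, huv⟩ := Submodule.mem_sup.1 (hJker _ hxy hy0)
          rw [show a * x = a * y + a * v + a * u by rw [← mul_add, ← mul_add, show y + v + u = x by linear_combination huv]]
          refine Submodule.add_mem_sup (Submodule.add_mem_sup (Ideal.mul_mem_left _ a hy)
            (Ideal.mul_mem_left _ a hv)) ?_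
          rw [pow_succ, mul_assoc]
          exact Ideal.mul_mem_mul ha hu
      obtain ⟨j, hj⟩ := hnilA'
      refine (hstep j).trans (sup_le le_rfl ?_)
      rw [← Ideal.map_pow, ← Ideal.map_pow, hj, Ideal.zero_eq_bot, Ideal.map_bot, Ideal.map_bot, Ideal.bot_mul]
      exact bot_le
    have hmemF : al (Z.t * w) ∈ Ideal.span (Set.range F) := by
      have h1 : 𝔞.map al * J ≤ Ideal.span (Set.range F) := by
        rw [Ideal.mul_le]
        intro a ha x hx
        obtain ⟨u, hu, v, hv, rfl⟩ := Submodule.mem_sup.1 (hJle hx)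
        obtain ⟨v, rfl⟩ := Ideal.mem_span_singleton'.1 hv
        have hared : ZS.r (ZS.g a) ∈ Ideal.span (Set.range f) := by
          rw [← hfspan]
          refine (show 𝔞.map al ≤ ((I₀.map (algebraMap _ (Localization.Away g₀))).comap ZS.r).comap ZS.g from
            Ideal.map_le_iff_le_comap.2 fun q hq => ?_) ha
          rw [Ideal.mem_comap, Ideal.mem_comap, Ideal.mem_comap, hal]
          exact Ideal.mem_map_of_mem _ hq
        obtain ⟨y, hy, hy0⟩ := hfF a hared
        rw [mul_add]
        refine add_mem (Ideal.mul_mem_left _ a hu) ?_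
        rw [show a * (v * ZS.t) = v * (ZS.t * (a - y)) + v * ZS.t * y by ring, (ZS.ann _).2 hy0, mul_zero, zero_add]
        exact Ideal.mul_mem_left _ _ hy
      refine h1 ?_
      rw [← Ideal.map_mul]
      exact Ideal.mem_map_of_mem _ hw
    have hred : ZS.r (ZS.g (al w)) ∈ Ideal.span (Set.range f) := by
      have hFs : (ZS.r ∘ ZS.g ∘ F) = f := funext hF
      have hS : CAlgX.IsH1Regular (ZS.g ∘ F) := relLift hf A (Z.g G') hG _ (funext hF)
      rw [← hFs]
      refine red_mem_of_mem ZS F hS ?_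
      show al Z.t * al w ∈ _
      rw [← map_mul]
      exact hmemF
    rw [hal, ← hfspan, IsLocalization.algebraMap_mem_map_algebraMap_iff (Submonoid.powers g₀)] at hred
    obtain ⟨_, ⟨m, rfl⟩, hm⟩ := hred
    exact hg₀ (hM.isPrime.mem_of_pow_mem m (hKM (Submodule.mem_colon_singleton.2 hm)))
  -- the splitting of the conormal module
  obtain ⟨hfin, hproj⟩ := CAlgH.NLPerfect.projective_cotangent I₀ hreg
  obtain ⟨c, ρ, hρ⟩ := Module.Finite.exists_fin' (MvPolynomial (Fin n) k ⧸ I₀) I₀.Cotangent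
  obtain ⟨σ, hσ⟩ := Module.projective_lifting_property ρ LinearMap.id hρ
  choose qj hqjQ hqj using fun j : Fin c => hQred (I₀.toCotangent_surjective (ρ (Pi.single j 1))).choose.1
    (I₀.toCotangent_surjective (ρ (Pi.single j 1))).choose.2
  have hexp : ∀ (x : I₀) (a : Fin c → MvPolynomial (Fin n) k),
      (∀ j, Ideal.Quotient.mk I₀ (a j) = σ (I₀.toCotangent x) j) →
        (x : MvPolynomial (Fin n) k) - ∑ j, a j * red A' (qj j) ∈ I₀ ^ 2 := by
    intro x a ha
    let y : I₀ := ∑ j, a j • (I₀.toCotangent_surjective (ρ (Pi.single j 1))).choose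
    have hy : I₀.toCotangent x = I₀.toCotangent y := by
      rw [map_sum]
      conv_lhs => rw [← show ρ (σ (I₀.toCotangent x)) = I₀.toCotangent x from LinearMap.congr_fun hσ _,
        pi_eq_sum_univ' (σ (I₀.toCotangent x)), map_sum]
      refine Finset.sum_congr rfl fun j _ => ?_
      rw [map_smul, map_smul, (I₀.toCotangent_surjective (ρ (Pi.single j 1))).choose_spec, ← ha j]
      rfl
    rw [Ideal.toCotangent_eq] at hy
    simpa [y, hqj] using hy
  let N : Ideal (MvPolynomial (Fin n) A') := Ideal.span {Z.t} * 𝔞 ⊔ 𝔞 * Q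
  have hN : ∀ w, Z.t * w ∈ N → w ∈ 𝔞 := by
    intro w hw
    obtain ⟨u, hu, v, hv, huv⟩ := Submodule.mem_sup.1 hw
    obtain ⟨a, ha, rfl⟩ := Ideal.mem_span_singleton_mul.1 hu
    have := hinj (w - a) (by rwa [mul_sub, ← huv, add_sub_cancel_left])
    simpa using add_mem this ha
  let Adm : MvPolynomial (Fin n) A' → (Fin c → MvPolynomial (Fin n) A') → Prop := fun q a =>
    ∃ h : red A' q ∈ I₀, ∀ j, Ideal.Quotient.mk I₀ (red A' (a j)) = σ (I₀.toCotangent ⟨red A' q, h⟩) j
  have hAdm : ∀ q ∈ Q, ∃ a, Adm q a := by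
    intro q hq
    choose a ha using fun j => Ideal.Quotient.mk_surjective (σ (I₀.toCotangent ⟨red A' q, hQ𝔞 hq⟩) j)
    choose b hb using fun j => red_surjective A' (a j)
    exact ⟨b, hQ𝔞 hq, fun j => by rw [hb, ha]⟩
  have hAdmN : ∀ q a b, Adm q a → Adm q b → ∑ j, a j * qj j - ∑ j, b j * qj j ∈ N := by
    rintro q a b ⟨h, ha⟩ ⟨h', hb⟩
    rw [← Finset.sum_sub_distrib]
    refine Ideal.sum_mem _ fun j _ => ?_
    rw [← sub_mul]
    refine Ideal.mem_sup_right (Ideal.mul_mem_mul ?_ (hqjQ j))
    show red A' (a j - b j) ∈ I₀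
    rw [map_sub, ← Ideal.Quotient.eq, ha, hb]
  have hAdm0 : ∀ w, Adm (Z.t * w) 0 := fun w => by
    refine ⟨by rw [hredt]; exact zero_mem _, fun j => ?_⟩
    rw [show (⟨red A' (Z.t * w), _⟩ : I₀) = 0 from Subtype.ext (hredt w), map_zero, map_zero]
    simp
  let I' : Ideal (MvPolynomial (Fin n) A') :=
    { carrier := {q | q ∈ Q ∧ ∀ a, Adm q a → q - ∑ j, a j * qj j ∈ N}
      zero_mem' := ⟨Q.zero_mem, fun a ha => by
        rw [zero_sub, ← sub_zero (-∑ j, a j * qj j)]
        have := hAdmN 0 a 0 ha (by simpa using hAdm0 0)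
        simpa using this⟩
      add_mem' := by
        rintro x y ⟨hx, hx'⟩ ⟨hy, hy'⟩
        refine ⟨Q.add_mem hx hy, fun a ha => ?_⟩
        obtain ⟨b, hb⟩ := hAdm x hx
        obtain ⟨b', hb'⟩ := hAdm y hy
        have hsum : Adm (x + y) (b + b') := by
          refine ⟨hQ𝔞 (Q.add_mem hx hy), fun j => ?_⟩
          rw [Pi.add_apply, map_add, map_add, hb.2, hb'.2, ← Pi.add_apply, ← map_add, ← map_add]
          exact congrFun (congrArg σ (congrArg I₀.toCotangent (Subtype.ext (map_add (red A') x y).symm))) j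
        have h1 := add_mem (hx' b hb) (hy' b' hb')
        have h2 := hAdmN _ _ _ hsum ha
        convert add_mem h1 h2 using 1
        simp only [Pi.add_apply, add_mul, Finset.sum_add_distrib]
        ring
      smul_mem' := by
        rintro d x ⟨hx, hx'⟩
        refine ⟨Q.mul_mem_left d hx, fun a ha => ?_⟩
        obtain ⟨b, hb⟩ := hAdm x hx
        have hs : Adm (d • x) (d • b) := by
          refine ⟨hQ𝔞 (Q.mul_mem_left d hx), fun j => ?_⟩
          have he : (⟨red A' (d • x), hQ𝔞 (Q.mul_mem_left d hx)⟩ : I₀) = red A' d • ⟨red A' x, hQ𝔞 hx⟩ :=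
            Subtype.ext (map_mul (red A') d x)
          rw [he, map_smul, Pi.smul_apply, smul_eq_mul, map_mul, map_mul, hb.2]
          rw [← algebraMap_smul (MvPolynomial (Fin n) k ⧸ I₀) (red A' d) (I₀.toCotangent ⟨red A' x, hQ𝔞 hx⟩),
            map_smul]
          rfl
        have h1 := N.mul_mem_left d (hx' b hb)
        have h2 := hAdmN _ _ _ hs ha
        convert add_mem h1 h2 using 1
        simp only [Pi.smul_apply, smul_eq_mul, mul_assoc, ← Finset.mul_sum]
        ring }
  have hI'mem : ∀ q, q ∈ I' ↔ q ∈ Q ∧ ∀ a, Adm q a → q - ∑ j, a j * qj j ∈ N := fun q => Iff.rfl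
  have hlift : ∀ q ∈ Q, ∃ w, q - Z.t * w ∈ I' := by
    intro q hq
    obtain ⟨a, ha⟩ := hAdm q hq
    have hu : q - ∑ j, a j * qj j ∈ Q := Q.sub_mem hq (Ideal.sum_mem _ fun j _ => Q.mul_mem_left _ (hqjQ j))
    have h2 : red A' (q - ∑ j, a j * qj j) ∈ (Q * Q).map (red A') := by
      rw [Ideal.map_mul, ← pow_two, map_sub, map_sum]
      have := hexp ⟨red A' q, ha.1⟩ (fun j => red A' (a j)) ha.2
      simp only [← map_mul] at this
      exact Ideal.pow_right_mono (fun f hf => by
        obtain ⟨z, hz, rfl⟩ := hQred f hf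
        exact Ideal.mem_map_of_mem _ hz) 2 this
    obtain ⟨z, hz, hz'⟩ := (Ideal.mem_map_iff_of_surjective _ (red_surjective A')).1 h2
    obtain ⟨z', hz'', y, hy⟩ := hQker _ (Q.sub_mem hu (Ideal.mul_le_left hz)) (by rw [map_sub, hz', sub_self])
    refine ⟨y, (hI'mem _).2 ⟨Q.sub_mem hq (htQ y), fun b hb => ?_⟩⟩
    have hqa : Adm (q - Z.t * y) a := by
      refine ⟨hQ𝔞 (Q.sub_mem hq (htQ y)), fun j => ?_⟩
      rw [ha.2]
      exact congrFun (congrArg σ (congrArg I₀.toCotangent (Subtype.ext (by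
        show red A' q = red A' (q - Z.t * y)
        rw [map_sub, hredt, sub_zero])))) j
    have hzN : z + z' ∈ N := add_mem (Ideal.mem_sup_right (Ideal.mul_mono_left hQ𝔞 hz))
      (Ideal.mem_sup_right (Ideal.mul_mono_left (fun e he => by
        rw [h𝔞mem, show red A' e = 0 from hmC he, map_zero]) hz''))
    convert add_mem hzN (hAdmN _ _ _ hqa hb) using 1
    linear_combination hy
  have hI't : ∀ w, Z.t * w ∈ I' → red A' w ∈ I₀ := fun w hw => by
    have := ((hI'mem _).1 hw).2 0 (hAdm0 w)
    exact hN w (by simpa using this)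
  -- the algebra over `A'`
  let R' := MvPolynomial (Fin n) A' ⧸ I'
  let φ : R' →+* D.R := Ideal.Quotient.lift I' (ψ.toRingHom.comp Z.g) fun q hq => ((hI'mem q).1 hq).1
  have hφalg : ∀ a : A', φ (algebraMap (A' : Type u) R' a) = algebraMap (A : Type u) D.R (p a) := fun a => by
    show ψ (Z.g (MvPolynomial.C a)) = _
    rw [show Z.g (MvPolynomial.C a) = MvPolynomial.C (p a) from MvPolynomial.map_C _ a]
    exact MvPolynomial.aeval_C _ _
  have hφs : Function.Surjective φ := fun x => by
    obtain ⟨z, rfl⟩ := hψ x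
    obtain ⟨z', rfl⟩ := Z.g_surj z
    exact ⟨Ideal.Quotient.mk I' z', rfl⟩
  have hker : ∀ x, φ x = 0 → x ∈ IsLocalRing.maximalIdeal (A' : Type u) • (⊤ : Submodule (A' : Type u) R') := by
    intro x hx
    obtain ⟨q, rfl⟩ := Ideal.Quotient.mk_surjective x
    obtain ⟨w, hw⟩ := hlift q hx
    rw [Ideal.Quotient.eq.2 hw, ht, ← MvPolynomial.smul_eq_C_mul]
    exact Submodule.smul_mem_smul hτm Submodule.mem_top (n := Ideal.Quotient.mk I' w)
  have hflat : Module.Flat (A' : Type u) R' := by
    let b := Module.Free.chooseBasis (A : Type u) D.R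
    choose zb hzb using fun j => hψ (b j)
    choose zb' hzb' using fun j => Z.g_surj (zb j)
    let L := Finsupp.linearCombination (A' : Type u) fun j => Ideal.Quotient.mk I' (zb' j)
    have hφL : ∀ a, φ (L a) = Finsupp.linearCombination (A : Type u) b (a.mapRange p (map_zero p.toAlgHom)) := by
      intro a
      induction a using Finsupp.induction_linear with
      | zero => simp [L]
      | add f g hf hg => rw [map_add, map_add, hf, hg, Finsupp.mapRange_add (map_add p.toAlgHom), map_add]
      | single j a =>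
        rw [Finsupp.mapRange_single,
          show Finsupp.linearCombination (A : Type u) b (Finsupp.single j (p a)) = p a • b j from
            Finsupp.linearCombination_single _ _ _]
        rw [show L (Finsupp.single j a) = algebraMap (A' : Type u) R' a * Ideal.Quotient.mk I' (zb' j) from
            (Finsupp.linearCombination_single _ _ _).trans
              (Algebra.smul_def (A := MvPolynomial (Fin n) A' ⧸ I') a _), Algebra.smul_def, map_mul, hφalg]
        refine congrArg (_ * ·) ?_
        show ψ (Z.g (zb' j)) = b j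
        rw [hzb', hzb]
    refine @Module.Flat.of_free _ _ _ _ _ (Module.Free.of_equiv (LinearEquiv.ofBijective L ⟨?_, ?_⟩))
    · rw [injective_iff_map_eq_zero]
      intro a ha
      have h0 : a.mapRange p (map_zero p.toAlgHom) = 0 := b.linearIndependent.finsuppLinearCombination_injective
        (by rw [map_zero, ← hφL, ha, map_zero])
      choose e he using fun j => show ∃ e, e * τ = a j from Ideal.mem_span_singleton'.1 (hkp ▸ RingHom.mem_ker.2
        (show p (a j) = 0 from (Finsupp.mapRange_apply ..).symm.trans (DFunLike.congr_fun h0 j)))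
      let e' : Module.Free.ChooseBasisIndex (A : Type u) D.R →₀ A' :=
        Finsupp.onFinset a.support (fun j => if a j = 0 then 0 else e j) (fun j hj => by
          rw [Finsupp.mem_support_iff]; exact fun h => hj (by simp [h]))
      have hae : a = τ • e' := Finsupp.ext fun j => by
        show a j = τ * (if a j = 0 then 0 else e j)
        split_ifs with h
        · rw [h, mul_zero]
        · rw [mul_comm, he]
      obtain ⟨z, hz⟩ := Ideal.Quotient.mk_surjective (L e')
      have hz0 : Z.t * z ∈ I' := by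
        rw [← Ideal.Quotient.eq_zero_iff_mem, ht, ← MvPolynomial.smul_eq_C_mul]
        show τ • Ideal.Quotient.mk I' z = 0
        rw [hz, ← map_smul, ← hae, ha]
      have h1 : Finsupp.linearCombination (A : Type u) b (e'.mapRange p (map_zero p.toAlgHom)) ∈
          IsLocalRing.maximalIdeal (A : Type u) • (⊤ : Submodule (A : Type u) D.R) := by
        refine hkerD _ ?_
        rw [← hφL, ← hz]
        show D.π (ψ (Z.g z)) = 0
        rw [hψπ]
        exact (congrArg φ₀ (hZ z)).trans (hI't z hz0)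
      ext j
      rw [hae]
      show τ * e' j = 0
      rw [mul_comm]
      refine ArtFunLib.mul_eq_zero_of_semismall hp.isSemismallExt ((mem_maximalIdeal_iff A' _).2 ?_) hτ0
      rw [← Art.res_app p]
      refine (mem_maximalIdeal_iff A _).1 ?_
      have h2 : b.repr (Finsupp.linearCombination (A : Type u) b (e'.mapRange p (map_zero p.toAlgHom))) j ∈
          IsLocalRing.maximalIdeal (A : Type u) := by
        refine Submodule.smul_induction_on h1 (fun a ha y _ => ?_) fun y y' hy hy' => ?_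
        · rw [map_smul, Finsupp.smul_apply, smul_eq_mul]
          exact Ideal.mul_mem_right _ _ ha
        · rw [map_add, Finsupp.add_apply]
          exact add_mem hy hy'
      rwa [b.repr_linearCombination, Finsupp.mapRange_apply] at h2
    · refine LinearMap.range_eq_top.1 (FlatCrit.submodule_eq_top_of_nilpotent hnilA' _ ?_)
      rw [eq_top_iff]
      intro x _
      obtain ⟨a, ha⟩ := Finsupp.mapRange_surjective p (map_zero p.toAlgHom) hp.1 (b.repr (φ x))
      refine Submodule.mem_sup.2 ⟨L a, ⟨a, rfl⟩, x - L a, hker _ ?_, add_sub_cancel _ _⟩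
      rw [map_sub, hφL, ha, b.linearCombination_repr, sub_self]
  refine ⟨⟨R', D.π.comp φ, D.surj.comp hφs, fun a => by rw [RingHom.comp_apply, hφalg, D.comp_alg, Art.res_app],
    fun x hx => ?_⟩, φ, hφalg, rfl⟩
  obtain ⟨z, hz, hz'⟩ := hmR (φ x) hx
  obtain ⟨q, rfl⟩ := Ideal.Quotient.mk_surjective x
  obtain ⟨z', rfl⟩ := Z.g_surj z
  have h1 : Ideal.Quotient.mk I' q - Ideal.Quotient.mk I' z' ∈
      IsLocalRing.maximalIdeal (A' : Type u) • (⊤ : Submodule (A' : Type u) R') := hker _ (by
    rw [map_sub, sub_eq_zero]; exact hz'.symm)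
  have h2 : z' ∈ mC := mem_max_of_red ((hZ z').symm.trans hz)
  rw [Ideal.smul_top_eq_map] at h1
  rw [← sub_add_cancel (Ideal.Quotient.mk I' q) (Ideal.Quotient.mk I' z')]
  refine add_mem h1 ?_
  have h3 := Ideal.mem_map_of_mem (Ideal.Quotient.mk I') h2
  rw [Ideal.map_map] at h3
  exact h3

end Groth.Agent.Et18.LiftCI
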