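import Groth.Agent.Et18.BaseChange0Stalk
import Groth.Agent.Et18.Subterminal

/-!
# The open where two sections agree
-/

universe u

open CategoryTheory CategoryTheory.Limits AlgebraicGeometry Opposite

set_option backward.isDefEq.respectTransparency.types false
set_option backward.isDefEq.respectTransparency false

namespace Groth.Agent.Et18

variable {S : Scheme.{u}} (F : EtCoh.Ab S) (s t : EtCoh.sect F (EtCoh.top S))

/-- The morphism to the terminal object of the small étale site. -/
noncomputable def toTop (V : S.Etale) : V ⟶ EtCoh.top S :=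
  MorphismProperty.Over.homMk V.hom (Category.comp_id _)

/-- The open where two global sections agree. -/
def agreeLocus : S.Opens :=
  ⟨⋃ (V : S.Etale) (_ : F.obj.map (toTop V).op s = F.obj.map (toTop V).op t), Set.range V.hom,
    isOpen_iUnion fun V => isOpen_iUnion fun _ => haveI : Etale V.hom := V.prop
      V.hom.isOpenMap.isOpen_range⟩

theorem pull_eq_iff (T : Scheme.{u}) (f : T ⟶ S) :
    Set.range f ⊆ (agreeLocus F s t : Set S) ↔
      ((EtCoh.pullPushAdj f).unit.app F).hom.app (op (EtCoh.top S)) s =
        ((EtCoh.pullPushAdj f).unit.app F).hom.app (op (EtCoh.top S)) t := by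
  let η := (EtCoh.pullPushAdj f).unit.app F
  let G := (EtCoh.pull f).obj F
  constructor
  · intro h
    have hG : Presieve.IsSheaf T.smallEtaleTopology (G.obj ⋙ forget AddCommGrpCat.{u + 1}) :=
      (isSheaf_iff_isSheaf_of_type _ _).mp
        ((sheafCompose T.smallEtaleTopology (forget AddCommGrpCat.{u + 1})).obj G).property
    let P := (EtCoh.bc f).obj (EtCoh.top S)
    let ι := {V : S.Etale // F.obj.map (toTop V).op s = F.obj.map (toTop V).op t}
    let c : ∀ V : ι, (EtCoh.bc f).obj V.1 ⟶ P := fun V => (EtCoh.bc f).map (toTop V.1)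
    have hcov : Sieve.ofArrows _ c ∈ T.smallEtaleTopology P := by
      rw [Scheme.ofArrows_mem_smallEtaleTopology_iff, Set.eq_univ_iff_forall]
      intro p
      let φ : P.left ⟶ (EtCoh.top S).left := pullback.fst (EtCoh.top S).hom f
      obtain ⟨V, hV, v, hv⟩ := Set.mem_iUnion₂.mp (h ⟨P.hom p, rfl⟩)
      have hp : φ p = f (P.hom p) :=
        congrArg (fun k => k p) (pullback.condition (f := (EtCoh.top S).hom) (g := f))
      obtain ⟨z, hz, -⟩ := Scheme.Pullback.exists_preimage_pullback (f := φ) (g := (toTop V).left) p v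
        (hp.trans hv.symm)
      refine Set.mem_iUnion.mpr ⟨⟨V, hV⟩, (EtCoh.isPullback_bc_map f (toTop V)).isoPullback.inv z, ?_⟩
      exact (congrArg (fun k => k z) (EtCoh.isPullback_bc_map f (toTop V)).isoPullback_inv_fst).trans hz
    refine (hG _ hcov).isSeparatedFor.ext fun Z g hg => ?_
    obtain ⟨_, k, _, ⟨V⟩, rfl⟩ := hg
    change G.obj.map (k ≫ c V).op (η.hom.app _ s) = G.obj.map (k ≫ c V).op (η.hom.app _ t)
    rw [op_comp, Functor.map_comp, ConcreteCategory.comp_apply, ConcreteCategory.comp_apply]
    refine congrArg _ ?_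
    refine ((ConcreteCategory.comp_apply (C := AddCommGrpCat.{u + 1}) _ _ s).symm.trans
      (ConcreteCategory.congr_hom (η.hom.naturality (toTop V.1).op) s).symm).trans ?_
    refine Eq.trans ?_ ((ConcreteCategory.congr_hom (η.hom.naturality (toTop V.1).op) t).trans
      (ConcreteCategory.comp_apply (C := AddCommGrpCat.{u + 1}) _ _ t))
    rw [ConcreteCategory.comp_apply, ConcreteCategory.comp_apply]
    exact congrArg (η.hom.app (op V.1)) V.2
  · rintro h _ ⟨τ, rfl⟩
    let ρ := sepPoint T τ
    let Φ := Scheme.pointSmallEtale (ρ ≫ f)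
    let v₀ : Φ.fiber.obj (EtCoh.top S) := Over.homMk (ρ ≫ f) (Category.comp_id _)
    have hinj := ((ConcreteCategory.isIso_iff_bijective _).mp
      (isIso_toPull f (ρ ≫ f) ⟨ρ, rfl⟩ F)).injective
    have key := fun x => ConcreteCategory.congr_hom
      (toPresheafFiber_toPull f (ρ ≫ f) ⟨ρ, rfl⟩ F (EtCoh.top S) v₀) x
    have : Φ.toPresheafFiber _ v₀ F.obj s = Φ.toPresheafFiber _ v₀ F.obj t := by
      apply hinj
      refine ((ConcreteCategory.comp_apply (C := AddCommGrpCat.{u + 1}) _ _ s).symm.trans (key s)).trans ?_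
      refine Eq.trans ?_ ((key t).symm.trans (ConcreteCategory.comp_apply (C := AddCommGrpCat.{u + 1}) _ _ t))
      rw [ConcreteCategory.comp_apply, ConcreteCategory.comp_apply]
      exact congrArg _ h
    obtain ⟨V, a, v, -, hV⟩ := (Φ.toPresheafFiber_eq_iff' _ _ _ _).mp this
    have ha : a = toTop V := (Scheme.Etale.forget S).map_injective (Over.OverMorphism.ext
      ((Category.comp_id _).symm.trans (Over.w a.hom)))
    refine Set.mem_iUnion₂.mpr ⟨V, ha ▸ hV, (v.left : _ ⟶ V.left) (default : Spec (CommRingCat.of (SeparableClosure (T.residueField τ)))), ?_⟩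
    refine (congrArg (fun k => k (default : Spec (CommRingCat.of (SeparableClosure (T.residueField τ))))) (Over.w v)).trans ?_
    exact congrArg f (sepPoint_default T τ)

end Groth.Agent.Et18
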