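import Groth.Agent.Et18.SHull
import Groth.Prelude.Def_Hens2
import Mathlib.AlgebraicGeometry.Stalk
import Mathlib.RingTheory.Flat.FaithfullyFlat.Algebra

/-!
# Specialization maps of strict localizations
-/

set_option autoImplicit false
set_option backward.isDefEq.respectTransparency.types false
set_option backward.isDefEq.respectTransparency false

universe u

open CategoryTheory AlgebraicGeometry IsLocalRing
open scoped TensorProduct

namespace Groth.Agent.Et18.Specialization

open HenselLib

variable {A R : Type u} [CommRing A] [CommRing R] [IsLocalRing R] [Algebra A R]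
  (e : Hull A (ResidueField R) ≃ₐ[A] R)

include e

/-- Maps from a hull to a henselian local ring are the maps to its residue field. -/
theorem existsUnique_lift_residue {C : Type u} [CommRing C] [HenselianLocalRing C] [Algebra A C]
    (τ : R →ₐ[A] ResidueField C) :
    ∃! g : R →ₐ[A] C, ∀ r, residue C (g r) = τ r := by
  let J := maximalIdeal C
  choose g hg hguniq using fun P : Pt A (ResidueField R) =>
    existsUnique_to_residueField C ((τ.comp e.toAlgHom).comp (ι P))
  obtain ⟨G, hG⟩ := exists_desc g fun P Q f => hguniq P _ fun a => by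
    show residue C (g Q (f.map a)) = τ (e (ι P a))
    rw [hg Q (f.map a)]
    exact congrArg (fun z => τ (e z)) (ι_map f a)
  refine ⟨G.comp e.symm.toAlgHom, fun r => ?_, fun G' hG' => AlgHom.ext fun r => ?_⟩
  · obtain ⟨h, rfl⟩ := e.surjective r
    obtain ⟨P, x, rfl⟩ := exists_rep h
    show residue C (G (e.symm (e (ι P x)))) = _
    rw [e.symm_apply_apply, show G (ι P x) = g P x from congr($(hG P) x)]
    exact hg P x
  · obtain ⟨h, rfl⟩ := e.surjective r
    obtain ⟨P, x, rfl⟩ := exists_rep h
    show G' (e (ι P x)) = G (e.symm (e (ι P x)))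
    rw [e.symm_apply_apply, show G (ι P x) = g P x from congr($(hG P) x)]
    exact congr($(hguniq P ((G'.comp e.toAlgHom).comp (ι P)) fun a => hG' _) x)

/-- Images of a hull in extensions of separably closed fields are rational. -/
theorem mem_range_point {K' L : Type u} [Field K'] [IsSepClosed K'] [Field L] (i : K' →+* L)
    (c : A →+* K') (j : R →+* L) (hj : ∀ a, j (algebraMap A R a) = i (c a)) (r : R) :
    j r ∈ Set.range i := by
  obtain ⟨h, rfl⟩ := e.surjective r
  obtain ⟨P, x, rfl⟩ := exists_rep h
  let : Algebra A K' := c.toAlgebra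
  let : Algebra K' L := i.toAlgebra
  let : Algebra A L := (i.comp c).toAlgebra
  have : IsScalarTower A K' L := IsScalarTower.of_algebraMap_eq (R := A) (S := K') (A := L) fun _ => rfl
  let g : P.Ring →ₐ[A] L :=
    { j.comp (e.toAlgHom.comp (ι P)).toRingHom with
      commutes' := fun a => by
        show j (e (ι P (algebraMap A P.Ring a))) = _
        rw [(ι P).commutes, e.commutes]
        exact hj a }
  let gk : K' ⊗[A] P.Ring →ₐ[K'] L := Algebra.TensorProduct.lift (Algebra.ofId K' L) g
    fun _ _ => Commute.all _ _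
  obtain ⟨c', hc⟩ := mem_range_of_unramified gk ((1 : K') ⊗ₜ[A] x)
  exact ⟨c', hc.trans (by simp [gk]; rfl)⟩

variable {O : Type u} [CommRing O] [IsLocalRing O] [Algebra A O] (M : Submonoid A) [IsLocalization M O]
  [Algebra O R] [IsScalarTower A O R] [IsLocalHom (algebraMap O R)]

include M in
/-- A strict henselization has a point in every separably closed field over the local ring. -/
theorem exists_point (K' : Type u) [Field K'] [IsSepClosed K'] [Algebra O K'] :
    Nonempty (R →ₐ[O] K') := by
  have : Module.Flat A R := Module.Flat.of_linearEquiv e.symm.toLinearEquiv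
  have : Module.Flat O R := (Module.flat_iff_of_isLocalization O M R).mpr ‹_›
  have : Module.FaithfullyFlat O R := Module.FaithfullyFlat.of_flat_of_isLocalHom
  have : Nontrivial (K' ⊗[O] R) := (TensorProduct.comm O K' R).toEquiv.nontrivial_congr.mpr
    (Module.FaithfullyFlat.lTensor_nontrivial O R K')
  obtain ⟨m, hm⟩ := Ideal.exists_maximal (K' ⊗[O] R)
  let : Field ((K' ⊗[O] R) ⧸ m) := Ideal.Quotient.field m
  let L := (K' ⊗[O] R) ⧸ m
  let j : R →+* L := (Ideal.Quotient.mk m).comp Algebra.TensorProduct.includeRight.toRingHom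
  let : Algebra A K' := ((algebraMap O K').comp (algebraMap A O)).toAlgebra
  have hj : ∀ a : A, j (algebraMap A R a) = algebraMap K' L (algebraMap A K' a) := fun a => by
    show Ideal.Quotient.mk m ((1 : K') ⊗ₜ[O] algebraMap A R a) =
      Ideal.Quotient.mk m (algebraMap O K' (algebraMap A O a) ⊗ₜ[O] (1 : R))
    rw [IsScalarTower.algebraMap_apply A O R, Algebra.algebraMap_eq_smul_one (A := R),
      ← TensorProduct.smul_tmul, ← Algebra.algebraMap_eq_smul_one]
  have hmem : ∀ r, j r ∈ Set.range (algebraMap K' L) := fun r =>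
    mem_range_point e (algebraMap K' L) (algebraMap A K') j hj r
  have hs : Function.Surjective (algebraMap K' L) := fun l => by
    obtain ⟨z, rfl⟩ := Ideal.Quotient.mk_surjective l
    induction z using TensorProduct.induction_on with
    | zero => exact ⟨0, by rw [map_zero, map_zero]⟩
    | tmul k r =>
        obtain ⟨c, hc⟩ := hmem r
        refine ⟨k * c, ?_⟩
        rw [map_mul, hc]
        show Ideal.Quotient.mk m (k ⊗ₜ[O] (1 : R)) * Ideal.Quotient.mk m ((1 : K') ⊗ₜ[O] r) = _
        rw [← map_mul, Algebra.TensorProduct.tmul_mul_tmul, mul_one, one_mul]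
    | add y z hy hz =>
        obtain ⟨a, ha⟩ := hy
        obtain ⟨b, hb⟩ := hz
        exact ⟨a + b, by rw [map_add, ha, hb, map_add]⟩
  let ε : K' ≃+* L := RingEquiv.ofBijective (algebraMap K' L) ⟨(algebraMap K' L).injective, hs⟩
  refine ⟨{ ε.symm.toRingHom.comp j with commutes' := fun o => ε.injective ?_ }⟩
  show ε (ε.symm (j (algebraMap O R o))) = ε (algebraMap O K' o)
  rw [RingEquiv.apply_symm_apply]
  show Ideal.Quotient.mk m ((1 : K') ⊗ₜ[O] algebraMap O R o) =
    Ideal.Quotient.mk m (algebraMap O K' o ⊗ₜ[O] (1 : R))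
  rw [Algebra.algebraMap_eq_smul_one (A := R), ← TensorProduct.smul_tmul,
    ← Algebra.algebraMap_eq_smul_one]

omit e

section Scheme

variable {X : Scheme.{u}} {x x' : X} (R : Type u) [CommRing R] [IsLocalRing R]
  [Algebra (X.presheaf.stalk x) R] [IsLocalHom (algebraMap (X.presheaf.stalk x) R)]
  [Hensel.IsStrictHenselization (X.presheaf.stalk x) R]
  (R' : Type u) [CommRing R'] [IsLocalRing R'] [Algebra (X.presheaf.stalk x') R']
  [IsLocalHom (algebraMap (X.presheaf.stalk x') R')]

omit [Hensel.IsStrictHenselization (X.presheaf.stalk x) R] in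
theorem specOf_closedPoint : Hens2.specOf X x R (closedPoint R) = x := by
  change X.fromSpecStalk x (Spec.map (CommRingCat.ofHom (algebraMap (X.presheaf.stalk x) R))
    (closedPoint R)) = x
  have : IsLocalHom (CommRingCat.ofHom (algebraMap (X.presheaf.stalk x) R)).hom := ‹_›
  exact (congrArg (X.fromSpecStalk x) (Spec_closedPoint
    (f := CommRingCat.ofHom (algebraMap (X.presheaf.stalk x) R)))).trans Scheme.fromSpecStalk_closedPoint

omit [IsLocalHom (algebraMap (X.presheaf.stalk x) R)] [Hensel.IsStrictHenselization (X.presheaf.stalk x) R] in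
/-- A factorisation of a point above `x'` through the strict localization at `x` forces a specialization. -/
theorem specializes_of_factor {T : Scheme.{u}} (h : T ⟶ Spec (CommRingCat.of R)) (t : T)
    (ht : (h ≫ Hens2.specOf X x R) t = x') : x' ⤳ x := by
  have hr : x' ∈ Set.range (X.fromSpecStalk x) :=
    ⟨Spec.map (CommRingCat.ofHom (algebraMap (X.presheaf.stalk x) R)) (h t), ht⟩
  rw [Scheme.range_fromSpecStalk] at hr
  exact hr

omit [IsLocalRing R] [IsLocalHom (algebraMap (X.presheaf.stalk x) R)]
  [Hensel.IsStrictHenselization (X.presheaf.stalk x) R] in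
/-- Commutativity of a specialization triangle in terms of rings. -/
theorem comp_eq_iff (hx : x' ⤳ x) {C : Type u} [CommRing C] (c : R' →+* C) (g : R →+* C) :
    Spec.map (CommRingCat.ofHom g) ≫ Hens2.specOf X x R =
        Spec.map (CommRingCat.ofHom c) ≫ Hens2.specOf X x' R' ↔
      g.comp (algebraMap (X.presheaf.stalk x) R) =
        c.comp ((algebraMap (X.presheaf.stalk x') R').comp (X.presheaf.stalkSpecializes hx).hom) := by
  have key : Spec.map (CommRingCat.ofHom c) ≫ Hens2.specOf X x' R' =
      Spec.map (CommRingCat.ofHom (c.comp ((algebraMap (X.presheaf.stalk x') R').comp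
        (X.presheaf.stalkSpecializes hx).hom))) ≫ X.fromSpecStalk x := by
    rw [show CommRingCat.ofHom (c.comp ((algebraMap (X.presheaf.stalk x') R').comp
        (X.presheaf.stalkSpecializes hx).hom)) = X.presheaf.stalkSpecializes hx ≫
          CommRingCat.ofHom (algebraMap (X.presheaf.stalk x') R') ≫ CommRingCat.ofHom c from rfl,
      Spec.map_comp, Spec.map_comp, Category.assoc, Category.assoc,
      Scheme.SpecMap_stalkSpecializes_fromSpecStalk]
  rw [key, ← Category.assoc, cancel_mono, ← Spec.map_comp, Spec.map_inj]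
  exact ⟨fun h => congrArg CommRingCat.Hom.hom h, fun h => CommRingCat.hom_ext h⟩

/-- Restriction of specializations to the closed point. -/
theorem bijective_restrict [HenselianLocalRing R'] :
    (∀ g₁ g₂ : Spec (CommRingCat.of R') ⟶ Spec (CommRingCat.of R),
      g₁ ≫ Hens2.specOf X x R = Hens2.specOf X x' R' → g₂ ≫ Hens2.specOf X x R = Hens2.specOf X x' R' →
      Spec.map (CommRingCat.ofHom (residue R')) ≫ g₁ =
        Spec.map (CommRingCat.ofHom (residue R')) ≫ g₂ → g₁ = g₂) ∧
    (∀ h : Spec (CommRingCat.of (ResidueField R')) ⟶ Spec (CommRingCat.of R),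
      h ≫ Hens2.specOf X x R = Hens2.geomPt X x' R' →
      ∃ g : Spec (CommRingCat.of R') ⟶ Spec (CommRingCat.of R),
        g ≫ Hens2.specOf X x R = Hens2.specOf X x' R' ∧
        Spec.map (CommRingCat.ofHom (residue R')) ≫ g = h) := by
  obtain ⟨U, hU, hxU, -⟩ := exists_isAffineOpen_mem_and_subset (X := X) (x := x) (U := ⊤) trivial
  let A : Type u := Γ(X, U)
  let : Algebra A (X.presheaf.stalk x) := TopCat.Presheaf.algebra_section_stalk X.presheaf ⟨x, hxU⟩
  have : IsLocalization.AtPrime (X.presheaf.stalk x) (hU.primeIdealOf ⟨x, hxU⟩).asIdeal :=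
    hU.isLocalization_stalk ⟨x, hxU⟩
  let : Algebra A R := ((algebraMap (X.presheaf.stalk x) R).comp (algebraMap A _)).toAlgebra
  have : IsScalarTower A (X.presheaf.stalk x) R := IsScalarTower.of_algebraMap_eq fun _ => rfl
  obtain ⟨e, -⟩ := SHull.exists_equiv (A := A) (R := R) (X.presheaf.stalk x)
    (hU.primeIdealOf ⟨x, hxU⟩).asIdeal.primeCompl
  refine ⟨fun g₁ g₂ h₁ h₂ h₁₂ => ?_, fun h hh => ?_⟩
  · obtain ⟨φ₁, rfl⟩ := Spec.map_surjective g₁
    obtain ⟨φ₂, rfl⟩ := Spec.map_surjective g₂
    have hx : x' ⤳ x := specializes_of_factor R (Spec.map φ₁) (closedPoint R') (by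
      rw [h₁]; exact specOf_closedPoint R')
    have k₁ := (comp_eq_iff R R' hx (RingHom.id R') φ₁.hom).1 (by
      rw [CommRingCat.ofHom_id, Spec.map_id, Category.id_comp]; exact h₁)
    have k₂ := (comp_eq_iff R R' hx (RingHom.id R') φ₂.hom).1 (by
      rw [CommRingCat.ofHom_id, Spec.map_id, Category.id_comp]; exact h₂)
    rw [← Spec.map_comp, ← Spec.map_comp, Spec.map_inj] at h₁₂
    let : Algebra A R' := (φ₁.hom.comp (algebraMap A R)).toAlgebra
    let a₁ : R →ₐ[A] R' := { φ₁.hom with commutes' := fun _ => rfl }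
    let a₂ : R →ₐ[A] R' := { φ₂.hom with
      commutes' := fun a => (congr($k₂ (algebraMap A _ a))).trans (congr($k₁ (algebraMap A _ a))).symm }
    have huniq := existsUnique_lift_residue e ((IsScalarTower.toAlgHom A R' (ResidueField R')).comp a₁)
    have := huniq.unique (y₁ := a₁) (y₂ := a₂) (fun _ => rfl) fun r => congr(($h₁₂).hom r).symm
    exact congrArg Spec.map (CommRingCat.hom_ext (RingHom.ext fun r => congr($this r)))
  · obtain ⟨τ, rfl⟩ := Spec.map_surjective h
    have hx : x' ⤳ x := specializes_of_factor R (Spec.map τ) (closedPoint (ResidueField R')) (by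
      rw [hh]
      change Hens2.specOf X x' R' (Spec.map (CommRingCat.ofHom (residue R')) (closedPoint _)) = x'
      have : IsLocalHom (CommRingCat.ofHom (residue R')).hom := inferInstanceAs (IsLocalHom (residue R'))
      rw [show Spec.map (CommRingCat.ofHom (residue R')) (closedPoint (ResidueField R')) = closedPoint R' from
        Spec_closedPoint (f := CommRingCat.ofHom (residue R'))]
      exact specOf_closedPoint R')
    have k := (comp_eq_iff R R' hx (residue R') τ.hom).1 hh
    let f := (algebraMap (X.presheaf.stalk x') R').comp (X.presheaf.stalkSpecializes hx).hom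
    let : Algebra A R' := (f.comp (algebraMap A _)).toAlgebra
    let τ' : R →ₐ[A] ResidueField R' :=
      { τ.hom with commutes' := fun a => congr($k (algebraMap A _ a)) }
    obtain ⟨g, hg, -⟩ := existsUnique_lift_residue e τ'
    refine ⟨Spec.map (CommRingCat.ofHom g.toRingHom), ?_, ?_⟩
    · have := (comp_eq_iff R R' hx (RingHom.id R') g.toRingHom).2
        (IsLocalization.ringHom_ext (hU.primeIdealOf ⟨x, hxU⟩).asIdeal.primeCompl
          (RingHom.ext fun a => g.commutes a))
      rwa [CommRingCat.ofHom_id, Spec.map_id, Category.id_comp] at this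
    · rw [← Spec.map_comp]
      exact congrArg Spec.map (CommRingCat.hom_ext (RingHom.ext hg))

/-- Specializations of strict localizations exist exactly along specializations of points. -/
theorem exists_iff [Hensel.IsStrictHenselization (X.presheaf.stalk x') R'] :
    (∃ g : Spec (CommRingCat.of R') ⟶ Spec (CommRingCat.of R),
      g ≫ Hens2.specOf X x R = Hens2.specOf X x' R') ↔ x' ⤳ x := by
  refine ⟨fun ⟨g, hg⟩ => specializes_of_factor R g (closedPoint R') (by
    rw [hg]; exact specOf_closedPoint R'), fun hx => ?_⟩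
  have := (inferInstance : Hensel.IsStrictHenselization (X.presheaf.stalk x') R').henselian
  have : IsSepClosed (ResidueField R') :=
    (inferInstance : Hensel.IsStrictHenselization (X.presheaf.stalk x') R').isSepClosure.sep_closed
  obtain ⟨U, hU, hxU, -⟩ := exists_isAffineOpen_mem_and_subset (X := X) (x := x) (U := ⊤) trivial
  let A : Type u := Γ(X, U)
  let : Algebra A (X.presheaf.stalk x) := TopCat.Presheaf.algebra_section_stalk X.presheaf ⟨x, hxU⟩
  have : IsLocalization.AtPrime (X.presheaf.stalk x) (hU.primeIdealOf ⟨x, hxU⟩).asIdeal :=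
    hU.isLocalization_stalk ⟨x, hxU⟩
  let : Algebra A R := ((algebraMap (X.presheaf.stalk x) R).comp (algebraMap A _)).toAlgebra
  have : IsScalarTower A (X.presheaf.stalk x) R := IsScalarTower.of_algebraMap_eq fun _ => rfl
  obtain ⟨e, -⟩ := SHull.exists_equiv (A := A) (R := R) (X.presheaf.stalk x)
    (hU.primeIdealOf ⟨x, hxU⟩).asIdeal.primeCompl
  let f := (residue R').comp ((algebraMap (X.presheaf.stalk x') R').comp (X.presheaf.stalkSpecializes hx).hom)
  let : Algebra (X.presheaf.stalk x) (ResidueField R') := f.toAlgebra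
  obtain ⟨τ⟩ := exists_point (O := X.presheaf.stalk x) e (hU.primeIdealOf ⟨x, hxU⟩).asIdeal.primeCompl (ResidueField R')
  obtain ⟨g, hg, -⟩ := (bijective_restrict R R').2 (Spec.map (CommRingCat.ofHom τ.toRingHom))
    ((comp_eq_iff R R' hx (residue R') τ.toRingHom).2 (RingHom.ext fun o => τ.commutes o))
  exact ⟨g, hg⟩

end Scheme

end Groth.Agent.Et18.Specialization
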