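import Mathlib.RingTheory.MvPowerSeries.Inverse
import Mathlib.RingTheory.MvPowerSeries.Order
import Mathlib.RingTheory.MvPowerSeries.Derivative
import Mathlib.Tactic

/-! Division of multivariate power series by monomials chosen by a selection rule. -/

namespace Groth.Agent.Et18

open MvPowerSeries Finsupp

variable {σ : Type*} {R : Type*} [CommRing R] {T : Type*}

/-- the coefficients of degree `< k` vanish -/
def OrdGE (k : ℕ) (p : MvPowerSeries σ R) : Prop :=
  ∀ d : σ →₀ ℕ, degree d < k → coeff d p = 0

lemma OrdGE.mono {k l : ℕ} {p : MvPowerSeries σ R} (h : OrdGE k p) (hkl : l ≤ k) : OrdGE l p :=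
  fun d hd => h d (hd.trans_le hkl)

lemma OrdGE.zero (k : ℕ) : OrdGE k (0 : MvPowerSeries σ R) := fun _ _ => map_zero _

lemma OrdGE.add {k : ℕ} {p q : MvPowerSeries σ R} (hp : OrdGE k p) (hq : OrdGE k q) : OrdGE k (p + q) :=
  fun d hd => by rw [map_add, hp d hd, hq d hd, add_zero]

lemma OrdGE.sub {k : ℕ} {p q : MvPowerSeries σ R} (hp : OrdGE k p) (hq : OrdGE k q) : OrdGE k (p - q) :=
  fun d hd => by rw [map_sub, hp d hd, hq d hd, sub_zero]

lemma OrdGE.neg {k : ℕ} {p : MvPowerSeries σ R} (hp : OrdGE k p) : OrdGE k (-p) :=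
  fun d hd => by rw [map_neg, hp d hd, neg_zero]

lemma OrdGE.sum {ι : Type*} {s : Finset ι} {k : ℕ} {p : ι → MvPowerSeries σ R}
    (hp : ∀ i ∈ s, OrdGE k (p i)) : OrdGE k (∑ i ∈ s, p i) :=
  fun d hd => by rw [map_sum]; exact Finset.sum_eq_zero fun i hi => hp i hi d hd

lemma OrdGE.mul {k l : ℕ} {p q : MvPowerSeries σ R} (hp : OrdGE k p) (hq : OrdGE l q) :
    OrdGE (k + l) (p * q) := by
  classical
  intro d hd
  rw [coeff_mul]
  refine Finset.sum_eq_zero fun x hx => ?_
  rw [Finset.mem_antidiagonal] at hx
  have hdeg : degree x.1 + degree x.2 = degree d := by rw [← map_add, hx]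
  rcases lt_or_ge (degree x.1) k with h | h
  · rw [hp _ h, zero_mul]
  · rw [hq _ (by omega), mul_zero]

lemma OrdGE.C_mul {k : ℕ} {p : MvPowerSeries σ R} (hp : OrdGE k p) (c : R) : OrdGE k (C c * p) :=
  fun d hd => by rw [coeff_C_mul, hp d hd, mul_zero]

lemma ordGE_one_iff {p : MvPowerSeries σ R} : OrdGE 1 p ↔ constantCoeff p = 0 := by
  refine ⟨fun h => ?_, fun h d hd => ?_⟩
  · rw [← coeff_zero_eq_constantCoeff_apply]
    exact h 0 (by simp)
  · obtain rfl : d = 0 := (Finsupp.degree_eq_zero_iff d).1 (by omega)
    rw [coeff_zero_eq_constantCoeff_apply, h]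

/-- coefficient of a linear monomial in a product with a factor without constant term -/
lemma coeff_single_mul {c p : MvPowerSeries σ R} (hp : constantCoeff p = 0) (k : σ) :
    coeff (single k 1) (c * p) = constantCoeff c * coeff (single k 1) p := by
  classical
  rw [coeff_mul]
  refine (Finset.sum_eq_single ((0 : σ →₀ ℕ), single k 1) (fun x hx hne => ?_) (fun h => ?_)).trans ?_
  · rw [Finset.mem_antidiagonal] at hx
    have hdeg : degree x.1 + degree x.2 = 1 := by rw [← map_add, hx, Finsupp.degree_single]
    by_cases h2 : x.2 = 0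
    · rw [h2, coeff_zero_eq_constantCoeff_apply, hp, mul_zero]
    · exfalso
      have : degree x.2 ≠ 0 := fun h => h2 ((Finsupp.degree_eq_zero_iff _).1 h)
      have h1 : x.1 = 0 := (Finsupp.degree_eq_zero_iff _).1 (by omega)
      rw [h1, zero_add] at hx
      exact hne (Prod.ext h1 hx)
  · exact absurd (by simp) h
  · rw [coeff_zero_eq_constantCoeff_apply]

section Div

variable (E : T → (σ →₀ ℕ)) (sel : (σ →₀ ℕ) → Option T)

open scoped Classical in
/-- the quotient of `g` by the monomial `E t`, taking only the coefficients selected for `t` -/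
noncomputable def divSel (t : T) (g : MvPowerSeries σ R) : MvPowerSeries σ R :=
  fun d => if sel (d + E t) = some t then coeff (d + E t) g else 0

open scoped Classical in
lemma coeff_divSel (t : T) (g : MvPowerSeries σ R) (d : σ →₀ ℕ) :
    coeff d (divSel E sel t g) = if sel (d + E t) = some t then coeff (d + E t) g else 0 := rfl

lemma divSel_sub (t : T) (g g' : MvPowerSeries σ R) :
    divSel E sel t (g - g') = divSel E sel t g - divSel E sel t g' := by
  classical
  ext d
  rw [map_sub, coeff_divSel, coeff_divSel, coeff_divSel, map_sub]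
  split_ifs <;> simp

lemma OrdGE.divSel {k e : ℕ} {g : MvPowerSeries σ R} (hg : OrdGE k g) (t : T) (he : degree (E t) = e) :
    OrdGE (k - e) (Et18.divSel E sel t g) := by
  classical
  intro d hd
  rw [coeff_divSel]
  split_ifs
  · exact hg _ (by rw [map_add, he]; omega)
  · rfl

variable [Fintype T]

lemma sum_monomial_mul_divSel (hsel : ∀ d t, sel d = some t → E t ≤ d) (g : MvPowerSeries σ R)
    (hg : ∀ d, sel d = none → coeff d g = 0) :
    ∑ t, monomial (E t) (1 : R) * divSel E sel t g = g := by
  classical
  ext d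
  rw [map_sum]
  have h : ∀ t, coeff d (monomial (E t) (1 : R) * divSel E sel t g) =
      if sel d = some t then coeff d g else 0 := fun t => by
    rw [coeff_monomial_mul, one_mul]
    by_cases hle : E t ≤ d
    · rw [if_pos hle, coeff_divSel, tsub_add_cancel_of_le hle]
    · rw [if_neg hle, if_neg (fun hs => hle (hsel d t hs))]
  simp only [h]
  cases hd : sel d with
  | none => simp [hg d hd]
  | some s => simp

end Div

/-! ### the variables -/

open scoped Classical in
/-- some variable occurring in a monomial -/
noncomputable def selVar (d : σ →₀ ℕ) : Option σ :=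
  if h : d.support.Nonempty then some h.choose else none

lemma selVar_le {d : σ →₀ ℕ} {j : σ} (h : selVar d = some j) : single j 1 ≤ d := by
  classical
  unfold selVar at h
  split_ifs at h with hn
  obtain rfl := Option.some.inj h
  rw [Finsupp.single_le_iff]
  exact Nat.one_le_iff_ne_zero.2 (Finsupp.mem_support_iff.1 hn.choose_spec)

lemma selVar_eq_none {d : σ →₀ ℕ} (h : selVar d = none) : d = 0 := by
  classical
  unfold selVar at h
  split_ifs at h with hn
  exact Finsupp.support_eq_empty.1 (Finset.not_nonempty_iff_eq_empty.1 hn)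

lemma selVar_single (j : σ) : selVar (single j 1) = some j := by
  classical
  cases h : selVar (single j 1) with
  | none => exact absurd (selVar_eq_none h) (by simp)
  | some i =>
    have h1 := selVar_le h
    rw [Finsupp.single_le_iff] at h1
    by_contra hne
    rw [Finsupp.single_eq_of_ne (fun e => hne (by rw [e]))] at h1
    exact absurd h1 (by omega)

/-- quotient of `g` by the variable `j` -/
noncomputable def divVar (j : σ) (g : MvPowerSeries σ R) : MvPowerSeries σ R :=
  divSel (fun i => single i 1) selVar j g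

lemma divVar_sub (j : σ) (g g' : MvPowerSeries σ R) :
    divVar j (g - g') = divVar j g - divVar j g' := divSel_sub _ _ _ _ _

lemma OrdGE.divVar {k : ℕ} {g : MvPowerSeries σ R} (hg : OrdGE k g) (j : σ) :
    OrdGE (k - 1) (Et18.divVar j g) := hg.divSel _ _ j (Finsupp.degree_single j 1)

lemma constantCoeff_divVar (j : σ) (g : MvPowerSeries σ R) :
    constantCoeff (divVar j g) = coeff (single j 1) g := by
  classical
  rw [← coeff_zero_eq_constantCoeff_apply, divVar, coeff_divSel, zero_add, if_pos (selVar_single j)]

lemma sum_X_mul_divVar [Fintype σ] (g : MvPowerSeries σ R) (hg : constantCoeff g = 0) :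
    ∑ j, X j * divVar j g = g :=
  sum_monomial_mul_divSel (fun i => single i 1) selVar (fun _ _ h => selVar_le h) g
    (fun d h => by rw [selVar_eq_none h, coeff_zero_eq_constantCoeff_apply, hg])

/-- elements generating with an invertible matrix of constant terms generate the same ideal -/
lemma span_range_le_of_matrix {n : Type*} [Fintype n] [DecidableEq n] {G H : n → MvPowerSeries σ R}
    (M : Matrix n n (MvPowerSeries σ R)) (hM : ∀ t, H t = ∑ s, M t s * G s)
    (hdet : IsUnit (M.map constantCoeff).det) :
    Ideal.span (Set.range G) ≤ Ideal.span (Set.range H) := by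
  rw [Ideal.span_le]
  rintro _ ⟨s, rfl⟩
  have hu : IsUnit M.det := by
    rw [MvPowerSeries.isUnit_iff_constantCoeff, RingHom.map_det]
    exact hdet
  have h1 : H = M.mulVec G := funext fun t => hM t
  have h2 : G = M⁻¹.mulVec H := by
    rw [h1, Matrix.mulVec_mulVec, Matrix.nonsing_inv_mul M hu, Matrix.one_mulVec]
  rw [h2]
  exact Ideal.sum_mem _ fun t _ => Ideal.mul_mem_left _ _ (Ideal.subset_span ⟨t, rfl⟩)

end Groth.Agent.Et18
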