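import Groth.Prelude.Def_QuadSing
import Groth.Agent.KumLib.InvFun
import Groth.Agent.Et18.SeriesDiv
import Mathlib.LinearAlgebra.Matrix.NonsingularInverse

/-! Formal Morse lemma: perturbations of order `> m` of a non-degenerate quadratic form are absorbed by a change of
variables. -/

namespace Groth.Agent.Et18

open MvPowerSeries Finsupp VanCyc
open scoped Matrix

universe u

variable {A : Type u} [CommRing A] {N : ℕ}

/-- constant coefficient table -/
noncomputable def cTab (q : Fin N → Fin N → A) : Fin N → Fin N → MvPowerSeries (Fin N) A :=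
  fun i j => C (q i j)

/-- the quadratic form as a power series -/
noncomputable def qSeries (q : Fin N → Fin N → A) : MvPowerSeries (Fin N) A :=
  quadEval (cTab q) (fun i => X i)

lemma map_quadEval {S : Type*} [CommRing S] {B : Type u} [CommRing B] (f : S →+* B) (a : Fin N → Fin N → S)
    (v : Fin N → S) :
    f (∑ i : Fin N, ∑ j : Fin N, if i ≤ j then a i j * v i * v j else 0) =
      quadEval (fun i j => f (a i j)) (fun i => f (v i)) := by
  simp only [map_sum, quadEval]
  refine Finset.sum_congr rfl fun i _ => Finset.sum_congr rfl fun j _ => ?_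
  split_ifs <;> simp [map_mul]

lemma coe_quadPoly (q : Fin N → Fin N → A) :
    ((quadPoly q : MvPolynomial (Fin N) A) : MvPowerSeries (Fin N) A) = qSeries q := by
  have h := map_quadEval (MvPolynomial.coeToMvPowerSeries.ringHom (R := A) (σ := Fin N))
    (fun i j => MvPolynomial.C (q i j)) (fun i => MvPolynomial.X i)
  refine Eq.trans h ?_
  simp [qSeries, cTab, MvPolynomial.coe_C, MvPolynomial.coe_X, MvPolynomial.coeToMvPowerSeries.ringHom_apply]
  rfl

lemma quadEval_add {S : Type u} [CommRing S] (a : Fin N → Fin N → S) (v w : Fin N → S) :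
    quadEval a (v + w) = quadEval a v + v ⬝ᵥ (polarMatrix a *ᵥ w) + quadEval a w := by
  have hpol : v ⬝ᵥ (polarMatrix a *ᵥ w) =
      ∑ i : Fin N, ∑ j : Fin N, if i ≤ j then a i j * (v i * w j + w i * v j) else 0 := by
    have hb : ∀ i j, v i * (polarMatrix a i j * w j) =
        (if i ≤ j then a i j * (v i * w j) else 0) + (if j ≤ i then a j i * (v i * w j) else 0) := by
      intro i j
      unfold polarMatrix
      rcases lt_trichotomy i j with h | h | h
      · rw [if_neg h.ne, if_pos h, if_pos h.le, if_neg (not_le.2 h)]; ring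
      · subst h; rw [if_pos rfl, if_pos le_rfl]; ring
      · rw [if_neg h.ne', if_neg h.le.not_gt, if_pos h.le, if_neg (not_le.2 h)]; ring
    simp only [dotProduct, Matrix.mulVec, Finset.mul_sum, hb, Finset.sum_add_distrib]
    rw [Finset.sum_comm (f := fun i j => if j ≤ i then a j i * (v i * w j) else 0)]
    rw [← Finset.sum_add_distrib]
    refine Finset.sum_congr rfl fun i _ => ?_
    rw [← Finset.sum_add_distrib]
    refine Finset.sum_congr rfl fun j _ => ?_
    split_ifs <;> ring
  rw [hpol]
  simp only [quadEval, ← Finset.sum_add_distrib]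
  refine Finset.sum_congr rfl fun i _ => Finset.sum_congr rfl fun j _ => ?_
  split_ifs <;> (try simp only [Pi.add_apply]) <;> ring

lemma ordGE_quadEval {k : ℕ} (q : Fin N → Fin N → A) {g : Fin N → MvPowerSeries (Fin N) A}
    (hg : ∀ i, OrdGE k (g i)) : OrdGE (k + k) (quadEval (cTab q) g) := by
  refine OrdGE.sum fun i _ => OrdGE.sum fun j _ => ?_
  split_ifs
  · rw [cTab, mul_assoc]
    exact ((hg i).mul (hg j)).C_mul _
  · exact OrdGE.zero _

lemma ordGE_quadEval_sub {m k : ℕ} (q : Fin N → Fin N → A) {g g' : Fin N → MvPowerSeries (Fin N) A}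
    (hg : ∀ i, OrdGE m (g i)) (hg' : ∀ i, OrdGE m (g' i)) (h : ∀ i, OrdGE k (g i - g' i)) :
    OrdGE (m + k) (quadEval (cTab q) g - quadEval (cTab q) g') := by
  simp only [quadEval, ← Finset.sum_sub_distrib]
  refine OrdGE.sum fun i _ => OrdGE.sum fun j _ => ?_
  split_ifs
  · have : cTab q i j * g i * g j - cTab q i j * g' i * g' j =
        C (q i j) * (g i * (g j - g' j) + g' j * (g i - g' i)) := by rw [cTab]; ring
    rw [this]
    exact (((hg i).mul (h j)).add ((hg' j).mul (h i))).C_mul _
  · rw [sub_zero]; exact OrdGE.zero _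

lemma polarMatrix_cTab (q : Fin N → Fin N → A) :
    polarMatrix (cTab q) = (polarMatrix q).map C := by
  ext i j : 2
  simp only [polarMatrix, cTab, Matrix.map_apply]
  split_ifs <;> simp [map_mul, map_ofNat]

theorem exists_quadEval_add_eq (q : Fin N → Fin N → A) (hq : QuadNondeg q) {m : ℕ} (hm : 2 ≤ m)
    {R : MvPowerSeries (Fin N) A} (hR : OrdGE (m + 1) R) :
    ∃ g : Fin N → MvPowerSeries (Fin N) A, (∀ i, OrdGE m (g i)) ∧
      quadEval (cTab q) ((fun i => X i) + g) = qSeries q + R := by
  classical
  let B : Matrix (Fin N) (Fin N) A := (polarMatrix q)⁻¹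
  let Φ : (Fin N → MvPowerSeries (Fin N) A) → (Fin N → MvPowerSeries (Fin N) A) := fun g i =>
    ∑ j, C (B i j) * divVar j (R - quadEval (cTab q) g)
  have hΦ : ∀ g, (∀ i, OrdGE m (g i)) → ∀ i, OrdGE m (Φ g i) := fun g hg i => by
    refine OrdGE.sum fun j _ => OrdGE.C_mul ?_ _
    exact ((hR.sub ((ordGE_quadEval q hg).mono (by omega))).divVar j).mono (by omega)
  have hcontr : ∀ g g' k, (∀ i, OrdGE m (g i)) → (∀ i, OrdGE m (g' i)) →
      (∀ i, OrdGE k (g i - g' i)) → ∀ i, OrdGE (k + 1) (Φ g i - Φ g' i) := fun g g' k hg hg' h i => by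
    simp only [Φ, ← Finset.sum_sub_distrib, ← mul_sub, ← divVar_sub]
    refine OrdGE.sum fun j _ => OrdGE.C_mul ?_ _
    rw [sub_sub_sub_cancel_left]
    exact ((ordGE_quadEval_sub q hg' hg (fun l => by rw [← neg_sub]; exact (h l).neg)).divVar j).mono (by omega)
  let G : ℕ → (Fin N → MvPowerSeries (Fin N) A) := fun k => Φ^[k] 0
  have hGsucc : ∀ k, G (k + 1) = Φ (G k) := fun k => Function.iterate_succ_apply' Φ k 0
  have hG : ∀ k i, OrdGE m (G k i) := by
    intro k
    induction k with
    | zero => exact fun i => OrdGE.zero _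
    | succ k ih => intro i; rw [hGsucc k]; exact hΦ _ ih i
  have hstep : ∀ k i, OrdGE k (G (k + 1) i - G k i) := by
    intro k
    induction k with
    | zero => exact fun i d hd => absurd hd (Nat.not_lt_zero _)
    | succ k ih =>
      intro i
      have e := hcontr (G (k + 1)) (G k) k (hG (k + 1)) (hG k) ih i
      rw [← hGsucc (k + 1), ← hGsucc k] at e
      exact e
  have hstab : ∀ k l, k ≤ l → ∀ i, OrdGE k (G l i - G k i) := by
    intro k l hkl
    induction l, hkl using Nat.le_induction with
    | base => intro i; rw [sub_self]; exact OrdGE.zero _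
    | succ l hl ih =>
      intro i
      have := ((hstep l i).mono hl).add (ih i)
      rwa [sub_add_sub_cancel] at this
  let g : Fin N → MvPowerSeries (Fin N) A := fun i d => coeff d (G (degree d + 1) i)
  have hg : ∀ k i, OrdGE k (g i - G k i) := fun k i d hd => by
    rw [map_sub, sub_eq_zero]
    have := hstab (degree d + 1) k hd i d (Nat.lt_succ_self _)
    rw [map_sub, sub_eq_zero] at this
    exact this.symm
  have hgm : ∀ i, OrdGE m (g i) := fun i d hd => hG (degree d + 1) i d hd
  have hfix : ∀ i, g i = Φ g i := fun i => by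
    ext d
    have h1 := hg (degree d + 1) i d (Nat.lt_succ_self _)
    have h2 := hcontr g (G (degree d)) (degree d) hgm (hG _) (hg _) i d (Nat.lt_succ_self _)
    rw [map_sub, sub_eq_zero] at h1 h2
    rw [h1, h2, hGsucc (degree d)]
  refine ⟨g, hgm, ?_⟩
  have hBg : polarMatrix (cTab q) *ᵥ g = fun j => divVar j (R - quadEval (cTab q) g) := by
    have hg' : g = B.map C *ᵥ fun j => divVar j (R - quadEval (cTab q) g) := funext fun i => by
      rw [hfix i]; rfl
    conv_lhs => rw [hg', Matrix.mulVec_mulVec, polarMatrix_cTab, ← Matrix.map_mul,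
      Matrix.mul_nonsing_inv _ hq, Matrix.map_one _ (map_zero _) (map_one _), Matrix.one_mulVec]
  have hsum := sum_X_mul_divVar (R - quadEval (cTab q) g)
    (ordGE_one_iff.1 ((hR.sub ((ordGE_quadEval q hgm).mono (by omega : m + 1 ≤ m + m))).mono (by omega)))
  rw [quadEval_add, hBg]
  change qSeries q + (∑ j, X j * divVar j (R - quadEval (cTab q) g)) + _ = _
  rw [hsum]
  ring

lemma near_X_add {g : MvPowerSeries (Fin N) A} (hg : OrdGE 2 g) (i : Fin N) :
    KumLib.Near 1 (X i + g) (X i) := fun d => by
  classical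
  refine ⟨fun hd => ?_, fun hd => by rw [map_add, hg d (by omega), add_zero]⟩
  obtain rfl : d = 0 := (Finsupp.degree_eq_zero_iff d).1 (by omega)
  simp

lemma subst_qSeries {u : Fin N → MvPowerSeries (Fin N) A} (hu : HasSubst u) (q : Fin N → Fin N → A) :
    subst u (qSeries q) = quadEval (cTab q) u := by
  rw [← coe_substAlgHom (R := A) hu]
  refine (map_quadEval (substAlgHom hu).toRingHom (cTab q) (fun i => X i)).trans ?_
  congr 1
  · funext i j
    exact (substAlgHom hu).commutes (q i j)
  · funext i
    exact substAlgHom_X hu i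

/-- a perturbation of order `> m` is a change of variables of order `≥ m` -/
theorem exists_subst_qSeries_add_eq (q : Fin N → Fin N → A) (hq : QuadNondeg q) (a : A) {m : ℕ} (hm : 2 ≤ m)
    {F : MvPowerSeries (Fin N) A} (hF : OrdGE (m + 1) (F - (qSeries q + C a))) :
    ∃ g : Fin N → MvPowerSeries (Fin N) A, (∀ i, OrdGE m (g i)) ∧
      HasSubst (fun i => X i + g i) ∧ subst (fun i => X i + g i) (qSeries q + C a) = F := by
  obtain ⟨g, hg, hgeq⟩ := exists_quadEval_add_eq q hq hm hF
  have hs : HasSubst (fun i => X i + g i) :=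
    KumLib.hasSubst_of_near fun i => near_X_add ((hg i).mono hm) i
  refine ⟨g, hg, hs, ?_⟩
  have hC : subst (fun i => X i + g i) (C a : MvPowerSeries (Fin N) A) = C a := by
    rw [← coe_substAlgHom (R := A) hs]
    exact (substAlgHom hs).commutes a
  have e1 := subst_add (R := A) hs (qSeries q) (C a : MvPowerSeries (Fin N) A)
  have e2 := subst_qSeries hs q
  have e3 : quadEval (cTab q) (fun i => X i + g i) = qSeries q + (F - (qSeries q + C a)) := hgeq
  refine (e1.trans (congrArg₂ (· + ·) (e2.trans e3) hC)).trans ?_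
  ring

/-- the inverse change of variables has the same order -/
theorem exists_inverse_subst {g : Fin N → MvPowerSeries (Fin N) A} {m : ℕ} (hm : 2 ≤ m)
    (hg : ∀ i, OrdGE m (g i)) :
    ∃ h : Fin N → MvPowerSeries (Fin N) A, (∀ i, OrdGE m (h i)) ∧ HasSubst (fun i => X i + h i) ∧
      Function.Bijective (subst (fun i => X i + h i) : MvPowerSeries (Fin N) A → MvPowerSeries (Fin N) A) ∧
      ∀ f : MvPowerSeries (Fin N) A,
        subst (fun i => X i + h i) (subst (fun i => X i + g i) f) = f := by
  have hnear := fun i => near_X_add ((hg i).mono hm) i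
  have hs : HasSubst (fun i => X i + g i) := KumLib.hasSubst_of_near hnear
  have hb := KumLib.subst_bijective_of_near hnear
  choose u hu using fun i => hb.2 (X i)
  have hord : ∀ i, OrdGE m (u i - X i) := fun i d => by
    induction hd : degree d using Nat.strong_induction_on generalizing d with
    | _ k ih =>
      intro hk
      have h1 := KumLib.coeff_subst_of_le hnear (u i - X i) d
        (fun e he => ih _ (by omega) e rfl (by omega))
      rw [subst_sub hs, hu, subst_X hs, sub_add_cancel_left, map_neg, hg i d (by omega), neg_zero] at h1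
      exact h1.symm
  have hnear' : ∀ i, KumLib.Near 1 (X i + (u i - X i)) (X i) :=
    fun i => near_X_add ((hord i).mono hm) i
  refine ⟨fun i => u i - X i, hord, KumLib.hasSubst_of_near hnear',
    KumLib.subst_bijective_of_near hnear', fun f => ?_⟩
  have hu' : (fun i => X i + (u i - X i)) = u := funext fun i => add_sub_cancel _ _
  have hsu : HasSubst u := hu' ▸ KumLib.hasSubst_of_near hnear'
  rw [hu']
  apply hb.1
  change subst _ (subst u (subst _ f)) = subst _ f
  rw [subst_comp_subst_apply hsu hs, funext hu, subst_self]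
  rfl

/-- a degree one exponent -/
lemma exists_eq_single {e : Fin N →₀ ℕ} (he : degree e = 1) : ∃ a, e = single a 1 := by
  obtain ⟨a, ha⟩ : ∃ a, e a ≠ 0 := by
    by_contra h
    push_neg at h
    rw [show e = 0 from Finsupp.ext h, map_zero] at he
    exact absurd he (by simp)
  have hle : single a 1 ≤ e := Finsupp.single_le_iff.2 (Nat.one_le_iff_ne_zero.2 ha)
  refine ⟨a, ?_⟩
  have h := congrArg degree (tsub_add_cancel_of_le hle)
  rw [map_add, Finsupp.degree_single, he] at h
  have h0 : e - single a 1 = 0 := (Finsupp.degree_eq_zero_iff _).1 (by omega)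
  exact le_antisymm (tsub_eq_zero_iff_le.1 h0) hle

lemma exists_eq_single_add_single {e : Fin N →₀ ℕ} (he : degree e = 2) :
    ∃ a b : Fin N, a ≤ b ∧ e = single a 1 + single b 1 := by
  obtain ⟨a, ha⟩ : ∃ a, e a ≠ 0 := by
    by_contra h
    push_neg at h
    rw [show e = 0 from Finsupp.ext h, map_zero] at he
    exact absurd he (by simp)
  have hle : single a 1 ≤ e := Finsupp.single_le_iff.2 (Nat.one_le_iff_ne_zero.2 ha)
  have h := congrArg degree (tsub_add_cancel_of_le hle)
  rw [map_add, Finsupp.degree_single, he] at h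
  obtain ⟨b, hb⟩ := exists_eq_single (e := e - single a 1) (by omega)
  have he' : e = single a 1 + single b 1 := by rw [← hb, add_tsub_cancel_of_le hle]
  rcases le_total a b with hab | hab
  · exact ⟨a, b, hab, he'⟩
  · exact ⟨b, a, hab, he'.trans (add_comm _ _)⟩

lemma single_add_single_inj {i j a b : Fin N} (hij : i ≤ j) (hab : a ≤ b)
    (h : (single a 1 + single b 1 : Fin N →₀ ℕ) = single i 1 + single j 1) : a = i ∧ b = j := by
  classical
  have key : ∀ x y u v : Fin N, (single x 1 + single y 1 : Fin N →₀ ℕ) = single u 1 + single v 1 →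
      x = u ∨ x = v := fun x y u v h => by
    by_contra hc
    push_neg at hc
    have e := DFunLike.congr_fun h x
    simp [Finsupp.single_eq_of_ne hc.1, Finsupp.single_eq_of_ne hc.2] at e
  have e1 := key _ _ _ _ h
  have e2 := key _ _ _ _ ((add_comm _ _).trans h)
  have e3 := key _ _ _ _ h.symm
  have e4 := key _ _ _ _ ((add_comm _ _).trans h.symm)
  constructor <;> omega

lemma coeff_qSeries (q : Fin N → Fin N → A) (e : Fin N →₀ ℕ) :
    coeff e (qSeries q) = ∑ i : Fin N, ∑ j : Fin N,
      if i ≤ j ∧ e = single i 1 + single j 1 then q i j else 0 := by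
  classical
  simp only [qSeries, quadEval, map_sum]
  refine Finset.sum_congr rfl fun i _ => Finset.sum_congr rfl fun j _ => ?_
  by_cases h : i ≤ j
  · rw [if_pos h, cTab, mul_assoc, coeff_C_mul, X_def, X_def, monomial_mul_monomial, one_mul,
      coeff_monomial]
    simp [h]
  · rw [if_neg h, if_neg (fun h' => h h'.1), map_zero]

lemma coeff_qSeries_single_add_single (q : Fin N → Fin N → A) {a b : Fin N} (hab : a ≤ b) :
    coeff (single a 1 + single b 1) (qSeries q) = q a b := by
  classical
  rw [coeff_qSeries, Finset.sum_eq_single a, Finset.sum_eq_single b, if_pos ⟨hab, rfl⟩]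
  · exact fun j _ hj => if_neg fun h => hj ((single_add_single_inj h.1 hab h.2).2).symm
  · simp
  · exact fun i _ hi => Finset.sum_eq_zero fun j _ =>
      if_neg fun h => hi ((single_add_single_inj h.1 hab h.2).1).symm
  · simp

lemma coeff_qSeries_of_degree_ne (q : Fin N → Fin N → A) {e : Fin N →₀ ℕ} (he : degree e ≠ 2) :
    coeff e (qSeries q) = 0 := by
  rw [coeff_qSeries]
  refine Finset.sum_eq_zero fun i _ => Finset.sum_eq_zero fun j _ => if_neg fun h => he ?_
  rw [h.2, map_add, Finsupp.degree_single, Finsupp.degree_single]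

lemma quadPart_eq (f : MvPowerSeries (Fin N) A) {a b : Fin N} (hab : a ≤ b) :
    quadPart f a b = coeff (single a 1 + single b 1) f := by
  rcases hab.lt_or_eq with h | h
  · rw [quadPart, if_neg h.ne, if_pos h]
  · subst h
    rw [quadPart, if_pos rfl, ← Finsupp.single_add]

/-- a series without low terms agrees with its quadratic part up to degree two -/
lemma ordGE_sub_quadPart {f : MvPowerSeries (Fin N) A} (hf : NoLowTerms f) :
    OrdGE 3 (f - (qSeries (quadPart f) + C (0 : A))) := by
  intro d hd
  rw [map_zero, add_zero, map_sub, sub_eq_zero]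
  rcases (show degree d = 0 ∨ degree d = 1 ∨ degree d = 2 by omega) with h | h | h
  · rw [coeff_qSeries_of_degree_ne _ (by omega), (Finsupp.degree_eq_zero_iff d).1 h,
      coeff_zero_eq_constantCoeff_apply, hf.1]
  · obtain ⟨a, rfl⟩ := exists_eq_single h
    rw [coeff_qSeries_of_degree_ne _ (by omega), hf.2 a]
  · obtain ⟨a, b, hab, rfl⟩ := exists_eq_single_add_single h
    rw [coeff_qSeries_single_add_single _ hab, quadPart_eq f hab]

/-- the linear terms of the partial derivatives form the polar matrix of the quadratic part -/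
lemma coeff_single_pderiv (f : MvPowerSeries (Fin N) A) (i j : Fin N) :
    coeff (single j 1) (pderiv A i f) = polarMatrix (quadPart f) i j := by
  rw [coeff_pderiv]
  rcases lt_trichotomy i j with h | h | h
  · rw [Finsupp.single_eq_of_ne h.ne, polarMatrix, if_neg h.ne, if_pos h, quadPart_eq f h.le,
      add_comm (single j 1)]
    simp
  · subst h
    rw [Finsupp.single_eq_same, polarMatrix, if_pos rfl, quadPart_eq f le_rfl]
    push_cast
    ring
  · rw [Finsupp.single_eq_of_ne h.ne', polarMatrix, if_neg h.ne', if_neg h.le.not_gt,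
      quadPart_eq f h.le]
    simp

lemma constantCoeff_pderiv_eq (f : MvPowerSeries (Fin N) A) (i : Fin N) :
    constantCoeff (pderiv A i f) = coeff (single i 1) f := by
  rw [← coeff_zero_eq_constantCoeff_apply, coeff_pderiv, zero_add]
  simp

lemma mem_maximalIdeal_iff {k : Type*} [Field k] {σ : Type*} {p : MvPowerSeries σ k} :
    p ∈ IsLocalRing.maximalIdeal (MvPowerSeries σ k) ↔ constantCoeff p = 0 := by
  rw [IsLocalRing.mem_maximalIdeal, mem_nonunits_iff, MvPowerSeries.isUnit_iff_constantCoeff,
    isUnit_iff_ne_zero, not_not]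

theorem nonempty_quot_algEquiv {u : Fin N → MvPowerSeries (Fin N) A} (hu : HasSubst u)
    (hb : Function.Bijective (subst u : MvPowerSeries (Fin N) A → MvPowerSeries (Fin N) A))
    {F G : MvPowerSeries (Fin N) A} (h : subst u F = G) :
    Nonempty ((MvPowerSeries (Fin N) A ⧸ Ideal.span {F}) ≃ₐ[A]
      (MvPowerSeries (Fin N) A ⧸ Ideal.span {G})) := by
  have hb' : Function.Bijective (substAlgHom (R := A) hu) := by rw [coe_substAlgHom]; exact hb
  refine ⟨Ideal.quotientEquivAlg _ _ (AlgEquiv.ofBijective _ hb') ?_⟩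
  rw [Ideal.map_span, Set.image_singleton]
  refine congrArg (fun x => Ideal.span {x}) ?_
  exact h.symm.trans (congrFun (coe_substAlgHom (R := A) hu) F).symm

/-- normal form with inverse change of variables, and the isomorphism of quotients -/
theorem exists_subst_eq_qSeries_add (q : Fin N → Fin N → A) (hq : QuadNondeg q) (a : A) {m : ℕ} (hm : 2 ≤ m)
    {F : MvPowerSeries (Fin N) A} (hF : OrdGE (m + 1) (F - (qSeries q + C a))) :
    ∃ h : Fin N → MvPowerSeries (Fin N) A, (∀ i, OrdGE m (h i)) ∧
      HasSubst (fun i => X i + h i) ∧ subst (fun i => X i + h i) F = qSeries q + C a ∧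
      Nonempty ((MvPowerSeries (Fin N) A ⧸ Ideal.span {F}) ≃ₐ[A]
        (MvPowerSeries (Fin N) A ⧸ Ideal.span {qSeries q + C a})) := by
  obtain ⟨g, hg, -, hgF⟩ := exists_subst_qSeries_add_eq q hq a hm hF
  obtain ⟨h, hh, hs, hb, hinv⟩ := exists_inverse_subst hm hg
  have e : subst (fun i => X i + h i) F = qSeries q + C a := by rw [← hgF]; exact hinv _
  exact ⟨h, hh, hs, e, nonempty_quot_algEquiv hs hb e⟩

end Groth.Agent.Et18
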