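import Groth.Prelude.Def_SGA7IX
import Groth.Agent.AbSchLib.RigidityOver
import Groth.Agent.NeronLib.RigidProduct
import Groth.Agent.NeronLib.MonHomOfUnit
import Mathlib

/-!
# Néron models of abelian varieties are commutative
-/

set_option autoImplicit false

universe u

open CategoryTheory CategoryTheory.Limits AlgebraicGeometry MonObj MonoidalCategory CartesianMonoidalCategory

namespace Groth.Agent.Et18.NeronComm

theorem isCommMonObj_of_isNeron {R K : Type u} [CommRing R] [Field K] [Algebra R K]
    (N : Over (Spec (CommRingCat.of R))) [GrpObj N] (hN : SGA7.IsNeron R K N)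
    [IsProper ((SGA7.genFib R K).obj N).hom] [GeometricallyIntegral ((SGA7.genFib R K).obj N).hom] :
    IsCommMonObj N := by
  haveI := hN.1
  letI : GrpObj ((SGA7.genFib R K).obj N) := Functor.grpObjObj
  haveI : Smooth ((SGA7.genFib R K).obj N).hom :=
    inferInstanceAs (Smooth (pullback.snd N.hom (Spec.map (CommRingCat.ofHom (algebraMap R K)))))
  haveI : GeometricallyConnected ((SGA7.genFib R K).obj N).hom :=
    NeronLib.geometricallyConnected_of_irreducible _
  haveI := AbSchLib.isCommMonObj_of_proper ((SGA7.genFib R K).obj N)
  haveI : Smooth (N ⊗ N).hom := by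
    rw [Over.tensorObj_hom]
    infer_instance
  have key : fst N N * snd N N = snd N N * fst N N := by
    refine (hN.2.2.2 (N ⊗ N) inferInstance).1 ?_
    change (SGA7.genFib R K).map _ = (SGA7.genFib R K).map _
    rw [Functor.map_mul, Functor.map_mul, mul_comm]
  constructor
  have h1 : (β_ N N).hom ≫ μ[N] = snd N N * fst N N := by
    rw [CategoryTheory.Hom.mul_def]
    congr 1
  rw [h1, ← key, CategoryTheory.Hom.mul_def, lift_fst_snd, Category.id_comp]

end Groth.Agent.Et18.NeronComm
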