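import Groth.Prelude.Def_Neron
import Mathlib

/-!
# The group structure of a Néron model
-/

set_option autoImplicit false

universe u

open CategoryTheory CategoryTheory.Limits MonoidalCategory CartesianMonoidalCategory AlgebraicGeometry MonObj

namespace Groth.Agent.Et18.NeronGroup

/-- A Néron model of a group scheme carries a group structure. -/
theorem nonempty_grpObj {R : Type u} [CommRing R] [IsDomain R]
    (A : Over (Spec (CommRingCat.of (FractionRing R)))) [GrpObj A]
    (N : Over (Spec (CommRingCat.of R))) (e : (Neron.genericFibre R).obj N ≅ A)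
    (hN : Neron.IsNeronModelOf R N A e) : Nonempty (GrpObj N) := by
  let F := Neron.genericFibre R
  haveI : Smooth N.hom := hN.1
  letI : GrpObj (F.obj N) := GrpObj.ofIso e.symm
  have hbij : ∀ Y : Over (Spec (CommRingCat.of R)), Smooth Y.hom →
      Function.Bijective (fun g : Y ⟶ N => F.map g) := by
    intro Y hY
    have h := hN.2.2.2.2 Y hY
    refine ⟨fun a b hab => h.1 (congrArg (· ≫ e.hom) hab), fun g => ?_⟩
    obtain ⟨a, ha⟩ := h.2 (g ≫ e.hom)
    exact ⟨a, (cancel_mono e.hom).1 ha⟩
  haveI h2 : Smooth (N ⊗ N).hom := by rw [Over.tensorObj_hom]; infer_instance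
  haveI h1 : Smooth (𝟙_ (Over (Spec (CommRingCat.of R)))).hom := by
    change Smooth (𝟙 (Spec (CommRingCat.of R)))
    infer_instance
  haveI h3 : Smooth ((N ⊗ N) ⊗ N).hom := by rw [Over.tensorObj_hom]; infer_instance
  haveI h3' : Smooth (𝟙_ (Over (Spec (CommRingCat.of R))) ⊗ N).hom := by
    rw [Over.tensorObj_hom]; infer_instance
  haveI h3'' : Smooth (N ⊗ 𝟙_ (Over (Spec (CommRingCat.of R)))).hom := by
    rw [Over.tensorObj_hom]; infer_instance
  obtain ⟨o, ho⟩ := (hbij _ h1).2 (Functor.OplaxMonoidal.η F ≫ η[F.obj N])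
  obtain ⟨m, hm⟩ := (hbij _ h2).2 (Functor.OplaxMonoidal.δ F N N ≫ μ[F.obj N])
  obtain ⟨i, hi⟩ := (hbij _ hN.1).2 (GrpObj.inv (X := F.obj N))
  have ho : F.map o = Functor.OplaxMonoidal.η F ≫ η[F.obj N] := ho
  have hm : F.map m = Functor.OplaxMonoidal.δ F N N ≫ μ[F.obj N] := hm
  have hi : F.map i = GrpObj.inv (X := F.obj N) := hi
  have hmul : ∀ {Y : Over (Spec (CommRingCat.of R))} (a b : Y ⟶ N),
      F.map (lift a b ≫ m) = F.map a * F.map b := by
    intro Y a b
    rw [Functor.map_comp, hm, ← Category.assoc, CategoryTheory.Hom.mul_def]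
    congr 1
    apply CartesianMonoidalCategory.hom_ext <;> simp
  have hone : ∀ {Y : Over (Spec (CommRingCat.of R))}, F.map (toUnit Y ≫ o) = 1 := by
    intro Y
    rw [Functor.map_comp, ho, ← Category.assoc, CategoryTheory.Hom.one_def]
    congr 1
    exact toUnit_unique _ _
  letI : MonObj N :=
    { one := o
      mul := m
      one_mul := (hbij _ h3').1 (by
        show F.map _ = F.map _
        have h1 : o ▷ N = lift (toUnit _ ≫ o) (snd _ _) := by
          apply CartesianMonoidalCategory.hom_ext <;> simp [toUnit_unique (fst _ _) (toUnit _)]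
        rw [h1, hmul, hone, _root_.one_mul, leftUnitor_hom])
      mul_one := (hbij _ h3'').1 (by
        show F.map _ = F.map _
        have h1 : N ◁ o = lift (fst _ _) (toUnit _ ≫ o) := by
          apply CartesianMonoidalCategory.hom_ext <;> simp [toUnit_unique (snd _ _) (toUnit _)]
        rw [h1, hmul, hone, _root_.mul_one, rightUnitor_hom])
      mul_assoc := (hbij _ h3).1 (by
        show F.map _ = F.map _
        have h1 : m ▷ N = lift (lift (fst _ _ ≫ fst _ _) (fst _ _ ≫ snd _ _) ≫ m) (snd _ _) := by
          apply CartesianMonoidalCategory.hom_ext <;> simp [← Category.assoc, ← comp_lift]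
        have h2 : (α_ N N N).hom ≫ N ◁ m =
            lift (fst _ _ ≫ fst _ _) (lift (fst _ _ ≫ snd _ _) (snd _ _) ≫ m) := by
          apply CartesianMonoidalCategory.hom_ext
          · simp
          · rw [Category.assoc, whiskerLeft_snd, lift_snd, ← Category.assoc]
            congr 1
            apply CartesianMonoidalCategory.hom_ext <;> simp
        rw [h1, reassoc_of% h2, hmul, hmul, hmul, hmul, _root_.mul_assoc]) }
  exact ⟨{
    inv := i
    left_inv := (hbij N hN.1).1 (by
      show F.map (lift i (𝟙 N) ≫ m) = F.map (toUnit N ≫ o)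
      rw [hmul, hone, hi, CategoryTheory.Functor.map_id, CategoryTheory.Hom.mul_def, GrpObj.left_inv, CategoryTheory.Hom.one_def])
    right_inv := (hbij N hN.1).1 (by
      show F.map (lift (𝟙 N) i ≫ m) = F.map (toUnit N ≫ o)
      rw [hmul, hone, hi, CategoryTheory.Functor.map_id, CategoryTheory.Hom.mul_def, GrpObj.right_inv, CategoryTheory.Hom.one_def]) }⟩

end Groth.Agent.Et18.NeronGroup
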