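import Groth.Prelude.Def_SGA7IX
import Groth.Agent.AbVarLib.HomFlat
import Groth.Agent.AbVarLib.HomDim
import Mathlib

/-!
# A homomorphism of Néron models, quasi-finite on the special fibre, is an isogeny on the generic fibre
-/

set_option autoImplicit false
set_option linter.all false
set_option backward.isDefEq.respectTransparency.types false
universe u

open CategoryTheory CategoryTheory.Limits AlgebraicGeometry MonObj CartesianMonoidalCategory

namespace Groth.Agent.Et18.NeronIsog

open Groth.Agent.AbVarLib (algPt exists_translate isPullback_pullback_map fpqc_pullback_algPt)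

/-- Quasi-finiteness at a point is inherited by base change. -/
theorem quasiFiniteAt_of_isPullback {X X' Y Y' : Scheme.{u}} {h : X' ⟶ X} {f' : X' ⟶ Y'} {f : X ⟶ Y}
    {g : Y' ⟶ Y} (sq : IsPullback h f' f g) [LocallyOfFiniteType f] (a : X') (ha : f.QuasiFiniteAt (h a)) :
    f'.QuasiFiniteAt a := by
  let V := f.quasiFiniteLocus
  have hsq : IsPullback (h ∣_ V) ((h ⁻¹ᵁ V).ι ≫ f') (V.ι ≫ f) g :=
    (isPullback_morphismRestrict h V).paste_vert sq
  haveI : LocallyQuasiFinite ((h ⁻¹ᵁ V).ι ≫ f') := MorphismProperty.of_isPullback hsq inferInstance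
  have := ((h ⁻¹ᵁ V).ι ≫ f').quasiFiniteAt ⟨a, ha⟩
  rwa [Scheme.Hom.quasiFiniteAt_comp_iff_of_isOpenImmersion] at this

section AlgClosed
variable {K : Type u} [Field K] [IsAlgClosed K] {X Y : Over (Spec (CommRingCat.of K))} [GrpObj X] [GrpObj Y]
  [LocallyOfFiniteType X.hom]

theorem lqf_of_closed_qfAt (f : X ⟶ Y) [IsMonHom f] [LocallyOfFiniteType f.left] (u : X.left)
    (huc : IsClosed ({u} : Set X.left)) (hu : f.left.QuasiFiniteAt u) : LocallyQuasiFinite f.left := by
  have := LocallyOfFiniteType.jacobsonSpace X.hom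
  rw [← Scheme.Hom.quasiFiniteLocus_eq_top_iff, ← TopologicalSpace.Opens.coe_eq_univ, ← not_ne_iff, ← Set.nonempty_compl]
  intro H
  obtain ⟨x, hx, hxc⟩ := nonempty_inter_closedPoints H f.left.quasiFiniteLocus.2.isClosed_compl.isLocallyClosed
  obtain ⟨θ, η', hcomm, hθ⟩ := exists_translate f u x huc hxc
  apply hx
  show f.left.QuasiFiniteAt x
  rw [← hθ, ← Scheme.Hom.quasiFiniteAt_comp_iff_of_isOpenImmersion, hcomm, Scheme.Hom.quasiFiniteAt_comp_iff]
  exact hu

end AlgClosed

section Field
variable {k : Type u} [Field k] {X Y : Over (Spec (CommRingCat.of k))} [GrpObj X] [GrpObj Y]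

/-- A homomorphism of group schemes over a field quasi-finite at one point is quasi-finite. -/
theorem lqf_of_qfAt [LocallyOfFiniteType X.hom] (f : X ⟶ Y) [IsMonHom f] [LocallyOfFiniteType f.left] (a : X.left)
    (ha : f.left.QuasiFiniteAt a) : LocallyQuasiFinite f.left := by
  let G := Over.pullback (algPt k)
  letI : GrpObj (G.obj X) := Functor.grpObjObj
  letI : GrpObj (G.obj Y) := Functor.grpObjObj
  have hP := isPullback_pullback_map (algPt k) f
  have : LocallyOfFiniteType (G.obj X).hom := inferInstanceAs (LocallyOfFiniteType (pullback.snd _ _))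
  have : LocallyOfFiniteType (G.map f).left := MorphismProperty.of_isPullback hP inferInstance
  obtain ⟨z, hz⟩ := (pullback.fst X.hom (algPt k)).surjective a
  have hne : ((pullback.fst X.hom (algPt k)) ⁻¹' (f.left.quasiFiniteLocus : Set X.left)).Nonempty :=
    ⟨z, by show f.left.QuasiFiniteAt _; rw [hz]; exact ha⟩
  have : JacobsonSpace ↥(pullback X.hom (algPt k)) := LocallyOfFiniteType.jacobsonSpace (G.obj X).hom
  obtain ⟨u, hu, huc⟩ := nonempty_inter_closedPoints hne
    (f.left.quasiFiniteLocus.2.preimage (pullback.fst X.hom (algPt k)).continuous).isLocallyClosed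
  have h := lqf_of_closed_qfAt (G.map f) u huc (quasiFiniteAt_of_isPullback hP u hu)
  haveI := Et18.descends_locallyQuasiFinite.{u}
  exact (MorphismProperty.of_isPullback_of_descendsAlong
    (P := (@LocallyQuasiFinite ⊓ @LocallyOfFiniteType : MorphismProperty Scheme.{u})) (Q := Et18.FPQC.{u})
    hP.flip (fpqc_pullback_algPt Y) ⟨h, inferInstance⟩).1

theorem isIsogenyOver_of_qfAt [GeometricallyIntegral X.hom] [GeometricallyIntegral Y.hom]
    [IsProper X.hom] [IsProper Y.hom] (hdim : topologicalKrullDim ↥X.left = topologicalKrullDim ↥Y.left)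
    (f : X ⟶ Y) [IsMonHom f] (a : X.left)
    (ha : f.left.QuasiFiniteAt a) : SGA7.IsIsogenyOver f := by
  haveI : IsProper f.left := AbVarLib.isProper_left f
  haveI := lqf_of_qfAt f a ha
  haveI : Subsingleton ↥(Spec (CommRingCat.of k)) := inferInstanceAs (Subsingleton (PrimeSpectrum k))
  haveI : IsIntegral X.left := GeometricallyIntegral.isIntegral_of_subsingleton X.hom
  haveI : IsIntegral Y.left := GeometricallyIntegral.isIntegral_of_subsingleton Y.hom
  haveI : LocallyOfFiniteType (f.left ≫ Y.hom) := by rw [Over.w f]; infer_instance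
  haveI : IsFinite f.left := (IsFinite.iff_isProper_and_locallyQuasiFinite f.left).2 ⟨inferInstance, inferInstance⟩
  refine ⟨AbVarLib.surjective_of_lqf Y.hom f.left hdim, fun N i hN => ?_⟩
  have h : IsFinite (toUnit N).left :=
    MorphismProperty.of_isPullback (hN.map (Over.forget _)) (show IsFinite ((Over.forget _).map f) from ‹IsFinite f.left›)
  have e := Over.w (toUnit N)
  rw [← e]
  exact MorphismProperty.comp_mem _ _ _ h (inferInstanceAs (IsFinite (𝟙 (Spec (CommRingCat.of k)))))

end Field

/-- Quasi-finiteness on the special fibre spreads to a point of the generic fibre. -/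
theorem exists_qfAt (R K : Type u) [CommRing R] [IsDomain R] [IsDiscreteValuationRing R] [Field K]
    [Algebra R K] [IsFractionRing R K] {N N' : Over (Spec (CommRingCat.of R))} (u : N ⟶ N')
    [LocallyOfFiniteType u.left] [QuasiCompact u.left]
    (e : Spec (CommRingCat.of R) ⟶ N.left) (he : e ≫ N.hom = 𝟙 _)
    [hs : LocallyQuasiFinite (SGA7.fibreHom (IsLocalRing.closedPoint R) u).left] :
    ∃ a, ((SGA7.genFib R K).map u).left.QuasiFiniteAt a := by
  let s : Spec (CommRingCat.of R) := IsLocalRing.closedPoint R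
  let xs : N.left := e s
  have hxs : N.hom xs = s := by rw [← Scheme.Hom.comp_apply, he]; rfl
  have hP := isPullback_pullback_map ((Spec (CommRingCat.of R)).fromSpecResidueField s) u
  have : QuasiCompact (SGA7.fibreHom s u).left := MorphismProperty.of_isPullback hP inferInstance
  obtain ⟨y', hy'⟩ : u.left xs ∈ Set.range (pullback.fst N'.hom ((Spec (CommRingCat.of R)).fromSpecResidueField s)) :=
    (N'.hom.range_fiberι s).ge (show N'.hom (u.left xs) = s by rw [← Scheme.Hom.comp_apply, Over.w u, hxs])
  have hfin : (u.left ⁻¹' {u.left xs}).Finite := by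
    haveI : LocallyQuasiFinite (SGA7.fibreHom s u).left := hs
    refine (((SGA7.fibreHom s u).left.finite_preimage_singleton y').image
      (pullback.fst N.hom ((Spec (CommRingCat.of R)).fromSpecResidueField s))).subset fun x hx => ?_
    have hx' : N.hom x = s := by
      rw [← Over.w u, Scheme.Hom.comp_apply, Set.mem_singleton_iff.1 hx, ← Scheme.Hom.comp_apply, Over.w u, hxs]
    obtain ⟨x', hx''⟩ : x ∈ Set.range (pullback.fst N.hom ((Spec (CommRingCat.of R)).fromSpecResidueField s)) :=
      (N.hom.range_fiberι s).ge hx'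
    refine ⟨x', ?_, hx''⟩
    apply (N'.hom.fiberι s).isEmbedding.injective
    show pullback.fst N'.hom _ ((SGA7.fibreHom s u).left x') = pullback.fst N'.hom _ y'
    rw [← Scheme.Hom.comp_apply, ← hP.w, Scheme.Hom.comp_apply, hx'', hy']
    exact hx
  have hq : u.left.QuasiFiniteAt xs := by
    have : Finite (u.left.fiber (u.left xs)) := (u.left.fiberHomeo (u.left xs)).finite_iff.mpr hfin
    exact Scheme.Hom.quasiFiniteAt_iff_isOpen_singleton_asFiber.mpr (isOpen_discrete _)
  let g := Spec.map (CommRingCat.ofHom (algebraMap R K))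
  let gp : Spec (CommRingCat.of R) := g (IsLocalRing.closedPoint K)
  have hqgp : u.left.QuasiFiniteAt (e gp) :=
    ((IsLocalRing.specializes_closedPoint (R := R) gp).map e.continuous).mem_open u.left.quasiFiniteLocus.2 hq
  obtain ⟨a, ha⟩ : e gp ∈ Set.range (pullback.fst N.hom g) := by
    rw [Scheme.Pullback.range_fst]
    exact ⟨IsLocalRing.closedPoint K, (show N.hom (e gp) = gp by rw [← Scheme.Hom.comp_apply, he]; rfl).symm⟩
  exact ⟨a, quasiFiniteAt_of_isPullback (isPullback_pullback_map g u) a (show u.left.QuasiFiniteAt _ from ha ▸ hqgp)⟩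

end Groth.Agent.Et18.NeronIsog
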