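import Groth.Prelude.Def_SGA7IX
import Groth.Agent.Et18.ChowSep
import Groth.Agent.Coherent.BirationalFibre
import Groth.Agent.Coherent.ConnectedFibre
import Groth.Agent.NeronLib.NormalSmooth
import Groth.Agent.AbSchLib.ConnectedFibres

/-!
# A smooth separated scheme over a DVR with proper fibres, a section and integral generic fibre
-/

set_option autoImplicit false
set_option backward.isDefEq.respectTransparency false

universe u

open CategoryTheory CategoryTheory.Limits AlgebraicGeometry Opposite TopologicalSpace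

namespace Groth.Agent.Et18.NeronProper

open Groth.Agent.Coherent

/-- A scheme flat over an integral domain with irreducible generic fibre is irreducible. -/
theorem irreducibleSpace_of_flat {R K : Type u} [CommRing R] [IsDomain R] [Field K] [Algebra R K]
    [IsFractionRing R K] {X : Scheme.{u}} (f : X ⟶ Spec (CommRingCat.of R)) [Flat f]
    [IrreducibleSpace ↥(pullback f (Spec.map (CommRingCat.ofHom (algebraMap R K))))] :
    IrreducibleSpace X := by
  let i := pullback.fst f (Spec.map (CommRingCat.ofHom (algebraMap R K)))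
  have hd : DenseRange i := by
    intro x
    have hbot : (⟨⊥, Ideal.isPrime_bot⟩ : PrimeSpectrum R) ⤳ (f x : PrimeSpectrum R) :=
      (PrimeSpectrum.le_iff_specializes _ _).1 bot_le
    obtain ⟨w, hw, hfw⟩ := Flat.generalizingMap f hbot
    refine hw.mem_closed isClosed_closure (subset_closure ?_)
    rw [Scheme.Pullback.range_fst]
    refine ⟨(⟨⊥, Ideal.isPrime_bot⟩ : PrimeSpectrum K), ?_⟩
    rw [hfw]
    refine PrimeSpectrum.ext ?_
    exact Ideal.comap_bot_of_injective _ (IsFractionRing.injective R K)
  have h1 : _root_.IsPreirreducible (Set.univ : Set X) := by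
    rw [← hd.closure_range, ← Set.image_univ]
    exact ((IrreducibleSpace.isIrreducible_univ _).2.image i i.continuous.continuousOn).closure
  exact { toPreirreducibleSpace := ⟨h1⟩, toNonempty := Nonempty.map i inferInstance }

/-- The spectrum of an integrally closed domain is normal. -/
theorem isNormalScheme_Spec (R : Type u) [CommRing R] [IsDomain R] [IsIntegrallyClosed R] :
    Pi1.IsNormalScheme (Spec (CommRingCat.of R)) := by
  intro x
  let S := Γ(Spec (CommRingCat.of R), ⊤)
  let eR : R ≃+* S := (Scheme.ΓSpecIso (CommRingCat.of R)).symm.commRingCatIsoToRingEquiv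
  have : IsDomain S := MulEquiv.isDomain R eR.symm.toMulEquiv
  have : IsIntegrallyClosed S := IsIntegrallyClosed.of_equiv eR
  letI := TopCat.Presheaf.algebra_section_stalk (Spec (CommRingCat.of R)).presheaf
    (⟨x, trivial⟩ : (⊤ : (Spec (CommRingCat.of R)).Opens))
  have := (isAffineOpen_top (Spec (CommRingCat.of R))).isLocalization_stalk ⟨x, trivial⟩
  let P := ((isAffineOpen_top (Spec (CommRingCat.of R))).primeIdealOf ⟨x, trivial⟩).asIdeal
  have hle := Ideal.primeCompl_le_nonZeroDivisors P
  exact ⟨IsLocalization.isDomain_of_le_nonZeroDivisors _ hle,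
    isIntegrallyClosed_of_isLocalization _ P.primeCompl hle⟩

/-- A finite domain over a domain `R` with an `R`-retraction is `R`. -/
theorem bijective_of_retraction {R B : Type u} [CommRing R] [IsDomain R] [CommRing B] [IsDomain B]
    (φ : R →+* B) (hφ : φ.Finite) (σ : B →+* R) (h : σ.comp φ = RingHom.id R) :
    Function.Bijective φ := by
  have hinj : Function.Injective φ := fun a b hab =>
    (RingHom.congr_fun h a).symm.trans ((congrArg σ hab).trans (RingHom.congr_fun h b))
  algebraize [φ]
  have : Algebra.IsIntegral R B := Algebra.IsIntegral.of_finite R B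
  have hk : RingHom.ker σ = ⊥ := by
    refine Ideal.eq_bot_of_comap_eq_bot (R := R) ?_
    refine eq_bot_iff.2 fun r hr => ?_
    have hr' : σ (φ r) = 0 := hr
    rw [← RingHom.comp_apply, h] at hr'
    exact hr'
  refine ⟨hinj, fun b => ⟨σ b, ((RingHom.injective_iff_ker_eq_bot σ).2 hk) ?_⟩⟩
  exact RingHom.congr_fun h (σ b)

/-- A separated smooth scheme over a DVR with a section, integral generic fibre and proper special
fibre, is proper (EGA IV 15.7.10). -/
theorem isProper_of_isProper_specialFibre {R K : Type u} [CommRing R] [IsDomain R]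
    [IsDiscreteValuationRing R] [Field K] [Algebra R K] [IsFractionRing R K]
    {X : Scheme.{u}} (f : X ⟶ Spec (CommRingCat.of R)) [Smooth f] [IsSeparated f] [QuasiCompact f]
    (e : Spec (CommRingCat.of R) ⟶ X) (he : e ≫ f = 𝟙 _)
    [IrreducibleSpace ↥(pullback f (Spec.map (CommRingCat.ofHom (algebraMap R K))))]
    (hk : IsProper (pullback.snd f (Spec.map (CommRingCat.ofHom (IsLocalRing.residue R))))) :
    IsProper f := by
  have hR : Pi1.IsNormalScheme (Spec (CommRingCat.of R)) := isNormalScheme_Spec R
  have hX : Pi1.IsNormalScheme X := NeronLib.isNormalScheme_of_smooth f hR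
  have : IsReduced X := NeronLib.isReduced_of_normal hX
  have : IrreducibleSpace X := irreducibleSpace_of_flat (K := K) f
  have : IsIntegral X := isIntegral_of_irreducibleSpace_of_isReduced X
  have : IsLocallyNoetherian X := LocallyOfFiniteType.isLocallyNoetherian f
  obtain ⟨Γ', Zb, π, j, gb, U₀, hint, hπ, ⟨x₀, hx₀⟩, hiso, hj, hZb, hgb, hw⟩ :=
    ChowSep.exists_compactification f
  -- birationality
  have hηU : genericPoint X ∈ U₀ := (genericPoint_specializes x₀).mem_open U₀.2 hx₀
  obtain ⟨w₀, hw₀⟩ : ∃ w : Γ', π w = x₀ := by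
    obtain ⟨⟨w, hw⟩, hwx⟩ := (π ∣_ U₀).homeomorph.surjective ⟨x₀, hx₀⟩
    exact ⟨w, by rw [← morphismRestrict_base_coe π U₀ ⟨w, hw⟩]; exact congrArg Subtype.val hwx⟩
  have hgenU : genericPoint Γ' ∈ π ⁻¹ᵁ U₀ :=
    (genericPoint_specializes w₀).mem_open (π ⁻¹ᵁ U₀).2 (show π w₀ ∈ U₀ from hw₀.symm ▸ hx₀)
  have hgen : π (genericPoint Γ') = genericPoint X := by
    obtain ⟨⟨w, hw⟩, hwη⟩ := (π ∣_ U₀).homeomorph.surjective ⟨_, hηU⟩
    have h1 : π w = genericPoint X := by
      rw [← morphismRestrict_base_coe π U₀ ⟨w, hw⟩]; exact congrArg Subtype.val hwη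
    exact ((genericPoint_specializes w).map π.continuous |>.antisymm (h1 ▸ genericPoint_specializes _)).eq.trans h1
  have hbir : IsIso (π.stalkMap (genericPoint Γ')) := by
    have hi : IsIso ((π ∣_ U₀).stalkMap ⟨genericPoint Γ', hgenU⟩) := inferInstance
    exact ((MorphismProperty.isomorphisms CommRingCat).arrow_mk_iso_iff
      (morphismRestrictStalkMap π U₀ ⟨genericPoint Γ', hgenU⟩)).1 hi
  have hsurj : Function.Surjective π := by
    intro x
    have hcl : IsClosed (Set.range π) := π.isClosedMap.isClosed_range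
    exact (genericPoint_specializes x).mem_closed hcl ⟨_, hgen⟩
  have : Surjective π := ⟨hsurj⟩
  -- global functions on the compactification
  have hπiso : IsIso (π.app ⊤) := isIso_app_of_birational π hX hgen hbir ⊤
  have hfin : (gb.appTop).hom.Finite := finite_app_of_isProper gb (isAffineOpen_top _)
  have : Nonempty (⊤ : Zb.Opens) := ⟨⟨Classical.arbitrary Zb, trivial⟩⟩
  let σ : Γ(Zb, ⊤) ⟶ Γ(Spec (CommRingCat.of R), ⊤) := j.appTop ≫ inv (π.app ⊤) ≫ e.appTop
  have hσ : gb.appTop ≫ σ = 𝟙 _ := by
    have h1 : gb.appTop ≫ j.appTop = f.appTop ≫ π.app ⊤ := by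
      rw [← Scheme.Hom.comp_appTop, hw, Scheme.Hom.comp_appTop]
    simp only [σ]
    rw [reassoc_of% h1, IsIso.hom_inv_id_assoc, ← Scheme.Hom.comp_appTop, he]
    exact Scheme.Hom.id_app ⊤
  have hdom : IsDomain Γ(Spec (CommRingCat.of R), ⊤) :=
    MulEquiv.isDomain R (Scheme.ΓSpecIso (CommRingCat.of R)).commRingCatIsoToRingEquiv.toMulEquiv
  have hbij : Function.Bijective gb.appTop :=
    bijective_of_retraction gb.appTop.hom hfin σ.hom (congrArg CommRingCat.Hom.hom hσ)
  have : IsLocalRing Γ(Spec (CommRingCat.of R), ⊤) :=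
    IsLocalRing.of_surjective' (Scheme.ΓSpecIso (CommRingCat.of R)).inv.hom
      (ConcreteCategory.bijective_of_isIso (Scheme.ΓSpecIso (CommRingCat.of R)).inv).2
  have : IsLocalRing Γ(Zb, ⊤) := IsLocalRing.of_surjective' gb.appTop.hom hbij.2
  let _ : Zb.Over (Spec (CommRingCat.of R)) := ⟨gb⟩
  have : IsProper (Zb ↘ Spec (CommRingCat.of R)) := hgb
  have hconn := isPreconnected_closedFibre_of_isLocalRing (A := R) (X := Zb)
  -- the modification of the special fibre is clopen in the special fibre of the compactification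
  let res := Spec.map (CommRingCat.ofHom (IsLocalRing.residue R))
  have : IsClosedImmersion res := IsClosedImmersion.spec_of_surjective _ IsLocalRing.residue_surjective
  have hres : Set.range res = PrimeSpectrum.zeroLocus (IsLocalRing.maximalIdeal R : Set R) := by
    have := range_comap_of_surjective _ (IsLocalRing.residue R) IsLocalRing.residue_surjective
    rwa [IsLocalRing.ker_residue] at this
  let m := pullback.fst π (pullback.fst f res) ≫ j
  have hm : IsProper (m ≫ gb) := by
    have e1 : m ≫ gb = pullback.snd π (pullback.fst f res) ≫ pullback.snd f res ≫ res := by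
      simp only [m, Category.assoc]
      rw [hw, ← pullback.condition, pullback.condition_assoc]
    rw [e1]
    infer_instance
  have : IsProper m := IsProper.of_comp m gb
  have hrange : Set.range m = Set.range j ∩ gb ⁻¹' Set.range res := by
    have h1 : Set.range m = j '' (π ⁻¹' (f ⁻¹' Set.range res)) := by
      rw [show (π ⁻¹' (f ⁻¹' Set.range res) : Set Γ') = Set.range (pullback.fst π (pullback.fst f res)) by
        rw [Scheme.Pullback.range_fst, Scheme.Pullback.range_fst], ← Set.range_comp]
      rfl
    have h2 : ∀ w, f (π w) = gb (j w) := fun w => by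
      rw [← Scheme.Hom.comp_apply, ← Scheme.Hom.comp_apply, hw]
    rw [h1]
    ext z
    constructor
    · rintro ⟨w, hw', rfl⟩
      exact ⟨⟨w, rfl⟩, Set.mem_preimage.2 ((congrArg (· ∈ Set.range res) (h2 w)).mp hw')⟩
    · rintro ⟨⟨w, rfl⟩, hw'⟩
      exact ⟨w, (congrArg (· ∈ Set.range res) (h2 w)).mpr hw', rfl⟩
  obtain ⟨w₁, hw₁⟩ := hsurj (e (IsLocalRing.closedPoint R : PrimeSpectrum R))
  have hw₁' : j w₁ ∈ gb ⁻¹' Set.range res := by
    show gb (j w₁) ∈ Set.range res
    rw [← Scheme.Hom.comp_apply, hw, Scheme.Hom.comp_apply, hw₁, ← Scheme.Hom.comp_apply, he, hres]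
    exact fun r hr => hr
  have hF : gb ⁻¹' Set.range res ⊆ Set.range j := by
    by_contra hne
    obtain ⟨z, hz, hzj⟩ := Set.not_subset.1 hne
    rw [hres] at hz hrange hw₁'
    obtain ⟨y, hy, hy1, hy2⟩ := hconn (Set.range j) (Set.range m)ᶜ j.isOpenEmbedding.isOpen_range
      m.isClosedMap.isClosed_range.isOpen_compl
      (fun y hy => (em (y ∈ Set.range j)).imp id fun h h' => h (hrange ▸ h').1)
      ⟨j w₁, hw₁', w₁, rfl⟩ ⟨z, hz, fun h => hzj (hrange ▸ h).1⟩
    exact hy2 (hrange ▸ ⟨hy1, hy⟩)
  have hjsurj : Function.Surjective j := by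
    intro z
    obtain ⟨z', hz', hz'eq⟩ : (IsLocalRing.closedPoint R : PrimeSpectrum R) ∈ gb '' closure {z} := by
      have hcl : IsClosed (gb '' closure {z}) := gb.isClosedMap _ isClosed_closure
      exact (IsLocalRing.specializes_closedPoint (gb z : PrimeSpectrum R)).mem_closed hcl
        ⟨z, subset_closure rfl, rfl⟩
    have h1 : z' ∈ Set.range j := hF (by
      show gb z' ∈ Set.range res
      rw [hz'eq, hres]
      exact fun r hr => hr)
    exact (specializes_iff_mem_closure.2 hz').mem_open j.isOpenEmbedding.isOpen_range h1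
  have : Surjective j := ⟨hjsurj⟩
  have : IsIso j := (isIso_iff_isOpenImmersion_and_epi_base j).2
    ⟨inferInstance, (TopCat.epi_iff_surjective _).2 hjsurj⟩
  have hproper : IsProper (π ≫ f) := by rw [← hw]; infer_instance
  have : UniversallyClosed f := UniversallyClosed.of_comp_surjective π f
  exact IsProper.mk

/-- A proper smooth scheme over a DVR with a section and irreducible generic fibre has geometrically
connected fibres. -/
theorem geometricallyConnected_of_proper {R K : Type u} [CommRing R] [IsDomain R]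
    [IsDiscreteValuationRing R] [Field K] [Algebra R K] [IsFractionRing R K]
    {X : Scheme.{u}} (f : X ⟶ Spec (CommRingCat.of R)) [Smooth f] [IsProper f]
    (e : Spec (CommRingCat.of R) ⟶ X) (he : e ≫ f = 𝟙 _)
    [IrreducibleSpace ↥(pullback f (Spec.map (CommRingCat.ofHom (algebraMap R K))))] :
    GeometricallyConnected f := by
  have : IsReduced X :=
    NeronLib.isReduced_of_normal (NeronLib.isNormalScheme_of_smooth f (isNormalScheme_Spec R))
  have : IrreducibleSpace X := irreducibleSpace_of_flat (K := K) f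
  have : IsIntegral X := isIntegral_of_irreducibleSpace_of_isReduced X
  have : Nonempty (⊤ : X.Opens) := ⟨⟨Classical.arbitrary X, trivial⟩⟩
  have hdom : IsDomain Γ(Spec (CommRingCat.of R), ⊤) :=
    MulEquiv.isDomain R (Scheme.ΓSpecIso (CommRingCat.of R)).commRingCatIsoToRingEquiv.toMulEquiv
  have hσ : f.appTop ≫ e.appTop = 𝟙 _ := by
    rw [← Scheme.Hom.comp_appTop, he]
    exact Scheme.Hom.id_app ⊤
  have hbij : Function.Bijective f.appTop :=
    bijective_of_retraction f.appTop.hom (finite_app_of_isProper f (isAffineOpen_top _))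
      e.appTop.hom (congrArg CommRingCat.Hom.hom hσ)
  have : IsLocalRing Γ(Spec (CommRingCat.of R), ⊤) :=
    IsLocalRing.of_surjective' (Scheme.ΓSpecIso (CommRingCat.of R)).inv.hom
      (ConcreteCategory.bijective_of_isIso (Scheme.ΓSpecIso (CommRingCat.of R)).inv).2
  have : IsLocalRing Γ(X, ⊤) := IsLocalRing.of_surjective' f.appTop.hom hbij.2
  let _ : X.Over (Spec (CommRingCat.of R)) := ⟨f⟩
  have : IsProper (X ↘ Spec (CommRingCat.of R)) := ‹IsProper f›
  refine AbSchLib.geometricallyConnected_of_section f e he fun s => ?_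
  have hne : (f ⁻¹' {s} : Set X).Nonempty := ⟨e s, (Scheme.Hom.comp_apply e f s).symm.trans (by rw [he]; rfl)⟩
  have hpre : _root_.IsPreconnected (f ⁻¹' {s} : Set X) := by
    by_cases hs : (s : PrimeSpectrum R) = IsLocalRing.closedPoint R
    · have h := isPreconnected_closedFibre_of_isLocalRing (A := R) (X := X)
      have e1 : PrimeSpectrum.zeroLocus (IsLocalRing.maximalIdeal R : Set R) = {IsLocalRing.closedPoint R} :=
        Set.eq_singleton_iff_unique_mem.2 ⟨fun r hr => hr, fun p hp =>
          PrimeSpectrum.ext (le_antisymm (IsLocalRing.le_maximalIdeal p.2.ne_top) hp)⟩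
      rw [e1] at h
      rw [hs]
      exact h
    · have hs0 : (s : PrimeSpectrum R).asIdeal = ⊥ := by
        by_contra h
        exact hs (PrimeSpectrum.ext (IsLocalRing.eq_maximalIdeal
          ((s : PrimeSpectrum R).2.isMaximal h)))
      have e1 : (f ⁻¹' {s} : Set X) =
          Set.range (pullback.fst f (Spec.map (CommRingCat.ofHom (algebraMap R K)))) := by
        rw [Scheme.Pullback.range_fst]
        congr 1
        have h0 : ∀ q : PrimeSpectrum K,
            Spec.map (CommRingCat.ofHom (algebraMap R K)) q = (s : PrimeSpectrum R) := by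
          intro q
          refine PrimeSpectrum.ext ?_
          rw [hs0, show q = ⟨⊥, Ideal.isPrime_bot⟩ from Subsingleton.elim _ _]
          exact Ideal.comap_bot_of_injective _ (IsFractionRing.injective R K)
        refine (Set.eq_singleton_iff_unique_mem.2 (And.intro ?_ ?_)).symm
        · exact ⟨(⟨⊥, Ideal.isPrime_bot⟩ : PrimeSpectrum K), h0 _⟩
        rintro _ ⟨q, rfl⟩
        exact h0 q
      rw [e1]
      exact (isPreconnected_range (pullback.fst f _).continuous)
  have : ConnectedSpace (f ⁻¹' {s} : Set X) := Subtype.connectedSpace ⟨hne, hpre⟩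
  exact (f.fiberHomeo s).symm.surjective.connectedSpace (f.fiberHomeo s).symm.continuous

end Groth.Agent.Et18.NeronProper
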