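import Groth.Agent.Et18.UnitConst
import Groth.Agent.Et18.ShriekFibre
import Groth.Prelude.Def_Pi1

/-!
# Constant sheaves and the generic point of a normal integral scheme
-/

set_option autoImplicit false
set_option linter.all false

universe u

open CategoryTheory CategoryTheory.Limits AlgebraicGeometry Opposite

set_option backward.isDefEq.respectTransparency.types false
set_option backward.isDefEq.respectTransparency false

namespace Groth.Agent.Et18.NormalGeneric

variable {X : Scheme.{u}}

/-- Over a single point the sections of a constant sheaf are the constants. -/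
theorem bijective_cstSec_of_subsingleton (A : AddCommGrpCat.{u + 1}) (W : X.Etale) [Subsingleton W.left]
    [Nonempty W.left] : Function.Bijective (cstSec A W) := by
  obtain ⟨w⟩ := ‹Nonempty W.left›
  let ξ := sepPoint X (W.hom w)
  obtain ⟨v, -⟩ := exists_fiber_point ξ W w (sepPoint_default X _).symm
  let Φ := Scheme.pointSmallEtale ξ
  have hgerm : ∀ b : A, Φ.toPresheafFiber W v ((cst X).obj A).obj (cstSec A W b) = cstGerm ξ A b :=
    fun b => ConcreteCategory.congr_hom (cstSec_germ ξ A W v) b
  refine ⟨fun a b h => (cstGerm_bijective ξ A).1 ?_, fun s => ?_⟩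
  · rw [← hgerm, ← hgerm, h]
  · obtain ⟨b, hb⟩ := (cstGerm_bijective ξ A).2 (Φ.toPresheafFiber W v ((cst X).obj A).obj s)
    refine ⟨b, (sub_eq_zero.1 (eq_zero_of_sectSupp_eq_empty ((cst X).obj A) W (cstSec A W b - s) ?_))⟩
    refine Set.eq_empty_iff_forall_notMem.2 fun z hz => ?_
    rw [Subsingleton.elim z (fiberPt v)] at hz
    refine not_mem_sectSupp_of_germ_eq_zero _ ξ W _ v ?_ hz
    rw [map_sub, sub_eq_zero]
    exact (hgerm b).trans hb

theorem good_generic [IsIntegral X] (hX : Pi1.IsNormalScheme X) (A : AddCommGrpCat.{u + 1}) :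
    UnitConst.Good (X.fromSpecResidueField (genericPoint X)) A := by
  intro W w
  haveI : Etale W.hom := W.prop
  obtain ⟨O, hwO, z, ⟨hzO, hz⟩, huniq⟩ :=
    AlgClosedGeneric.exists_nhd_one_generic X (fun y => (hX y).2) W.hom w
  let g := X.fromSpecResidueField (genericPoint X)
  haveI : Etale (O.ι ≫ W.hom) := inferInstance
  let W' : X.Etale := Scheme.Etale.mk (O.ι ≫ W.hom)
  let a : W' ⟶ W := MorphismProperty.Over.homMk O.ι rfl
  refine ⟨W', a, ⟨⟨w, hwO⟩, rfl⟩, ?_⟩
  let q : ((EtCoh.bc g).obj W').left ⟶ W'.left := pullback.fst W'.hom g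
  have hrange : Set.range q = W'.hom ⁻¹' {genericPoint X} := by
    show Set.range (pullback.fst W'.hom g) = _
    rw [Scheme.Pullback.range_fst]
    exact congrArg (W'.hom ⁻¹' ·) (Scheme.range_fromSpecResidueField _)
  haveI : IsPreimmersion q :=
    MorphismProperty.pullback_fst (P := @IsPreimmersion) W'.hom g
      (inferInstanceAs (IsPreimmersion (X.fromSpecResidueField (genericPoint X))))
  haveI : Subsingleton ((EtCoh.bc g).obj W').left := ⟨fun s t => q.isEmbedding.injective <| by
    have hs : W'.hom (q s) = genericPoint X := hrange.le ⟨s, rfl⟩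
    have ht : W'.hom (q t) = genericPoint X := hrange.le ⟨t, rfl⟩
    refine Subtype.ext ?_
    exact (huniq _ ⟨(q s).2, hs⟩).trans (huniq _ ⟨(q t).2, ht⟩).symm⟩
  haveI : Nonempty ((EtCoh.bc g).obj W').left := by
    obtain ⟨s, -⟩ := hrange.ge (show (⟨z, hzO⟩ : O) ∈ W'.hom ⁻¹' {genericPoint X} from hz)
    exact ⟨s⟩
  exact bijective_cstSec_of_subsingleton A _

theorem isIso_unit_generic [IsIntegral X] (hX : Pi1.IsNormalScheme X) (A : AddCommGrpCat.{u + 1}) :
    IsIso ((EtCoh.pullPushAdj (X.fromSpecResidueField (genericPoint X))).unit.app ((cst X).obj A)) :=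
  UnitConst.isIso_unit _ A (good_generic hX A)

end Groth.Agent.Et18.NormalGeneric
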