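import Groth.Agent.EtUnitLib.ConstUnit
import Groth.Agent.Et18.EtaleLocalRing
import Groth.Agent.Et18.ConsColim
import Groth.Prelude.Def_Pi1

/-!
# Constant sheaves and dense open subschemes of normal schemes
-/

set_option autoImplicit false
set_option linter.all false

universe u

open CategoryTheory CategoryTheory.Limits AlgebraicGeometry Opposite TopologicalSpace

set_option backward.isDefEq.respectTransparency.types false
set_option backward.isDefEq.respectTransparency false

namespace Groth.Agent.Et18.NormalOpen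

variable {W : Scheme.{u}}

/-- A point with domain local ring has a smallest generization. -/
theorem exists_gen (w : W) [IsDomain (W.presheaf.stalk w)] :
    ∃ η : W, η ⤳ w ∧ ∀ z : W, z ⤳ w → η ⤳ z := by
  let s := W.fromSpecStalk w
  let b : Spec (W.presheaf.stalk w) := ⟨⊥, Ideal.isPrime_bot⟩
  have hs : ∀ a : W, a ⤳ w → a ∈ Set.range s := fun a ha => by rw [Scheme.range_fromSpecStalk]; exact ha
  have hb : ∀ q : Spec (W.presheaf.stalk w), b ⤳ q := fun q =>
    (PrimeSpectrum.le_iff_specializes b q).1 bot_le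
  refine ⟨s b, ?_, fun z hz => ?_⟩
  · have h : s b ∈ Set.range s := ⟨b, rfl⟩
    rwa [Scheme.range_fromSpecStalk] at h
  · obtain ⟨p, rfl⟩ := hs z hz
    exact (hb p).map s.continuous

/-- Inside an affine open, a point of the closure of a quasi-compact open has a generization in it. -/
theorem exists_gen_mem {V : W.Opens} (hV : IsAffineOpen V) {S : Set W} (hSV : S ⊆ V) (hSo : IsOpen S)
    (hSc : IsCompact S) {v : W} (hv : v ∈ V) (hcl : v ∈ closure S) : ∃ z ∈ S, z ⤳ v := by
  haveI : IsAffine V.toScheme := hV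
  let S' : Set V.toScheme := V.ι ⁻¹' S
  have himg : V.ι '' S' = S := Set.image_preimage_eq_of_subset (by rw [Scheme.Opens.range_ι]; exact hSV)
  have hS'o : IsOpen S' := hSo.preimage V.ι.continuous
  have hS'c : IsCompact S' := (V.ι.isOpenEmbedding.isInducing.isCompact_iff).2 (himg ▸ hSc)
  have hcl' : (⟨v, hv⟩ : V.toScheme) ∈ closure S' := by
    rw [V.ι.isOpenEmbedding.isInducing.closure_eq_preimage_closure_image, himg]
    exact hcl
  obtain ⟨z, hz, hzv⟩ := exists_specializes_of_mem_closure
    (hS'c.isConstructible hS'o).isLocallyConstructible hcl'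
  exact ⟨V.ι z, hz, hzv.map V.ι.continuous⟩

theorem isDomain_stalk_of_etale {X : Scheme.{u}} (hX : Pi1.IsNormalScheme X) (f : W ⟶ X) [Etale f] (w : W) :
    IsDomain (W.presheaf.stalk w) :=
  ((normal_stalk_iff_of_etale f w).2 (hX (f w))).1

theorem isIso_unit_open (X U : Scheme.{u}) (hX : Pi1.IsNormalScheme X) (j : U ⟶ X) [IsOpenImmersion j]
    [QuasiCompact j] (hj : Dense (Set.range j)) (A : AddCommGrpCat.{u + 1}) :
    IsIso ((EtCoh.pullPushAdj j).unit.app ((cst X).obj A)) := by
  suffices IsIso (EtUnitLib.constPush j A) from EtUnitLib.isIso_unit_of_isIso_constPush j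
  have hemb : ∀ V : X.Etale, IsOpenImmersion (EtUnitLib.pr j V) := fun V =>
    MorphismProperty.pullback_fst (P := @IsOpenImmersion) V.hom j inferInstance
  have hrange : ∀ V : X.Etale, Set.range (EtUnitLib.pr j V) = V.hom ⁻¹' Set.range j := fun V =>
    Scheme.Pullback.range_fst V.hom j
  have hdense : ∀ V : X.Etale, Dense (Set.range (EtUnitLib.pr j V)) := fun V => by
    haveI : Etale V.hom := V.prop
    rw [hrange V]
    exact hj.preimage V.hom.isOpenMap
  refine EtUnitLib.isIso_constPush_of_bijective j (fun V f f' hf hf' h => funext fun v => ?_) fun V h hh => ?_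
  · obtain ⟨y, ⟨hy, hy'⟩⟩ : ((f ⁻¹' {f v} ∩ f' ⁻¹' {f' v}) ∩ Set.range (EtUnitLib.pr j V)).Nonempty :=
      (hdense V).inter_open_nonempty _ ((hf.isOpen_fiber _).inter (hf'.isOpen_fiber _)) ⟨v, rfl, rfl⟩
    obtain ⟨t, rfl⟩ := hy'
    rw [← hy.1, ← hy.2]
    exact h t
  · haveI : Etale V.hom := V.prop
    haveI := hemb V
    let p := EtUnitLib.pr j V
    haveI : QuasiCompact p := MorphismProperty.pullback_fst (P := @QuasiCompact) V.hom j inferInstance
    haveI : ∀ v : V.left, IsDomain (V.left.presheaf.stalk v) := fun v => isDomain_stalk_of_etale hX V.hom v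
    choose gen hgen hgen' using fun v : V.left => exists_gen v
    -- the generic point lies in the dense open
    have hO : ∀ v : V.left, gen v ∈ Set.range p := fun v => by
      obtain ⟨N, hN, hvN, -⟩ := exists_isAffineOpen_mem_and_subset (x := v) (U := ⊤) trivial
      have hc : IsCompact ((N : Set V.left) ∩ Set.range p) := by
        rw [← Set.image_preimage_eq_inter_range]
        exact (p.isCompact_preimage hN.isCompact).image p.continuous
      obtain ⟨z, ⟨-, hz⟩, hzv⟩ := exists_gen_mem hN Set.inter_subset_left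
        (N.isOpen.inter p.isOpenEmbedding.isOpen_range) hc hvN
        ((hdense V).open_subset_closure_inter N.isOpen hvN)
      exact (hgen' v z hzv).mem_open p.isOpenEmbedding.isOpen_range hz
    choose lift hlift using hO
    refine ⟨fun v => h (lift v), (IsLocallyConstant.iff_exists_open _).2 fun v => ?_, fun y => ?_⟩
    · obtain ⟨N, hN, hvN, -⟩ := exists_isAffineOpen_mem_and_subset (x := v) (U := ⊤) trivial
      have hc : IsCompact (p ⁻¹' (N : Set V.left)) := p.isCompact_preimage hN.isCompact
      have hfin : (h '' (p ⁻¹' (N : Set V.left))).Finite := by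
        obtain ⟨t, ht⟩ := hc.elim_finite_subcover (fun a : A => h ⁻¹' {a}) (fun a => hh.isOpen_fiber a)
          fun z _ => Set.mem_iUnion.2 ⟨h z, rfl⟩
        refine t.finite_toSet.subset ?_
        rintro _ ⟨z, hz, rfl⟩
        obtain ⟨a, ha, hza⟩ := Set.mem_iUnion₂.1 (ht hz)
        exact (show h z = a from hza) ▸ ha
      let b := h (lift v)
      let C : A → Set V.left := fun a => p '' (p ⁻¹' (N : Set V.left) ∩ h ⁻¹' {a})
      have hCcomp : ∀ a, IsCompact (C a) := fun a =>
        ((hc.inter_right (hh.isClosed_fiber a))).image p.continuous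
      have hvC : ∀ a, a ≠ b → v ∉ closure (C a) := fun a hab hcl => by
        obtain ⟨z, ⟨s, ⟨hsN, hsa⟩, rfl⟩, hzv⟩ := exists_gen_mem hN (Set.image_subset_iff.2 Set.inter_subset_left)
          (p.isOpenEmbedding.isOpenMap _ ((N.isOpen.preimage p.continuous).inter (hh.isOpen_fiber a)))
          (hCcomp a) hvN hcl
        have h1 : lift v ⤳ s := by
          rw [← p.isOpenEmbedding.isInducing.specializes_iff, hlift]
          exact hgen' v _ hzv
        exact hab (((show h (lift v) = a from h1.mem_open (hh.isOpen_fiber a) hsa)).symm)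
      refine ⟨(N : Set V.left) ∩ (⋃ a ∈ h '' (p ⁻¹' (N : Set V.left)) \ {b}, closure (C a))ᶜ,
        N.isOpen.inter ((hfin.subset Set.diff_subset).isClosed_biUnion fun _ _ => isClosed_closure).isOpen_compl,
        ⟨hvN, fun hv => ?_⟩, fun v' hv' => ?_⟩
      · obtain ⟨a, ha, hva⟩ := Set.mem_iUnion₂.1 hv
        exact hvC a ha.2 hva
      · show h (lift v') = b
        by_contra hne
        have hmem : p (lift v') ∈ (N : Set V.left) ∩
            (⋃ a ∈ h '' (p ⁻¹' (N : Set V.left)) \ {b}, closure (C a))ᶜ := by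
          rw [hlift]
          exact (hgen v').mem_open (N.isOpen.inter
            ((hfin.subset Set.diff_subset).isClosed_biUnion fun _ _ => isClosed_closure).isOpen_compl) hv'
        exact hmem.2 (Set.mem_iUnion₂.2 ⟨_, ⟨⟨lift v', hmem.1, rfl⟩, hne⟩,
          subset_closure ⟨lift v', ⟨hmem.1, rfl⟩, rfl⟩⟩)
    · have h1 : lift (p y) ⤳ y := by
        rw [← p.isOpenEmbedding.isInducing.specializes_iff, hlift]
        exact hgen _
      exact h1.mem_open (hh.isOpen_fiber (h y)) rfl

end Groth.Agent.Et18.NormalOpen
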