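import Groth.Agent.Et18.RecollementSh
import Groth.Agent.Et18.Subterminal
import Groth.Prelude.Def_EtOpen
import Mathlib.CategoryTheory.Comma.Over.Pullback

/-!
# Sheaves of sets over the sheaf of an open
-/

set_option autoImplicit false

universe u

open CategoryTheory CategoryTheory.Limits AlgebraicGeometry Opposite

set_option backward.isDefEq.respectTransparency.types false
set_option backward.isDefEq.respectTransparency false

namespace Groth.Agent.Et18

variable {X : Scheme.{u}} (U : X.Opens)

/-- The representable sheaf of an open. -/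
noncomputable def openSheaf : EtDesc.Sh X :=
  ⟨yoneda.obj (Scheme.Etale.mk U.ι) ⋙ uliftFunctor.{u + 1}, (isSheaf_iff_isSheaf_of_type _ _).mpr (isSheaf_opens U)⟩

/-- The comparison with the sheafified representable. -/
noncomputable def openSheafIso : EtDesc.repSh (EtDesc.ofOpen U) ≅ openSheaf U :=
  asIso ((sheafificationAdjunction X.smallEtaleTopology (Type (u + 1))).counit.app (openSheaf U))

variable {Ω : Type u} [Field Ω] [IsSepClosed Ω] (η : Spec (CommRingCat.of Ω) ⟶ X)

instance subsingleton_stalk_openSheaf :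
    Subsingleton ((stalkSh η).obj (EtDesc.repSh (EtDesc.ofOpen U))) := by
  let Φ := Scheme.pointSmallEtale η
  have : Subsingleton ((stalkSh η).obj (openSheaf U)) := ⟨fun a b => by
    obtain ⟨V, v, s, t, rfl, rfl⟩ := Φ.toPresheafFiber_jointly_surjective₂ (P := (openSheaf U).obj) a b
    exact congrArg _ (ULift.ext _ _ (@Subsingleton.elim _ (subsingleton_hom_opens _ _) _ _))⟩
  exact ((stalkSh η).mapIso (openSheafIso U)).toEquiv.subsingleton

theorem mem_of_stalk_openSheaf (a : (stalkSh η).obj (EtDesc.repSh (EtDesc.ofOpen U))) : η default ∈ U := by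
  let Φ := Scheme.pointSmallEtale η
  obtain ⟨V, v, s, -⟩ := Φ.toPresheafFiber_jointly_surjective (P := (openSheaf U).obj)
    ((stalkSh η).map (openSheafIso U).hom a)
  let vl : Spec (CommRingCat.of Ω) ⟶ V.left := v.left
  exact (nonempty_hom_opens_iff U V).1 ⟨s.down⟩
    ⟨vl default, congrArg (fun k : Spec (CommRingCat.of Ω) ⟶ X => k default) (Over.w v)⟩

theorem nonempty_stalk_openSheaf (ξ : Spec (CommRingCat.of Ω) ⟶ (U : Scheme.{u})) :
    Nonempty ((stalkSh (ξ ≫ U.ι)).obj (EtDesc.repSh (EtDesc.ofOpen U))) := by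
  let Φ := Scheme.pointSmallEtale (ξ ≫ U.ι)
  let v : Φ.fiber.obj (Scheme.Etale.mk U.ι) := Over.homMk ξ rfl
  exact ⟨(stalkSh (ξ ≫ U.ι)).map (openSheafIso U).inv
    (Φ.toPresheafFiber _ v (openSheaf U).obj ⟨𝟙 _⟩)⟩

/-- Restriction to the open of sheaves over its sheaf. -/
noncomputable abbrev sliceRestr : Over (EtDesc.repSh (EtDesc.ofOpen U)) ⥤ EtDesc.Sh (U : Scheme.{u}) :=
  Over.forget (EtDesc.repSh (EtDesc.ofOpen U)) ⋙ EtDesc.pullSh U.ι

theorem reflectsIsos_sliceRestr {A B : Over (EtDesc.repSh (EtDesc.ofOpen U))} (a : A ⟶ B)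
    [IsIso ((sliceRestr U).map a)] : IsIso a := by
  have : IsIso ((EtDesc.pullSh U.ι).map a.left) := inferInstanceAs (IsIso ((sliceRestr U).map a))
  have : IsIso a.left := by
    refine isIso_of_stalksSh_family _ (exists_sepPoint X) _ fun x => ?_
    by_cases hx : x.down ∈ U
    · obtain ⟨ξ, hξ⟩ : ∃ ξ : Spec (CommRingCat.of (SeparableClosure (X.residueField x.down))) ⟶ (U : Scheme.{u}),
          ξ ≫ U.ι = sepPoint X x.down := by
        refine ⟨IsOpenImmersion.lift U.ι (sepPoint X x.down) ?_, IsOpenImmersion.lift_fac _ _ _⟩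
        rintro _ ⟨z, rfl⟩
        rw [Subsingleton.elim z default, sepPoint_default, Scheme.Opens.range_ι]
        exact hx
      rw [← hξ]
      exact isIso_stalkSh_map_of_pull U.ι ξ a.left
    · have hA : IsEmpty ((stalkSh (sepPoint X x.down)).obj B.left) := ⟨fun b => hx (by
        simpa [sepPoint_default] using
          mem_of_stalk_openSheaf U _ ((stalkSh (sepPoint X x.down)).map B.hom b))⟩
      rw [isIso_iff_bijective]
      exact ⟨fun p q _ => isEmptyElim ((stalkSh (sepPoint X x.down)).map a.left p),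
        fun b => isEmptyElim b⟩
  have : IsIso ((Over.forget _).map a) := inferInstanceAs (IsIso a.left)
  exact isIso_of_reflects_iso a (Over.forget _)

theorem isEquivalence_sliceRestr : (sliceRestr U).IsEquivalence := by
  let T := EtDesc.repSh (EtDesc.ofOpen U)
  let adj : sliceRestr U ⊣ EtDesc.pushSh U.ι ⋙ Over.star T :=
    (Over.forgetAdjStar T).comp (EtDesc.adjSh U.ι)
  have hj := isIso_counitSh U.ι
  have hc : ∀ G, IsIso (adj.counit.app G) := by
    intro G
    have : IsIso ((EtDesc.pullSh U.ι).map ((Over.forgetAdjStar T).counit.app ((EtDesc.pushSh U.ι).obj G))) := by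
      refine isIso_of_stalksSh_family _ (exists_sepPoint (U : Scheme.{u})) _ fun x => ?_
      let ξ := sepPoint (U : Scheme.{u}) x.down
      refine (NatIso.isIso_map_iff (stalkShPullIso U.ι ξ)
        ((Over.forgetAdjStar T).counit.app ((EtDesc.pushSh U.ι).obj G))).mpr ?_
      rw [Over.forgetAdjStar_counit_app]
      let P := (EtDesc.pushSh U.ι).obj G
      let h := mapIsLimitOfPreservesOfIsLimit (stalkSh (ξ ≫ U.ι)) (prod.fst (X := T) (Y := P)) prod.snd
        (prodIsProd T P)
      obtain ⟨t⟩ := nonempty_stalk_openSheaf U ξ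
      have hT : IsTerminal ((stalkSh (ξ ≫ U.ι)).obj T) :=
        Types.isTerminalEquivUnique _ |>.symm { default := t, uniq := fun a => Subsingleton.elim a t }
      refine ⟨(BinaryFan.IsLimit.lift' h (hT.from _) (𝟙 _)).1, ?_, (BinaryFan.IsLimit.lift' h (hT.from _) (𝟙 _)).2.2⟩
      refine BinaryFan.IsLimit.hom_ext h (hT.hom_ext _ _) ?_
      exact (Category.assoc _ _ _).trans ((congrArg (_ ≫ ·) (BinaryFan.IsLimit.lift' h (hT.from _) (𝟙 _)).2.2).trans
        ((Category.comp_id _).trans (Category.id_comp _).symm))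
    simp only [adj, Adjunction.comp_counit_app]
    infer_instance
  have : IsIso adj.counit := NatIso.isIso_of_isIso_app _
  have : ∀ A, IsIso (adj.unit.app A) := fun A => by
    have : IsIso ((sliceRestr U).map (adj.unit.app A)) := by
      have h := adj.left_triangle_components A
      have : IsIso (𝟙 ((sliceRestr U).obj A)) := IsIso.id _
      exact IsIso.of_isIso_fac_right h
    exact reflectsIsos_sliceRestr U _
  have : IsIso adj.unit := NatIso.isIso_of_isIso_app _
  exact (Adjunction.toEquivalence adj).isEquivalence_functor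

end Groth.Agent.Et18
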