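import Groth.Agent.Et18.IntegralCover
import Groth.Prelude.Def_BigSite

/-!
# Conditions (A), (B), (C) for integral morphisms
-/

universe u

open CategoryTheory CategoryTheory.Limits AlgebraicGeometry Opposite TensorProduct

set_option backward.isDefEq.respectTransparency.types false
set_option backward.isDefEq.respectTransparency false

namespace Groth.Agent.Et18

variable {X Y : Scheme.{u}}

/-- An étale scheme over an affine scheme integral over an affine base has a section on a clopen
piece near a geometric point. -/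
theorem exists_affine_piece {A Z O : Scheme.{u}} [IsAffine A] [IsAffine Z] [IsAffine O]
    (φ : Z ⟶ A) [IsIntegralHom φ] (q : O ⟶ Z) [Etale q] {Ω : Type u} [Field Ω] [IsAlgClosed Ω]
    (w : Spec (CommRingCat.of Ω) ⟶ O) :
    ∃ (V' : Scheme.{u}) (p : V' ⟶ A) (_ : Etale p) (P : Scheme.{u}) (r : P ⟶ Z) (l : P ⟶ V')
      (_ : IsPullback r l φ p) (D : Scheme.{u}) (k : D ⟶ P) (_ : IsOpenImmersion k)
      (_ : IsClosed (Set.range k)) (h : D ⟶ O) (x : Spec (CommRingCat.of Ω) ⟶ D),
      h ≫ q = k ≫ r ∧ x ≫ h = w := by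
  let R : Type u := Γ(A, ⊤)
  let S : Type u := Γ(Z, ⊤)
  let C : Type u := Γ(O, ⊤)
  algebraize [φ.appTop.hom, q.appTop.hom]
  let ξ₀ : CommRingCat.of S ⟶ CommRingCat.of Ω := Spec.preimage (w ≫ q ≫ Z.isoSpec.hom)
  let ω : CommRingCat.of C ⟶ CommRingCat.of Ω := Spec.preimage (w ≫ O.isoSpec.hom)
  have hξω : q.appTop ≫ ω = ξ₀ := Spec.map_injective (by
    rw [Spec.map_comp, Spec.map_preimage, Spec.map_preimage, Category.assoc, Scheme.isoSpec_hom_naturality])
  algebraize [(φ.appTop ≫ ξ₀).hom]
  have : Algebra.IsIntegral R S := ⟨(IsIntegralHom.SpecMap_iff (φ := φ.appTop)).mp (by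
    rw [show Spec.map φ.appTop = Z.isoSpec.inv ≫ φ ≫ A.isoSpec.hom by
      rw [← Scheme.isoSpec_inv_naturality_assoc, Iso.inv_hom_id, Category.comp_id]]
    infer_instance)⟩
  have : Algebra.Etale S C := by
    have : Etale (Spec.map q.appTop) := by
      rw [show Spec.map q.appTop = O.isoSpec.inv ≫ q ≫ Z.isoSpec.hom by
        rw [← Scheme.isoSpec_inv_naturality_assoc, Iso.inv_hom_id, Category.comp_id]]
      infer_instance
    exact (HasRingHomProperty.Spec_iff (P := @Etale)).mp this
  let ξ : S →ₐ[R] Ω := { ξ₀.hom with commutes' := fun _ => rfl }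
  obtain ⟨N, e, he, hξe, g, hg, hgw⟩ :=
    SHensel.exists_idempotent_section (R := R) (S := S) ξ C ω.hom (congrArg CommRingCat.Hom.hom hξω)
  let a : CommRingCat.of R ⟶ CommRingCat.of N.A := CommRingCat.ofHom (algebraMap R N.A)
  have : Etale (Spec.map a) := by
    rw [HasRingHomProperty.Spec_iff (P := @Etale)]
    exact RingHom.etale_algebraMap.mpr inferInstance
  let il : CommRingCat.of N.A ⟶ CommRingCat.of (N.A ⊗[R] S) :=
    CommRingCat.ofHom Algebra.TensorProduct.includeLeftRingHom
  let ir : CommRingCat.of S ⟶ CommRingCat.of (N.A ⊗[R] S) :=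
    CommRingCat.ofHom (Algebra.TensorProduct.includeRight : S →ₐ[R] N.A ⊗[R] S).toRingHom
  have sqS : IsPullback (Spec.map ir) (Spec.map il) (Spec.map φ.appTop) (Spec.map a) :=
    isPullback_SpecMap_of_isPushout _ _ _ _ (CommRingCat.isPushout_tensorProduct R N.A S).flip
  let k : Spec (CommRingCat.of (Localization.Away e)) ⟶ Spec (CommRingCat.of (N.A ⊗[R] S)) :=
    Spec.map (CommRingCat.ofHom (algebraMap (N.A ⊗[R] S) (Localization.Away e)))
  have : IsOpenImmersion k := IsOpenImmersion.of_isLocalization e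
  have hclosed : IsClosed (Set.range k) := by
    rw [show Set.range k = Set.range (PrimeSpectrum.comap (algebraMap (N.A ⊗[R] S)
      (Localization.Away e))) from rfl, PrimeSpectrum.localization_away_comap_range _ e,
      PrimeSpectrum.basicOpen_eq_zeroLocus_of_isIdempotentElem _ he]
    exact PrimeSpectrum.isClosed_zeroLocus _
  let d : Localization.Away e →+* Ω := IsLocalization.Away.lift e (g := (N.eval ξ).toRingHom)
    (show IsUnit ((N.eval ξ).toRingHom e) from isUnit_iff_ne_zero.mpr (by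
      rw [show (N.eval ξ).toRingHom e = 1 from hξe]; exact one_ne_zero))
  refine ⟨_, Spec.map a ≫ A.isoSpec.inv, inferInstance, _, Spec.map ir ≫ Z.isoSpec.inv, Spec.map il,
    sqS.paste_horiz (IsPullback.of_horiz_isIso ⟨(Scheme.isoSpec_inv_naturality φ).symm⟩),
    _, k, inferInstance, hclosed,
    Spec.map (CommRingCat.ofHom g) ≫ O.isoSpec.inv, Spec.map (CommRingCat.ofHom d), ?_, ?_⟩
  · rw [Category.assoc, ← Scheme.isoSpec_inv_naturality, ← Category.assoc, ← Category.assoc,
      ← Spec.map_comp, ← Spec.map_comp]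
    congr 2
    exact CommRingCat.hom_ext hg
  · rw [← Category.assoc, ← Spec.map_comp,
      show CommRingCat.ofHom g ≫ CommRingCat.ofHom d = ω from CommRingCat.hom_ext hgw,
      Spec.map_preimage, Category.assoc, Iso.hom_inv_id, Category.comp_id]

/-- An integral morphism satisfies (A). -/
theorem propA_of_integral (f : X ⟶ Y) [IsIntegralHom f] : BigSite.PropA f := by
  intro U g _ u
  obtain ⟨U₀, hU₀, hy, -⟩ := exists_isAffineOpen_mem_and_subset (X := Y) (x := f (g u)) (U := ⊤) trivial
  have : IsAffine (U₀ : Scheme.{u}) := hU₀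
  have : IsAffine ((f ⁻¹ᵁ U₀ : X.Opens) : Scheme.{u}) := hU₀.preimage f
  obtain ⟨O, hO, huO, hle⟩ := exists_isAffineOpen_mem_and_subset (X := U) (x := u)
    (U := g ⁻¹ᵁ (f ⁻¹ᵁ U₀)) hy
  have : IsAffine (O : Scheme.{u}) := hO
  let q : (O : Scheme.{u}) ⟶ (f ⁻¹ᵁ U₀ : X.Opens) :=
    IsOpenImmersion.lift (f ⁻¹ᵁ U₀).ι (O.ι ≫ g) (by
      rw [Scheme.Opens.range_ι]
      rintro _ ⟨o, rfl⟩
      exact hle o.2)
  have hq : q ≫ (f ⁻¹ᵁ U₀).ι = O.ι ≫ g := IsOpenImmersion.lift_fac _ _ _
  have : Etale q := by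
    have : Etale (q ≫ (f ⁻¹ᵁ U₀).ι) := by rw [hq]; infer_instance
    exact Etale.of_comp q (f ⁻¹ᵁ U₀).ι
  obtain ⟨V', p, _, P, r, l, sq, D, k, _, hk, h, x, hh, hx⟩ :=
    exists_affine_piece (f ∣_ U₀) q (algPoint (O : Scheme.{u}) ⟨u, huO⟩)
  have sq₀ : IsPullback (r ≫ (f ⁻¹ᵁ U₀).ι) l f (p ≫ U₀.ι) :=
    sq.paste_horiz (isPullback_morphismRestrict f U₀).flip
  let e : P ≅ pullback f (p ≫ U₀.ι) := sq₀.isoPullback
  let k' : D ⟶ pullback f (p ≫ U₀.ι) := k ≫ e.hom
  refine ⟨V', p ≫ U₀.ι, inferInstance, k'.opensRange, ?_, k'.isoOpensRange.inv ≫ h ≫ O.ι, ?_, ?_⟩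
  · change IsClosed (Set.range k')
    have : Set.range k' = e.hom.homeomorph '' Set.range k := by
      ext t
      simp [k', Scheme.Hom.homeomorph_apply]
    rw [this]
    exact e.hom.homeomorph.isClosedMap _ hk
  · rw [Category.assoc, Category.assoc, ← hq, reassoc_of% hh]
    have hk' : k'.isoOpensRange.inv ≫ k ≫ e.hom = k'.opensRange.ι := k'.isoOpensRange_inv_comp
    have he : e.hom ≫ pullback.fst f (p ≫ U₀.ι) = r ≫ (f ⁻¹ᵁ U₀).ι := sq₀.isoPullback_hom_fst
    rw [← hk', Category.assoc, Category.assoc, he]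
  · refine ⟨k'.isoOpensRange.hom (x default), ?_⟩
    have e1 : k'.isoOpensRange.hom ≫ k'.isoOpensRange.inv ≫ h ≫ O.ι = h ≫ O.ι :=
      k'.isoOpensRange.hom_inv_id_assoc _
    calc (k'.isoOpensRange.inv ≫ h ≫ O.ι) (k'.isoOpensRange.hom (x default))
        = (x ≫ (k'.isoOpensRange.hom ≫ k'.isoOpensRange.inv ≫ h ≫ O.ι)) default := rfl
      _ = ((x ≫ h) ≫ O.ι) default := by rw [e1, Category.assoc]
      _ = u := by
        rw [hx, Scheme.Hom.comp_apply, algPoint_default]
        rfl

/-- An integral morphism satisfies (B). -/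
theorem propB_of_integral (f : X ⟶ Y) [IsIntegralHom f] : BigSite.PropB f := by
  intro V v _ ι U g hg hcov
  choose V' p hp hv hsplit using fun y : V =>
    haveI := hg
    exists_cover_lift (pullback.snd f v) U g hcov y
  refine ⟨V, V', p, hp, fun y => ⟨y, hv y⟩, fun y => ?_⟩
  refine hsplit y (pullback.map f (p y ≫ v) f v (𝟙 X) (p y) (𝟙 Y) (by simp) (by simp))
    (pullback.snd f (p y ≫ v)) ?_
  refine IsPullback.of_right ?_ (pullback.lift_snd _ _ _)
    (IsPullback.of_hasPullback f v)
  simp only [pullback.lift_fst, Category.comp_id]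
  exact IsPullback.of_hasPullback f (p y ≫ v)

/-- An integral closed embedding satisfies (C). -/
theorem propC_of_integral_injective (f : X ⟶ Y) [IsIntegralHom f] (hf : Function.Injective f) :
    BigSite.PropC f := by
  intro U g _
  let W : X.Etale := Scheme.Etale.mk g
  have hinj : Function.Injective
      (pullback.fst (EtCoh.top Y).hom f : ((EtCoh.bc f).obj (EtCoh.top Y)).left ⟶ _) := by
    have : (pullback.fst (EtCoh.top Y).hom f : ((EtCoh.bc f).obj (EtCoh.top Y)).left ⟶ _) =
        pullback.snd (EtCoh.top Y).hom f ≫ f := by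
      rw [← pullback.condition]
      exact (Category.comp_id _).symm
    rw [this]
    have : IsIso (EtCoh.top Y).hom := inferInstanceAs (IsIso (𝟙 Y))
    exact hf.comp (pullback.snd (EtCoh.top Y).hom f).homeomorph.injective
  choose V' a x h hha hhx using fun u : U =>
    exists_bc_lift_of_integral (f := f) (algPoint U u ≫ g) (EtCoh.top Y) hinj W
      ((EtCore.bcTopIsTerminal f).from W) (Over.homMk (algPoint U u) rfl)
  let A : U → Scheme.{u} := fun u => (V' u).left
  let v : ∐ A ⟶ Y := Sigma.desc fun u => (V' u).hom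
  have : ∀ u, Etale (V' u).hom := fun u => (V' u).prop
  have : Etale v := by
    rw [IsZariskiLocalAtSource.iff_of_openCover (P := @Etale) (sigmaOpenCover A)]
    intro k
    simp only [sigmaOpenCover_f, v, Sigma.ι_desc]
    infer_instance
  let 𝒰 := (sigmaOpenCover A).pullback₁ (pullback.snd f v)
  let m : ∀ u : U, 𝒰.X u ⟶ ((EtCoh.bc f).obj (V' u)).left := fun u =>
    pullback.lift (pullback.snd (pullback.snd f v) (Sigma.ι A u))
      (pullback.fst (pullback.snd f v) (Sigma.ι A u) ≫ pullback.fst f v) (by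
        rw [Category.assoc, pullback.condition, pullback.condition_assoc, Sigma.ι_desc])
  have hcompat : ∀ a b : U, pullback.fst (𝒰.f a) (𝒰.f b) ≫ m a ≫ (h a).left =
      pullback.snd (𝒰.f a) (𝒰.f b) ≫ m b ≫ (h b).left := by
    intro a b
    by_cases hab : a = b
    · subst hab
      have : Mono (𝒰.f a) := inferInstance
      rw [show pullback.fst (𝒰.f a) (𝒰.f a) = pullback.snd (𝒰.f a) (𝒰.f a) from
        (cancel_mono (𝒰.f a)).mp pullback.condition]
    · have : IsEmpty ↥(pullback (𝒰.f a) (𝒰.f b)) := by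
        refine isEmpty_of_commSq_sigmaι_of_ne
          (a := pullback.fst _ _ ≫ pullback.snd (pullback.snd f v) (Sigma.ι A a))
          (b := pullback.snd _ _ ≫ pullback.snd (pullback.snd f v) (Sigma.ι A b)) ⟨?_⟩ hab
        rw [Category.assoc, Category.assoc, ← pullback.condition, ← pullback.condition]
        exact (pullback.condition_assoc (f := 𝒰.f a) (g := 𝒰.f b) (pullback.snd f v))
      exact isInitialOfIsEmpty.hom_ext _ _
  let H : pullback f v ⟶ U := Scheme.Cover.glueMorphisms 𝒰 (fun u => m u ≫ (h u).left) hcompat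
  have hH : ∀ u, 𝒰.f u ≫ H = m u ≫ (h u).left := fun u => Scheme.Cover.ι_glueMorphisms 𝒰 _ hcompat u
  refine ⟨_, v, inferInstance, H, ?_, ⟨fun u => ?_⟩⟩
  · refine Scheme.Cover.hom_ext 𝒰 _ _ fun u => ?_
    rw [reassoc_of% hH u]
    have hw : (h u).left ≫ g = pullback.snd (V' u).hom f := Over.w (h u).hom
    rw [hw, pullback.lift_snd]
    rfl
  · let z : Spec (CommRingCat.of (AlgebraicClosure (U.residueField u))) ⟶
        ((EtCoh.bc f).obj (V' u)).left := (x u).left
    let z₁ := pullback.lift (f := f) (g := v) (z ≫ pullback.snd (V' u).hom f)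
      (z ≫ pullback.fst (V' u).hom f ≫ Sigma.ι A u) (by
        rw [Category.assoc, Category.assoc, Category.assoc, Sigma.ι_desc]
        exact congrArg (fun t => z ≫ t) pullback.condition.symm)
    let z₂ : _ ⟶ 𝒰.X u := pullback.lift (f := pullback.snd f v) (g := Sigma.ι A u) z₁
      (z ≫ pullback.fst (V' u).hom f) (by rw [pullback.lift_snd, Category.assoc])
    have hm : z₂ ≫ m u = z := by
      apply pullback.hom_ext
      · rw [Category.assoc, pullback.lift_fst, pullback.lift_snd]
      · rw [Category.assoc, pullback.lift_snd, pullback.lift_fst_assoc, pullback.lift_fst]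
    refine ⟨(z₂ ≫ 𝒰.f u) default, ?_⟩
    rw [← Scheme.Hom.comp_apply, Category.assoc, hH, reassoc_of% hm,
      show z ≫ (h u).left = algPoint U u from congrArg CommaMorphism.left (hhx u)]
    exact algPoint_default U u

/-- Base change along a closed morphism with property (C) is almost cocontinuous. -/
theorem isAlmostCocontinuous_of_propC (f : X ⟶ Y)
    (hC : ∀ (V : Scheme.{u}) (v : V ⟶ Y) [Etale v], BigSite.PropC (pullback.snd f v))
    (hcl : ∀ (V : Scheme.{u}) (v : V ⟶ Y) [Etale v], IsClosedMap (pullback.snd f v).base) :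
    BigSite.IsAlmostCocontinuous (EtCoh.bc f) Y.smallEtaleTopology X.smallEtaleTopology := by
  intro V R hR
  have : Etale V.hom := V.prop
  let R' : Sieve V :=
    { arrows := fun V' a => (⊥ : Sieve ((EtCoh.bc f).obj V')) ∈ X.smallEtaleTopology _ ∨
        R ((EtCoh.bc f).map a)
      downward_closed := by
        rintro V' V'' a (h | h) b
        · refine .inl ?_
          have := X.smallEtaleTopology.pullback_stable ((EtCoh.bc f).map b) h
          rwa [Sieve.pullback_bot] at this
        · exact .inr (by rw [Functor.map_comp]; exact R.downward_closed h _) }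
  refine ⟨R', ?_, fun V' a h => h⟩
  have eY : Y.smallEtaleTopology =
      (Y.smallPretopology (P := EtCoh.etaleMP) (Q := EtCoh.etaleMP)).toGrothendieck :=
    Scheme.smallGrothendieckTopology_eq_toGrothendieck_smallPretopology Y le_rfl
  have eX : X.smallEtaleTopology =
      (X.smallPretopology (P := EtCoh.etaleMP) (Q := EtCoh.etaleMP)).toGrothendieck :=
    Scheme.smallGrothendieckTopology_eq_toGrothendieck_smallPretopology X le_rfl
  rw [eX] at hR
  replace hR := (Scheme.mem_toGrothendieck_smallPretopology _ R).1 hR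
  rw [eY]
  refine (Scheme.mem_toGrothendieck_smallPretopology V R').2 fun y => ?_
  let φ : ((EtCoh.bc f).obj V).left ⟶ V.left := pullback.fst V.hom f
  let σ := pullbackSymmetry f V.hom
  have hσ : σ.hom ≫ φ = pullback.snd f V.hom := pullbackSymmetry_hom_comp_fst _ _
  by_cases hy : y ∈ Set.range φ
  · obtain ⟨t, rfl⟩ := hy
    obtain ⟨W, b, w, hb, -, hbw⟩ := hR t
    have : Etale W.hom := W.prop
    have : Etale b.left := by
      have hw : b.left ≫ ((EtCoh.bc f).obj V).hom = W.hom := Over.w b.hom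
      have : Etale ((EtCoh.bc f).obj V).hom := ((EtCoh.bc f).obj V).prop
      have : Etale (b.left ≫ ((EtCoh.bc f).obj V).hom) := hw.symm ▸ ‹Etale W.hom›
      exact Etale.of_comp b.left ((EtCoh.bc f).obj V).hom
    obtain ⟨A, p, _, h, hh, hsurj⟩ := hC V.left V.hom W.left (b.left ≫ σ.inv)
    let V₂ : Y.Etale := Scheme.Etale.mk (p ≫ V.hom)
    let a : V₂ ⟶ V := MorphismProperty.Over.homMk p rfl
    have sq : IsPullback ((EtCoh.bc f).map a).left
        (pullback.fst V₂.hom f : ((EtCoh.bc f).obj V₂).left ⟶ V₂.left) φ p :=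
      EtCoh.isPullback_bc_map f a
    have sq' : IsPullback (pullback.fst (pullback.snd f V.hom) p ≫ σ.hom)
        (pullback.snd (pullback.snd f V.hom) p) φ p := by
      refine (IsPullback.of_hasPullback (pullback.snd f V.hom) p).paste_horiz
        (h₁₂ := σ.hom) (v₁₃ := φ) (h₂₂ := 𝟙 _) (IsPullback.of_horiz_isIso ⟨by rw [hσ, Category.comp_id]⟩)
        |>.of_iso (Iso.refl _) (Iso.refl _) (Iso.refl _) (Iso.refl _) (by simp) (by simp) (by simp)
          (by simp)
    let e := sq.isoIsPullback _ _ sq'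
    have he : e.hom ≫ pullback.fst (pullback.snd f V.hom) p ≫ σ.hom = ((EtCoh.bc f).map a).left :=
      sq.isoIsPullback_hom_fst _ _ sq'
    have he2 : e.hom ≫ h ≫ b.left = ((EtCoh.bc f).map a).left := by
      have h1 : h ≫ b.left = pullback.fst (pullback.snd f V.hom) p ≫ σ.hom := by
        rw [← hh, Category.assoc, Category.assoc, Iso.inv_hom_id, Category.comp_id]
      rw [h1, he]
    let c : (EtCoh.bc f).obj V₂ ⟶ W := MorphismProperty.Over.homMk (e.hom ≫ h) (by
      have h1 : b.left ≫ ((EtCoh.bc f).obj V).hom = W.hom := Over.w b.hom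
      have h2 : ((EtCoh.bc f).map a).left ≫ ((EtCoh.bc f).obj V).hom =
          ((EtCoh.bc f).obj V₂).hom := Over.w ((EtCoh.bc f).map a).hom
      calc (e.hom ≫ h) ≫ W.hom = (e.hom ≫ h ≫ b.left) ≫ ((EtCoh.bc f).obj V).hom := by
            rw [← h1]; simp only [Category.assoc]
        _ = ((EtCoh.bc f).obj V₂).hom := by rw [he2, h2])
    have hc : (EtCoh.bc f).map a = c ≫ b :=
      (Scheme.Etale.forget X).map_injective (Over.OverMorphism.ext (he2.symm.trans
        (Category.assoc _ _ _).symm))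
    obtain ⟨z, hz⟩ := hsurj.surj w
    refine ⟨V₂, a, pullback.snd (pullback.snd f V.hom) p z,
      .inr (by rw [hc]; exact R.downward_closed hb c), inferInstanceAs (Etale p), ?_⟩
    change p (pullback.snd (pullback.snd f V.hom) p z) = φ t
    have h1 : h ≫ b.left = pullback.fst (pullback.snd f V.hom) p ≫ σ.hom := by
      rw [← hh, Category.assoc, Category.assoc, Iso.inv_hom_id, Category.comp_id]
    calc p (pullback.snd (pullback.snd f V.hom) p z)
        = (pullback.fst (pullback.snd f V.hom) p ≫ pullback.snd f V.hom) z :=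
          (congrArg (fun t : pullback (pullback.snd f V.hom) p ⟶ V.left => t z) pullback.condition).symm
      _ = ((h ≫ b.left) ≫ φ) z := by
          rw [h1, Category.assoc]; exact congrArg (fun t => (pullback.fst _ p ≫ t) z) hσ.symm
      _ = φ (b.left (h z)) := rfl
      _ = φ t := by rw [hz]; exact congrArg φ hbw
  · have hcl' : IsClosed (Set.range φ) := by
      have : Set.range φ = Set.range (pullback.snd f V.hom) := by
        rw [← hσ]
        ext z
        constructor
        · rintro ⟨s, rfl⟩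
          exact ⟨σ.inv s, congrArg (fun t => t s) (σ.inv_hom_id_assoc φ)⟩
        · rintro ⟨s, rfl⟩
          exact ⟨σ.hom s, rfl⟩
      rw [this]
      exact (hcl V.left V.hom).isClosed_range
    let N : V.left.Opens := ⟨(Set.range φ)ᶜ, hcl'.isOpen_compl⟩
    let V₂ : Y.Etale := Scheme.Etale.mk (N.ι ≫ V.hom)
    let a : V₂ ⟶ V := MorphismProperty.Over.homMk N.ι rfl
    refine ⟨V₂, a, ⟨y, hy⟩, .inl (bot_mem_of_isEmpty _ ⟨fun s => ?_⟩),
      inferInstanceAs (Etale N.ι), rfl⟩
    have sq : IsPullback ((EtCoh.bc f).map a).left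
        (pullback.fst V₂.hom f : ((EtCoh.bc f).obj V₂).left ⟶ V₂.left) φ N.ι :=
      EtCoh.isPullback_bc_map f a
    exact ((pullback.fst V₂.hom f : ((EtCoh.bc f).obj V₂).left ⟶ V₂.left) s).2
      ⟨_, congrArg (fun t => t s) sq.w⟩

end Groth.Agent.Et18
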