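import Groth.Agent.Et18.PropAFaithful

/-!
# Direct images of sheaves of sets along morphisms with property (C) reflect mono and epi
-/

universe w u

open CategoryTheory CategoryTheory.Limits AlgebraicGeometry Opposite

set_option backward.isDefEq.respectTransparency.types false
set_option backward.isDefEq.respectTransparency false

namespace Groth.Agent.Et18

variable {X Y : Scheme.{u}}

/-- With property (C), every object is covered by a single base change. -/
theorem exists_bc_cover_of_propC (f : X ⟶ Y) (hC : BigSite.PropC f) (U : X.Etale) :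
    ∃ (V : Y.Etale) (c : (EtCoh.bc f).obj V ⟶ U),
      Sieve.generate (Presieve.singleton c) ∈ X.smallEtaleTopology U := by
  have : Etale U.hom := U.prop
  obtain ⟨V', v, _, h, hh, hs⟩ := hC U.left U.hom
  let V : Y.Etale := Scheme.Etale.mk v
  let P := (EtCoh.bc f).obj V
  let l : P.left ⟶ U.left := (pullbackSymmetry f v).inv ≫ h
  have hl : l ≫ U.hom = P.hom := by
    rw [Category.assoc, hh]
    exact pullbackSymmetry_inv_comp_fst f v
  refine ⟨V, MorphismProperty.Over.homMk l hl, mem_smallEtaleTopology_of_points _ fun x => ?_⟩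
  obtain ⟨z, hz⟩ := hs.surj x
  refine ⟨P, MorphismProperty.Over.homMk l hl, (pullbackSymmetry f v).hom z,
    Sieve.le_generate _ _ _ ⟨⟩, ?_, ?_⟩
  · have : Etale (l ≫ U.hom) := hl ▸ P.prop
    exact Etale.of_comp l U.hom
  · exact (congrArg h (congrArg (fun k : pullback f v ⟶ pullback f v => k z)
      (pullbackSymmetry f v).hom_inv_id)).trans hz

/-- With property (C), `f_*` on sheaves of sets reflects monomorphisms and epimorphisms. -/
theorem pushSh_reflects_of_propC (f : X ⟶ Y) (hC : BigSite.PropC f) :
    (EtDesc.pushSh f).ReflectsMonomorphisms ∧ (EtDesc.pushSh f).ReflectsEpimorphisms := by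
  refine ⟨⟨fun {F G} φ hφ => ?_⟩, ⟨fun {F G} φ hφ => ?_⟩⟩
  · have h1 : ∀ V : Y.Etale, Function.Injective (φ.hom.app (op ((EtCoh.bc f).obj V))) := fun V => by
      have : Mono ((sheafToPresheaf _ _).map ((EtDesc.pushSh f).map φ)) := inferInstance
      have := (NatTrans.mono_iff_mono_app _).mp this (op V)
      exact (mono_iff_injective _).mp this
    have : ∀ U, Mono ((sheafToPresheaf _ _ |>.map φ).app U) := fun U => by
      refine (mono_iff_injective _).mpr fun s t hst => ?_
      obtain ⟨V, c, hc⟩ := exists_bc_cover_of_propC f hC U.unop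
      refine (((isSheaf_iff_isSheaf_of_type _ _).mp F.property) _ hc).isSeparatedFor.ext
        fun W g hg => ?_
      obtain ⟨P, a, b, ⟨⟩, rfl⟩ := hg
      rw [op_comp, Functor.map_comp_apply, Functor.map_comp_apply]
      refine congrArg (F.obj.map a.op) (h1 V ?_)
      exact (NatTrans.naturality_apply φ.hom c.op s).trans
        ((congrArg (G.obj.map c.op) hst).trans (NatTrans.naturality_apply φ.hom c.op t).symm)
    have : Mono ((sheafToPresheaf _ _).map φ) := (NatTrans.mono_iff_mono_app _).mpr this
    exact (sheafToPresheaf _ _).mono_of_mono_map this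
  · have h1 : Sheaf.IsLocallySurjective ((EtDesc.pushSh f).map φ) :=
      (Sheaf.isLocallySurjective_iff_epi _).mpr hφ
    refine (Sheaf.isLocallySurjective_iff_epi φ).mp ⟨fun {U} s => ?_⟩
    obtain ⟨V, c, hc⟩ := exists_bc_cover_of_propC f hC U
    refine X.smallEtaleTopology.transitive hc _ fun W g hg => ?_
    obtain ⟨P, a, b, ⟨⟩, rfl⟩ := hg
    rw [Sieve.pullback_comp]
    refine X.smallEtaleTopology.pullback_stable a ?_
    have h2 := (EtCoh.coverPreserving_bc f).cover_preserve
      (h1.imageSieve_mem (G.obj.map c.op s))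
    refine X.smallEtaleTopology.superset_covering ?_ h2
    rw [Presheaf.pullback_imageSieve]
    rintro Z k ⟨V₂, a₂, j, ⟨t, ht⟩, rfl⟩
    exact ⟨F.obj.map j.op t,
      (NatTrans.naturality_apply φ.hom j.op t).trans
        ((congrArg (G.obj.map j.op) ht).trans (by
          change G.obj.map j.op (G.obj.map ((EtCoh.bc f).map a₂).op _) = _
          rw [← Functor.map_comp_apply, ← op_comp]))⟩

end Groth.Agent.Et18
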