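import Groth.Agent.Et18.ProperOver
import Groth.Agent.H8Lim.ProperStage
import Groth.Agent.H8Lim.ClosedLimit
import Groth.Agent.H8Lim.Limit

/-!
# A decreasing family of closed subsets with proper intersection is eventually proper
-/

set_option autoImplicit false

universe u

open CategoryTheory CategoryTheory.Limits AlgebraicGeometry Opposite Scheme

set_option backward.isDefEq.respectTransparency.types false
set_option backward.isDefEq.respectTransparency false

namespace Groth.Agent.Et18

variable {U T : Scheme.{u}} (g : U ⟶ T) [IsSeparated g] [LocallyOfFiniteType g]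

/-- A closed immersion with image in a proper closed subset is proper over the base. -/
theorem isProper_comp_of_range_subset {Z : Set U} (hZ : ClSub.IsProperOver g Z) {L : Scheme.{u}}
    (i : L ⟶ U) [IsClosedImmersion i] (hi : Set.range i ⊆ Z) : IsProper (i ≫ g) := by
  obtain ⟨hc, hp⟩ := hZ
  let κ := (redSub Z hc).subschemeι
  haveI : IsProper (κ ≫ g) := hp
  haveI : Surjective (pullback.fst i κ) := ⟨fun x => by
    obtain ⟨y, hy⟩ : i x ∈ Set.range κ := by rw [range_redSub]; exact hi ⟨x, rfl⟩
    obtain ⟨p, hp, -⟩ := Scheme.Pullback.exists_preimage_pullback (f := i) (g := κ) x y hy.symm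
    exact ⟨p, hp⟩⟩
  haveI : UniversallyClosed (pullback.fst i κ ≫ i ≫ g) := by
    rw [pullback.condition_assoc]
    infer_instance
  haveI : UniversallyClosed (i ≫ g) := UniversallyClosed.of_comp_surjective (pullback.fst i κ) _
  exact {}

variable [QuasiCompact g] [CompactSpace T]

/-- A filtered decreasing family of closed subsets whose intersection lies in a proper closed
subset has a member which is proper over the base. -/
theorem exists_isProperOver_stage {J : Type u} [SmallCategory J] [IsCofiltered J]
    (S : J → Set U) (hS : ∀ j, IsClosed (S j)) (hmono : ∀ ⦃j k : J⦄, (j ⟶ k) → S j ⊆ S k) {Z : Set U}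
    (hZ : ClSub.IsProperOver g Z) (hinter : ∀ x, (∀ j, x ∈ S j) → x ∈ Z) :
    ∃ j, ClSub.IsProperOver g (S j) := by
  let I : J → U.IdealSheafData := fun j => redSub (S j) (hS j)
  have hle : ∀ {j k : J} (a : j ⟶ k), I k ≤ I j := fun a => redSub_anti (hS _) (hS _) (hmono a)
  let W : J ⥤ Scheme.{u} :=
    { obj := fun j => (I j).subscheme
      map := fun a => IdealSheafData.inclusion (hle a)
      map_id := fun j => by rw [← cancel_mono (I j).subschemeι]; simp
      map_comp := fun {j k l} a b => by rw [← cancel_mono (I l).subschemeι]; simp }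
  haveI hW : ∀ {j k : J} (a : j ⟶ k), IsClosedImmersion (W.map a) := fun {j k} a => by
    haveI : IsClosedImmersion (IdealSheafData.inclusion (hle a) ≫ (I k).subschemeι) := by
      rw [IdealSheafData.inclusion_subschemeι]; infer_instance
    exact IsClosedImmersion.of_comp (IdealSheafData.inclusion (hle a)) (I k).subschemeι
  haveI : ∀ {j k : J} (a : j ⟶ k), IsAffineHom (W.map a) := fun a => inferInstance
  obtain ⟨c, hc, -⟩ := H8Lim.exists_limit_cone W
  haveI hπ : ∀ j, IsClosedImmersion (c.π.app j) := H8Lim.isClosedImmersion_π_app hc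
  obtain ⟨j₀⟩ := IsCofiltered.nonempty (C := J)
  let t : W ⟶ (Functor.const J).obj T :=
    { app := fun j => (I j).subschemeι ≫ g
      naturality := fun j k a => by
        exact ((Category.assoc _ _ _).symm.trans
          (congrArg (· ≫ g) (IdealSheafData.inclusion_subschemeι (hle a)))).trans (Category.comp_id _).symm }
  let s : c.pt ⟶ T := c.π.app j₀ ≫ t.app j₀
  have hι : ∀ j, c.π.app j ≫ (I j).subschemeι = c.π.app j₀ ≫ (I j₀).subschemeι := fun j => by
    obtain ⟨m, a, b, -⟩ := IsCofilteredOrEmpty.cone_objs j j₀
    have ha : c.π.app j = c.π.app m ≫ W.map a := (c.w a).symm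
    have hb : c.π.app j₀ = c.π.app m ≫ W.map b := (c.w b).symm
    rw [ha, hb, Category.assoc, Category.assoc]
    exact congrArg (c.π.app m ≫ ·) ((IdealSheafData.inclusion_subschemeι (hle a)).trans
      (IdealSheafData.inclusion_subschemeι (hle b)).symm)
  have hs : ∀ j, c.π.app j ≫ t.app j = s := fun j => by
    exact (Category.assoc _ _ _).symm.trans ((congrArg (· ≫ g) (hι j)).trans (Category.assoc _ _ _))
  haveI : IsProper s := by
    haveI : IsClosedImmersion (c.π.app j₀ ≫ (I j₀).subschemeι) := inferInstance
    have : IsProper ((c.π.app j₀ ≫ (I j₀).subschemeι) ≫ g) := by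
      refine isProper_comp_of_range_subset g hZ _ ?_
      rintro _ ⟨y, rfl⟩
      refine hinter _ fun j => ?_
      have hmem : (I j).subschemeι (c.π.app j y) ∈ S j := by
        have h : (I j).subschemeι (c.π.app j y) ∈ Set.range (I j).subschemeι := ⟨_, rfl⟩
        exact (range_redSub (S j) (hS j)) ▸ h
      exact (congrArg (fun k : c.pt ⟶ U => k y) (hι j)) ▸ hmem
    rw [Category.assoc] at this
    exact this
  haveI : IsSeparated ((I j₀).subschemeι ≫ g) := inferInstance
  obtain ⟨j, -, hj⟩ := H8Lim.exists_isProper_stage hc t s hs j₀ ((I j₀).subschemeι ≫ g) rfl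
  haveI : IsProper ((I j).subschemeι ≫ g) := hj
  exact ⟨j, hS j, hj⟩

end Groth.Agent.Et18
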