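import Mathlib
import Groth.Agent.H8ProCons.ConsTopology

/-! A quasi-finite finitely presented algebra splits into disjoint sections, up to nilpotents,
after a surjective affine base change. -/

set_option autoImplicit false
set_option linter.style.haveILetI false

universe u

open TensorProduct

namespace Groth.Agent.Et18.QFSections

variable {A B : Type u} [CommRing A] [CommRing B] [Algebra A B]

/-- Pairwise disjoint sections over `C` which exhaust all field-valued points. -/
def Good {C : Type u} [CommRing C] [Algebra A C] {n : ℕ} (s : Fin n → B →ₐ[A] C) : Prop :=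
  (∀ i j, i ≠ j → ∃ b : B, IsUnit (s i b - s j b)) ∧
    ∀ (L : Type u) [Field L] (h : B →+* L) (g : C →+* L),
      h.comp (algebraMap A B) = g.comp (algebraMap A C) → ∃ i, h = g.comp (s i).toRingHom

lemma finite_points [Algebra.QuasiFinite A B] (K : Type u) [Field K] [Algebra A K] :
    Finite (B →ₐ[A] K) := by
  haveI : Module.Finite K (K ⊗[A] B) := Module.Finite.of_quasiFinite
  let F : (B →ₐ[A] K) → ((K ⊗[A] B) →ₐ[K] K) := fun φ =>
    Algebra.TensorProduct.lift (AlgHom.id K K) φ (fun _ _ => Commute.all _ _)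
  refine Finite.of_injective F fun φ φ' h => AlgHom.ext fun b => ?_
  simpa [F] using AlgHom.congr_fun h (1 ⊗ₜ[A] b)

lemma mem_range_of_quasiFinite [Algebra.QuasiFinite A B] (K M : Type u) [Field K] [IsAlgClosed K]
    [Field M] [Algebra A K] (ι : K →+* M) (β : B →+* M)
    (hβ : β.comp (algebraMap A B) = ι.comp (algebraMap A K)) :
    ∃ φ : B →ₐ[A] K, ∀ b, ι (φ b) = β b := by
  haveI : Module.Finite K (K ⊗[A] B) := Module.Finite.of_quasiFinite
  algebraize [ι, ι.comp (algebraMap A K)]
  let βA : B →ₐ[A] M := { β with commutes' := fun a => RingHom.congr_fun hβ a }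
  let t : K ⊗[A] B →ₐ[K] M := Algebra.TensorProduct.lift (Algebra.ofId K M) βA
    (fun _ _ => Commute.all _ _)
  have hb : ∀ b, β b ∈ (algebraMap K M).range := fun b => by
    have hint : IsIntegral K (β b) := by
      have := (Algebra.IsIntegral.isIntegral (R := K) ((1 : K) ⊗ₜ[A] b)).map t
      simpa [t, βA] using this
    have hdeg := IsAlgClosed.degree_eq_one_of_irreducible K (minpoly.irreducible hint)
    exact minpoly.mem_range_of_degree_eq_one K (β b) hdeg
  choose φ hφ using hb
  have inj : Function.Injective ι := ι.injective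
  refine ⟨{ toFun := φ
            map_one' := inj ((hφ 1).trans (by simp))
            map_mul' := fun x y => inj ((hφ _).trans (by
              rw [map_mul, map_mul, ← hφ, ← hφ]; rfl))
            map_zero' := inj ((hφ 0).trans (by simp))
            map_add' := fun x y => inj ((hφ _).trans (by
              rw [map_add, map_add, ← hφ, ← hφ]; rfl))
            commutes' := fun a => inj ((hφ _).trans (RingHom.congr_fun hβ a)) }, fun b => hφ b⟩

/-- A ring of finite presentation carrying separated lifts of finitely many points. -/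
theorem exists_sections {n m : ℕ} (π : MvPolynomial (Fin m) A →ₐ[A] B) (hπ : Function.Surjective π)
    (hker : (RingHom.ker π).FG) (K : Type u) [Field K] [Algebra A K]
    (φ : Fin n → B →ₐ[A] K) (hφ : Function.Injective φ) :
    ∃ (C : Type u) (_ : CommRing C) (_ : Algebra A C) (_ : Algebra.FinitePresentation A C)
      (s : Fin n → B →ₐ[A] C) (ψ : C →ₐ[A] K), (∀ i, ψ.comp (s i) = φ i) ∧
      ∀ i j, i ≠ j → ∃ b, IsUnit (s i b - s j b) := by
  classical
  obtain ⟨rels, hrels⟩ := hker
  replace hrels : Ideal.span (rels : Set _) = RingHom.ker π := hrels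
  let x : Fin m → B := fun l => π (MvPolynomial.X l)
  let I₀ : Ideal (MvPolynomial (Fin n × Fin m) A) :=
    Ideal.span ((fun rs : Fin n × MvPolynomial (Fin m) A =>
      MvPolynomial.rename (fun l => (rs.1, l)) rs.2) '' ((Set.univ : Set (Fin n)) ×ˢ (rels : Set _)))
  let C0 := MvPolynomial (Fin n × Fin m) A ⧸ I₀
  haveI hC0 : Algebra.FinitePresentation A C0 :=
    Algebra.FinitePresentation.quotient (Submodule.fg_span
      ((Set.finite_univ.prod rels.finite_toSet).image _))
  let eB := Ideal.quotientKerAlgEquivOfSurjective hπ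
  let r0 : Fin n → MvPolynomial (Fin m) A →ₐ[A] C0 := fun i =>
    (Ideal.Quotient.mkₐ A I₀).comp (MvPolynomial.rename (fun l => (i, l)))
  have hr0 : ∀ i, ∀ a ∈ RingHom.ker π, r0 i a = 0 := fun i => by
    change RingHom.ker π ≤ RingHom.ker (r0 i)
    rw [← hrels, Ideal.span_le]
    intro a ha
    exact (Ideal.Quotient.eq_zero_iff_mem).2 (Ideal.subset_span ⟨(i, a), ⟨trivial, ha⟩, rfl⟩)
  let s0 : Fin n → B →ₐ[A] C0 := fun i =>
    (Ideal.Quotient.liftₐ _ (r0 i) (hr0 i)).comp eB.symm.toAlgHom
  let f0 : MvPolynomial (Fin n × Fin m) A →ₐ[A] K := MvPolynomial.aeval (fun il => φ il.1 (x il.2))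
  have hf0 : ∀ i, f0.comp (MvPolynomial.rename (fun l => (i, l))) = (φ i).comp π := fun i => by
    refine MvPolynomial.algHom_ext fun l => ?_
    simp [f0, x]
  have hI₀ : ∀ a ∈ I₀, f0 a = 0 := fun a ha => by
    change a ∈ RingHom.ker f0
    refine Ideal.span_le.2 ?_ ha
    rintro _ ⟨⟨i, a⟩, ⟨-, ha⟩, rfl⟩
    have h1 : π a = 0 := by
      change a ∈ RingHom.ker π
      rw [← hrels]; exact Ideal.subset_span ha
    change f0 (MvPolynomial.rename _ a) = 0
    rw [show f0 (MvPolynomial.rename (fun l => (i, l)) a) = φ i (π a) from AlgHom.congr_fun (hf0 i) a,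
      h1, map_zero]
  let ψ0 : C0 →ₐ[A] K := Ideal.Quotient.liftₐ I₀ f0 hI₀
  have hs0 : ∀ i b, ψ0 (s0 i b) = φ i b := fun i b => by
    obtain ⟨a, rfl⟩ := hπ b
    have h1 : eB.symm (π a) = Ideal.Quotient.mk _ a :=
      eB.injective ((eB.apply_symm_apply _).trans
        (Ideal.quotientKerAlgEquivOfSurjective_apply hπ a).symm)
    change ψ0 (Ideal.Quotient.liftₐ _ (r0 i) (hr0 i) (eB.symm (π a))) = _
    rw [h1]
    exact AlgHom.congr_fun (hf0 i) a
  have hsep : ∀ i j, i ≠ j → ∃ b, φ i b ≠ φ j b := by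
    intro i j hij
    by_contra hne
    push Not at hne
    exact hij (hφ (AlgHom.ext hne))
  choose l hl using hsep
  let d : C0 := ∏ ij : Fin n × Fin n,
    if h : ij.1 ≠ ij.2 then s0 ij.1 (l _ _ h) - s0 ij.2 (l _ _ h) else 1
  have hd : ψ0 d ≠ 0 := by
    rw [map_prod, Finset.prod_ne_zero_iff]
    intro ij _
    split_ifs with h
    · rw [map_sub, hs0, hs0, sub_ne_zero]; exact hl _ _ h
    · rw [map_one]; exact one_ne_zero
  let C1 := Localization.Away d
  haveI : Algebra.FinitePresentation C0 C1 := IsLocalization.Away.finitePresentation d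
  have hC1 : Algebra.FinitePresentation A C1 := Algebra.FinitePresentation.trans A C0 C1
  let ψr : C1 →+* K := IsLocalization.Away.lift d (g := ψ0.toRingHom) (isUnit_iff_ne_zero.2 hd)
  have hψr : ∀ c, ψr (algebraMap C0 C1 c) = ψ0 c := IsLocalization.Away.lift_eq d _
  have hψA : ∀ a, ψr (algebraMap A C1 a) = algebraMap A K a := fun a => by
    rw [IsScalarTower.algebraMap_apply A C0 C1, hψr, AlgHom.commutes]
  let ψ : C1 →ₐ[A] K := { ψr with commutes' := hψA }
  refine ⟨C1, inferInstance, inferInstance, hC1,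
    fun i => (IsScalarTower.toAlgHom A C0 C1).comp (s0 i), ψ,
    fun i => AlgHom.ext fun b => (hψr _).trans (hs0 i b), fun i j hij => ⟨l i j hij, ?_⟩⟩
  have hu : IsUnit (algebraMap C0 C1 d) := IsLocalization.Away.algebraMap_isUnit d
  refine isUnit_of_dvd_unit ?_ hu
  change algebraMap C0 C1 (s0 i _) - algebraMap C0 C1 (s0 j _) ∣ _
  rw [← map_sub]
  refine map_dvd _ ((dvd_of_eq ?_).trans (Finset.dvd_prod_of_mem _ (Finset.mem_univ (i, j))))
  simp [hij]

lemma one_tmul_algebraMap {C : Type u} [CommRing C] [Algebra A C] (a : A) :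
    (1 : C) ⊗ₜ[A] (algebraMap A B a) = algebraMap A C a ⊗ₜ[A] (1 : B) := by
  rw [Algebra.algebraMap_eq_smul_one, Algebra.algebraMap_eq_smul_one, TensorProduct.tmul_smul,
    TensorProduct.smul_tmul']

/-- Amalgamate a point `ψ` of `C` and a point `t` of a `C`-algebra over the same prime. -/
lemma exists_amalgam {C T K L : Type u} [CommRing C] [CommRing T] [Field K] [Field L]
    (j : C →+* T) (ψ : C →+* K) (t : T →+* L)
    (h : ∀ c, ψ c = 0 ↔ t (j c) = 0) :
    ∃ (M : Type u) (_ : Field M) (ι : K →+* M) (ι' : L →+* M), ι.comp ψ = ι'.comp (t.comp j) := by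
  let P : Ideal C := RingHom.ker ψ
  haveI : P.IsPrime := RingHom.ker_isPrime ψ
  let F := P.ResidueField
  let fK : F →+* K := Ideal.ResidueField.lift P ψ le_rfl
    (fun a ha => isUnit_iff_ne_zero.2 ha)
  let fL : F →+* L := Ideal.ResidueField.lift P (t.comp j) (fun a ha => (h a).1 ha)
    (fun a ha => isUnit_iff_ne_zero.2 fun h0 => ha ((h a).2 h0))
  letI := fK.toAlgebra
  letI := fL.toAlgebra
  haveI : Nontrivial (K ⊗[F] L) :=
    Algebra.TensorProduct.nontrivial_of_algebraMap_injective_of_flat_left F K L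
      (algebraMap F L).injective
  obtain ⟨M0, hM0⟩ := Ideal.exists_maximal (K ⊗[F] L)
  refine ⟨(K ⊗[F] L) ⧸ M0, Ideal.Quotient.field M0,
    (Ideal.Quotient.mk M0).comp Algebra.TensorProduct.includeLeftRingHom,
    (Ideal.Quotient.mk M0).comp
      (Algebra.TensorProduct.includeRight : L →ₐ[F] K ⊗[F] L).toRingHom, RingHom.ext fun c => ?_⟩
  have h1 : ψ c = algebraMap F K (algebraMap C F c) :=
    (Ideal.ResidueField.lift_algebraMap _ _ _ _ c).symm
  have h2 : t (j c) = algebraMap F L (algebraMap C F c) :=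
    (Ideal.ResidueField.lift_algebraMap P (t.comp j) (fun a ha => (h a).1 ha)
      (fun a ha => isUnit_iff_ne_zero.2 fun h0 => ha ((h a).2 h0)) c).symm
  rw [RingHom.comp_apply, RingHom.comp_apply, RingHom.comp_apply, RingHom.comp_apply, h1]
  refine congrArg (Ideal.Quotient.mk M0) ?_
  rw [RingHom.comp_apply, h2]
  exact ((Algebra.TensorProduct.includeLeft (R := F) (S := F) (A := K) (B := L)).commutes _).trans
    ((Algebra.TensorProduct.includeRight (R := F) (A := K) (B := L)).commutes _).symm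

/-- The constructible locus over which the sections exhaust all points. -/
theorem exists_locus [Algebra.QuasiFinite A B] [Algebra.FinitePresentation A B] {n m : ℕ}
    (π : MvPolynomial (Fin m) A →ₐ[A] B) (hπ : Function.Surjective π)
    {C : Type u} [CommRing C] [Algebra A C] (s : Fin n → B →ₐ[A] C)
    (K : Type u) [Field K] [IsAlgClosed K] [Algebra A K] (ψ : C →ₐ[A] K)
    (hψ : ∀ φ : B →ₐ[A] K, ∃ i, φ = ψ.comp (s i)) :
    ∃ G : Set (PrimeSpectrum C), Topology.IsConstructible G ∧
      (⟨RingHom.ker ψ.toRingHom, RingHom.ker_isPrime _⟩ : PrimeSpectrum C) ∈ G ∧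
      ∀ (L : Type u) [Field L] (h : B →+* L) (g : C →+* L),
        (⟨RingHom.ker g, RingHom.ker_isPrime _⟩ : PrimeSpectrum C) ∈ G →
        h.comp (algebraMap A B) = g.comp (algebraMap A C) → ∃ i, h = g.comp (s i).toRingHom := by
  classical
  let x : Fin m → B := fun l => π (MvPolynomial.X l)
  let e : Fin n → Fin m → C ⊗[A] B := fun i k => 1 ⊗ₜ x k - (s i (x k)) ⊗ₜ 1
  let U : Set (PrimeSpectrum (C ⊗[A] B)) :=
    ⋂ i, ⋃ k, (PrimeSpectrum.basicOpen (e i k) : Set _)
  have hU : Topology.IsConstructible U := by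
    refine Topology.IsConstructible.iInter fun i => Topology.IsConstructible.iUnion fun k => ?_
    exact PrimeSpectrum.isConstructible_basicOpen
  let Bad := PrimeSpectrum.comap (algebraMap C (C ⊗[A] B)) '' U
  have hBad : Topology.IsConstructible Bad :=
    PrimeSpectrum.isConstructible_comap_image
      (RingHom.finitePresentation_algebraMap.2 inferInstance) hU
  refine ⟨Badᶜ, hBad.compl, ?_, fun L _ h g hg hhg => ?_⟩
  · rintro ⟨Q, hQU, hQ⟩
    obtain ⟨M, _, ι, ι', hιι⟩ := exists_amalgam (algebraMap C (C ⊗[A] B)) ψ.toRingHom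
      (algebraMap (C ⊗[A] B) Q.asIdeal.ResidueField) (fun c => by
        rw [Ideal.algebraMap_residueField_eq_zero]
        exact (iff_of_eq (congrArg (fun P : PrimeSpectrum C => c ∈ P.asIdeal) hQ)).symm)
    have hcompat : ∀ c : C, ι (ψ c) =
        ι' (algebraMap (C ⊗[A] B) Q.asIdeal.ResidueField (c ⊗ₜ 1)) := fun c =>
      RingHom.congr_fun hιι c
    let β : B →+* M := ι'.comp ((algebraMap (C ⊗[A] B) Q.asIdeal.ResidueField).comp
      (Algebra.TensorProduct.includeRight : B →ₐ[A] C ⊗[A] B).toRingHom)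
    have hβ : β.comp (algebraMap A B) = ι.comp (algebraMap A K) := RingHom.ext fun a => by
      change ι' (algebraMap (C ⊗[A] B) Q.asIdeal.ResidueField ((1 : C) ⊗ₜ[A] (algebraMap A B a))) =
        ι (algebraMap A K a)
      rw [one_tmul_algebraMap, ← hcompat, AlgHom.commutes]
    obtain ⟨φ', hφ'⟩ := mem_range_of_quasiFinite K M ι β hβ
    obtain ⟨i, rfl⟩ := hψ φ'
    obtain ⟨k, hk⟩ := Set.mem_iUnion.1 (Set.mem_iInter.1 hQU i)
    refine hk ?_
    rw [← Ideal.algebraMap_residueField_eq_zero]
    refine ι'.injective ?_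
    rw [map_zero, map_sub, map_sub, ← hcompat, sub_eq_zero]
    exact (hφ' (x k)).symm
  · by_contra hne
    push Not at hne
    refine hg ?_
    letI := (g.comp (algebraMap A C)).toAlgebra
    let gA : C →ₐ[A] L := { g with commutes' := fun a => rfl }
    let hB : B →ₐ[A] L := { h with commutes' := fun a => RingHom.congr_fun hhg a }
    let T : C ⊗[A] B →ₐ[A] L := Algebra.TensorProduct.lift gA hB (fun _ _ => Commute.all _ _)
    refine ⟨⟨RingHom.ker T.toRingHom, RingHom.ker_isPrime _⟩, ?_, ?_⟩
    · refine Set.mem_iInter.2 fun i => Set.mem_iUnion.2 ?_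
      have : ∃ k, h (x k) ≠ g (s i (x k)) := by
        by_contra h0
        push Not at h0
        refine hne i (RingHom.ext fun b => ?_)
        obtain ⟨a, rfl⟩ := hπ b
        refine RingHom.congr_fun (MvPolynomial.ringHom_ext (f := h.comp π.toRingHom)
          (g := (g.comp (s i).toRingHom).comp π.toRingHom) (fun r => ?_) h0) a
        have hC : π (MvPolynomial.C r) = algebraMap A B r := π.commutes r
        change h (π _) = g (s i (π _))
        rw [hC, AlgHom.commutes]
        exact RingHom.congr_fun hhg r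
      obtain ⟨k, hk⟩ := this
      refine ⟨k, fun h0 => hk ?_⟩
      have h1 : T (e i k) = 0 := h0
      simpa [e, T, sub_eq_zero, gA, hB] using h1
    · refine PrimeSpectrum.ext (Ideal.ext fun c => ?_)
      change T (c ⊗ₜ 1) = 0 ↔ g c = 0
      simp [T, gA, hB]

/-- A locally closed piece of a constructible set through a given point. -/
theorem exists_piece {C : Type u} [CommRing C] [Algebra A C] [Algebra.FinitePresentation A C]
    {G : Set (PrimeSpectrum C)} (hG : Topology.IsConstructible G)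
    (K : Type u) [Field K] [Algebra A K] (ψ : C →ₐ[A] K)
    (hψ : (⟨RingHom.ker ψ.toRingHom, RingHom.ker_isPrime _⟩ : PrimeSpectrum C) ∈ G) :
    ∃ (C' : Type u) (_ : CommRing C') (_ : Algebra A C') (_ : Algebra.FinitePresentation A C')
      (ρ : C →ₐ[A] C') (_ : C' →ₐ[A] K),
      ∀ (L : Type u) [Field L] (g : C' →+* L),
        (⟨RingHom.ker (g.comp ρ.toRingHom), RingHom.ker_isPrime _⟩ : PrimeSpectrum C) ∈ G := by
  obtain ⟨data, rfl⟩ := PrimeSpectrum.exists_constructibleSetData_iff.2 hG
  obtain ⟨P, hP, hqP⟩ := Set.mem_iUnion₂.1 hψ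
  let I1 : Ideal C := Ideal.span (Set.range P.g)
  haveI : Algebra.FinitePresentation A (C ⧸ I1) :=
    Algebra.FinitePresentation.quotient (Submodule.fg_span (Set.finite_range _))
  let fb : C ⧸ I1 := Ideal.Quotient.mk I1 P.f
  haveI : Algebra.FinitePresentation (C ⧸ I1) (Localization.Away fb) :=
    IsLocalization.Away.finitePresentation fb
  have h1 : ∀ a ∈ I1, ψ a = 0 := fun a ha => by
    change a ∈ RingHom.ker ψ
    refine Ideal.span_le.2 ?_ ha
    exact (PrimeSpectrum.mem_zeroLocus _ _).1 hqP.1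
  let ψ2 : C ⧸ I1 →ₐ[A] K := Ideal.Quotient.liftₐ I1 ψ h1
  have h2 : ψ2 fb ≠ 0 := fun h0 => hqP.2 (by
    rw [PrimeSpectrum.mem_zeroLocus, Set.singleton_subset_iff]
    exact h0)
  let ψr : Localization.Away fb →+* K :=
    IsLocalization.Away.lift fb (g := ψ2.toRingHom) (isUnit_iff_ne_zero.2 h2)
  have hψA : ∀ a, ψr (algebraMap A (Localization.Away fb) a) = algebraMap A K a := fun a => by
    rw [IsScalarTower.algebraMap_apply A (C ⧸ I1) (Localization.Away fb),
      IsLocalization.Away.lift_eq]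
    exact ψ2.commutes a
  let ψ' : Localization.Away fb →ₐ[A] K := { ψr with commutes' := hψA }
  refine ⟨Localization.Away fb, inferInstance, inferInstance,
    Algebra.FinitePresentation.trans A (C ⧸ I1) _,
    (IsScalarTower.toAlgHom A (C ⧸ I1) (Localization.Away fb)).comp (Ideal.Quotient.mkₐ A I1),
    ψ', fun L _ g => Set.mem_iUnion₂.2 ⟨P, hP, ?_, ?_⟩⟩
  · rw [PrimeSpectrum.mem_zeroLocus]
    rintro _ ⟨k, rfl⟩
    have : Ideal.Quotient.mk I1 (P.g k) = 0 :=
      Ideal.Quotient.eq_zero_iff_mem.2 (Ideal.subset_span ⟨k, rfl⟩)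
    change g (algebraMap (C ⧸ I1) _ (Ideal.Quotient.mk I1 (P.g k))) = 0
    rw [this, map_zero, map_zero]
  · rw [PrimeSpectrum.mem_zeroLocus, Set.singleton_subset_iff]
    exact ((IsLocalization.Away.algebraMap_isUnit (S := Localization.Away fb) fb).map g).ne_zero

theorem exists_good [Algebra.QuasiFinite A B] [Algebra.FinitePresentation A B]
    (p : PrimeSpectrum A) :
    ∃ (C : Type u) (_ : CommRing C) (_ : Algebra A C) (_ : Algebra.FinitePresentation A C)
      (n : ℕ) (s : Fin n → B →ₐ[A] C), Good s ∧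
      p ∈ Set.range (PrimeSpectrum.comap (algebraMap A C)) := by
  let K := AlgebraicClosure p.asIdeal.ResidueField
  haveI := finite_points (A := A) (B := B) K
  obtain ⟨n, ⟨eφ⟩⟩ := Finite.exists_equiv_fin (B →ₐ[A] K)
  obtain ⟨m, π, hπ, hker⟩ := Algebra.FinitePresentation.out (R := A) (A := B)
  obtain ⟨C1, _, _, _, s, ψ, hs, hunit⟩ := exists_sections π hπ hker K eφ.symm eφ.symm.injective
  obtain ⟨G, hG, hGψ, hGs⟩ := exists_locus π hπ s K ψ
    (fun φ => ⟨eφ φ, by rw [hs, Equiv.symm_apply_apply]⟩)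
  obtain ⟨C, _, _, hC, ρ, ψC, hρ⟩ := exists_piece hG K ψ hGψ
  refine ⟨C, inferInstance, inferInstance, hC, n, fun i => ρ.comp (s i),
    ⟨fun i j hij => ?_, fun L _ h g hhg => ?_⟩, ?_⟩
  · obtain ⟨b, hb⟩ := hunit i j hij
    refine ⟨b, ?_⟩
    change IsUnit (ρ _ - ρ _)
    rw [← map_sub]
    exact hb.map ρ
  · obtain ⟨i, hi⟩ := hGs L h (g.comp ρ.toRingHom) (hρ L g)
      (hhg.trans (RingHom.ext fun a => congrArg g (ρ.commutes a).symm))
    exact ⟨i, hi⟩
  · refine ⟨⟨RingHom.ker ψC.toRingHom, RingHom.ker_isPrime _⟩,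
      PrimeSpectrum.ext (Ideal.ext fun a => ?_)⟩
    change ψC (algebraMap A C a) = 0 ↔ a ∈ p.asIdeal
    rw [AlgHom.commutes, IsScalarTower.algebraMap_apply A p.asIdeal.ResidueField K,
      map_eq_zero_iff _ (algebraMap p.asIdeal.ResidueField K).injective,
      Ideal.algebraMap_residueField_eq_zero]

/-- Finitely many good rings cover the spectrum. -/
theorem exists_cover [Algebra.QuasiFinite A B] [Algebra.FinitePresentation A B] :
    ∃ (N : ℕ) (C : Fin N → Type u) (_ : ∀ k, CommRing (C k)) (_ : ∀ k, Algebra A (C k))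
      (n : Fin N → ℕ) (s : ∀ k, Fin (n k) → B →ₐ[A] C k),
      (∀ k, Good (s k)) ∧
      ∀ p : PrimeSpectrum A, ∃ k, p ∈ Set.range (PrimeSpectrum.comap (algebraMap A (C k))) := by
  choose C hC hCA hfp n s hgood hp using exists_good (A := A) (B := B)
  let W : PrimeSpectrum A → Set (WithConstructibleTopology (PrimeSpectrum A)) := fun p =>
    WithTopology.ofTopology ⁻¹'
      Set.range (PrimeSpectrum.comap (algebraMap A (C p)))
  have hW : ∀ p, IsOpen (W p) := fun p => by
    rw [WithConstructibleTopology.isOpen_iff]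
    change @IsOpen _ (constructibleTopology _) (Set.range (PrimeSpectrum.comap (algebraMap A (C p))))
    exact Groth.Agent.H8ProCons.isOpen_cons_of_isConstructible (PrimeSpectrum.isConstructible_range_comap
      (RingHom.finitePresentation_algebraMap.2 (hfp p)))
  have hcov : Set.univ ⊆ ⋃ p, W p := fun z _ => Set.mem_iUnion.2 ⟨_, hp _⟩
  obtain ⟨t, ht⟩ := isCompact_univ.elim_finite_subcover W hW hcov
  obtain ⟨N, ⟨et⟩⟩ := Finite.exists_equiv_fin t
  refine ⟨N, fun k => C (et.symm k).1, fun k => hC _, fun k => hCA _, fun k => n _,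
    fun k => s _, fun k => hgood _, fun p => ?_⟩
  obtain ⟨q, hq, hz⟩ := Set.mem_iUnion₂.1 (ht (Set.mem_univ (WithTopology.toTopology _ p)))
  have key : ∀ z : t, z = ⟨q, hq⟩ →
      p ∈ Set.range (PrimeSpectrum.comap (algebraMap A (C z.1))) := fun z hze => by
    subst hze
    exact hz
  exact ⟨et ⟨q, hq⟩, key _ (et.symm_apply_apply _)⟩

section Assemble

variable {N : ℕ} {C : Fin N → Type u} [∀ k, CommRing (C k)] [∀ k, Algebra A (C k)]
  {n : Fin N → ℕ} (s : ∀ k, Fin (n k) → B →ₐ[A] C k)

/-- Evaluation on the base change. -/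
noncomputable def secs : (∀ k, C k) ⊗[A] B →ₐ[A] ∀ σ : (Σ k, Fin (n k)), C σ.1 :=
  Algebra.TensorProduct.lift (AlgHom.pi fun σ => Pi.evalAlgHom A C σ.1)
    (AlgHom.pi fun σ => s σ.1 σ.2) (fun _ _ => Commute.all _ _)

@[simp] lemma secs_tmul (c : ∀ k, C k) (b : B) (σ : Σ k, Fin (n k)) :
    secs s (c ⊗ₜ b) σ = c σ.1 * s σ.1 σ.2 b := rfl

theorem secs_surjective (hs : ∀ k, Good (s k)) : Function.Surjective (secs s) := by
  classical
  have key : ∀ (σ : Σ k, Fin (n k)) (c : C σ.1), ∃ z, secs s z = Pi.single σ c := by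
    rintro ⟨k, i⟩ c
    have hb : ∀ j : Fin (n k), ∃ b : B, i ≠ j → IsUnit (s k i b - s k j b) := fun j => by
      rcases eq_or_ne i j with h | h
      · exact ⟨0, fun h' => (h' h).elim⟩
      · obtain ⟨b, hb⟩ := (hs k).1 i j h
        exact ⟨b, fun _ => hb⟩
    choose b hb using hb
    have hu : ∀ j : Fin (n k), ∃ u : C k, i ≠ j → u * (s k i (b j) - s k j (b j)) = 1 := fun j => by
      rcases eq_or_ne i j with h | h
      · exact ⟨0, fun h' => (h' h).elim⟩
      · obtain ⟨v, hv⟩ := hb j h
        exact ⟨↑v⁻¹, fun _ => by rw [← hv, v.inv_mul]⟩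
    choose u hu using hu
    refine ⟨((Pi.single k c : ∀ k, C k) ⊗ₜ 1) * ∏ j ∈ Finset.univ.erase i,
      (((Pi.single k (u j) : ∀ k, C k) ⊗ₜ 1) *
        (1 ⊗ₜ b j - (Pi.single k (s k j (b j)) : ∀ k, C k) ⊗ₜ 1)), funext fun σ => ?_⟩
    obtain ⟨k', i'⟩ := σ
    rw [map_mul, map_prod, Pi.mul_apply, Finset.prod_apply, secs_tmul, map_one, mul_one]
    simp only [map_mul, map_sub, Pi.mul_apply, Pi.sub_apply, secs_tmul, map_one, mul_one,
      Pi.one_apply, one_mul]
    rcases eq_or_ne k' k with rfl | hk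
    · simp only [Pi.single_eq_same]
      rcases eq_or_ne i' i with rfl | hi
      · rw [Pi.single_eq_same, Finset.prod_eq_one, mul_one]
        intro j hj
        exact hu j (Finset.ne_of_mem_erase hj).symm
      · rw [Pi.single_eq_of_ne (by simpa using hi),
          Finset.prod_eq_zero (Finset.mem_erase.2 ⟨hi, Finset.mem_univ i'⟩) (by simp), mul_zero]
    · rw [Pi.single_eq_of_ne hk, zero_mul, Pi.single_eq_of_ne]
      exact fun h => hk (congrArg Sigma.fst h)
  intro z
  choose y hy using fun σ => key σ (z σ)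
  refine ⟨∑ σ, y σ, ?_⟩
  rw [map_sum]
  simp only [hy]
  exact Finset.univ_sum_single z

theorem comap_secs_surjective (hs : ∀ k, Good (s k)) :
    Function.Surjective (PrimeSpectrum.comap (secs s).toRingHom) := by
  classical
  intro Q
  let L := Q.asIdeal.ResidueField
  let t : (∀ k, C k) ⊗[A] B →+* L := algebraMap _ L
  let g' : (∀ k, C k) →+* L := t.comp Algebra.TensorProduct.includeLeftRingHom
  let h : B →+* L :=
    t.comp (Algebra.TensorProduct.includeRight : B →ₐ[A] (∀ k, C k) ⊗[A] B).toRingHom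
  obtain ⟨k, hk⟩ : ∃ k, g' (Pi.single k 1) ≠ 0 := by
    by_contra h0
    push Not at h0
    have h1 := congrArg g' (Finset.univ_sum_single (1 : ∀ k, C k))
    simp only [Pi.one_apply, map_sum, map_one, h0, Finset.sum_const_zero] at h1
    exact zero_ne_one h1
  have hk1 : g' (Pi.single k 1) = 1 := by
    have h1 : g' (Pi.single k 1) * g' (Pi.single k 1) = g' (Pi.single k 1) * 1 := by
      rw [← map_mul, ← Pi.single_mul, mul_one, mul_one]
    exact mul_left_cancel₀ hk h1
  have hfac : ∀ x : ∀ k, C k, g' x = g' (Pi.single k (x k)) := fun x => by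
    rw [show (Pi.single k (x k) : ∀ k, C k) = x * Pi.single k 1 by
      funext j
      rcases eq_or_ne j k with rfl | hj
      · simp
      · simp [Pi.single_eq_of_ne hj], map_mul, hk1, mul_one]
  let g : C k →+* L :=
    { toFun := fun c => g' (Pi.single k c)
      map_one' := hk1
      map_mul' := fun a b => by rw [Pi.single_mul, map_mul]
      map_zero' := by rw [Pi.single_zero, map_zero]
      map_add' := fun a b => by rw [Pi.single_add, map_add] }
  obtain ⟨i, hi⟩ := (hs k).2 L h g (RingHom.ext fun a => by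
    have h1 : (1 : ∀ k, C k) ⊗ₜ[A] (algebraMap A B a) =
        algebraMap A (∀ k, C k) a ⊗ₜ[A] (1 : B) := by
      rw [Algebra.algebraMap_eq_smul_one, Algebra.algebraMap_eq_smul_one, TensorProduct.tmul_smul,
        TensorProduct.smul_tmul']
    change t (1 ⊗ₜ algebraMap A B a) = g' (Pi.single k (algebraMap A (C k) a))
    rw [h1]
    exact hfac (algebraMap A (∀ k, C k) a))
  let G : (∀ σ : (Σ k, Fin (n k)), C σ.1) →+* L :=
    g.comp (Pi.evalRingHom (fun σ : (Σ k, Fin (n k)) => C σ.1) ⟨k, i⟩)
  have hG : G.comp (secs s).toRingHom = t := by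
    refine Algebra.TensorProduct.ringHom_ext (RingHom.ext fun c => ?_) (RingHom.ext fun b => ?_)
    · change g (secs s (c ⊗ₜ 1) ⟨k, i⟩) = g' c
      rw [secs_tmul, map_one, mul_one]
      exact (hfac c).symm
    · change g (secs s (1 ⊗ₜ b) ⟨k, i⟩) = h b
      rw [secs_tmul, Pi.one_apply, one_mul, hi]
      rfl
  refine ⟨⟨RingHom.ker G, RingHom.ker_isPrime _⟩, PrimeSpectrum.ext (Ideal.ext fun z => ?_)⟩
  change G (secs s z) = 0 ↔ z ∈ Q.asIdeal
  rw [← Ideal.algebraMap_residueField_eq_zero]
  exact Iff.of_eq (congrArg (· = 0) (RingHom.congr_fun hG z))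

end Assemble

/-- Quasi-finite finitely presented algebras become finite étale up to nilpotents after a
surjective base change. -/
theorem exists_decompose [Algebra.QuasiFinite A B] [Algebra.FinitePresentation A B] :
    ∃ (C : Type u) (_ : CommRing C) (_ : Algebra A C),
      Function.Surjective (PrimeSpectrum.comap (algebraMap A C)) ∧
      ∃ (D : Type u) (_ : CommRing D) (m : C ⊗[A] B →+* D),
        Function.Surjective m ∧ Function.Surjective (PrimeSpectrum.comap m) ∧
        (m.comp Algebra.TensorProduct.includeLeftRingHom).Finite ∧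
        (m.comp Algebra.TensorProduct.includeLeftRingHom).Etale := by
  classical
  obtain ⟨N, C, _, _, n, s, hs, hcov⟩ := exists_cover (A := A) (B := B)
  refine ⟨∀ k, C k, inferInstance, inferInstance, fun p => ?_,
    ∀ σ : (Σ k, Fin (n k)), C σ.1, inferInstance, (secs s).toRingHom, secs_surjective s hs,
    comap_secs_surjective s hs, ?_⟩
  · obtain ⟨k, P, hP⟩ := hcov p
    refine ⟨PrimeSpectrum.comap (Pi.evalRingHom C k) P, ?_⟩
    rw [← hP, ← PrimeSpectrum.comap_comp_apply]
    rfl
  · letI algE : ∀ σ : (Σ k, Fin (n k)), Algebra (∀ k, C k) (C σ.1) :=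
      fun σ => (Pi.evalRingHom C σ.1).toAlgebra
    have hfin : ∀ σ : (Σ k, Fin (n k)), Module.Finite (∀ k, C k) (C σ.1) := fun σ =>
      Module.Finite.of_surjective (Algebra.linearMap (∀ k, C k) (C σ.1))
        (fun c => ⟨Pi.single σ.1 c, by
          change (Pi.single σ.1 c : ∀ k, C k) σ.1 = c
          exact Pi.single_eq_same _ _⟩)
    have het : ∀ σ : (Σ k, Fin (n k)), Algebra.Etale (∀ k, C k) (C σ.1) := fun σ => by
      haveI : IsLocalization.Away (Pi.single σ.1 1 : ∀ k, C k) (C σ.1) := by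
        refine IsLocalization.away_of_isIdempotentElem_of_mul ?_ (fun x y => ?_)
          (fun c => ⟨Pi.single σ.1 c, by
            change (Pi.single σ.1 c : ∀ k, C k) σ.1 = c
            exact Pi.single_eq_same _ _⟩)
        · change _ * _ = _
          rw [← Pi.single_mul, mul_one]
        · change x σ.1 = y σ.1 ↔ _
          constructor
          · intro h
            funext j
            rcases eq_or_ne j σ.1 with rfl | hj
            · simp [h]
            · simp [Pi.single_eq_of_ne hj]
          · intro h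
            simpa using congrFun h σ.1
      exact Algebra.Etale.of_isLocalizationAway (Pi.single σ.1 1 : ∀ k, C k)
    have hmap : (secs s).toRingHom.comp Algebra.TensorProduct.includeLeftRingHom =
        algebraMap (∀ k, C k) (∀ σ : (Σ k, Fin (n k)), C σ.1) := RingHom.ext fun c => funext fun σ => by
      change secs s (c ⊗ₜ 1) σ = c σ.1
      rw [secs_tmul, map_one, mul_one]
    rw [hmap]
    exact ⟨RingHom.finite_algebraMap.2 inferInstance, RingHom.etale_algebraMap.2 inferInstance⟩

end Groth.Agent.Et18.QFSections
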