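import Groth.Agent.Et18.PropABC
import Mathlib.AlgebraicGeometry.ZariskisMainTheorem

/-!
# Separated locally quasi-finite morphisms satisfy condition (A)
-/

universe u

open CategoryTheory CategoryTheory.Limits AlgebraicGeometry

set_option backward.isDefEq.respectTransparency.types false
set_option backward.isDefEq.respectTransparency false

namespace Groth.Agent.Et18

theorem propA_of_separated_lqf {X Y : Scheme.{u}} (f : X ⟶ Y) [IsSeparated f]
    [LocallyQuasiFinite f] [LocallyOfFiniteType f] : BigSite.PropA f := by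
  intro U g _ u
  have hqf : f.QuasiFiniteAt (g u) := by
    rw [← Scheme.Hom.mem_quasiFiniteLocus, Scheme.Hom.quasiFiniteLocus_eq_top]
    trivial
  obtain ⟨T, q, _, -, V₀, V₁, v₀, hcompl, _, hv₀⟩ :=
    exists_etale_isCompl_of_quasiFiniteAt f rfl hqf
  have hV₀ : IsClosed (V₀ : Set ↥(pullback f q)) := by
    have h1 : Disjoint (V₀ : Set ↥(pullback f q)) (V₁ : Set ↥(pullback f q)) :=
      TopologicalSpace.Opens.coe_disjoint.mpr hcompl.disjoint
    have h2 : (V₀ : Set ↥(pullback f q)) ∪ V₁ = Set.univ := by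
      rw [← TopologicalSpace.Opens.coe_sup, hcompl.sup_eq_top, TopologicalSpace.Opens.coe_top]
    rw [(IsCompl.of_eq h1.eq_bot h2).eq_compl]
    exact V₁.2.isClosed_compl
  haveI : IsClosedImmersion V₀.ι := IsClosedImmersion.of_isPreimmersion _ (by
    rwa [Scheme.Opens.range_ι])
  let a : V₀.toScheme ⟶ X := V₀.ι ≫ pullback.fst f q
  let π₀ : V₀.toScheme ⟶ T := V₀.ι ≫ pullback.snd f q
  obtain ⟨z, -, hz⟩ := Scheme.Pullback.exists_preimage_pullback (f := a) (g := g) v₀ u hv₀
  obtain ⟨W', w', _, W₁, hW₁, h₁, hh₁, hz₁⟩ :=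
    propA_of_integral π₀ _ (pullback.fst a g) z
  let ψ : pullback π₀ w' ⟶ pullback f (w' ≫ q) :=
    pullback.lift (pullback.fst π₀ w' ≫ a) (pullback.snd π₀ w') (by
      simp only [a, Category.assoc, pullback.condition]
      rw [← pullback.condition_assoc]
      simp [π₀])
  let ρ : pullback f (w' ≫ q) ⟶ pullback f q :=
    pullback.lift (pullback.fst f (w' ≫ q)) (pullback.snd f (w' ≫ q) ≫ w') (by
      rw [pullback.condition, Category.assoc])
  have sqρ : IsPullback ρ (pullback.snd f (w' ≫ q)) (pullback.snd f q) w' :=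
    IsPullback.of_right (by simpa [ρ] using IsPullback.of_hasPullback f (w' ≫ q)) (by simp [ρ])
      (IsPullback.of_hasPullback f q)
  have sqψ : IsPullback (pullback.fst π₀ w') ψ V₀.ι ρ :=
    IsPullback.of_bot (by simpa [ψ] using IsPullback.of_hasPullback π₀ w')
      (pullback.hom_ext (by simp [ψ, ρ, a]) (by simp [ψ, ρ, pullback.condition, π₀])) sqρ
  haveI : IsOpenImmersion ψ := MorphismProperty.of_isPullback (P := @IsOpenImmersion) sqψ inferInstance
  haveI : IsClosedImmersion ψ :=
    MorphismProperty.of_isPullback (P := @IsClosedImmersion) sqψ inferInstance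
  let k : W₁.toScheme ⟶ pullback f (w' ≫ q) := W₁.ι ≫ ψ
  refine ⟨W', w' ≫ q, inferInstance, k.opensRange, ?_,
    k.isoOpensRange.inv ≫ h₁ ≫ pullback.snd a g, ?_, ?_⟩
  · change IsClosed (Set.range k)
    rw [show Set.range k = ψ '' (W₁ : Set ↥(pullback π₀ w')) by
      rw [← Scheme.Opens.range_ι W₁, ← Set.range_comp]; rfl]
    exact ψ.isClosedEmbedding.isClosedMap _ hW₁
  · have hk : k.isoOpensRange.inv ≫ k = k.opensRange.ι := k.isoOpensRange_inv_comp
    conv_rhs => rw [← hk]
    simp only [Category.assoc, ← pullback.condition, reassoc_of% hh₁, k, ψ, pullback.lift_fst]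
  · obtain ⟨y, hy⟩ := hz₁
    refine ⟨k.isoOpensRange.hom y, ?_⟩
    change (k.isoOpensRange.hom ≫ k.isoOpensRange.inv ≫ h₁ ≫ pullback.snd a g) y = u
    rw [Iso.hom_inv_id_assoc, Scheme.Hom.comp_apply]
    exact (congrArg (pullback.snd a g) hy).trans (by assumption)

end Groth.Agent.Et18
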