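import Groth.Agent.DCat.PlusAdj
import Groth.Prelude.Def_SixF1
import Mathlib.CategoryTheory.Preadditive.Injective.Preserves

/-!
# Derived functors of composites

If `F` preserves injective objects then the canonical morphism `R⁺H ⟶ R⁺F ⋙ R⁺G` attached to an isomorphism
`H ≅ F ⋙ G` is an isomorphism.
-/

set_option autoImplicit false
set_option backward.isDefEq.respectTransparency false
set_option backward.defeqAttrib.useBackward true
set_option linter.style.haveILetI false

universe v₁ v₂ v₃ v₄ u₁ u₂ u₃ u₄

open CategoryTheory CategoryTheory.Limits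
open Groth.Agent.DCat

attribute [local instance] HasDerivedCategory.standard

namespace Groth.Agent.Et18.RDComp

variable {A : Type u₁} [Category.{v₁} A] [Abelian A] {B : Type u₂} [Category.{v₂} B] [Abelian B]
  {C : Type u₃} [Category.{v₃} C] [Abelian C]

/-- Bounded below complexes of injectives. -/
def injPlus (A : Type u₁) [Category.{v₁} A] [Abelian A] : ObjectProperty (HomotopyCategory.Plus A) :=
  fun X => ∀ m, Injective (X.obj.as.X m)

theorem injPlus_resolution [EnoughInjectives A] (X : HomotopyCategory.Plus A) :
    ∃ (X' : HomotopyCategory.Plus A) (s : X ⟶ X'), injPlus A X' ∧ HomotopyCategory.Plus.quasiIso A s := by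
  obtain ⟨n, hn⟩ := (HomotopyCategory.plus_quotient_obj_iff X.obj.as).1 X.property
  haveI := hn
  obtain ⟨K, i, hq, hK, hn'⟩ := CochainComplex.Plus.modelCategoryQuillen.exists_quasiIso_injective X.obj.as n
  exact ⟨⟨(HomotopyCategory.quotient A _).obj K, (HomotopyCategory.plus_quotient_obj_iff K).2 ⟨n, inferInstance⟩⟩,
    ObjectProperty.homMk ((HomotopyCategory.quotient A _).map i), hK,
    (HomotopyCategory.quotient_map_mem_quasiIso_iff i).2 hq⟩

theorem injPlus_isIso ⦃X Y : HomotopyCategory.Plus A⦄ (s : X ⟶ Y) (hX : injPlus A X) (hY : injPlus A Y)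
    (hs : HomotopyCategory.Plus.quasiIso A s) : IsIso s := by
  have hk : ∀ Z : HomotopyCategory.Plus A, injPlus A Z → CochainComplex.IsKInjective Z.obj.as := fun Z hZ => by
    obtain ⟨n, hn⟩ := (HomotopyCategory.plus_quotient_obj_iff Z.obj.as).1 Z.property
    haveI := hn
    haveI : ∀ m, Injective (Z.obj.as.X m) := fun m => hZ m
    exact CochainComplex.isKInjective_of_injective Z.obj.as n
  haveI := kInj_isIso s.hom (hk X hX) (hk Y hY) hs
  haveI : IsIso ((HomotopyCategory.Plus.ι A).map s) := this
  exact isIso_of_reflects_iso _ (HomotopyCategory.Plus.ι A)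

theorem injPlus_isIso_map {H : Type*} [Category H] (F : HomotopyCategory.Plus A ⥤ H)
    ⦃X Y : HomotopyCategory.Plus A⦄ (s : X ⟶ Y) (hX : injPlus A X) (hY : injPlus A Y)
    (hs : HomotopyCategory.Plus.quasiIso A s) : IsIso (F.map s) := by
  haveI := injPlus_isIso s hX hY hs
  infer_instance

instance hasLeftCalculusOfFractions_plus : (HomotopyCategory.Plus.quasiIso A).HasLeftCalculusOfFractions := by
  simp only [HomotopyCategory.Plus.quasiIso_eq_subcategoryAcyclic_trW]; infer_instance

theorem isIso_unit [EnoughInjectives A] (F : A ⥤ B) [F.Additive] {X : HomotopyCategory.Plus A}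
    (hX : injPlus A X) : IsIso (F.rightDerivedFunctorPlusUnit.app X) :=
  isIso_unit_of_mem injPlus_resolution (injPlus_isIso_map _) _ hX

theorem isIso_plusNatTrans {F G : A ⥤ B} [F.Additive] [G.Additive] (α : F ⟶ G) [IsIso α] :
    IsIso (EtSix.plusNatTrans α) := by
  have h1 : IsIso (NatTrans.mapHomotopyCategory α (ComplexShape.up ℤ)) := by
    have : ∀ K, IsIso ((NatTrans.mapHomotopyCategory α (ComplexShape.up ℤ)).app K) := fun K => by
      have hi : IsIso ((NatTrans.mapHomologicalComplex α (ComplexShape.up ℤ)).app K.as) := by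
        have : ∀ n, IsIso (((NatTrans.mapHomologicalComplex α (ComplexShape.up ℤ)).app K.as).f n) := fun n => by
          dsimp
          infer_instance
        exact HomologicalComplex.Hom.isIso_of_components _
      show IsIso ((HomotopyCategory.quotient B (ComplexShape.up ℤ)).map _)
      infer_instance
    exact NatIso.isIso_of_isIso_app _
  have hc : ∀ X, IsIso ((EtSix.plusNatTrans α).app X) := fun X => by
    have e : (HomotopyCategory.Plus.ι B).map ((EtSix.plusNatTrans α).app X) =
        (NatTrans.mapHomotopyCategory α (ComplexShape.up ℤ)).app X.obj := rfl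
    haveI : IsIso ((HomotopyCategory.Plus.ι B).map ((EtSix.plusNatTrans α).app X)) := by
      rw [e]; infer_instance
    exact isIso_of_reflects_iso _ (HomotopyCategory.Plus.ι B)
  exact NatIso.isIso_of_isIso_app _

/-- Grothendieck: derived functors of a composite, bounded below version. -/
theorem isIso_rPlusDesc₂ [EnoughInjectives A] [EnoughInjectives B] {F : A ⥤ B} {G : B ⥤ C} {H : A ⥤ C}
    [F.Additive] [G.Additive] [H.Additive] [F.PreservesInjectiveObjects] (θ : H ⟶ F ⋙ G) [IsIso θ] :
    IsIso (EtSix.rPlusDesc₂ θ) := by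
  haveI := isIso_plusNatTrans θ
  haveI : (F.rightDerivedFunctorPlus ⋙ G.rightDerivedFunctorPlus).IsRightDerivedFunctor (EtSix.rPlusUnit₂ θ)
      (HomotopyCategory.Plus.quasiIso A) :=
    isRightDerived_of_isIso injPlus_resolution (injPlus_isIso_map _) _ fun X hX => by
      haveI := isIso_unit F hX
      haveI : IsIso (G.rightDerivedFunctorPlusUnit.app (F.mapHomotopyCategoryPlus.obj X)) :=
        isIso_unit G (fun m => by
          haveI := hX m
          exact F.injective_obj_of_injective (X := X.obj.as.X m) (hX m))
      dsimp only [EtSix.rPlusUnit₂, NatTrans.comp_app, Functor.whiskerRight_app, Functor.whiskerLeft_app]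
      infer_instance
  exact (Functor.isRightDerivedFunctor_iff_isIso_rightDerivedDesc H.rightDerivedFunctorPlus
    H.rightDerivedFunctorPlusUnit (HomotopyCategory.Plus.quasiIso A) _ (EtSix.rPlusUnit₂ θ)).1 inferInstance

end Groth.Agent.Et18.RDComp
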