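import Mathlib.RingTheory.Regular.RegularSequence
import Mathlib.Data.List.Chain
import Mathlib.Tactic

/-! Exchange of generators between regular sequences with the same ideal in a Noetherian local ring. -/

namespace Groth.Agent.Et18.RegChain

open RingTheory.Sequence IsLocalRing

universe u

variable {A : Type u} [CommRing A] [IsLocalRing A]

/-- elementary step -/
def Step (w w' : List A) : Prop := w.Perm w' ∨ (w.length = w'.length ∧ w.dropLast = w'.dropLast)

lemma ofList_perm {l l' : List A} (h : l.Perm l') : Ideal.ofList l = Ideal.ofList l' :=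
  congrArg Ideal.span (Set.ext fun _ => h.mem_iff)

lemma ofList_le_maximalIdeal {l : List A} (h : IsRegular A l) : Ideal.ofList l ≤ maximalIdeal A := by
  refine le_maximalIdeal fun e => h.top_ne_smul ?_
  rw [e, Submodule.top_smul]

lemma smul_quot_eq_zero {o : List A} {a : A} (ha : a ∈ Ideal.ofList o)
    (m : A ⧸ (Ideal.ofList o • ⊤ : Submodule A A)) : a • m = 0 := by
  induction m using Submodule.Quotient.induction_on with
  | H b =>
    rw [← Submodule.Quotient.mk_smul, Submodule.Quotient.mk_eq_zero]
    exact Submodule.smul_mem_smul ha Submodule.mem_top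

lemma not_mem_others [IsNoetherianRing A] {l o : List A} {x : A} (h : IsRegular A l)
    (hp : l.Perm (o ++ [x])) (hx : x ∈ Ideal.ofList o) : False := by
  have h' := isRegular_of_perm h hp
  have hreg := (isWeaklyRegular_singleton_iff _ x).1 ((isWeaklyRegular_append_iff A o [x]).1 h'.toIsWeaklyRegular).2
  have h1 : (Submodule.Quotient.mk (1 : A) : A ⧸ (Ideal.ofList o • ⊤ : Submodule A A)) = 0 :=
    hreg (by simp only [smul_quot_eq_zero hx])
  rw [Submodule.Quotient.mk_eq_zero, smul_eq_mul, Ideal.mul_top] at h1
  have hle : Ideal.ofList o ≤ Ideal.ofList (o ++ [x]) := by rw [Ideal.ofList_append]; exact le_sup_left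
  exact (maximalIdeal.isMaximal A).ne_top
    ((Ideal.eq_top_iff_one _).2 (ofList_le_maximalIdeal h' (hle h1)))

lemma change_last [IsNoetherianRing A] {o : List A} {x y c : A} (h : IsRegular A (o ++ [x]))
    (hc : IsUnit c) (hy : y - c * x ∈ Ideal.ofList o) :
    IsRegular A (o ++ [y]) ∧ Ideal.ofList (o ++ [y]) = Ideal.ofList (o ++ [x]) := by
  have hI : Ideal.ofList (o ++ [y]) = Ideal.ofList (o ++ [x]) := by
    simp only [Ideal.ofList_append, Ideal.ofList_singleton]
    refine le_antisymm (sup_le le_sup_left ?_) (sup_le le_sup_left ?_) <;>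
      rw [Ideal.span_singleton_le_iff_mem]
    · rw [← sub_add_cancel y (c * x)]
      exact Submodule.add_mem_sup hy (Ideal.mul_mem_left _ _ (Ideal.mem_span_singleton_self x))
    · obtain ⟨d, hd⟩ := hc.exists_left_inv
      have e : x = -(d * (y - c * x)) + d * y := by linear_combination (-x) * hd
      rw [e]
      exact Submodule.add_mem_sup (neg_mem (Ideal.mul_mem_left _ _ hy))
        (Ideal.mul_mem_left _ _ (Ideal.mem_span_singleton_self y))
  refine ⟨?_, hI⟩
  rw [isRegular_iff_isWeaklyRegular_of_subset_maximalIdeal fun a ha =>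
    (hI.trans_le (ofList_le_maximalIdeal h)) (Ideal.subset_span ha)]
  obtain ⟨h1, h2⟩ := (isWeaklyRegular_append_iff A o [x]).1 h.toIsWeaklyRegular
  refine (isWeaklyRegular_append_iff A o [y]).2 ⟨h1, (isWeaklyRegular_singleton_iff _ y).2 fun m m' e => ?_⟩
  have key : ∀ m : A ⧸ (Ideal.ofList o • ⊤ : Submodule A A), y • m = c • x • m := fun m => by
    rw [smul_smul]
    exact sub_eq_zero.1 (by rw [← sub_smul]; exact smul_quot_eq_zero hy m)
  simp only [key] at e
  exact (isWeaklyRegular_singleton_iff _ x).1 h2 (hc.smul_left_cancel.1 e)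

lemma mem_ofList_cases {t : List A} {b : A} (hb : b ∈ Ideal.ofList t) :
    b ∈ maximalIdeal A * Ideal.ofList t ∨
      ∃ t1 x t2, t = t1 ++ x :: t2 ∧ ∃ c, IsUnit c ∧ b - c * x ∈ Ideal.ofList (t1 ++ t2) := by
  induction t generalizing b with
  | nil =>
    rw [Ideal.ofList_nil, Submodule.mem_bot] at hb
    exact Or.inl (hb ▸ zero_mem _)
  | cons x t ih =>
    rw [Ideal.ofList_cons, Submodule.mem_sup] at hb
    obtain ⟨p, hp, b', hb', rfl⟩ := hb
    obtain ⟨c, rfl⟩ := Ideal.mem_span_singleton'.1 hp
    by_cases hc : IsUnit c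
    · exact Or.inr ⟨[], x, t, rfl, c, hc, by simpa using hb'⟩
    rcases ih hb' with h | ⟨t1, z, t2, rfl, e, he, h⟩
    · left
      rw [Ideal.ofList_cons, Ideal.mul_sup]
      exact Submodule.add_mem_sup (Ideal.mul_mem_mul hc (Ideal.mem_span_singleton_self x)) h
    · refine Or.inr ⟨x :: t1, z, t2, rfl, e, he, ?_⟩
      rw [List.cons_append, Ideal.ofList_cons, show c * x + b' - e * z = c * x + (b' - e * z) by ring]
      exact Submodule.add_mem_sup (Ideal.mem_span_singleton'.2 ⟨c, rfl⟩) h

variable [IsNoetherianRing A]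

theorem reflTransGen {v : List A} (hv : IsRegular A v) : ∀ (rest done t : List A), v = done ++ rest →
    IsRegular A (done ++ t) → Ideal.ofList (done ++ t) = Ideal.ofList v →
    Relation.ReflTransGen (fun w w' => Step w w' ∧ IsRegular A w' ∧ Ideal.ofList w' = Ideal.ofList v)
      (done ++ t) v := by
  intro rest
  induction rest with
  | nil =>
    intro done t hd ht hI
    rw [List.append_nil] at hd
    subst hd
    rcases t with _ | ⟨x, t⟩
    · rw [List.append_nil]
    · exfalso
      refine not_mem_others (o := v ++ t) ht (x := x)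
        ((List.perm_middle).trans (List.perm_append_singleton x (v ++ t)).symm) ?_
      rw [Ideal.ofList_append]
      refine Submodule.mem_sup_left ?_
      rw [← hI]
      exact Ideal.subset_span (by simp)
  | cons y rest ih =>
    intro done t hd ht hI
    have hyI : y ∈ Ideal.ofList (done ++ t) := hI ▸ Ideal.subset_span (by simp [hd])
    rw [Ideal.ofList_append, Submodule.mem_sup] at hyI
    obtain ⟨a, ha, b, hb, hab⟩ := hyI
    rcases mem_ofList_cases hb with hm | ⟨t1, x, t2, rfl, c, hc, hcx⟩
    · exfalso
      have hle : maximalIdeal A * Ideal.ofList t ≤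
          maximalIdeal A * Ideal.ofList [y] ⊔ Ideal.ofList (done ++ rest) := by
        have h1 : Ideal.ofList t ≤ Ideal.ofList [y] ⊔ Ideal.ofList (done ++ rest) := by
          have : Ideal.ofList t ≤ Ideal.ofList v := hI ▸ by rw [Ideal.ofList_append]; exact le_sup_right
          rwa [hd, ofList_perm (List.perm_middle : (done ++ y :: rest).Perm (y :: (done ++ rest))),
            Ideal.ofList_cons, ← Ideal.ofList_singleton] at this
        calc maximalIdeal A * Ideal.ofList t ≤ maximalIdeal A * (Ideal.ofList [y] ⊔ Ideal.ofList (done ++ rest)) :=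
              Ideal.mul_mono_right h1
          _ ≤ _ := by rw [Ideal.mul_sup]; exact sup_le_sup_left Ideal.mul_le_right _
      obtain ⟨p, hp, q, hq, hpq⟩ := Submodule.mem_sup.1 (hle hm)
      rw [Ideal.ofList_singleton, Ideal.mem_mul_span_singleton] at hp
      obtain ⟨e, he, rfl⟩ := hp
      refine not_mem_others (o := done ++ rest) (hd ▸ hv) (x := y)
        ((List.perm_middle).trans (List.perm_append_singleton y (done ++ rest)).symm) ?_
      have hu : IsUnit (1 - e) := IsLocalRing.isUnit_one_sub_self_of_mem_nonunits e he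
      obtain ⟨d, hd'⟩ := hu.exists_left_inv
      have ey : y = d * (a + q) := by linear_combination (-d) * hpq - d * hab - y * hd'
      rw [ey]
      refine Ideal.mul_mem_left _ _ (add_mem ?_ hq)
      rw [Ideal.ofList_append]
      exact Submodule.mem_sup_left ha
    · have p1 : (done ++ (t1 ++ x :: t2)).Perm ((done ++ (t1 ++ t2)) ++ [x]) := by
        rw [List.append_assoc]
        exact List.Perm.append_left done
          ((List.perm_middle).trans (List.perm_append_singleton x (t1 ++ t2)).symm)
      have hx := isRegular_of_perm ht p1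
      have hy : y - c * x ∈ Ideal.ofList (done ++ (t1 ++ t2)) := by
        rw [Ideal.ofList_append, ← hab, add_sub_assoc]
        exact Submodule.add_mem_sup ha hcx
      obtain ⟨hy1, hy2⟩ := change_last hx hc hy
      have p2 : ((done ++ (t1 ++ t2)) ++ [y]).Perm ((done ++ [y]) ++ (t1 ++ t2)) := by
        rw [List.append_assoc done (t1 ++ t2), List.append_assoc done [y]]
        exact List.Perm.append_left done List.perm_append_comm
      have hI1 : Ideal.ofList ((done ++ (t1 ++ t2)) ++ [x]) = Ideal.ofList v := (ofList_perm p1).symm.trans hI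
      have hI3 : Ideal.ofList ((done ++ [y]) ++ (t1 ++ t2)) = Ideal.ofList v :=
        (ofList_perm p2).symm.trans (hy2.trans hI1)
      refine .head ⟨Or.inl p1, hx, hI1⟩ (.head ⟨Or.inr ⟨by simp, by simp⟩, hy1, hy2.trans hI1⟩
        (.head ⟨Or.inl p2, isRegular_of_perm hy1 p2, hI3⟩ ?_))
      exact ih (done ++ [y]) (t1 ++ t2) (by rw [hd]; simp) (isRegular_of_perm hy1 p2) hI3

end Groth.Agent.Et18.RegChain
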