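import Groth.Agent.EGA43.FibDepth.TensorTrd
import Mathlib.AlgebraicGeometry.ResidueField
import Mathlib.AlgebraicGeometry.Pullbacks
import Mathlib.RingTheory.Ideal.KrullsHeightTheorem
import Mathlib.RingTheory.Ideal.GoingDown
import Mathlib.RingTheory.KrullDimension.NonZeroDivisors

/-!
# Residue fields of points of fibre products, and dimensions under local base change

* the residue field of a point of `X ×_S Y` is a composite of the residue fields of its images, so
  its transcendence degree over that of the image in `Y` is bounded by that on `X`, and some point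
  over a given pair attains the bound;
* dimensions of quotients by primes in faithfully flat local extensions with one point closed fibre.
-/

set_option autoImplicit false

universe u

open CategoryTheory CategoryTheory.Limits AlgebraicGeometry IsLocalRing TensorProduct

namespace Groth.Agent.Et18.ResComp

section Point

variable {K : Type u} [Field K] {X : Scheme.{u}} (x : X) (j : X.residueField x ⟶ CommRingCat.of K)

theorem specMap_fromSpec_apply (s : Spec (CommRingCat.of K)) :
    (Spec.map j ≫ X.fromSpecResidueField x) s = x := by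
  rw [Scheme.Hom.comp_apply, Scheme.fromSpecResidueField_apply]

variable {x} in
theorem specMap_fromSpec_inj {j' : X.residueField x ⟶ CommRingCat.of K}
    (h : Spec.map j ≫ X.fromSpecResidueField x = Spec.map j' ≫ X.fromSpecResidueField x) :
    j = j' :=
  Spec.map_injective ((cancel_mono _).1 h)

end Point

variable {X Y S : Scheme.{u}} (f : X ⟶ S) (g : Y ⟶ S)

theorem closure_residueField_pullback (z : ↥(pullback f g)) :
    Subfield.closure (Set.range ((pullback.snd f g).residueFieldMap z).hom ∪
      Set.range ((pullback.fst f g).residueFieldMap z).hom) = ⊤ := by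
  let F := Subfield.closure (Set.range ((pullback.snd f g).residueFieldMap z).hom ∪
      Set.range ((pullback.fst f g).residueFieldMap z).hom)
  let ι : CommRingCat.of F ⟶ (pullback f g).residueField z := CommRingCat.ofHom F.subtype
  let jX : X.residueField (pullback.fst f g z) ⟶ CommRingCat.of F :=
    CommRingCat.ofHom (((pullback.fst f g).residueFieldMap z).hom.codRestrict F
      fun a => Subfield.subset_closure (.inr ⟨a, rfl⟩))
  let jY : Y.residueField (pullback.snd f g z) ⟶ CommRingCat.of F :=
    CommRingCat.ofHom (((pullback.snd f g).residueFieldMap z).hom.codRestrict F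
      fun a => Subfield.subset_closure (.inl ⟨a, rfl⟩))
  have hX : jX ≫ ι = (pullback.fst f g).residueFieldMap z := rfl
  have hY : jY ≫ ι = (pullback.snd f g).residueFieldMap z := rfl
  have hX' : Spec.map ι ≫ Spec.map jX ≫ X.fromSpecResidueField _ =
      (pullback f g).fromSpecResidueField z ≫ pullback.fst f g := by
    rw [← Spec.map_comp_assoc, hX, Scheme.Hom.SpecMap_residueFieldMap_fromSpecResidueField]
  have hY' : Spec.map ι ≫ Spec.map jY ≫ Y.fromSpecResidueField _ =
      (pullback f g).fromSpecResidueField z ≫ pullback.snd f g := by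
    rw [← Spec.map_comp_assoc, hY, Scheme.Hom.SpecMap_residueFieldMap_fromSpecResidueField]
  have hc : (Spec.map jX ≫ X.fromSpecResidueField _) ≫ f =
      (Spec.map jY ≫ Y.fromSpecResidueField _) ≫ g := by
    obtain ⟨⟨s₁, α⟩, hα⟩ := (Scheme.SpecToEquivOfField F S).symm.surjective
      ((Spec.map jX ≫ X.fromSpecResidueField _) ≫ f)
    obtain ⟨⟨s₂, β⟩, hβ⟩ := (Scheme.SpecToEquivOfField F S).symm.surjective
      ((Spec.map jY ≫ Y.fromSpecResidueField _) ≫ g)
    have hα' : Spec.map α ≫ S.fromSpecResidueField s₁ = (Spec.map jX ≫ X.fromSpecResidueField _) ≫ f := hα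
    have hβ' : Spec.map β ≫ S.fromSpecResidueField s₂ = (Spec.map jY ≫ Y.fromSpecResidueField _) ≫ g := hβ
    have e : Spec.map ι ≫ Spec.map α ≫ S.fromSpecResidueField s₁ =
        Spec.map ι ≫ Spec.map β ≫ S.fromSpecResidueField s₂ := by
      simp only [hα', hβ', Category.assoc]
      rw [reassoc_of% hX', reassoc_of% hY', pullback.condition]
    obtain rfl : s₁ = s₂ := by
      have h := congrArg (fun m : Spec ((pullback f g).residueField z) ⟶ S =>
        m (closedPoint ((pullback f g).residueField z))) e
      simp only [Scheme.Hom.comp_apply, Scheme.fromSpecResidueField_apply] at h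
      exact h
    rw [← Spec.map_comp_assoc, ← Spec.map_comp_assoc, cancel_mono] at e
    have e' := Spec.map_injective e
    rw [← hα', ← hβ']
    congr 2
    exact CommRingCat.hom_ext (RingHom.ext fun a =>
      Subtype.ext (RingHom.congr_fun (congrArg CommRingCat.Hom.hom e') a))
  obtain ⟨⟨z₀, ψ⟩, hl⟩ :=
    (Scheme.SpecToEquivOfField F (pullback f g)).symm.surjective (pullback.lift _ _ hc)
  have hl' : Spec.map ψ ≫ (pullback f g).fromSpecResidueField z₀ = pullback.lift _ _ hc := hl
  have hιl : Spec.map ι ≫ Spec.map ψ ≫ (pullback f g).fromSpecResidueField z₀ =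
      (pullback f g).fromSpecResidueField z := by
    rw [hl']
    apply pullback.hom_ext
    · rw [Category.assoc, pullback.lift_fst, hX']
    · rw [Category.assoc, pullback.lift_snd, hY']
  obtain rfl : z₀ = z := by
    have h := congrArg (fun m : Spec ((pullback f g).residueField z) ⟶ pullback f g =>
      m (closedPoint ((pullback f g).residueField z))) hιl
    simp only [Scheme.Hom.comp_apply, Scheme.fromSpecResidueField_apply] at h
    exact h
  have hψ : ψ ≫ ι = 𝟙 _ := by
    apply Spec.map_injective
    rw [← cancel_mono ((pullback f g).fromSpecResidueField z₀), Spec.map_id, Category.id_comp,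
      Spec.map_comp, Category.assoc, hιl]
  rw [eq_top_iff]
  intro a _
  have h := RingHom.congr_fun (congrArg CommRingCat.Hom.hom hψ) a
  have h' : ((ψ.hom a : F) : (pullback f g).residueField z₀) = a := h
  rw [← h']
  exact (ψ.hom a).2

/-- The residue field of a point of a fibre product: bound on the transcendence degree. -/
theorem trdeg_snd_le (z : ↥(pullback f g)) :
    @Algebra.trdeg (Y.residueField (pullback.snd f g z)) ((pullback f g).residueField z) _ _
      ((pullback.snd f g).residueFieldMap z).hom.toAlgebra ≤
    @Algebra.trdeg (S.residueField (f (pullback.fst f g z)))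
      (X.residueField (pullback.fst f g z)) _ _
      (f.residueFieldMap (pullback.fst f g z)).hom.toAlgebra := by
  have e : pullback.fst f g ≫ f = pullback.snd f g ≫ g := pullback.condition
  have hp : f (pullback.fst f g z) = g (pullback.snd f g z) :=
    congrArg (fun m : pullback f g ⟶ S => m z) e
  have hc := Scheme.Hom.residueFieldMap_congr e z
  rw [Scheme.residueFieldMap_comp, Scheme.residueFieldMap_comp] at hc
  let j : S.residueField (f (pullback.fst f g z)) ⟶
      Y.residueField (pullback.snd f g z) :=
    (S.residueFieldCongr hp).hom ≫ g.residueFieldMap (pullback.snd f g z)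
  let _ := (f.residueFieldMap (pullback.fst f g z)).hom.toAlgebra
  let _ := j.hom.toAlgebra
  let _ := ((pullback.snd f g).residueFieldMap z).hom.toAlgebra
  let _ := ((pullback.fst f g).residueFieldMap z).hom.toAlgebra
  refine EGA43.FibDepth.trdeg_composite_le
    (congrArg CommRingCat.Hom.hom (hc.trans (Category.assoc _ _ _).symm)) ?_
  exact closure_residueField_pullback f g z

/-- The residue field of a point of a fibre product: bound on the transcendence degree, other side. -/
theorem trdeg_fst_le (z : ↥(pullback f g)) :
    @Algebra.trdeg (X.residueField (pullback.fst f g z)) ((pullback f g).residueField z) _ _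
      ((pullback.fst f g).residueFieldMap z).hom.toAlgebra ≤
    @Algebra.trdeg (S.residueField (g (pullback.snd f g z)))
      (Y.residueField (pullback.snd f g z)) _ _
      (g.residueFieldMap (pullback.snd f g z)).hom.toAlgebra := by
  have e : pullback.snd f g ≫ g = pullback.fst f g ≫ f := pullback.condition.symm
  have hp : g (pullback.snd f g z) = f (pullback.fst f g z) :=
    congrArg (fun m : pullback f g ⟶ S => m z) e
  have hc := Scheme.Hom.residueFieldMap_congr e z
  rw [Scheme.residueFieldMap_comp, Scheme.residueFieldMap_comp] at hc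
  let j : S.residueField (g (pullback.snd f g z)) ⟶ X.residueField (pullback.fst f g z) :=
    (S.residueFieldCongr hp).hom ≫ f.residueFieldMap (pullback.fst f g z)
  let _ := (g.residueFieldMap (pullback.snd f g z)).hom.toAlgebra
  let _ := j.hom.toAlgebra
  let _ := ((pullback.snd f g).residueFieldMap z).hom.toAlgebra
  let _ := ((pullback.fst f g).residueFieldMap z).hom.toAlgebra
  refine EGA43.FibDepth.trdeg_composite_le
    (congrArg CommRingCat.Hom.hom (hc.trans (Category.assoc _ _ _).symm)) ?_
  exact (congrArg Subfield.closure (Set.union_comm _ _)).trans (closure_residueField_pullback f g z)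

/-- Over a pair of points with the same image there is a point of the fibre product attaining the
bound. -/
theorem exists_point_trdeg_le (x : X) (y : Y) (h : g y = f x) :
    ∃ z : ↥(pullback f g), pullback.fst f g z = x ∧ pullback.snd f g z = y ∧
      @Algebra.trdeg (S.residueField (f (pullback.fst f g z)))
        (X.residueField (pullback.fst f g z)) _ _
        (f.residueFieldMap (pullback.fst f g z)).hom.toAlgebra ≤
      @Algebra.trdeg (Y.residueField (pullback.snd f g z)) ((pullback f g).residueField z) _ _
        ((pullback.snd f g).residueFieldMap z).hom.toAlgebra := by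
  let j : S.residueField (f x) ⟶ Y.residueField y :=
    (S.residueFieldCongr h.symm).hom ≫ g.residueFieldMap y
  let _ := (f.residueFieldMap x).hom.toAlgebra
  let _ := j.hom.toAlgebra
  let T := X.residueField x ⊗[S.residueField (f x)] Y.residueField y
  have : Nontrivial T := TensorProduct.nontrivial_of_linearMap_injective_of_flat_right _ _ _
    (Algebra.linearMap (S.residueField (f x)) (X.residueField x))
    (algebraMap (S.residueField (f x)) (X.residueField x)).injective
  obtain ⟨Q, hQ⟩ := Ideal.exists_maximal T
  obtain ⟨P, hP, -, hle⟩ := EGA43.FibDepth.exists_le_trdeg_le Q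
  let jX : X.residueField x ⟶ CommRingCat.of P.ResidueField :=
    CommRingCat.ofHom ((algebraMap T P.ResidueField).comp
      (Algebra.TensorProduct.includeLeftRingHom :
        X.residueField x →+* T))
  let jY : Y.residueField y ⟶ CommRingCat.of P.ResidueField :=
    CommRingCat.ofHom ((algebraMap T P.ResidueField).comp
      (Algebra.TensorProduct.includeRight (R := S.residueField (f x))
        (A := X.residueField x) (B := Y.residueField y)).toRingHom)
  have hj : f.residueFieldMap x ≫ jX = j ≫ jY := by
    refine CommRingCat.hom_ext (RingHom.ext fun a => congrArg (algebraMap T P.ResidueField) ?_)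
    show algebraMap _ (X.residueField x) a ⊗ₜ (1 : Y.residueField y) =
      (1 : X.residueField x) ⊗ₜ algebraMap _ (Y.residueField y) a
    rw [Algebra.algebraMap_eq_smul_one, Algebra.algebraMap_eq_smul_one, smul_tmul]
  have hc : (Spec.map jX ≫ X.fromSpecResidueField x) ≫ f =
      (Spec.map jY ≫ Y.fromSpecResidueField y) ≫ g := by
    rw [Category.assoc, Category.assoc, ← Scheme.Hom.SpecMap_residueFieldMap_fromSpecResidueField,
      ← Scheme.Hom.SpecMap_residueFieldMap_fromSpecResidueField, ← Spec.map_comp_assoc,
      ← Spec.map_comp_assoc, hj]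
    simp only [j, Spec.map_comp, Category.assoc, Scheme.residueFieldCongr_fromSpecResidueField]
  obtain ⟨⟨z, ψ⟩, hl⟩ :=
    (Scheme.SpecToEquivOfField P.ResidueField (pullback f g)).symm.surjective
      (pullback.lift _ _ hc)
  have hl' : Spec.map ψ ≫ (pullback f g).fromSpecResidueField z = pullback.lift _ _ hc := hl
  have h1 : Spec.map ψ ≫ (pullback f g).fromSpecResidueField z ≫ pullback.fst f g =
      Spec.map jX ≫ X.fromSpecResidueField x := by
    rw [← Category.assoc, hl', pullback.lift_fst]
  have h2 : Spec.map ψ ≫ (pullback f g).fromSpecResidueField z ≫ pullback.snd f g =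
      Spec.map jY ≫ Y.fromSpecResidueField y := by
    rw [← Category.assoc, hl', pullback.lift_snd]
  have p1 := congrArg (fun m : Spec (CommRingCat.of P.ResidueField) ⟶ X =>
    m (closedPoint P.ResidueField)) h1
  have p2 := congrArg (fun m : Spec (CommRingCat.of P.ResidueField) ⟶ Y =>
    m (closedPoint P.ResidueField)) h2
  simp only [Scheme.Hom.comp_apply, Scheme.fromSpecResidueField_apply] at p1 p2
  refine ⟨z, p1, p2, ?_⟩
  subst p1 p2
  rw [← Scheme.Hom.SpecMap_residueFieldMap_fromSpecResidueField, ← Spec.map_comp_assoc] at h1 h2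
  have e1 := specMap_fromSpec_inj _ h1
  have e2 := specMap_fromSpec_inj _ h2
  let _ := ((pullback.snd f g).residueFieldMap z).hom.toAlgebra
  let _ : Algebra (Y.residueField (pullback.snd f g z)) P.ResidueField := jY.hom.toAlgebra
  refine (hle P.ResidueField (algebraMap T P.ResidueField) rfl
    (Ideal.ext fun w => Ideal.algebraMap_residueField_eq_zero)).trans_eq ?_
  let ψA : (pullback f g).residueField z →ₐ[Y.residueField (pullback.snd f g z)] P.ResidueField :=
    { ψ.hom with commutes' := fun a => RingHom.congr_fun (congrArg CommRingCat.Hom.hom e2) a }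
  have hsurj : Function.Surjective ψA := by
    have := EGA43.FibDepth.closure_residueField_le (q := ⟨P, hP⟩) ψ.hom.fieldRange fun w => ?_
    · intro a
      exact (this ▸ Subfield.mem_top a : a ∈ ψ.hom.fieldRange)
    induction w using TensorProduct.induction_on with
    | zero => rw [map_zero]; exact zero_mem _
    | add u v hu hv => rw [map_add]; exact add_mem hu hv
    | tmul a b =>
      have : (a ⊗ₜ b : T) = (a ⊗ₜ (1 : Y.residueField _)) * ((1 : X.residueField _) ⊗ₜ b) := by
        rw [Algebra.TensorProduct.tmul_mul_tmul, mul_one, one_mul]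
      rw [this, map_mul]
      exact mul_mem ⟨_, RingHom.congr_fun (congrArg CommRingCat.Hom.hom e1) a⟩
        ⟨_, RingHom.congr_fun (congrArg CommRingCat.Hom.hom e2) b⟩
  exact (AlgEquiv.ofBijective ψA ⟨ψA.toRingHom.injective, hsurj⟩).trdeg_eq.symm

section Dim

/-- If only the maximal ideal lies over the maximal ideal, the dimension does not go up. -/
theorem ringKrullDim_le_of_closedFibre {R S : Type u} [CommRing R] [CommRing S] [IsLocalRing R]
    [IsLocalRing S] [IsNoetherianRing R] [IsNoetherianRing S] [Algebra R S]
    (hm : maximalIdeal R ≤ (maximalIdeal S).comap (algebraMap R S))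
    (hfib : ∀ q : Ideal S, q.IsPrime → q.comap (algebraMap R S) = maximalIdeal R →
      q = maximalIdeal S) :
    ringKrullDim S ≤ ringKrullDim R := by
  classical
  rw [← maximalIdeal_height_eq_ringKrullDim, ← maximalIdeal_height_eq_ringKrullDim]
  obtain ⟨s, hs, hcard⟩ := (maximalIdeal R).exists_finset_card_eq_height_of_isNoetherianRing
  have hrad : maximalIdeal R ≤ (Ideal.span (s : Set R)).radical := by
    rw [Ideal.radical_eq_sInf]
    refine le_sInf ?_
    rintro q ⟨hq, hqp⟩
    exact hs.2 ⟨hqp, hq⟩ (le_maximalIdeal hqp.ne_top)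
  have hmem : maximalIdeal S ∈
      (Ideal.span ((s.image (algebraMap R S) : Finset S) : Set S)).minimalPrimes := by
    refine ⟨⟨inferInstance, ?_⟩, ?_⟩
    · rw [Finset.coe_image, ← Ideal.map_span, Ideal.map_le_iff_le_comap]
      exact hs.1.2.trans hm
    · rintro q ⟨hq, hle⟩ -
      rw [Finset.coe_image, ← Ideal.map_span, Ideal.map_le_iff_le_comap] at hle
      refine (hfib q hq (le_antisymm (le_maximalIdeal (Ideal.IsPrime.comap _).ne_top) ?_)).ge
      exact hrad.trans ((Ideal.IsPrime.radical_le_iff (Ideal.IsPrime.comap _)).mpr hle)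
  have h1 := Ideal.height_le_card_of_mem_minimalPrimes_span_finset hmem
  exact_mod_cast h1.trans (le_trans (Nat.cast_le.mpr Finset.card_image_le) hcard.le)

variable (A A' : Type u) [CommRing A] [CommRing A'] [IsLocalRing A] [IsLocalRing A']
  [Algebra A A'] [Module.FaithfullyFlat A A']

theorem comap_maximalIdeal_eq (hfib : ∀ q : Ideal A', ∀ _ : q.IsPrime,
    q.comap (algebraMap A A') = maximalIdeal A → q = maximalIdeal A') :
    (maximalIdeal A').comap (algebraMap A A') = maximalIdeal A := by
  obtain ⟨q, hq⟩ := PrimeSpectrum.comap_surjective_of_faithfullyFlat (A := A) (B := A')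
    (closedPoint A)
  have h : q.asIdeal.comap (algebraMap A A') = maximalIdeal A :=
    congrArg PrimeSpectrum.asIdeal hq
  rw [← hfib q.asIdeal q.2 h]
  exact h

variable [IsNoetherianRing A] [IsNoetherianRing A']

theorem ringKrullDim_quotient_le (hfib : ∀ q : Ideal A', ∀ _ : q.IsPrime,
    q.comap (algebraMap A A') = maximalIdeal A → q = maximalIdeal A')
    (p : Ideal A) [p.IsPrime] (q : Ideal A') [q.IsPrime] (hpq : p = q.comap (algebraMap A A')) :
    ringKrullDim (A' ⧸ q) ≤ ringKrullDim (A ⧸ p) := by
  have : IsLocalRing (A ⧸ p) :=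
    IsLocalRing.of_surjective' (Ideal.Quotient.mk p) Ideal.Quotient.mk_surjective
  have : IsLocalRing (A' ⧸ q) :=
    IsLocalRing.of_surjective' (Ideal.Quotient.mk q) Ideal.Quotient.mk_surjective
  let φ : A ⧸ p →+* A' ⧸ q := Ideal.quotientMap q (algebraMap A A') hpq.le
  let _ := φ.toAlgebra
  have hmA := map_maximalIdeal_of_surjective (Ideal.Quotient.mk p) Ideal.Quotient.mk_surjective
  have hmA' := map_maximalIdeal_of_surjective (Ideal.Quotient.mk q) Ideal.Quotient.mk_surjective
  refine ringKrullDim_le_of_closedFibre ?_ fun Q hQ hQm => ?_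
  · rw [← hmA, ← hmA', Ideal.map_le_iff_le_comap]
    intro a ha
    show φ (Ideal.Quotient.mk p a) ∈ (maximalIdeal A').map (Ideal.Quotient.mk q)
    rw [Ideal.quotientMap_mk]
    exact Ideal.mem_map_of_mem _ ((comap_maximalIdeal_eq A A' hfib).ge ha)
  · have := hfib (Q.comap (Ideal.Quotient.mk q)) (Ideal.IsPrime.comap _) ?_
    · rw [← hmA', ← this, Ideal.map_comap_of_surjective _ Ideal.Quotient.mk_surjective]
    · have h2 : (maximalIdeal (A ⧸ p)).comap (Ideal.Quotient.mk p) = maximalIdeal A :=
        eq_maximalIdeal (Ideal.comap_isMaximal_of_surjective _ Ideal.Quotient.mk_surjective)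
      rw [← h2, ← hQm, Ideal.comap_comap, Ideal.comap_comap]
      rfl

theorem exists_prime_ringKrullDim_quotient_ge (hfib : ∀ q : Ideal A', ∀ _ : q.IsPrime,
    q.comap (algebraMap A A') = maximalIdeal A → q = maximalIdeal A')
    (p : Ideal A) [p.IsPrime] :
    ∃ q : PrimeSpectrum A', q.asIdeal.comap (algebraMap A A') = p ∧
      ringKrullDim (A ⧸ p) ≤ ringKrullDim (A' ⧸ q.asIdeal) := by
  have : IsLocalRing (A ⧸ p) :=
    IsLocalRing.of_surjective' (Ideal.Quotient.mk p) Ideal.Quotient.mk_surjective
  let l := LTSeries.longestOf (PrimeSpectrum (A ⧸ p))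
  have hhead : l.head.asIdeal = ⊥ := by
    by_contra hne
    have hlt : (⟨⊥, Ideal.isPrime_bot⟩ : PrimeSpectrum (A ⧸ p)) < l.head :=
      show (⊥ : Ideal (A ⧸ p)) < l.head.asIdeal from bot_lt_iff_ne_bot.mpr hne
    have h := LTSeries.longestOf_is_longest (l.cons _ hlt)
    rw [RelSeries.cons_length] at h
    change l.length + 1 ≤ l.length at h
    omega
  have hdim : ringKrullDim (A ⧸ p) = l.length :=
    Order.krullDim_eq_length_of_finiteDimensionalOrder
  let c : PrimeSpectrum (A ⧸ p) → PrimeSpectrum A := PrimeSpectrum.comap (Ideal.Quotient.mk p)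
  have hcmono : StrictMono c := fun a b hab =>
    lt_of_le_of_ne (Ideal.comap_mono hab.le) fun he => hab.ne
      (PrimeSpectrum.comap_injective_of_surjective _ Ideal.Quotient.mk_surjective he)
  let l' := l.map c hcmono
  obtain ⟨P, hP⟩ := PrimeSpectrum.comap_surjective_of_faithfullyFlat (A := A) (B := A') l'.last
  have : P.asIdeal.LiesOver l'.last.asIdeal := ⟨congr(($hP).asIdeal).symm⟩
  obtain ⟨L, hL, -, hmap⟩ := Ideal.exists_ltSeries_of_hasGoingDown l' P.asIdeal
  have hhd : PrimeSpectrum.comap (algebraMap A A') L.head = l'.head := by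
    rw [← L.toList_getElem_zero_eq_head, ← l'.toList_getElem_zero_eq_head,
      List.getElem_map_rev (PrimeSpectrum.comap (algebraMap A A')), List.getElem_of_eq hmap _]
  refine ⟨L.head, ?_, ?_⟩
  · refine (congrArg PrimeSpectrum.asIdeal hhd).trans ?_
    show (c l.head).asIdeal = p
    show l.head.asIdeal.comap (Ideal.Quotient.mk p) = p
    rw [hhead, ← RingHom.ker_eq_comap_bot, Ideal.mk_ker]
  · rw [hdim, ringKrullDim_quotient]
    let L' : LTSeries (PrimeSpectrum.zeroLocus (L.head.asIdeal : Set A')) :=
      LTSeries.mk L.length (fun i => ⟨L i, LTSeries.head_le L i⟩) fun i j hij =>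
        L.strictMono hij
    have h : L.length = l.length := hL
    rw [← h]
    exact Order.LTSeries.length_le_krullDim L'

end Dim

end Groth.Agent.Et18.ResComp
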