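import Groth.Agent.Et18.TorsionColim
import Groth.Agent.Et18.RDCompD
import Groth.Agent.DCat.Acyclic
import Groth.Agent.DCat.RHomExist
import Groth.Agent.Et18.SmallSiteBasics
import Mathlib.CategoryTheory.Limits.Constructions.Filtered

/-!
# Derived direct image commutes with direct sums in finite cohomological dimension
-/

set_option autoImplicit false
set_option linter.all false
set_option backward.isDefEq.respectTransparency.types false
set_option backward.isDefEq.respectTransparency false
set_option backward.defeqAttrib.useBackward true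
set_option synthInstance.maxHeartbeats 100000

universe u w v v' u₁ u₂

open CategoryTheory CategoryTheory.Limits CategoryTheory.Abelian AlgebraicGeometry Opposite

namespace Groth.Agent.Et18.RpushCoprod

open CoproductsFromFiniteFiltered

section Generic

variable {A : Type u₁} [Category.{v} A] {B : Type u₂} [Category.{v'} B] {α : Type w}
  [HasFiniteCoproducts A] [HasColimitsOfShape (Finset (Discrete α)) A]

/-- A functor commuting with finite sums and with filtered colimits commutes with sums. -/
theorem preservesCoproducts_of_filtered (F : A ⥤ B) [PreservesFiniteCoproducts F]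
    [PreservesColimitsOfShape (Finset (Discrete α)) F] : PreservesColimitsOfShape (Discrete α) F := by
  classical
  refine ⟨fun {D} => ?_⟩
  let c := liftToFinsetColimitCocone D
  let hc := isColimitOfPreserves F (colimit.isColimit (liftToFinsetObj D))
  let hS : ∀ S : Finset (Discrete α), IsColimit (F.mapCocone (colimit.cocone (Discrete.functor fun x : S => D.obj x.val))) :=
    fun S => isColimitOfPreserves F (colimit.isColimit _)
  let σ : ∀ (s : Cocone (D ⋙ F)) (S : Finset (Discrete α)), F.obj ((liftToFinsetObj D).obj S) ⟶ s.pt := fun s S =>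
    (hS S).desc ⟨s.pt, Discrete.natTrans fun x => s.ι.app x.as.val⟩
  have hσ : ∀ (s : Cocone (D ⋙ F)) (S : Finset (Discrete α)) (x : S),
      F.map (colimit.ι (Discrete.functor fun x : S => D.obj x.val) ⟨x⟩) ≫ σ s S = s.ι.app x.val :=
    fun s S x => (hS S).fac _ ⟨x⟩
  let σc : ∀ s : Cocone (D ⋙ F), Cocone (liftToFinsetObj D ⋙ F) := fun s =>
    { pt := s.pt
      ι :=
        { app := σ s
          naturality := fun S T h => by
            refine (hS S).hom_ext fun ⟨x⟩ => ?_
            dsimp
            rw [Category.comp_id, hσ, ← Category.assoc, ← F.map_comp]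
            erw [colimit.ι_desc]
            exact hσ s T _ } }
  refine preservesColimit_of_preserves_colimit_cocone c.isColimit ?_
  refine { desc := fun s => hc.desc (σc s), fac := fun s j => ?_, uniq := fun s m hm => ?_ }
  · dsimp [c, liftToFinsetColimitCocone]
    rw [F.map_comp, Category.assoc]
    erw [hc.fac (σc s) {j}]
    exact hσ s {j} ⟨j, by simp⟩
  · refine hc.uniq (σc s) m fun S => ?_
    refine (hS S).hom_ext fun ⟨x⟩ => ?_
    refine Eq.trans ?_ (hσ s S x).symm
    rw [← hm x.val]
    dsimp
    rw [← Category.assoc, ← F.map_comp]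
    refine congrArg (fun z => F.map z ≫ m) ?_
    have h := colimit.w (liftToFinsetObj D) (homOfLE (Finset.singleton_subset_iff.2 x.2) : {x.val} ⟶ S)
    dsimp [c, liftToFinsetColimitCocone]
    rw [← h]
    simp [liftToFinsetObj]

end Generic

variable {X Y : Scheme.{u}}

/-- Sections over an étale scheme. -/
noncomputable abbrev secAt (W : X.Etale) : EtCoh.Ab X ⥤ AddCommGrpCat.{u + 1} :=
  sheafToPresheaf X.smallEtaleTopology AddCommGrpCat.{u + 1} ⋙
    (evaluation X.Etaleᵒᵖ AddCommGrpCat.{u + 1}).obj (op W)

theorem isIso_of_affine {A B : EtCoh.Ab Y} (φ : A ⟶ B)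
    (h : ∀ V : Y.Etale, IsAffine V.left → Function.Bijective (φ.hom.app (op V))) : IsIso φ := by
  have : Mono φ := by
    haveI hm : Mono φ.hom := by
      have : ∀ U, Mono (φ.hom.app U) := fun U => by
        rw [AddCommGrpCat.mono_iff_injective]
        refine (injective_iff_map_eq_zero (φ.hom.app (op U.unop)).hom).2 fun s hs => ?_
        obtain ⟨W, hW⟩ := exists_vanishing_locus A U.unop s
        have hall : Set.range (𝟙 U.unop : U.unop ⟶ U.unop).left.base ⊆ (W : Set U.unop.left) := fun x _ => by
          obtain ⟨V, g, hV, v, hv⟩ := TorsionColim.exists_affine_obj U.unop x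
          refine hv ▸ (hW V g).1 ((h V hV).1 ?_) ⟨v, rfl⟩
          rw [map_zero]
          refine (NatTrans.naturality_apply φ.hom g.op s).trans ?_
          exact (congrArg _ hs).trans (map_zero _)
        have := (hW _ _).2 hall
        simpa using this
      exact NatTrans.mono_of_mono_app _
    exact (sheafToPresheaf _ _).mono_of_mono_map (show Mono ((sheafToPresheaf _ _).map φ) from hm)
  have : Epi φ := by
    have : Sheaf.IsLocallySurjective φ := ⟨fun {U} s => mem_smallEtaleTopology_of_points _ fun x => by
      obtain ⟨V, g, hV, v, hv⟩ := TorsionColim.exists_affine_obj U x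
      exact ⟨V, g, v, (h V hV).2 (B.obj.map g.op s), etale_left g, hv⟩⟩
    exact (Sheaf.isLocallySurjective_iff_epi' (φ := φ) ..).mp this
  exact isIso_of_mono_of_epi φ

variable (f : X ⟶ Y)

theorem qcqs_bc [QuasiCompact f] [QuasiSeparated f] (V : Y.Etale) (hV : IsAffine V.left) :
    CompactSpace ((EtCoh.bc f).obj V).left ∧ QuasiSeparatedSpace ((EtCoh.bc f).obj V).left :=
  haveI : IsAffine ((𝟭 Scheme.{u}).obj V.left) := hV
  ⟨QuasiCompact.compactSpace_of_compactSpace (pullback.fst V.hom f),
    quasiSeparatedSpace_of_quasiSeparated (pullback.fst V.hom f)⟩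

/-- Direct image along a qcqs morphism commutes with filtered colimits. -/
theorem preservesFiltered_push [QuasiCompact f] [QuasiSeparated f] (Λ : Type (u + 1)) [SmallCategory Λ]
    [IsFiltered Λ] : PreservesColimitsOfShape Λ (EtCoh.push f) := by
  refine ⟨fun {D} => preservesColimit_of_preserves_colimit_cocone (colimit.isColimit D) ?_⟩
  let c := (EtCoh.push f).mapCocone (colimit.cocone D)
  let φ := colimit.desc (D ⋙ EtCoh.push f) c
  haveI : IsIso φ := isIso_of_affine φ fun V hV => by
    obtain ⟨_, _⟩ := qcqs_bc f V hV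
    haveI : CompactSpace V.left := inferInstance
    haveI : QuasiSeparatedSpace V.left := inferInstance
    haveI := Et18.preservesColimitsOfShape_sect (X := Y) V (J := Λ)
    haveI := Et18.preservesColimitsOfShape_sect (X := X) ((EtCoh.bc f).obj V) (J := Λ)
    let h₁ := isColimitOfPreserves (secAt V) (colimit.isColimit (D ⋙ EtCoh.push f))
    let h₂ : IsColimit ((secAt V).mapCocone c) :=
      isColimitOfPreserves (secAt ((EtCoh.bc f).obj V)) (colimit.isColimit D)
    have e : (secAt V).map φ = (h₁.coconePointUniqueUpToIso h₂).hom := h₁.hom_ext fun j => by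
      rw [IsColimit.comp_coconePointUniqueUpToIso_hom]
      exact ((secAt V).map_comp _ _).symm.trans (congrArg (secAt V).map (colimit.ι_desc c j))
    have : IsIso ((secAt V).map φ) := e ▸ inferInstance
    exact (ConcreteCategory.isIso_iff_bijective _).1 this
  exact IsColimit.ofIsoColimit (colimit.isColimit _) (Cocone.ext (asIso φ) fun j => colimit.ι_desc c j)

theorem preservesCoproducts_push [QuasiCompact f] [QuasiSeparated f] (α : Type (u + 1)) :
    PreservesColimitsOfShape (Discrete α) (EtCoh.push f) := by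
  haveI := preservesFiltered_push f (Finset (Discrete α))
  haveI : PreservesFiniteCoproducts (EtCoh.push f) := inferInstance
  exact preservesCoproducts_of_filtered (EtCoh.push f)

section Sections

variable (W : X.Etale)

theorem isZero_rightDerived_secAt (F : EtCoh.Ab X) (q : ℕ)
    (h : Subsingleton (EtCoh.H W.left ((LocCoh.res W).obj F) (q + 1))) :
    IsZero (((secAt W).rightDerived (q + 1)).obj F) := by
  let I := injectiveResolution F
  refine IsZero.of_iso ?_ (I.isoRightDerivedObj (secAt W) (q + 1))
  refine HomologicalComplex.ExactAt.isZero_homology ?_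
  rw [HomologicalComplex.exactAt_iff' _ q (q + 1) (q + 2) (by simp) (by simp), ShortComplex.ab_exact_iff]
  intro s hs
  let R : InjectiveResolution ((LocCoh.res W).obj F) :=
    { cocomplex := ((LocCoh.res W).mapHomologicalComplex _).obj I.cocomplex
      injective := fun n => LocCoh.injective_res W _
      ι := (HomologicalComplex.singleMapHomologicalComplex _ _ _).inv.app F ≫
        ((LocCoh.res W).mapHomologicalComplex _).map I.ι }
  let i := TorsionColim.topIso W
  let s' : (R.cocomplex.X (q + 1)).obj.obj (op (EtCoh.top W.left)) :=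
    (I.cocomplex.X (q + 1)).obj.map i.hom.op s
  obtain ⟨a, ha⟩ := EtLimit.exists_secOf s'
  have had : a ≫ R.cocomplex.d (q + 1) (q + 2) = 0 := EtLimit.secOf_injective (by
    rw [TorsionColim.secOf_comp, ha, EtLimit.secOf_zero]
    refine (NatTrans.naturality_apply (I.cocomplex.d (q + 1) (q + 2)).hom i.hom.op s).trans ?_
    exact (congrArg _ hs).trans (map_zero _))
  have h1 : R.extMk a (q + 2) rfl had = 0 := h.elim _ _
  obtain ⟨g, hg⟩ := (R.extMk_eq_zero_iff _ _ _ _ q rfl).1 h1
  have h2 : (R.cocomplex.d q (q + 1)).hom.app (op (EtCoh.top W.left)) (EtLimit.secOf g) = s' :=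
    (TorsionColim.secOf_comp g _).symm.trans ((congrArg EtLimit.secOf hg).trans ha)
  refine ⟨(I.cocomplex.X q).obj.map i.inv.op (EtLimit.secOf g), ?_⟩
  refine (NatTrans.naturality_apply (I.cocomplex.d q (q + 1)).hom i.inv.op _).trans ?_
  refine (congrArg _ h2).trans ?_
  exact (ConcreteCategory.congr_hom ((I.cocomplex.X (q + 1)).obj.map_comp i.hom.op i.inv.op) s).symm.trans
    (by rw [← op_comp, i.inv_hom_id, op_id, CategoryTheory.Functor.map_id]; rfl)

variable [CompactSpace W.left] [QuasiSeparatedSpace W.left] {α : Type (u + 1)}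

theorem subsingleton_H_coproduct (D : Discrete α ⥤ EtCoh.Ab X) (hD : ∀ a, Injective (D.obj a)) (q : ℕ) :
    Subsingleton (EtCoh.H W.left ((LocCoh.res W).obj (colimit D)) (q + 1)) := by
  haveI : PreservesColimitsOfShape (Finset (Discrete α)) (LocCoh.res W) :=
    haveI := (restrPushAdj (LocCoh.str W)).leftAdjoint_preservesColimits
    inferInstance
  haveI := EtCechLib.preservesColimitsOfShape_HF (X := W.left) (q + 1) (Finset (Discrete α))
  let e := (liftToFinsetColimitCocone D).isColimit.coconePointUniqueUpToIso (colimit.isColimit D)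
  let G := LocCoh.res W ⋙ EtCoh.HF W.left (q + 1)
  have hz : IsZero (G.obj (colimit (liftToFinsetObj D))) := by
    let hc := isColimitOfPreserves G (colimit.isColimit (liftToFinsetObj D))
    rw [IsZero.iff_id_eq_zero]
    refine hc.hom_ext fun S => IsZero.eq_of_src ?_ _ _
    haveI : ∀ x : S, Injective (D.obj x.val) := fun x => hD x.val
    haveI : Injective ((liftToFinsetObj D).obj S) :=
      Injective.of_iso (biproduct.isoCoproduct fun x : S => D.obj x.val) inferInstance
    haveI := LocCoh.injective_res W ((liftToFinsetObj D).obj S)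
    haveI : Subsingleton ((liftToFinsetObj D ⋙ G).obj S : Type (u + 1)) :=
      (⟨fun a b => (Ext.eq_zero_of_injective a).trans (Ext.eq_zero_of_injective b).symm⟩ :
        Subsingleton (EtCoh.H W.left ((LocCoh.res W).obj ((liftToFinsetObj D).obj S)) (q + 1)))
    exact AddCommGrpCat.isZero_of_subsingleton _
  exact AddCommGrpCat.subsingleton_of_isZero (hz.of_iso (G.mapIso e.symm))

theorem acy_coproduct (D : Discrete α ⥤ EtCoh.Ab X) (hD : ∀ a, Injective (D.obj a)) :
    DCat.Acyclic.Acy (secAt W) (colimit D) := fun i hi => by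
  obtain ⟨q, rfl⟩ := Nat.exists_eq_succ_of_ne_zero hi.ne'
  exact isZero_rightDerived_secAt W _ q (subsingleton_H_coproduct W D hD q)

end Sections

/-- Direct image keeps exact a complex of acyclic sheaves, when the cohomological dimensions are finite. -/
theorem acyclic_push [QuasiCompact f] [QuasiSeparated f]
    (hX : ∀ U : X.Etale, CompactSpace ↥(U.left) → QuasiSeparatedSpace ↥(U.left) →
      ∃ d : ℕ, ∀ (F : EtCoh.Ab U.left) (q : ℕ), d < q → Subsingleton (EtCoh.H U.left F q))
    (K : CochainComplex (EtCoh.Ab X) ℤ) (hK : K.Acyclic)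
    (hA : ∀ (W : X.Etale), CompactSpace ↥(W.left) → QuasiSeparatedSpace ↥(W.left) →
      ∀ m, DCat.Acyclic.Acy (secAt W) (K.X m)) :
    (((EtCoh.push f).mapHomologicalComplex (ComplexShape.up ℤ)).obj K).Acyclic := by
  intro j
  set L := ((EtCoh.push f).mapHomologicalComplex (ComplexShape.up ℤ)).obj K with hL
  rw [HomologicalComplex.exactAt_iff_isZero_homology, IsZero.iff_id_eq_zero]
  haveI : Epi (L.toCycles (j - 1) j) := by
    haveI : Sheaf.IsLocallySurjective (L.toCycles (j - 1) j) := ⟨fun {U} c => mem_smallEtaleTopology_of_points _ fun x => by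
      obtain ⟨V, g, hV, v, hv⟩ := TorsionColim.exists_affine_obj U x
      obtain ⟨i₁, i₂⟩ := qcqs_bc f V hV
      obtain ⟨d, hd⟩ := hX ((EtCoh.bc f).obj V) i₁ i₂
      let W := (EtCoh.bc f).obj V
      haveI : CompactSpace W.left := i₁
      haveI : QuasiSeparatedSpace W.left := i₂
      have hex := DCat.Acyclic.acyclic_map (F := secAt W) (d + 1)
        (fun F => isZero_rightDerived_secAt W F d (hd _ (d + 1) d.lt_succ_self)) K hK (hA W i₁ i₂) j
      rw [HomologicalComplex.exactAt_iff' _ (j - 1) j (j + 1) (by simp) (by simp), ShortComplex.ab_exact_iff] at hex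
      let c' := L.cycles j |>.obj.map g.op c
      obtain ⟨t, ht⟩ := hex ((L.iCycles j).hom.app (op V) c')
        (ConcreteCategory.congr_hom (congrArg (fun k => k.hom.app (op V)) (L.iCycles_d j (j + 1))) c')
      refine ⟨V, g, v, ⟨t, ?_⟩, etale_left g, hv⟩
      refine (AddCommGrpCat.mono_iff_injective ((L.iCycles j).hom.app (op V))).1
        (inferInstanceAs (Mono (((sheafToPresheaf _ _).map (L.iCycles j)).app (op V)))) ?_
      exact (ConcreteCategory.congr_hom (congrArg (fun k => k.hom.app (op V)) (L.toCycles_i (j - 1) j)) t).trans ht⟩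
    exact (Sheaf.isLocallySurjective_iff_epi' (φ := L.toCycles (j - 1) j) ..).mp this
  rw [← cancel_epi (L.homologyπ j), ← cancel_epi (L.toCycles (j - 1) j),
    L.toCycles_comp_homologyπ_assoc, zero_comp, comp_zero, comp_zero]

attribute [local instance] HasDerivedCategory.standard

theorem preservesCoproducts_RpushEt [QuasiCompact f] [QuasiSeparated f] [DCoh.HasRpushEt X f]
    (hX : ∀ U : X.Etale, CompactSpace ↥(U.left) → QuasiSeparatedSpace ↥(U.left) →
      ∃ d : ℕ, ∀ (F : EtCoh.Ab U.left) (q : ℕ), d < q → Subsingleton (EtCoh.H U.left F q))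
    (ι : Type (u + 1)) : PreservesColimitsOfShape (Discrete ι) (DCoh.RpushEt X f) := by
  refine ⟨fun {K} => ?_⟩
  let qt := HomotopyCategory.quotient (EtCoh.Ab X) (ComplexShape.up ℤ)
  let P := (EtCoh.push f).mapHomologicalComplex (ComplexShape.up ℤ)
  let R := DCoh.RpushEt X f
  let η := (DCoh.pushEtKh X f).totalRightDerivedUnit DerivedCategory.Qh
    (HomotopyCategory.quasiIso (EtCoh.Ab X) (ComplexShape.up ℤ))
  let α : P ⋙ DerivedCategory.Q ⟶ DerivedCategory.Q ⋙ R :=
    Functor.whiskerLeft P (DerivedCategory.quotientCompQhIso (EtCoh.Ab Y)).inv ≫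
      (Functor.associator _ _ _).inv ≫
      Functor.whiskerRight ((EtCoh.push f).mapHomotopyCategoryFactors (ComplexShape.up ℤ)).inv DerivedCategory.Qh ≫
      (Functor.associator _ _ _).hom ≫
      Functor.whiskerLeft qt η ≫ (Functor.associator _ _ _).inv ≫
      Functor.whiskerRight (DerivedCategory.quotientCompQhIso (EtCoh.Ab X)).hom R
  have hαη : ∀ C, IsIso (η.app (qt.obj C)) → IsIso (α.app C) := fun C _ => by
    dsimp [α]
    infer_instance
  have hrep : ∀ t, ∃ (J : CochainComplex (EtCoh.Ab X) ℤ), J.IsKInjective ∧ (∀ m, Injective (J.X m)) ∧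
      Nonempty (DerivedCategory.Q.obj J ≅ K.obj t) := fun t => by
    obtain ⟨I, s, hI, hs, -, hinj⟩ := DCat.exists_kInj_res (DerivedCategory.Q.objPreimage (K.obj t))
    exact ⟨I, hI, hinj, ⟨(asIso (DerivedCategory.Q.map s)).symm ≪≫ DerivedCategory.Q.objObjPreimageIso _⟩⟩
  choose J hJ hJinj hJiso using hrep
  let K' : Discrete ι ⥤ CochainComplex (EtCoh.Ab X) ℤ := Discrete.functor fun t => J ⟨t⟩
  let eK : K' ⋙ DerivedCategory.Q ≅ K := Discrete.natIso fun t => (hJiso t).some
  haveI := DCat.RHomExist.preservesCoproducts_Q (A := EtCoh.Ab X) ι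
  haveI := DCat.RHomExist.preservesCoproducts_Q (A := EtCoh.Ab Y) ι
  haveI := preservesCoproducts_push f ι
  haveI : PreservesColimitsOfShape (Discrete ι) P := ⟨fun {D} => ⟨fun {c} hc =>
    ⟨HomologicalComplex.isColimitOfEval _ _ fun i =>
      isColimitOfPreserves (EtCoh.push f) (isColimitOfPreserves (HomologicalComplex.eval _ _ i) hc)⟩⟩⟩
  let C := colimit K'
  haveI : ∀ t, IsIso (α.app (K'.obj t)) := fun t => hαη _
    (DCat.isIso_unit_of_kInj (RDCompD.enoughKInj_ab X) (DCoh.pushEtKh X f) _ (hJ ⟨t.as⟩))
  haveI : IsIso (α.app C) := hαη _ (by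
    obtain ⟨I, s, hI, hs, -, hinj⟩ := DCat.exists_kInj_res C
    haveI := DCat.isIso_unit_of_kInj (RDCompD.enoughKInj_ab X) (DCoh.pushEtKh X f) I hI
    haveI : IsIso ((DCoh.pushEtKh X f).map (qt.map s)) :=
      DCat.Acyclic.isIso_Qh_map_map (F := EtCoh.push f) (qt.map s)
        ((HomotopyCategory.quotient_map_mem_quasiIso_iff s).2 hs) fun g hg => by
        refine acyclic_push f hX _ hg fun W hc hq m => ?_
        refine DCat.Acyclic.acy_mappingCone_X g (fun m => ?_) (fun m => ?_) m
        · exact (acy_coproduct W (K' ⋙ HomologicalComplex.eval _ _ m) (fun t => hJinj _ m)).of_iso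
            (preservesColimitIso (HomologicalComplex.eval _ _ m) K').symm
        · haveI : Injective (I.X m) := hinj m
          exact DCat.Acyclic.acy_injective (I.X m)
    haveI : IsIso (DerivedCategory.Qh.map (qt.map s)) :=
      Localization.inverts DerivedCategory.Qh (HomotopyCategory.quasiIso _ (ComplexShape.up ℤ)) _
        ((HomotopyCategory.quotient_map_mem_quasiIso_iff s).2 hs)
    have hn := η.naturality (qt.map s)
    haveI : IsIso ((DerivedCategory.Qh ⋙ R).map (qt.map s)) :=
      inferInstanceAs (IsIso (R.map (DerivedCategory.Qh.map (qt.map s))))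
    haveI : IsIso (η.app (qt.obj C) ≫ (DerivedCategory.Qh ⋙ R).map (qt.map s)) := hn ▸ inferInstance
    exact IsIso.of_isIso_comp_right (η.app (qt.obj C)) ((DerivedCategory.Qh ⋙ R).map (qt.map s)))
  haveI : PreservesColimit (K' ⋙ DerivedCategory.Q) R := by
    refine preservesColimit_of_preserves_colimit_cocone
      (isColimitOfPreserves DerivedCategory.Q (colimit.isColimit K')) ?_
    let hc := isColimitOfPreserves (P ⋙ DerivedCategory.Q) (colimit.isColimit K')
    let β : K' ⋙ P ⋙ DerivedCategory.Q ≅ (K' ⋙ DerivedCategory.Q) ⋙ R :=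
      NatIso.ofComponents (fun t => asIso (α.app (K'.obj t))) (fun g => α.naturality (K'.map g))
    refine IsColimit.ofIsoColimit ((IsColimit.precomposeHomEquiv β.symm _).symm hc)
      (Cocone.ext (asIso (α.app C)) fun t => ?_)
    dsimp [β]
    rw [Category.assoc, IsIso.inv_comp_eq]
    exact α.naturality (colimit.ι K' t)
  exact preservesColimit_of_iso_diagram R eK

end Groth.Agent.Et18.RpushCoprod
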