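import Groth.Agent.Et18.SHClosedPoint
import Groth.Agent.HenselLib.HullDVR
import Mathlib.RingTheory.AlgebraicIndependent.TranscendenceBasis
import Mathlib.RingTheory.Polynomial.Basic
import Mathlib.RingTheory.DiscreteValuationRing.TFAE

/-! Strict henselizations of schemes of finite type over a discrete valuation ring, at points of the
closed fibre, as strict henselizations at closed points over strictly henselian discrete valuation rings. -/

set_option autoImplicit false
set_option linter.style.haveILetI false

universe u

open IsLocalRing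
open scoped TensorProduct

namespace Groth.Agent.Et18.SHClosedDVR

open Groth.Agent

theorem weaklyEtale_includeRight (K E B' : Type u) [CommRing K] [CommRing E] [Algebra K E]
    [CommRing B'] [Algebra K B'] [Algebra.WeaklyEtale K E] :
    @Algebra.WeaklyEtale B' (E ⊗[K] B') _ _
      (Algebra.TensorProduct.includeRight : B' →ₐ[K] E ⊗[K] B').toRingHom.toAlgebra := by
  letI : Algebra B' (E ⊗[K] B') :=
    (Algebra.TensorProduct.includeRight : B' →ₐ[K] E ⊗[K] B').toRingHom.toAlgebra
  have e : (B' ⊗[K] E) ≃ₐ[B'] (E ⊗[K] B') :=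
    AlgEquiv.ofRingEquiv (f := (Algebra.TensorProduct.comm K B' E).toRingEquiv) fun b => rfl
  exact @HenselLib.weaklyEtale_of_equiv B' _ (B' ⊗[K] E) (E ⊗[K] B') _ _ _ _ e _

theorem exists_model {k B R : Type u} [CommRing k] [CommRing B] [CommRing R] [IsLocalRing R]
    [Algebra k B] [Algebra.FiniteType k B] [Algebra k R] [Algebra B R] [IsScalarTower k B R]
    (P : Ideal B) [P.IsPrime] [IsLocalization.AtPrime R P]
    (K : Type u) [CommRing K] [Algebra k K] [Algebra K R] [IsScalarTower k K R] :
    ∃ B' : Subalgebra K R, Algebra.FiniteType K B' ∧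
      IsLocalization.AtPrime R ((maximalIdeal R).comap (algebraMap B' R)) := by
  obtain ⟨t, ht⟩ := Algebra.FiniteType.out (R := k) (A := B)
  classical
  let B' : Subalgebra K R := Algebra.adjoin K ((t.image (algebraMap B R) : Finset R) : Set R)
  have hB : ∀ b : B, algebraMap B R b ∈ B' := fun b => by
    have hb : b ∈ Algebra.adjoin k (t : Set B) := by rw [ht]; trivial
    induction hb using Algebra.adjoin_induction with
    | mem x hx => exact Algebra.subset_adjoin (by simpa using ⟨x, hx, rfl⟩)
    | algebraMap a =>
      rw [← IsScalarTower.algebraMap_apply, IsScalarTower.algebraMap_apply k K R]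
      exact B'.algebraMap_mem _
    | add x y _ _ hx hy => rw [map_add]; exact add_mem hx hy
    | mul x y _ _ hx hy => rw [map_mul]; exact mul_mem hx hy
  refine ⟨B', (Subalgebra.fg_iff_finiteType B').1 ⟨_, rfl⟩, ⟨fun y => ?_, fun r => ?_, fun {x y} h => ?_⟩⟩
  · have hy : algebraMap B' R y ∉ maximalIdeal R := y.2
    rwa [mem_maximalIdeal, mem_nonunits_iff, not_not] at hy
  · obtain ⟨⟨b, s⟩, hbs⟩ := IsLocalization.surj P.primeCompl r
    refine ⟨(⟨algebraMap B R b, hB b⟩, ⟨⟨algebraMap B R s, hB s⟩, fun h => ?_⟩), hbs⟩
    exact h (IsLocalization.map_units R s)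
  · exact ⟨1, by rw [OneMemClass.coe_one, one_mul, one_mul]; exact Subtype.ext h⟩

theorem ker_isMaximal_of_residue {R' C L : Type u} [CommRing R'] [IsLocalRing R'] [CommRing C] [Algebra R' C]
    [Field L] [Algebra (ResidueField R') L] [Algebra.IsAlgebraic (ResidueField R') L] (π : C →+* L)
    (h : ∀ r, π (algebraMap R' C r) = algebraMap (ResidueField R') L (residue R' r)) :
    (RingHom.ker π).IsMaximal := by
  let S : Subalgebra (ResidueField R') L :=
    { π.range.toSubsemiring with
      algebraMap_mem' := fun x => by
        obtain ⟨r, rfl⟩ := residue_surjective x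
        exact ⟨algebraMap R' C r, h r⟩ }
  exact Ideal.Quotient.maximal_of_isField _ <|
    (RingHom.quotientKerEquivRange π).toMulEquiv.isField (Subalgebra.isField_of_algebraic S)

/-- A coefficient discrete valuation ring with the transcendental part of the residue field. -/
theorem exists_coefficient_dvr (R S : Type u) [CommRing R] [IsDomain R] [IsDiscreteValuationRing R]
    [CommRing S] [IsLocalRing S] [Algebra R S] [IsLocalHom (algebraMap R S)]
    (T : Finset (ResidueField S))
    (halg : Algebra.IsAlgebraic (Algebra.adjoin (ResidueField R) (T : Set (ResidueField S))) (ResidueField S)) :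
    ∃ (R₀ : Type u) (_ : CommRing R₀) (_ : IsDomain R₀) (_ : IsDiscreteValuationRing R₀) (_ : Algebra R R₀)
      (φ : R₀ →ₐ[R] S) (_ : IsLocalHom φ.toRingHom),
      @Algebra.IsAlgebraic (ResidueField R₀) (ResidueField S) _ _
        (ResidueField.map φ.toRingHom).toAlgebra := by
  haveI := halg
  obtain ⟨s, hsT, hs⟩ := exists_isTranscendenceBasis_subset (R := ResidueField R) (T : Set (ResidueField S))
  haveI : Finite s := (T.finite_toSet.subset hsT).to_subtype
  choose a ha using fun i : s => residue_surjective (R := S) (i : ResidueField S)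
  obtain ⟨ϖ, hϖ⟩ := IsDiscreteValuationRing.exists_irreducible R
  let π : MvPolynomial s R := MvPolynomial.C ϖ
  have hπ : Prime π := (MvPolynomial.prime_C_iff s).2 hϖ.prime
  haveI hP : (Ideal.span {π}).IsPrime := (Ideal.span_singleton_prime hπ.ne_zero).2 hπ
  let f : MvPolynomial s R →ₐ[R] S := MvPolynomial.aeval a
  let g : MvPolynomial s (ResidueField R) →+* ResidueField S :=
    (MvPolynomial.aeval fun i : s => (i : ResidueField S)).toRingHom
  have hfac : (residue S).comp f.toRingHom = g.comp (MvPolynomial.map (residue R)) := by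
    refine MvPolynomial.ringHom_ext (fun r => ?_) (fun i => ?_)
    · show residue S (f (MvPolynomial.C r)) = g (MvPolynomial.map (residue R) (MvPolynomial.C r))
      rw [MvPolynomial.map_C]
      show residue S (MvPolynomial.aeval a (MvPolynomial.C r)) =
        MvPolynomial.aeval (fun i : s => (i : ResidueField S)) (MvPolynomial.C (residue R r))
      rw [MvPolynomial.aeval_C, MvPolynomial.aeval_C]
      rfl
    · show residue S (MvPolynomial.aeval a (MvPolynomial.X i)) =
        MvPolynomial.aeval (fun i : s => (i : ResidueField S)) (MvPolynomial.map (residue R) (MvPolynomial.X i))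
      rw [MvPolynomial.map_X, MvPolynomial.aeval_X, MvPolynomial.aeval_X]
      exact ha i
  have hker : (maximalIdeal S).comap f.toRingHom = Ideal.span {π} := by
    rw [← ker_residue, RingHom.comap_ker, hfac, ← RingHom.comap_ker,
      (RingHom.injective_iff_ker_eq_bot g).1 (algebraicIndependent_iff_injective_aeval.1 hs.1),
      ← RingHom.ker_eq_comap_bot, MvPolynomial.ker_map, ker_residue, hϖ.maximalIdeal_eq, Ideal.map_span,
      Set.image_singleton]
  let R₀ := Localization.AtPrime (Ideal.span {π})
  have hu : ∀ p : (Ideal.span {π}).primeCompl, IsUnit (f p) := fun p => by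
    have hp : f (p : MvPolynomial s R) ∉ maximalIdeal S := fun h => p.2 ((SetLike.ext_iff.1 hker _).1 h)
    rwa [mem_maximalIdeal, mem_nonunits_iff, not_not] at hp
  let φ : R₀ →ₐ[R] S := IsLocalization.liftAlgHom (M := (Ideal.span {π}).primeCompl) (S := R₀) (f := f) hu
  have hφ : ∀ p, φ (algebraMap (MvPolynomial s R) R₀ p) = f p := fun p => IsLocalization.lift_eq hu p
  have hmax : maximalIdeal R₀ = Ideal.span {algebraMap (MvPolynomial s R) R₀ π} := by
    rw [← IsLocalization.AtPrime.map_eq_maximalIdeal (Ideal.span {π}) R₀, Ideal.map_span, Set.image_singleton]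
  have hnf : ¬ IsField R₀ := fun hf => hπ.ne_zero (by
    have h : algebraMap (MvPolynomial s R) R₀ π ∈ maximalIdeal R₀ := hmax ▸ Ideal.mem_span_singleton_self _
    rw [isField_iff_maximalIdeal_eq.1 hf, Ideal.mem_bot] at h
    exact (IsLocalization.to_map_eq_zero_iff R₀ (Ideal.span {π}).primeCompl_le_nonZeroDivisors).1 h)
  haveI : IsNoetherianRing R₀ := IsLocalization.isNoetherianRing (Ideal.span {π}).primeCompl R₀ inferInstance
  haveI : IsDiscreteValuationRing R₀ := ((IsDiscreteValuationRing.TFAE R₀ hnf).out 4 0 :).1 ⟨⟨_, hmax⟩⟩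
  haveI hloc : IsLocalHom φ.toRingHom := by
    refine ((local_hom_TFAE φ.toRingHom).out 0 2 rfl rfl).mpr ?_
    rw [← IsLocalization.AtPrime.map_eq_maximalIdeal (Ideal.span {π}) R₀, Ideal.map_map,
      show φ.toRingHom.comp (algebraMap (MvPolynomial s R) R₀) = f.toRingHom from RingHom.ext hφ]
    exact Ideal.map_le_iff_le_comap.2 hker.ge
  refine ⟨R₀, inferInstance, inferInstance, inferInstance, inferInstance, φ, hloc, ?_⟩
  letI : Algebra (ResidueField R₀) (ResidueField S) := (ResidueField.map φ.toRingHom).toAlgebra
  let A' := Algebra.adjoin (ResidueField R) (Set.range fun i : s => (i : ResidueField S))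
  let j := algebraMap (ResidueField R₀) (ResidueField S)
  have hj : ∀ p, j (residue R₀ (algebraMap (MvPolynomial s R) R₀ p)) = residue S (f p) := fun p => by
    show residue S (φ (algebraMap (MvPolynomial s R) R₀ p)) = _
    rw [hφ]
  have hle : ∀ x ∈ A', x ∈ j.range := fun x hx => by
    induction hx using Algebra.adjoin_induction with
    | mem x hx =>
      obtain ⟨i, rfl⟩ := hx
      exact ⟨_, (hj (MvPolynomial.X i)).trans ((congrArg (residue S) (MvPolynomial.aeval_X a i)).trans (ha i))⟩
    | algebraMap c =>
      obtain ⟨r, rfl⟩ := residue_surjective c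
      exact ⟨_, (hj (MvPolynomial.C r)).trans (congrArg (residue S) (MvPolynomial.aeval_C a r))⟩
    | add x y _ _ hx hy => exact add_mem hx hy
    | mul x y _ _ hx hy => exact mul_mem hx hy
  choose e he using fun x : A' => hle x x.2
  let θ : A' →+* ResidueField R₀ :=
    { toFun := e
      map_one' := j.injective (by rw [he, map_one]; rfl)
      map_zero' := j.injective (by rw [he, map_zero]; rfl)
      map_mul' := fun x y => j.injective (by rw [map_mul, he, he, he]; rfl)
      map_add' := fun x y => j.injective (by rw [map_add, he, he, he]; rfl) }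
  letI : Algebra A' (ResidueField R₀) := θ.toAlgebra
  haveI : IsScalarTower A' (ResidueField R₀) (ResidueField S) := .of_algebraMap_eq fun x => (he x).symm
  haveI : Algebra.IsAlgebraic A' (ResidueField S) := hs.isAlgebraic
  have hinj : Function.Injective (algebraMap A' (ResidueField R₀)) := fun x y h =>
    Subtype.ext ((he x).symm.trans ((congrArg j h).trans (he y)))
  exact ⟨fun z => (Algebra.IsAlgebraic.isAlgebraic (R := A') z).extendScalars hinj⟩

/-- Over a coefficient discrete valuation ring. -/
theorem exists_closed_model_aux {R A : Type u} [CommRing R] [IsLocalRing R] [CommRing A] [IsLocalRing A]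
    (R₀ : Type u) [CommRing R₀] [IsDomain R₀] [IsDiscreteValuationRing R₀] [Algebra R₀ R]
    [IsLocalHom (algebraMap R₀ R)] [Algebra.IsAlgebraic (ResidueField R₀) (ResidueField R)]
    (B' : Subalgebra R₀ R) [Algebra.FiniteType R₀ B']
    [IsLocalization.AtPrime R ((maximalIdeal R).comap (algebraMap B' R))]
    [Algebra R A] [IsLocalHom (algebraMap R A)] [Hensel.IsStrictHenselization R A] :
    ∃ (R' : Type u) (_ : CommRing R') (_ : IsDomain R') (_ : IsDiscreteValuationRing R')
      (_ : HenselianLocalRing R') (_ : IsSepClosed (ResidueField R'))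
      (C : Type u) (_ : CommRing C) (_ : Algebra R' C)
      (_ : Algebra.FiniteType R' C) (χ : C →+* A),
      ((maximalIdeal A).comap χ).IsMaximal ∧
      ((maximalIdeal A).comap χ).comap (algebraMap R' C) = maximalIdeal R' ∧
      ∀ (O : Type u) [CommRing O] [IsLocalRing O] [Algebra C O]
        [IsLocalization.AtPrime O ((maximalIdeal A).comap χ)] [Algebra O A],
        (algebraMap O A).comp (algebraMap C O) = χ →
          ∃ _ : IsLocalHom (algebraMap O A), Hensel.IsStrictHenselization O A := by
  have hA := ‹Hensel.IsStrictHenselization R A›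
  haveI := hA.henselian
  haveI := hA.isSepClosure
  haveI : IsSepClosed (ResidueField A) := IsSepClosure.sep_closed (ResidueField R)
  haveI : Algebra.IsSeparable (ResidueField R) (ResidueField A) := IsSepClosure.separable
  letI : Algebra R₀ A := ((algebraMap R A).comp (algebraMap R₀ R)).toAlgebra
  haveI : IsScalarTower R₀ R A := .of_algebraMap_eq' rfl
  haveI : IsLocalHom (algebraMap R₀ A) := RingHom.isLocalHom_comp _ _
  haveI : IsScalarTower (ResidueField R₀) (ResidueField R) (ResidueField A) := .of_algebraMap_eq fun x => by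
    obtain ⟨x, rfl⟩ := residue_surjective x
    rfl
  haveI : Algebra.IsAlgebraic (ResidueField R₀) (ResidueField A) :=
    Algebra.IsAlgebraic.trans (ResidueField R₀) (ResidueField R) (ResidueField A)
  let R' := HenselLib.LocalSH R₀
  haveI hR' : Hensel.IsStrictHenselization R₀ R' := HenselLib.isStrictHenselization_localSH
  haveI := hR'.henselian
  haveI := hR'.isSepClosure
  haveI : IsSepClosed (ResidueField R') := IsSepClosure.sep_closed (ResidueField R₀)
  haveI : Algebra.IsSeparable (ResidueField R₀) (ResidueField R') := IsSepClosure.separable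
  haveI : IsNoetherianRing R' := HenselLib.isNoetherianRing_localSH
  obtain ⟨hdom, hdvr⟩ := (HenselLib.exists_isDVR_iff_of_flat (R := R₀) (S := R')
    HenselLib.map_maximalIdeal_localSH HenselLib.ringKrullDim_hull).mp ⟨inferInstance, inferInstance⟩
  let τ : ResidueField R' →ₐ[ResidueField R₀] ResidueField A := IsSepClosed.lift
  obtain ⟨g, ⟨hg, hgres⟩, -⟩ :=
    hR'.universal A (algebraMap R₀ A) τ.toRingHom (RingHom.ext fun x => τ.commutes x)
  let gA : R' →ₐ[R₀] A := { g with commutes' := fun r => RingHom.congr_fun hg r }
  letI : Algebra (ResidueField R') (ResidueField A) := τ.toRingHom.toAlgebra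
  haveI : IsScalarTower (ResidueField R₀) (ResidueField R') (ResidueField A) :=
    .of_algebraMap_eq fun x => (τ.commutes x).symm
  haveI : Algebra.IsAlgebraic (ResidueField R') (ResidueField A) :=
    Algebra.IsAlgebraic.tower_top (K := ResidueField R₀) (ResidueField R')
  haveI : IsScalarTower B' R A := inferInstance
  haveI : IsScalarTower R₀ B' A := .of_algebraMap_eq fun a => rfl
  let C := R' ⊗[R₀] B'
  let χ : C →ₐ[R₀] A :=
    Algebra.TensorProduct.lift gA (IsScalarTower.toAlgHom R₀ B' A) fun _ _ => Commute.all _ _
  let n : Ideal C := (maximalIdeal A).comap χ.toRingHom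
  have hχr : ∀ r : R', χ.toRingHom (algebraMap R' C r) = g r := fun r => by
    show χ (algebraMap R' C r) = g r
    rw [Algebra.TensorProduct.algebraMap_apply, Algebra.TensorProduct.lift_tmul, map_one, mul_one,
      Algebra.algebraMap_self_apply]
    rfl
  have hker : RingHom.ker ((residue A).comp χ.toRingHom) = n := by
    rw [← RingHom.comap_ker, ker_residue]
  have hmax : n.IsMaximal := hker ▸ ker_isMaximal_of_residue (R' := R') ((residue A).comp χ.toRingHom)
    fun r => (congrArg (residue A) (hχr r)).trans (hgres r)
  have hn : n.comap (algebraMap R' C) = maximalIdeal R' := by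
    ext r
    show χ.toRingHom (algebraMap R' C r) ∈ maximalIdeal A ↔ r ∈ maximalIdeal R'
    rw [hχr, ← residue_eq_zero_iff, ← residue_eq_zero_iff, hgres, map_eq_zero]
  refine ⟨R', inferInstance, hdom, hdvr, inferInstance, inferInstance, C, inferInstance, inferInstance,
    inferInstance, χ.toRingHom, hmax, hn, fun O _ _ _ _ _ hO => ?_⟩
  haveI : Algebra.WeaklyEtale R A := by
    obtain ⟨e⟩ := HenselLib.exists_equiv_localSH (R := R) A
    exact HenselLib.weaklyEtale_of_equiv e
  haveI : Algebra.WeaklyEtale B' R :=
    HenselLib.WEtNoeth.weaklyEtale_of_isLocalization ((maximalIdeal R).comap (algebraMap B' R)).primeCompl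
  haveI : Algebra.WeaklyEtale B' A := Algebra.WeaklyEtale.trans B' R A
  haveI : Algebra.WeaklyEtale R₀ R' := by
    obtain ⟨e⟩ := HenselLib.exists_equiv_localSH (R := R₀) R'
    exact HenselLib.weaklyEtale_of_equiv e
  refine SHClosed.finish (B' := B') (A := A) (Algebra.TensorProduct.includeRight : B' →ₐ[R₀] C).toRingHom
    (weaklyEtale_includeRight R₀ R' B') χ.toRingHom (RingHom.ext fun b => ?_) O hO
  show χ ((1 : R') ⊗ₜ b) = _
  rw [Algebra.TensorProduct.lift_tmul, map_one, one_mul]
  rfl

/-- The strict henselization is that of a closed point over a strictly henselian DVR. -/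
theorem exists_closed_model {k B R A : Type u} [CommRing k] [IsDomain k] [IsDiscreteValuationRing k]
    [CommRing B] [CommRing R] [IsLocalRing R] [CommRing A] [IsLocalRing A]
    [Algebra k B] [Algebra.FiniteType k B] [Algebra B R] (P : Ideal B) [P.IsPrime]
    [IsLocalization.AtPrime R P] (hP : P.comap (algebraMap k B) = maximalIdeal k)
    [Algebra R A] [IsLocalHom (algebraMap R A)] [Hensel.IsStrictHenselization R A] :
    ∃ (R' : Type u) (_ : CommRing R') (_ : IsDomain R') (_ : IsDiscreteValuationRing R')
      (_ : HenselianLocalRing R') (_ : IsSepClosed (ResidueField R'))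
      (C : Type u) (_ : CommRing C) (_ : Algebra R' C)
      (_ : Algebra.FiniteType R' C) (χ : C →+* A),
      ((maximalIdeal A).comap χ).IsMaximal ∧
      ((maximalIdeal A).comap χ).comap (algebraMap R' C) = maximalIdeal R' ∧
      ∀ (O : Type u) [CommRing O] [IsLocalRing O] [Algebra C O]
        [IsLocalization.AtPrime O ((maximalIdeal A).comap χ)] [Algebra O A],
        (algebraMap O A).comp (algebraMap C O) = χ →
          ∃ _ : IsLocalHom (algebraMap O A), Hensel.IsStrictHenselization O A := by
  letI : Algebra k R := ((algebraMap B R).comp (algebraMap k B)).toAlgebra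
  haveI : IsScalarTower k B R := .of_algebraMap_eq' rfl
  haveI : IsLocalHom (algebraMap k R) := by
    refine ((local_hom_TFAE (algebraMap k R)).out 0 4 rfl rfl).mpr ?_
    show (maximalIdeal R).comap ((algebraMap B R).comp (algebraMap k B)) = maximalIdeal k
    rw [← Ideal.comap_comap]
    exact (congrArg (Ideal.comap (algebraMap k B)) (IsLocalization.AtPrime.under_maximalIdeal R P)).trans hP
  obtain ⟨t, ht⟩ := Algebra.FiniteType.out (R := k) (A := B)
  classical
  let T : Finset (ResidueField R) := t.image fun b => residue R (algebraMap B R b)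
  let A' := Algebra.adjoin (ResidueField k) (T : Set (ResidueField R))
  have hB : ∀ b : B, residue R (algebraMap B R b) ∈ A' := fun b => by
    have hb : b ∈ Algebra.adjoin k (t : Set B) := by rw [ht]; trivial
    induction hb using Algebra.adjoin_induction with
    | mem x hx => exact Algebra.subset_adjoin (Finset.mem_coe.2 (Finset.mem_image_of_mem _ hx))
    | algebraMap a => exact A'.algebraMap_mem (residue k a)
    | add x y _ _ hx hy => rw [map_add, map_add]; exact add_mem hx hy
    | mul x y _ _ hx hy => rw [map_mul, map_mul]; exact mul_mem hx hy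
  have halg : Algebra.IsAlgebraic A' (ResidueField R) := ⟨fun z => by
    obtain ⟨r, rfl⟩ := residue_surjective z
    obtain ⟨⟨b, u⟩, hbu⟩ := IsLocalization.surj P.primeCompl r
    have hu : residue R (algebraMap B R u) ≠ 0 := fun h =>
      (residue_eq_zero_iff _).1 h (IsLocalization.map_units R u)
    have hr : residue R r = residue R (algebraMap B R b) * (residue R (algebraMap B R u))⁻¹ := by
      rw [eq_mul_inv_iff_mul_eq₀ hu, ← map_mul, hbu]
    rw [hr]
    exact (isAlgebraic_algebraMap (⟨_, hB b⟩ : A')).mul (isAlgebraic_algebraMap (⟨_, hB u⟩ : A')).inv⟩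
  obtain ⟨R₀, iR, iD, iV, iA, φ, hloc, hal⟩ := exists_coefficient_dvr k R T halg
  letI : Algebra R₀ R := φ.toRingHom.toAlgebra
  haveI : IsScalarTower k R₀ R := .of_algebraMap_eq fun a => (φ.commutes a).symm
  haveI : IsLocalHom (algebraMap R₀ R) := hloc
  obtain ⟨B', hfin, hlocB⟩ := exists_model (k := k) (B := B) (R := R) P R₀
  haveI := hfin
  haveI := hlocB
  haveI : Algebra.IsAlgebraic (ResidueField R₀) (ResidueField R) := by
    convert hal using 1
    exact Algebra.algebra_ext _ _ fun x => by
      obtain ⟨x, rfl⟩ := residue_surjective x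
      rfl
  exact exists_closed_model_aux R₀ B'

end Groth.Agent.Et18.SHClosedDVR
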