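import Groth.Agent.EGA43.DimFormula.Ring
import Groth.Agent.HenselLib.HullProps
import Groth.Agent.CAlgMisc2.Nbhd
import Groth.Agent.Et18.ResidueComposite
import Mathlib.RingTheory.Etale.QuasiFinite

/-! Dimensions of the quotients of a strict henselization by prime ideals. -/

set_option autoImplicit false
set_option linter.style.haveILetI false

universe u

open IsLocalRing
open scoped TensorProduct

namespace Groth.Agent.Et18.SHDim

open Groth.Agent HenselLib

/-- A map from an etale algebra to a flat algebra is flat. -/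
theorem flat_of_etale_source {A E H : Type u} [CommRing A] [CommRing E] [CommRing H] [Algebra A E]
    [Algebra A H] [Algebra.Etale A E] [Module.Flat A H] (g : E →ₐ[A] H) : g.toRingHom.Flat := by
  let T := H ⊗[A] E
  let l : T →ₐ[A] H := Algebra.TensorProduct.lift (AlgHom.id A H) g fun _ _ => Commute.all _ _
  let _ : Algebra T H := l.toRingHom.toAlgebra
  have : IsScalarTower H T H := .of_algebraMap_eq fun h => by
    show h = l (h ⊗ₜ 1)
    rw [Algebra.TensorProduct.lift_tmul, AlgHom.id_apply, map_one, mul_one]
  have : Algebra.Etale T H := Algebra.Etale.of_restrictScalars (R := H) T H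
  have h1 : l.toRingHom.Flat := RingHom.flat_algebraMap_iff.2 (inferInstance : Module.Flat T H)
  have h2 : (Algebra.TensorProduct.includeLeftRingHom : E →+* E ⊗[A] H).Flat :=
    RingHom.flat_algebraMap_iff.2 (inferInstance : Module.Flat E (E ⊗[A] H))
  have h3 : g.toRingHom = l.toRingHom.comp ((Algebra.TensorProduct.comm A E H).toRingEquiv.toRingHom.comp
      (Algebra.TensorProduct.includeLeftRingHom : E →+* E ⊗[A] H)) := by
    ext e
    show g e = l ((1 : H) ⊗ₜ[A] e)
    rw [Algebra.TensorProduct.lift_tmul, AlgHom.id_apply, one_mul]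
  rw [h3]
  exact RingHom.Flat.comp (RingHom.Flat.comp h2
    (RingHom.Flat.of_bijective (Algebra.TensorProduct.comm A E H).toRingEquiv.bijective)) h1

theorem trd_eq_zero_of_quasiFinite {A E : Type u} [CommRing A] [CommRing E] [Algebra A E]
    [Algebra.QuasiFinite A E] (Q : PrimeSpectrum E) : EGA43.FibDepth.trd A Q = 0 := by
  let p := Q.asIdeal.comap (algebraMap A E)
  haveI : Q.asIdeal.LiesOver p := ⟨rfl⟩
  show (@Algebra.trdeg p.ResidueField Q.asIdeal.ResidueField _ _
    (Ideal.ResidueField.map p Q.asIdeal (algebraMap A E) rfl).toAlgebra).toNat = 0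
  letI : Algebra p.ResidueField Q.asIdeal.ResidueField :=
    (Ideal.ResidueField.map p Q.asIdeal (algebraMap A E) rfl).toAlgebra
  haveI : IsScalarTower A p.ResidueField Q.asIdeal.ResidueField := .of_algebraMap_eq fun a =>
    ((Ideal.ResidueField.map_algebraMap p Q.asIdeal (algebraMap A E) rfl a).trans
      (IsScalarTower.algebraMap_apply A E Q.asIdeal.ResidueField a).symm).symm
  haveI : Algebra.QuasiFinite p.ResidueField Q.asIdeal.ResidueField :=
    Algebra.QuasiFinite.of_restrictScalars A _ _
  haveI : Module.Finite p.ResidueField Q.asIdeal.ResidueField := .of_quasiFinite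
  haveI : Algebra.IsAlgebraic p.ResidueField Q.asIdeal.ResidueField := inferInstance
  rw [trdeg_eq_zero, map_zero]

variable {A : Type u} [CommRing A] [IsLocalRing A] [IsNoetherianRing A]

theorem comap_eq_maximalIdeal_localSH (q : Ideal (LocalSH A)) [q.IsPrime]
    (hq : q.comap (algebraMap A (LocalSH A)) = maximalIdeal A) : q = maximalIdeal (LocalSH A) :=
  hull_eq_of_le_of_comap_eq (le_maximalIdeal (Ideal.IsPrime.ne_top ‹_›))
    (hq.trans (((local_hom_TFAE (algebraMap A (LocalSH A))).out 0 4 rfl rfl).mp inferInstance).symm)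

/-- An etale stage `E → H` with the prime `Q = q ∩ E` generating `q` up to radical. -/
theorem le_ringKrullDim_quotient_of_stage {E En H : Type u} [CommRing E] [CommRing En] [CommRing H]
    [Algebra A E] [Algebra.Etale A E] [Algebra A En] [Algebra E En] [IsScalarTower A E En]
    [Algebra A H] [Algebra E H] [IsScalarTower A E H] [Algebra En H] [IsScalarTower E En H]
    [IsLocalRing H] [IsNoetherianRing H] [IsLocalHom (algebraMap A H)] [Module.Flat A H]
    [IsLocalization.AtPrime En ((maximalIdeal H).comap (algebraMap E H))] [IsLocalRing En]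
    (hA : CAlg.IsUniversallyCatenary A)
    (hfib : ∀ q q' : Ideal H, q.IsPrime → q'.IsPrime → q ≤ q' →
      q.comap (algebraMap A H) = q'.comap (algebraMap A H) → q = q')
    (q : Ideal H) [q.IsPrime] (hq : ∀ q₁ : Ideal H, q₁.IsPrime →
      q₁.comap (algebraMap E H) = q.comap (algebraMap E H) → q ≤ q₁) :
    ringKrullDim (A ⧸ q.comap (algebraMap A H)) ≤ ringKrullDim (H ⧸ q) := by
  let n : Ideal E := (maximalIdeal H).comap (algebraMap E H)
  let Q : Ideal E := q.comap (algebraMap E H)
  haveI : IsScalarTower A En H := .of_algebraMap_eq fun x => by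
    rw [IsScalarTower.algebraMap_apply A E En, ← IsScalarTower.algebraMap_apply E En,
      ← IsScalarTower.algebraMap_apply]
  haveI : IsLocalHom (algebraMap En H) := by
    refine ((local_hom_TFAE (algebraMap En H)).out 0 2 rfl rfl).mpr ?_
    rw [← IsLocalization.AtPrime.map_eq_maximalIdeal n En, Ideal.map_map, ← IsScalarTower.algebraMap_eq,
      Ideal.map_le_iff_le_comap]
  haveI : IsNoetherianRing E := Algebra.FiniteType.isNoetherianRing A E
  haveI : IsNoetherianRing En := IsLocalization.isNoetherianRing n.primeCompl En inferInstance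
  haveI : Module.Flat E H := RingHom.flat_algebraMap_iff.1 (by
    exact flat_of_etale_source (IsScalarTower.toAlgHom A E H))
  haveI : Module.Flat En H :=
    (Module.flat_iff_of_isLocalization En n.primeCompl H).2 inferInstance
  haveI : Module.FaithfullyFlat En H := Module.FaithfullyFlat.of_flat_of_isLocalHom
  haveI : IsLocalHom (algebraMap A En) := by
    refine ⟨fun a ha => IsUnit.of_map (algebraMap A H) a ?_⟩
    rw [IsScalarTower.algebraMap_apply A En H]
    exact ha.map _
  haveI : Algebra.EssFiniteType E En := Algebra.EssFiniteType.of_isLocalization En n.primeCompl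
  haveI : Algebra.EssFiniteType A En := Algebra.EssFiniteType.comp A E En
  have hdisj : Disjoint (n.primeCompl : Set E) (Q : Set E) :=
    Set.disjoint_left.2 fun x hx hx' => hx (Ideal.comap_mono (le_maximalIdeal (Ideal.IsPrime.ne_top ‹_›)) hx')
  haveI hQ' : (Q.map (algebraMap E En)).IsPrime :=
    IsLocalization.isPrime_of_isPrime_disjoint n.primeCompl En Q inferInstance hdisj
  have hQc : (Q.map (algebraMap E En)).comap (algebraMap E En) = Q :=
    IsLocalization.comap_map_of_isPrime_disjoint n.primeCompl En (inferInstanceAs Q.IsPrime) hdisj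
  obtain ⟨q₁, hq₁, hdim⟩ := ResComp.exists_prime_ringKrullDim_quotient_ge En H
    (fun q₂ hq₂ h => hfib q₂ (maximalIdeal H) hq₂ inferInstance (le_maximalIdeal hq₂.ne_top) (by
      rw [IsScalarTower.algebraMap_eq A En H, ← Ideal.comap_comap, ← Ideal.comap_comap, h]
      exact congrArg (Ideal.comap (algebraMap A En))
        (((local_hom_TFAE (algebraMap En H)).out 0 4 rfl rfl).mp inferInstance).symm))
    (Q.map (algebraMap E En))
  have hqQ : q₁.asIdeal.comap (algebraMap E H) = Q := by
    rw [IsScalarTower.algebraMap_eq E En H, ← Ideal.comap_comap, hq₁, hQc]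
  have hAQ : Q.comap (algebraMap A E) = q.comap (algebraMap A H) := by
    show (q.comap (algebraMap E H)).comap (algebraMap A E) = _
    rw [Ideal.comap_comap, ← IsScalarTower.algebraMap_eq]
  have heq : q = q₁.asIdeal := by
    refine hfib q q₁.asIdeal inferInstance q₁.2 (hq _ q₁.2 hqQ) ?_
    rw [← hAQ, ← hqQ, Ideal.comap_comap, ← IsScalarTower.algebraMap_eq]
  rw [← heq] at hdim
  refine le_trans (le_of_eq ?_) hdim
  have hp : (Q.map (algebraMap E En)).comap (algebraMap A En) = q.comap (algebraMap A H) := by
    rw [IsScalarTower.algebraMap_eq A E En, ← Ideal.comap_comap, hQc, hAQ]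
  have hf := (EGA43.DimFormula.prime_formula (A := A) (B := En) ⟨_, hQ'⟩).2
    (EGA43.DimFormula.isUniversallyCatenary_quotient hA _)
  have hsos : (IsScalarTower.toAlgHom A E En).toRingHom.SurjectiveOnStalks :=
    RingHom.surjectiveOnStalks_of_isLocalization (M := n.primeCompl) _
  rw [← EGA43.FibDepth.trd_comap_of_surjectiveOnStalks _ hsos,
    ← EGA43.FibDepth.trd_comap_of_surjectiveOnStalks _ hsos,
    trd_eq_zero_of_quasiFinite, trd_eq_zero_of_quasiFinite, Nat.cast_zero, add_zero, add_zero] at hf
  rw [hf, hp]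

theorem ringKrullDim_quotient_localSH (hA : CAlg.IsUniversallyCatenary A) (q : Ideal (LocalSH A))
    [q.IsPrime] :
    ringKrullDim (LocalSH A ⧸ q) = ringKrullDim (A ⧸ q.comap (algebraMap A (LocalSH A))) := by
  classical
  haveI : IsNoetherianRing (LocalSH A) := isNoetherianRing_localSH
  refine le_antisymm (ResComp.ringKrullDim_quotient_le A (LocalSH A)
    (fun Q hQ h => comap_eq_maximalIdeal_localSH Q h) _ q rfl) ?_
  obtain ⟨s, hs⟩ := (IsNoetherian.noetherian q : q.FG)
  obtain ⟨P, hP⟩ := CAlgMisc2.exists_stage_finset s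
  letI : Algebra P.Ring (LocalSH A) := (ι P).toRingHom.toAlgebra
  haveI : IsScalarTower A P.Ring (LocalSH A) := IsScalarTower.of_algHom (ι P)
  let n : Ideal P.Ring := (maximalIdeal (LocalSH A)).comap (algebraMap P.Ring (LocalSH A))
  let En := Localization.AtPrime n
  have hunit : ∀ y : n.primeCompl, IsUnit (algebraMap P.Ring (LocalSH A) y) := fun y => by
    have hy : algebraMap P.Ring (LocalSH A) y ∉ maximalIdeal (LocalSH A) := y.2
    rwa [mem_maximalIdeal, mem_nonunits_iff, not_not] at hy
  let ψ : En →+* LocalSH A := IsLocalization.lift hunit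
  letI : Algebra En (LocalSH A) := ψ.toAlgebra
  haveI : IsScalarTower P.Ring En (LocalSH A) :=
    .of_algebraMap_eq fun x => (IsLocalization.lift_eq hunit x).symm
  refine le_ringKrullDim_quotient_of_stage (A := A) (E := P.Ring) (En := En) hA
    (fun q q' _ _ hle h => hull_eq_of_le_of_comap_eq hle h) q fun q₁ hq₁ h => ?_
  rw [← hs, Ideal.span_le]
  intro x hx
  obtain ⟨y, rfl⟩ := hP x hx
  have hy : y ∈ q.comap (algebraMap P.Ring (LocalSH A)) :=
    show ι P y ∈ q from hs ▸ Ideal.subset_span hx
  rw [← h] at hy
  exact hy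

/-- The dimension of a quotient of a strict henselization by a prime is that of the quotient below. -/
theorem ringKrullDim_quotient_strictHenselization (hA : CAlg.IsUniversallyCatenary A)
    (R : Type u) [CommRing R] [IsLocalRing R] [Algebra A R] [IsLocalHom (algebraMap A R)]
    [Hensel.IsStrictHenselization A R] (q : Ideal R) [q.IsPrime] :
    ringKrullDim (R ⧸ q) = ringKrullDim (A ⧸ q.comap (algebraMap A R)) := by
  obtain ⟨e⟩ := exists_equiv_localSH (R := A) R
  let q' : Ideal (LocalSH A) := q.comap e
  haveI : q'.IsPrime := Ideal.IsPrime.comap _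
  have hmap : q = q'.map (e.toRingEquiv : LocalSH A →+* R) :=
    (Ideal.map_comap_of_surjective (e.toRingEquiv : LocalSH A →+* R) e.surjective q).symm
  rw [← ringKrullDim_eq_of_ringEquiv (Ideal.quotientEquiv q' q e.toRingEquiv hmap),
    ringKrullDim_quotient_localSH hA q']
  have : q'.comap (algebraMap A (LocalSH A)) = q.comap (algebraMap A R) := by
    ext a
    show e (algebraMap A (LocalSH A) a) ∈ q ↔ _
    rw [e.commutes]
    rfl
  rw [this]

end Groth.Agent.Et18.SHDim
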