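import Groth.Agent.AssSch12.FlatBase
import Groth.Agent.AssSch12.Push
import Groth.Agent.QCohLoc.Unit
import Groth.Agent.FlatLocal.StalkCrit
import Mathlib.AlgebraicGeometry.Morphisms.SchemeTheoreticallyDominant
import Mathlib.AlgebraicGeometry.Morphisms.Etale
import Mathlib.AlgebraicGeometry.Morphisms.UniversallyOpen
import Mathlib.AlgebraicGeometry.Morphisms.UniversallyInjective

/-! Scheme-theoretic dominance of flat morphisms to locally Noetherian schemes, associated points under
etale maps and universal homeomorphisms. -/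

set_option autoImplicit false
set_option linter.style.haveILetI false

universe u

open CategoryTheory CategoryTheory.Limits AlgebraicGeometry TopologicalSpace IsLocalRing
open scoped TensorProduct

namespace Groth.Agent.Et18.STDomFlat

open Groth.Agent

variable {X E : Scheme.{u}}

theorem range_generalizing (u : X ⟶ E) [Flat u] {y z : E} (h : y ⤳ z) (hz : z ∈ Set.range u) :
    y ∈ Set.range u := by
  obtain ⟨x, rfl⟩ := hz
  obtain ⟨x', -, hx'⟩ := (Flat.generalizingMap u) h
  exact ⟨x', hx'⟩

/-- A flat morphism is scheme-theoretically dominant iff its image contains the associated points. -/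
theorem isSTD_iff_ass_subset [IsLocallyNoetherian E] (u : X ⟶ E) [Flat u] :
    IsSchemeTheoreticallyDominant u ↔ AssSch.Ass (Coh.structureModule E) ⊆ Set.range u := by
  haveI : (Coh.structureModule E).IsQuasicoherent := QCohLoc.isQCoh_structureModule E
  constructor
  · intro hu z hz
    by_contra hzr
    obtain ⟨_, ⟨V, hV, rfl⟩, hzV, -⟩ :=
      E.isBasis_affineOpens.exists_subset_of_mem_open (Set.mem_univ z) isOpen_univ
    have hp := (AssSch12.mem_ass_iff hV hzV (Coh.structureModule E)).1 hz
    haveI := AssSch12.isNoetherianRing_of_isAffineOpen hV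
    let O : E.Opens := ⟨(closure {z})ᶜ, isClosed_closure.isOpen_compl⟩
    have hO : Set.range u ⊆ Set.range O.ι := by
      rintro _ ⟨x, rfl⟩
      rw [Scheme.Opens.range_ι]
      intro hx
      exact hzr (range_generalizing u (specializes_iff_mem_closure.2 hx) ⟨x, rfl⟩)
    let u' := IsOpenImmersion.lift O.ι u hO
    have hle : O.ι.ker ≤ u.ker := by
      conv_rhs => rw [← IsOpenImmersion.lift_fac O.ι u hO]
      exact Scheme.Hom.le_ker_comp _ _
    obtain ⟨g, hg⟩ := (isAssociatedPrime_iff_exists_injective_linearMap _ _).1 hp |>.2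
    let m0 : Γ(Coh.structureModule E, V) := g (Submodule.Quotient.mk (1 : Γ(E, V)))
    let s : Γ(E, V) := m0
    have hne : s ≠ 0 := fun h => by
      have h1 := hg (show g (Submodule.Quotient.mk (1 : Γ(E, V))) = g 0 by rw [map_zero]; exact h)
      rw [Submodule.Quotient.mk_eq_zero] at h1
      exact (IsAssociatedPrime.isPrime hp).ne_top ((Ideal.eq_top_iff_one _).2 h1)
    have hkill : ∀ r ∈ AssSch12.primeAt hV hzV, r * s = 0 := fun r hr => by
      show r • m0 = 0
      rw [← map_smul, ← Submodule.Quotient.mk_smul, smul_eq_mul, mul_one,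
        (Submodule.Quotient.mk_eq_zero _).2 hr, map_zero]
    have hgerm : ∀ (y : E) (hy : y ∈ V), y ∈ O → E.presheaf.germ V y hy s = 0 := fun y hy hyO => by
      have hns : ¬ z ⤳ y := fun h => hyO (specializes_iff_mem_closure.1 h)
      rw [AssSch12.specializes_iff hV hzV hy] at hns
      obtain ⟨r, hr, hr'⟩ := SetLike.not_le_iff_exists.1 hns
      have hu : IsUnit (E.presheaf.germ V y hy r) :=
        (Scheme.mem_basicOpen _ _ _ hy).1 ((AssSch12.notMem_primeAt_iff hV hy r).1 hr')
      refine hu.mul_right_eq_zero.1 ?_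
      rw [← map_mul, hkill r hr, map_zero]
    have h0 : s ∈ RingHom.ker (O.ι.app V).hom := by
      rw [RingHom.mem_ker]
      refine TopCat.Presheaf.section_ext (O : Scheme).sheaf _ _ _ fun y hy => ?_
      refine Eq.trans ?_ (map_zero _).symm
      show (O : Scheme).presheaf.germ (O.ι ⁻¹ᵁ V) y hy (O.ι.app V s) = 0
      rw [← Scheme.Hom.germ_stalkMap_apply O.ι V y hy s, hgerm (O.ι y) hy y.2, map_zero]
    have h2 : s ∈ O.ι.ker.ideal ⟨V, hV⟩ := by rw [Scheme.Hom.ker_apply]; exact h0
    have h3 := hle ⟨V, hV⟩ h2
    rw [hu.ker_eq_bot, Scheme.IdealSheafData.ideal_bot] at h3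
    exact hne ((Ideal.mem_bot).1 h3)
  · intro hass
    refine ⟨Scheme.IdealSheafData.ext (funext fun V => le_bot_iff.1 fun s hs => ?_)⟩
    show s ∈ (⊥ : Ideal _)
    rw [Ideal.mem_bot]
    have h1 : u.app V.1 s = 0 := Scheme.Hom.ideal_ker_le _ V hs
    refine AssSch12.eq_zero_of_germ_ass (Coh.structureModule E) V.2 (show Γ(Coh.structureModule E, V.1) from s)
      fun y hy hya => ?_
    obtain ⟨x, rfl⟩ := hass hya
    have h2 : u.stalkMap x (E.presheaf.germ V.1 (u x) hy s) = 0 := by
      rw [Scheme.Hom.germ_stalkMap_apply u V.1 x hy s, h1, map_zero]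
    letI := (u.stalkMap x).hom.toAlgebra
    haveI : Module.Flat (E.presheaf.stalk (u x)) (X.presheaf.stalk x) := Flat.stalkMap u x
    haveI : IsLocalHom (algebraMap (E.presheaf.stalk (u x)) (X.presheaf.stalk x)) :=
      inferInstanceAs (IsLocalHom (u.stalkMap x).hom)
    haveI : Module.FaithfullyFlat (E.presheaf.stalk (u x)) (X.presheaf.stalk x) :=
      Module.FaithfullyFlat.of_flat_of_isLocalHom
    rw [AssSch12.germ_eq_smul_unitOne]
    rw [FaithfulSMul.algebraMap_injective (E.presheaf.stalk (u x)) (X.presheaf.stalk x)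
      (h2.trans (map_zero _).symm), zero_smul]

/-- Associated points of the structure sheaf under an etale morphism. -/
theorem mem_ass_iff_of_etale {S : Scheme.{u}} [IsLocallyNoetherian E] [IsLocallyNoetherian S] (g : E ⟶ S)
    [Etale g] (x : E) :
    x ∈ AssSch.Ass (Coh.structureModule E) ↔ g x ∈ AssSch.Ass (Coh.structureModule S) := by
  rw [AssSch12.killed_stalk_iff, AssSch12.killed_stalk_iff, AssSch12.killed_structureModule_iff,
    AssSch12.killed_structureModule_iff]
  have hm := ((FlatLocal.formallyUnramified_stalkMap_iff g x).1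
    ((FlatLocal.formallyUnramified_iff_stalkMap g).1 inferInstance x)).2
  letI := (g.stalkMap x).hom.toAlgebra
  haveI : Module.Flat (S.presheaf.stalk (g x)) (E.presheaf.stalk x) := Flat.stalkMap g x
  haveI : IsLocalHom (algebraMap (S.presheaf.stalk (g x)) (E.presheaf.stalk x)) :=
    inferInstanceAs (IsLocalHom (g.stalkMap x).hom)
  rw [← AssSch12.Killed.congr (TensorProduct.AlgebraTensorModule.rid (S.presheaf.stalk (g x))
    (E.presheaf.stalk x) (E.presheaf.stalk x)), AssSch12.killed_tensor_iff]
  refine and_iff_left ?_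
  let A := S.presheaf.stalk (g x)
  let B := E.presheaf.stalk x
  refine ⟨(1 : B) ⊗ₜ (1 : A ⧸ maximalIdeal A), fun h => ?_, fun b hb => ?_⟩
  · letI : Algebra (A ⧸ maximalIdeal A) (ResidueField B) := (ResidueField.map (g.stalkMap x).hom).toAlgebra
    haveI : IsScalarTower A (A ⧸ maximalIdeal A) (ResidueField B) := .of_algebraMap_eq fun a => rfl
    have := congrArg (Algebra.TensorProduct.lift (IsScalarTower.toAlgHom A B (ResidueField B))
      (IsScalarTower.toAlgHom A (A ⧸ maximalIdeal A) (ResidueField B)) fun _ _ => Commute.all _ _) h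
    rw [Algebra.TensorProduct.lift_tmul, map_one, map_one, mul_one, map_zero] at this
    exact one_ne_zero this
  · rw [TensorProduct.smul_tmul', smul_eq_mul, mul_one]
    change b ∈ maximalIdeal (E.presheaf.stalk x) at hb
    rw [← hm] at hb
    induction hb using Submodule.span_induction with
    | mem y hy =>
      obtain ⟨a, ha, rfl⟩ := hy
      show (algebraMap A B a) ⊗ₜ[A] (1 : A ⧸ maximalIdeal A) = 0
      rw [Algebra.algebraMap_eq_smul_one, TensorProduct.smul_tmul, Algebra.smul_def, mul_one,
        Ideal.Quotient.algebraMap_eq, Ideal.Quotient.eq_zero_iff_mem.2 ha, TensorProduct.tmul_zero]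
    | zero => exact TensorProduct.zero_tmul _ _
    | add y y' _ _ h1 h2 => rw [TensorProduct.add_tmul, h1, h2, add_zero]
    | smul c y _ h1 =>
      rw [← TensorProduct.smul_tmul' c y, h1, smul_zero]

/-- A point of a Noetherian scheme without proper generalization is associated. -/
theorem mem_ass_of_maximal [IsLocallyNoetherian E] {x : E} (hx : ∀ t, t ⤳ x → t = x) :
    x ∈ AssSch.Ass (Coh.structureModule E) := by
  rw [AssSch12.killed_stalk_iff, AssSch12.killed_structureModule_iff, AssSch12.killed_iff_isAssociatedPrime]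
  obtain ⟨p, hp⟩ := associatedPrimes.nonempty (E.presheaf.stalk x) (E.presheaf.stalk x)
  haveI := IsAssociatedPrime.isPrime hp
  haveI : Subsingleton (PrimeSpectrum (E.presheaf.stalk x)) := ⟨fun a b => by
    have h : ∀ c : Spec (E.presheaf.stalk x), E.fromSpecStalk x c = x := fun c =>
      hx _ ((E.range_fromSpecStalk (x := x)).le ⟨c, rfl⟩)
    exact (E.fromSpecStalk x).isEmbedding.injective ((h a).trans (h b).symm)⟩
  have h := congrArg PrimeSpectrum.asIdeal
    (Subsingleton.elim (⟨p, inferInstance⟩ : PrimeSpectrum (E.presheaf.stalk x)) (closedPoint _))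
  change p = maximalIdeal (E.presheaf.stalk x) at h
  rw [← h]
  exact hp

/-- Every point has a generalization without proper generalization. -/
theorem exists_maximal (x : E) : ∃ t : E, t ⤳ x ∧ ∀ t', t' ⤳ t → t' = t := by
  have hir := isIrreducible_irreducibleComponent (x := x)
  have hgen : IsGenericPoint hir.genericPoint (irreducibleComponent x) :=
    IsIrreducible.isGenericPoint_genericPoint hir isClosed_irreducibleComponent
  refine ⟨hir.genericPoint, hgen.specializes mem_irreducibleComponent, fun t' ht' => ?_⟩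
  refine (ht'.antisymm ?_).eq
  rw [specializes_iff_mem_closure, hgen.def]
  refine (eq_irreducibleComponent isIrreducible_singleton.closure.2 ?_).le (subset_closure rfl)
  rw [← hgen.def]
  exact closure_minimal (Set.singleton_subset_iff.2 (specializes_iff_mem_closure.1 ht')) isClosed_closure

/-- Matching embedded points under a universal homeomorphism matches associated points. -/
theorem mem_ass_iff_of_homeomorph {S S' : Scheme.{u}} [IsLocallyNoetherian S] [IsLocallyNoetherian S']
    (f : S' ⟶ S) [IsIntegralHom f] [UniversallyInjective f] [Surjective f]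
    (hemb : ∀ s' : S', (s' ∈ AssSch.Ass (Coh.structureModule S') ∧ ∃ t ∈ AssSch.Ass (Coh.structureModule S'), t ⤳ s' ∧ t ≠ s') ↔
      (f.base s' ∈ AssSch.Ass (Coh.structureModule S) ∧ ∃ t ∈ AssSch.Ass (Coh.structureModule S), t ⤳ f.base s' ∧ t ≠ f.base s'))
    (s' : S') : s' ∈ AssSch.Ass (Coh.structureModule S') ↔ f s' ∈ AssSch.Ass (Coh.structureModule S) := by
  have hh : IsHomeomorph f := isHomeomorph_iff_continuous_isClosedMap_bijective.2
    ⟨f.continuous, f.isClosedMap, f.injective, f.surjective⟩
  have hmax : (∀ t, t ⤳ s' → t = s') ↔ (∀ t, t ⤳ f s' → t = f s') := by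
    constructor
    · intro h t ht
      obtain ⟨t, rfl⟩ := f.surjective t
      rw [h t ((hh.isInducing.specializes_iff).1 ht)]
    · intro h t ht
      exact f.injective (h _ (ht.map f.continuous))
  constructor
  · intro hs
    by_cases he : ∃ t ∈ AssSch.Ass (Coh.structureModule S'), t ⤳ s' ∧ t ≠ s'
    · exact ((hemb s').1 ⟨hs, he⟩).1
    · push Not at he
      refine mem_ass_of_maximal (hmax.1 fun t ht => ?_)
      obtain ⟨t₀, h0, hmax0⟩ := exists_maximal t
      have := he t₀ (mem_ass_of_maximal hmax0) (h0.trans ht)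
      subst this
      exact (h0.antisymm ht).eq.symm
  · intro hs
    by_cases he : ∃ t ∈ AssSch.Ass (Coh.structureModule S), t ⤳ f s' ∧ t ≠ f s'
    · exact ((hemb s').2 ⟨hs, he⟩).1
    · push Not at he
      refine mem_ass_of_maximal (hmax.2 fun t ht => ?_)
      obtain ⟨t₀, h0, hmax0⟩ := exists_maximal t
      have := he t₀ (mem_ass_of_maximal hmax0) (h0.trans ht)
      subst this
      exact (h0.antisymm ht).eq.symm

end Groth.Agent.Et18.STDomFlat
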