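import Mathlib.RingTheory.Derivation.Basic
import Mathlib.RingTheory.IntegralClosure.IsIntegral.AlmostIntegral
import Mathlib.RingTheory.IntegralClosure.IsIntegralClosure.Basic
import Mathlib.RingTheory.Localization.FractionRing
import Mathlib.Algebra.TrivSqZeroExt.Basic
import Mathlib.Algebra.DualNumber
import Mathlib.Algebra.CharZero.Defs

/-!
# Seidenberg: derivations of a Noetherian ring of characteristic zero preserve the normalization
-/

set_option autoImplicit false

universe u

open TrivSqZeroExt
open scoped nonZeroDivisors

namespace Groth.Agent.Et18.Seidenberg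

variable {k : Type u} [CommRing k] {A : Type u} [CommRing A] [Algebra k A]

/-- A derivation extends to the total ring of fractions. -/
theorem exists_derivation_fractionRing (D : Derivation k A A) :
    ∃ D' : Derivation k (FractionRing A) (FractionRing A),
      ∀ a, D' (algebraMap A _ a) = algebraMap A _ (D a) := by
  let Q := FractionRing A
  let g : A →ₐ[k] DualNumber Q :=
    { toFun := fun a => inl (algebraMap A Q a) + inr (algebraMap A Q (D a))
      map_one' := by ext <;> simp
      map_mul' := fun a b => by
        ext
        · simp only [fst_mul, fst_add, fst_inl, fst_inr, map_mul]; ring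
        · simp only [snd_mul, snd_add, fst_add, snd_inl, snd_inr, fst_inl, fst_inr, map_mul, map_add,
            Derivation.leibniz, smul_eq_mul, MulOpposite.smul_eq_mul_unop, MulOpposite.unop_op]
          ring
      map_zero' := by ext <;> simp
      map_add' := fun a b => by
        ext <;> simp only [fst_add, snd_add, fst_inl, fst_inr, snd_inl, snd_inr, map_add] <;> ring
      commutes' := fun r => by
        rw [TrivSqZeroExt.algebraMap_eq_inl', ← IsScalarTower.algebraMap_apply k A Q]
        ext <;> simp }
  have hg : ∀ y : A⁰, IsUnit (g y) := fun y =>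
    isUnit_iff_isUnit_fst.2 (by simpa [g] using IsLocalization.map_units Q y)
  let G : Q →ₐ[k] DualNumber Q := IsLocalization.liftAlgHom (M := A⁰) (f := g) hg
  have hG : ∀ a, G (algebraMap A Q a) = g a := fun a =>
    IsLocalization.lift_eq (S := Q) (g := (g : A →+* DualNumber Q)) hg a
  have hfst : ∀ q, (G q).fst = q := by
    intro q
    have : ((fstHom k Q Q).comp G).toRingHom = RingHom.id Q := by
      refine IsLocalization.ringHom_ext A⁰ (RingHom.ext fun a => ?_)
      simp [hG, g, Q]
    exact RingHom.congr_fun this q
  let L : Q →ₗ[k] Q :=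
    { toFun := fun q => (G q).snd
      map_add' := fun p q => by simp
      map_smul' := fun r q => by simp }
  refine ⟨Derivation.mk' L fun p q => ?_, fun a => ?_⟩
  · show (G (p * q)).snd = p • (G q).snd + q • (G p).snd
    rw [map_mul, TrivSqZeroExt.snd_mul, hfst, hfst]
    simp only [smul_eq_mul, MulOpposite.smul_eq_mul_unop, MulOpposite.unop_op]
    ring
  · show (G (algebraMap A Q a)).snd = _
    simp only [hG, g, AlgHom.coe_mk, RingHom.coe_mk, MonoidHom.coe_mk, OneHom.coe_mk, snd_add, snd_inl, snd_inr, zero_add]
    rfl

variable {Q : Type u} [CommRing Q] [Algebra k Q] (D : Derivation k Q Q) (x : Q)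

/-- `∑ⱼ (-1)^(n-j) C(n,j) x^(n-j) D^m(e x^j)`. -/
def taylor (m : ℕ) : ℕ → Q → Q
  | 0, e => (⇑D)^[m] e
  | n + 1, e => taylor m n (x * e) - x * taylor m n e

theorem D_taylor (m n : ℕ) (e : Q) :
    D (taylor D x m n e) = taylor D x (m + 1) n e - n * D x * taylor D x m (n - 1) e := by
  induction n generalizing e with
  | zero => simp [taylor, Function.iterate_succ_apply']
  | succ n ih =>
    simp only [taylor, map_sub, Derivation.leibniz, smul_eq_mul, ih, Nat.add_sub_cancel]
    rcases n with _ | n
    · simp [taylor]; ring
    · simp only [taylor, Nat.add_sub_cancel]; push_cast; ring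

theorem taylor_zero_succ (n : ℕ) (e : Q) : taylor D x 0 (n + 1) e = 0 := by
  induction n generalizing e with
  | zero => simp [taylor]
  | succ n ih => rw [taylor, ih, ih, mul_zero, sub_zero]

theorem taylor_eq (m n : ℕ) (e : Q) :
    (m < n → taylor D x m n e = 0) ∧ (m = n → taylor D x m n e = n.factorial * e * D x ^ n) := by
  induction m generalizing n e with
  | zero =>
    rcases n with _ | n
    · exact ⟨fun h => absurd h (lt_irrefl 0), fun _ => by simp [taylor]⟩
    · exact ⟨fun _ => taylor_zero_succ D x n e, fun h => absurd h (by simp)⟩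
  | succ m ih =>
    rcases n with _ | n
    · exact ⟨fun h => absurd h (by simp), fun h => absurd h (by simp)⟩
    · have key : taylor D x (m + 1) (n + 1) e =
          D (taylor D x m (n + 1) e) + (n + 1 : ℕ) * D x * taylor D x m n e := by
        rw [D_taylor, Nat.add_sub_cancel]; ring
      constructor
      · intro h
        rw [key, (ih (n + 1) e).1 (by omega), (ih n e).1 (by omega), map_zero, mul_zero, add_zero]
      · intro h
        rw [key, (ih (n + 1) e).1 (by omega), (ih n e).2 (by omega), map_zero, zero_add,
          Nat.factorial_succ]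
        push_cast
        ring

theorem taylor_mem (S : Subring Q) (hS : ∀ a ∈ S, D a ∈ S) (c : Q) (hc : ∀ i : ℕ, c * x ^ i ∈ S)
    (m n i j : ℕ) : c * x ^ i * taylor D x m n (c * x ^ j) ∈ S := by
  induction n generalizing i j with
  | zero =>
    refine mul_mem (hc i) ?_
    induction m with
    | zero => exact hc j
    | succ m ih =>
      simp only [taylor, Function.iterate_succ_apply'] at ih ⊢
      exact hS _ ih
  | succ n ih =>
    have h1 := ih i (j + 1)
    have h2 := ih (i + 1) j
    have : c * x ^ i * taylor D x m (n + 1) (c * x ^ j) =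
        c * x ^ i * taylor D x m n (c * x ^ (j + 1)) -
          c * x ^ (i + 1) * taylor D x m n (c * x ^ j) := by
      rw [taylor, show x * (c * x ^ j) = c * x ^ (j + 1) by ring]
      ring
    rw [this]
    exact sub_mem h1 h2

/-- Seidenberg's theorem. -/
theorem isIntegral_derivation [IsNoetherianRing A] {K : Type u} [Field K] [CharZero K] [Algebra K A]
    (D : Derivation k A A) (D' : Derivation k (FractionRing A) (FractionRing A))
    (hD' : ∀ a, D' (algebraMap A _ a) = algebraMap A _ (D a))
    {x : FractionRing A} (hx : IsIntegral A x) : IsIntegral A (D' x) := by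
  refine IsAlmostIntegral.isIntegral_of_nonZeroDivisors_le_comap ?_ ?_
  · obtain ⟨r, hr, hrn⟩ := hx.isAlmostIntegral
    refine ⟨r * r, mul_mem hr hr, fun n => ?_⟩
    let S := (algebraMap A (FractionRing A)).range
    have hS : ∀ a ∈ S, D' a ∈ S := by
      rintro _ ⟨a, rfl⟩
      exact ⟨D a, (hD' a).symm⟩
    have hc : ∀ i : ℕ, algebraMap A (FractionRing A) r * x ^ i ∈ S := fun i => by
      have := hrn i
      rwa [Algebra.smul_def] at this
    have h := taylor_mem D' x S hS _ hc n n 0 0
    rw [(taylor_eq D' x n n _).2 rfl] at h
    obtain ⟨s, hs⟩ := h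
    refine ⟨algebraMap K A (n.factorial : K)⁻¹ * s, ?_⟩
    rw [map_mul, hs, Algebra.smul_def, map_mul, pow_zero, mul_one]
    have hn : algebraMap A (FractionRing A) (algebraMap K A (n.factorial : K)⁻¹) *
        (n.factorial : FractionRing A) = 1 := by
      rw [← map_natCast ((algebraMap A (FractionRing A)).comp (algebraMap K A)), RingHom.comp_apply,
        ← map_mul, ← map_mul, inv_mul_cancel₀ (Nat.cast_ne_zero.2 n.factorial_ne_zero), map_one,
        map_one]
    linear_combination (algebraMap A (FractionRing A) r * algebraMap A (FractionRing A) r *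
      D' x ^ n) * hn
  · intro a ha
    exact (IsLocalization.map_units (FractionRing A) (⟨a, ha⟩ : A⁰)).mem_nonZeroDivisors

end Groth.Agent.Et18.Seidenberg
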