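import Mathlib.Topology.Sheaves.Sheafify
import Mathlib.Topology.Sheaves.Stalks
import Mathlib.Topology.Sheaves.Functors

/-!
# Germs of inverse images of sheaves of sets

Adapted from `Groth.Agent.SiteCoh.Germs`.
-/

set_option autoImplicit false

universe u

open CategoryTheory CategoryTheory.Limits Opposite TopologicalSpace

namespace Groth.Agent.Et18.SheafPullSet

variable {X Z : TopCat.{u}} (g : Z ⟶ X) (F : TopCat.Sheaf (Type u) X)

/-- The stalk of an abelian sheaf. -/
noncomputable abbrev stk {T : TopCat.{u}} (M : TopCat.Sheaf (Type u) T) (t : T) : (Type u) :=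
  TopCat.Presheaf.stalk (C := (Type u)) M.obj t

/-- The germ of a section. -/
noncomputable abbrev germ {T : TopCat.{u}} (M : TopCat.Sheaf (Type u) T) {U : Opens T} {t : T} (ht : t ∈ U)
    (s : M.obj.obj (op U)) : stk M t :=
  TopCat.Presheaf.germ M.obj U t ht s

/-- The unit `F ⟶ g_* g^* F`. -/
noncomputable def unit : F ⟶ (TopCat.Sheaf.pushforward (Type u) g).obj ((TopCat.Sheaf.pullback (Type u) g).obj F) :=
  (TopCat.Sheaf.pullbackPushforwardAdjunction (Type u) g).unit.app F

/-- The constructed inverse image. -/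
noncomputable abbrev cPull : TopCat.Sheaf (Type u) Z :=
  (Functor.sheafPullbackConstruction.sheafPullback (Opens.map g) (Type u)
    (Opens.grothendieckTopology X) (Opens.grothendieckTopology Z)).obj F

/-- It is the inverse image. -/
noncomputable def cPullIso : (TopCat.Sheaf.pullback (Type u) g).obj F ≅ cPull g F :=
  (Functor.sheafPullbackConstruction.sheafPullbackIso (Opens.map g) (Type u)
    (Opens.grothendieckTopology X) (Opens.grothendieckTopology Z)).app F

set_option maxHeartbeats 1600000 in
lemma unit_cPullIso : (unit g F).hom ≫ ((TopCat.Sheaf.pushforward (Type u) g).map (cPullIso g F).hom).hom =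
    (TopCat.Presheaf.pullbackPushforwardAdjunction (Type u) g).unit.app F.obj ≫
      (TopCat.Presheaf.pushforward (Type u) g).map
        (toSheafify (Opens.grothendieckTopology Z)
          ((TopCat.Presheaf.pullback (Type u) g).obj F.obj)) := by
  have h := Adjunction.unit_leftAdjointUniq_hom_app
    ((Opens.map g).sheafAdjunctionContinuous (Type u) (Opens.grothendieckTopology X)
      (Opens.grothendieckTopology Z))
    (Functor.sheafPullbackConstruction.sheafAdjunctionContinuous (Opens.map g) (Type u)
      (Opens.grothendieckTopology X) (Opens.grothendieckTopology Z)) F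
  have h2 := congrArg InducedCategory.Hom.hom h
  refine Eq.trans h2 ?_
  unfold Functor.sheafPullbackConstruction.sheafAdjunctionContinuous
  have h3 := Adjunction.map_restrictFullyFaithful_unit_app
    (L := Functor.sheafPullbackConstruction.sheafPullback (Opens.map g) (Type u)
      (Opens.grothendieckTopology X) (Opens.grothendieckTopology Z))
    (R := (Opens.map g).sheafPushforwardContinuous (Type u)
      (Opens.grothendieckTopology X) (Opens.grothendieckTopology Z))
    (((Opens.map g).op.lanAdjunction (Type u)).comp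
      (sheafificationAdjunction (Opens.grothendieckTopology Z) (Type u)))
    (fullyFaithfulSheafToPresheaf (Opens.grothendieckTopology X) (Type u))
    (Functor.FullyFaithful.id (Sheaf (Opens.grothendieckTopology Z) (Type u)))
    (Iso.refl (sheafToPresheaf (Opens.grothendieckTopology X) (Type u) ⋙
      (Opens.map g).op.lan ⋙ presheafToSheaf (Opens.grothendieckTopology Z) (Type u)))
    (Iso.refl (𝟭 (Sheaf (Opens.grothendieckTopology Z) (Type u)) ⋙
      sheafToPresheaf (Opens.grothendieckTopology Z) (Type u) ⋙
        (Functor.whiskeringLeft (Opens X)ᵒᵖ (Opens Z)ᵒᵖ (Type u)).obj (Opens.map g).op)) F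
  refine Eq.trans h3 ?_
  rw [Adjunction.comp_unit_app]
  simp only [Iso.refl_hom, NatTrans.id_app]
  rfl

/-- The map of stalks `F_{g z} → (g^* F)_z`. -/
noncomputable def germMap (z : Z) : stk F (g z) → stk ((TopCat.Sheaf.pullback (Type u) g).obj F) z :=
  ((TopCat.Presheaf.stalkFunctor (Type u) (g z)).map (unit g F).hom ≫
    TopCat.Presheaf.stalkPushforward (Type u) g ((TopCat.Sheaf.pullback (Type u) g).obj F).obj z : _ ⟶ _)

lemma germMap_germ {z : Z} {U : Opens X} (hU : g z ∈ U) (t : F.obj.obj (op U)) :
    germMap g F z (germ F hU t) = germ ((TopCat.Sheaf.pullback (Type u) g).obj F) (U := (Opens.map g).obj U) hU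
      ((unit g F).hom.app (op U) t) := by
  change TopCat.Presheaf.stalkPushforward (Type u) g _ z
    ((TopCat.Presheaf.stalkFunctor (Type u) (g z)).map (unit g F).hom _) = _
  rw [TopCat.Presheaf.stalkFunctor_map_germ_apply]
  exact ConcreteCategory.congr_hom (TopCat.Presheaf.stalkPushforward_germ (Type u) g
    ((TopCat.Sheaf.pullback (Type u) g).obj F).obj U z hU) _

lemma germMap_comp_eq (z : Z) :
    (TypeCat.ofHom (germMap g F z)) ≫
        (TopCat.Presheaf.stalkFunctor (Type u) z).map (cPullIso g F).hom.hom =
      TopCat.Presheaf.stalkPullbackHom (Type u) g F.obj z ≫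
        (TopCat.Presheaf.stalkFunctor (Type u) z).map
          (toSheafify (Opens.grothendieckTopology Z)
            ((TopCat.Presheaf.pullback (Type u) g).obj F.obj)) := by
  refine TopCat.Presheaf.stalk_hom_ext _ fun U hU => ?_
  ext t
  change (TopCat.Presheaf.stalkFunctor (Type u) z).map (cPullIso g F).hom.hom
      (germMap g F z (germ F hU t)) =
    (TopCat.Presheaf.stalkFunctor (Type u) z).map _
      (TopCat.Presheaf.stalkPullbackHom (Type u) g F.obj z
        (TopCat.Presheaf.germ F.obj U (g z) hU t))
  refine Eq.trans (congrArg _ (germMap_germ g F hU t)) ?_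
  refine Eq.trans ?_ (congrArg _ (ConcreteCategory.congr_hom
    (TopCat.Presheaf.germ_stalkPullbackHom (Type u) g F.obj z U hU) t).symm)
  refine (TopCat.Presheaf.stalkFunctor_map_germ_apply ((Opens.map g).obj U) z hU _ _).trans ?_
  simp only [ConcreteCategory.comp_apply]
  erw [TopCat.Presheaf.stalkFunctor_map_germ_apply]
  exact congrArg (fun m => TopCat.Presheaf.germ (cPull g F).obj ((Opens.map g).obj U) z hU m)
    (ConcreteCategory.congr_hom (NatTrans.congr_app (unit_cPullIso g F) (op U)) t)

lemma bijective_germMap (z : Z) : Function.Bijective (germMap g F z) := by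
  have h₁ : IsIso (TopCat.Presheaf.stalkPullbackHom (Type u) g F.obj z) :=
    (TopCat.Presheaf.stalkPullbackIso (Type u) g F.obj z).isIso_hom
  have h₂ : IsIso ((TopCat.Presheaf.stalkFunctor (Type u) z).map
      (toSheafify (Opens.grothendieckTopology Z)
        ((TopCat.Presheaf.pullback (Type u) g).obj F.obj))) :=
    TopCat.Presheaf.stalkFunctor_map_unit_toSheafify_isIso z (Type u) _
  have h₃ : IsIso ((TopCat.Presheaf.stalkFunctor (Type u) z).map (cPullIso g F).hom.hom) :=
    Iso.isIso_hom ((sheafToPresheaf (Opens.grothendieckTopology Z) (Type u) ⋙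
      TopCat.Presheaf.stalkFunctor (Type u) z).mapIso (cPullIso g F))
  have h₄ : IsIso ((TypeCat.ofHom (germMap g F z)) ≫
      (TopCat.Presheaf.stalkFunctor (Type u) z).map (cPullIso g F).hom.hom) :=
    germMap_comp_eq g F z ▸ @IsIso.comp_isIso _ _ _ _ _ _ _ h₁ h₂
  have h₅ : IsIso ((TypeCat.ofHom (germMap g F z))) :=
    @IsIso.of_isIso_comp_right _ _ _ _ _ _ _ h₃ h₄
  exact ConcreteCategory.bijective_of_isIso (TypeCat.ofHom (germMap g F z))

/-- Sections of an inverse image come locally from sections. -/
lemma exists_local {W : Opens Z} (τ : ((TopCat.Sheaf.pullback (Type u) g).obj F).obj.obj (op W)) {z : Z} (hz : z ∈ W) :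
    ∃ (U : Opens X) (W' : Opens Z) (h : W' ≤ W) (h' : W' ≤ (Opens.map g).obj U)
      (t : F.obj.obj (op U)), z ∈ W' ∧
        ((TopCat.Sheaf.pullback (Type u) g).obj F).obj.map (homOfLE h).op τ =
          ((TopCat.Sheaf.pullback (Type u) g).obj F).obj.map (homOfLE h').op ((unit g F).hom.app (op U) t) := by
  obtain ⟨s, hs⟩ := (bijective_germMap g F z).2 (germ ((TopCat.Sheaf.pullback (Type u) g).obj F) hz τ)
  obtain ⟨U, hU, t, rfl⟩ := TopCat.Presheaf.exists_germ_eq F.obj s
  rw [show TopCat.Presheaf.germ F.obj U (g z) hU t = germ F hU t from rfl, germMap_germ] at hs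
  obtain ⟨W', hzW', i, j, e⟩ := TopCat.Presheaf.germ_eq ((TopCat.Sheaf.pullback (Type u) g).obj F).obj z hz
    (show z ∈ (Opens.map g).obj U from hU) _ _ hs.symm
  exact ⟨U, W', i.le, j.le, t, hzW', e⟩

end Groth.Agent.Et18.SheafPullSet
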