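import Groth.Agent.Et18.ShriekSections

/-!
# Composition of direct images with proper support
-/

universe u

open CategoryTheory CategoryTheory.Limits AlgebraicGeometry Opposite

set_option backward.isDefEq.respectTransparency.types false
set_option backward.isDefEq.respectTransparency false
set_option maxHeartbeats 1000000

namespace Groth.Agent.Et18

variable {X Y Z : Scheme.{u}} (h : X ⟶ Y) (g : Y ⟶ Z)

/-- The comparison of base changes along a composite. -/
noncomputable def bcCompHom (V : Z.Etale) :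
    (EtCoh.bc h).obj ((EtCoh.bc g).obj V) ⟶ (EtCoh.bc (h ≫ g)).obj V :=
  ((MorphismProperty.Over.pullbackComp (P := EtCoh.etaleMP) (Q := ⊤) h g).symm.hom.app V)

instance (V : Z.Etale) : IsIso (bcCompHom h g V) := by
  unfold bcCompHom; infer_instance

lemma pushComp_inv_app (F : EtCoh.Ab X) (V : Z.Etale) :
    ((EtCoh.pushComp g h).inv.app F).hom.app (op V) = F.obj.map (bcCompHom h g V).op := by
  simp [EtCoh.pushComp, bcCompHom]

lemma bcCompHom_prV (V : Z.Etale) :
    (bcCompHom h g V).left ≫ EtShriek.prV (h ≫ g) V =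
      EtShriek.prV h ((EtCoh.bc g).obj V) ≫ EtShriek.prV g V := by
  simp [bcCompHom, EtShriek.prV, MorphismProperty.Over.pullbackComp]
  rfl

lemma isProperOver_bcComp_iff (V : Z.Etale) (A : Set ((EtCoh.bc (h ≫ g)).obj V).left) :
    ClSub.IsProperOver (EtShriek.prV (h ≫ g) V) A ↔
      ClSub.IsProperOver (EtShriek.prV h ((EtCoh.bc g).obj V) ≫ EtShriek.prV g V)
        ((bcCompHom h g V).left ⁻¹' A) := by
  let e := (bcCompHom h g V).left
  haveI : IsIso e := by
      refine ⟨(inv (bcCompHom h g V)).left, ?_, ?_⟩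
      · exact congrArg (fun t => t.left) (IsIso.hom_inv_id (bcCompHom h g V))
      · exact congrArg (fun t => t.left) (IsIso.inv_hom_id (bcCompHom h g V))
  have sq : IsPullback e (EtShriek.prV h ((EtCoh.bc g).obj V) ≫ EtShriek.prV g V)
      (EtShriek.prV (h ≫ g) V) (𝟙 V.left) :=
    IsPullback.of_horiz_isIso ⟨(bcCompHom_prV h g V).trans (Category.comp_id _).symm⟩
  have sq' : IsPullback (inv e) (EtShriek.prV (h ≫ g) V)
      (EtShriek.prV h ((EtCoh.bc g).obj V) ≫ EtShriek.prV g V) (𝟙 V.left) :=
    IsPullback.of_horiz_isIso ⟨by rw [← bcCompHom_prV, IsIso.inv_hom_id_assoc, Category.comp_id]⟩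
  refine ⟨fun hA => IsProperOver.preimage hA sq, fun hA => ?_⟩
  have := IsProperOver.preimage hA sq'
  have e2 : (inv e) ⁻¹' (e ⁻¹' A) = A := by
    ext x
    simp only [Set.mem_preimage, ← Scheme.Hom.comp_apply, IsIso.inv_hom_id]
    rfl
  rwa [e2] at this

/-- Properness over a composite, in two steps. -/
theorem isProperOver_comp_iff {W Q S : Scheme.{u}} (p : W ⟶ Q) (q : Q ⟶ S) [IsSeparated q]
    [LocallyOfFiniteType q] (A : Set W) :
    ClSub.IsProperOver (p ≫ q) A ↔ ClSub.IsProperOver p A ∧ ClSub.IsProperOver q (p '' A) := by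
  constructor
  · rintro ⟨hA, hp⟩
    let ι := (redSub A hA).subschemeι
    haveI : IsProper ((ι ≫ p) ≫ q) := by rw [Category.assoc]; exact hp
    refine ⟨⟨hA, IsProper.of_comp (ι ≫ p) q⟩, ?_⟩
    have := isProperOver_range q (ι ≫ p)
    have er : Set.range (ι ≫ p) = p '' A := by
      rw [show ⇑(ι ≫ p) = p ∘ ι from funext (Scheme.Hom.comp_apply ι p), Set.range_comp,
        range_redSub]
    rwa [er] at this
  · rintro ⟨⟨hA, hp⟩, ⟨hB, hq⟩⟩
    let ι := (redSub A hA).subschemeι
    let κ := (redSub (p '' A) hB).subschemeι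
    haveI : IsProper (ι ≫ p) := hp
    haveI : IsProper (κ ≫ q) := hq
    let k := pullback.fst (ι ≫ p) κ ≫ ι
    haveI : IsClosedImmersion k := by
      haveI : IsClosedImmersion (pullback.fst (ι ≫ p) κ) :=
        MorphismProperty.pullback_fst _ _ inferInstance
      change IsClosedImmersion (pullback.fst (ι ≫ p) κ ≫ ι)
      infer_instance
    haveI : IsProper (k ≫ p ≫ q) := by
      have : k ≫ p ≫ q = pullback.snd (ι ≫ p) κ ≫ κ ≫ q := by
        rw [← pullback.condition_assoc]; simp [k]
      rw [this]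
      infer_instance
    have := isProperOver_of_isClosedImmersion (p ≫ q) k
    have er : Set.range k = A := by
      rw [show ⇑k = ι ∘ pullback.fst (ι ≫ p) κ from funext (Scheme.Hom.comp_apply _ ι),
        Set.range_comp, Scheme.Pullback.range_fst]
      refine subset_antisymm (fun x ⟨z, _, hz⟩ => range_redSub A hA ▸ ⟨z, hz⟩) fun x hx => ?_
      obtain ⟨z, rfl⟩ := (range_redSub A hA).symm ▸ hx
      refine ⟨z, ?_, rfl⟩
      rw [Set.mem_preimage, range_redSub]
      exact ⟨ι z, hx, (Scheme.Hom.comp_apply ι p z).symm⟩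
    rwa [er] at this

variable [IsSeparated g] [LocallyOfFiniteType g] [LocallyOfFiniteType h]

/-- `g_! h_! ⟶ (h ≫ g)_*`. -/
noncomputable def compToPush :
    EtShriek.lowerShriek h ⋙ EtShriek.lowerShriek g ⟶ EtCoh.push (h ≫ g) :=
  Functor.whiskerLeft (EtShriek.lowerShriek h) (shriekToPush g) ≫
    Functor.whiskerRight (shriekToPush h) (EtCoh.push g) ≫ (EtCoh.pushComp g h).hom

omit [IsSeparated g] [LocallyOfFiniteType g] [LocallyOfFiniteType h] in
theorem mono_compToPush (F : EtCoh.Ab X) : Mono ((compToPush h g).app F) := by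
  haveI := mono_shriekToPush g ((EtShriek.lowerShriek h).obj F)
  haveI := mono_shriekToPush h F
  haveI : (EtCoh.push g).PreservesMonomorphisms :=
    Functor.preservesMonomorphisms_of_adjunction (EtCoh.pullPushAdj g)
  simp only [compToPush, NatTrans.comp_app, Functor.whiskerLeft_app, Functor.whiskerRight_app]
  infer_instance

theorem range_compToPush (F : EtCoh.Ab X) (V : Z.Etale) :
    Set.range (((compToPush h g).app F).hom.app (op V)) =
      {t | PropSupp (h ≫ g) F (V := V) t} := by
  let P := (EtCoh.bc g).obj V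
  let ι := bcCompHom h g V
  ext t
  have hsupp : (t : EtCoh.sect F ((EtCoh.bc (h ≫ g)).obj V)) ∈ {t | PropSupp (h ≫ g) F (V := V) t} ↔
      PropSupp h F (V := P) (F.obj.map ι.op t) ∧
      ClSub.IsProperOver (EtShriek.prV g V)
        (EtShriek.prV h P '' EtShriek.sectSupp F _ (F.obj.map ι.op t)) := by
    change PropSupp (h ≫ g) F (V := V) t ↔ _
    rw [PropSupp, isProperOver_bcComp_iff, isProperOver_comp_iff, PropSupp,
      sectSupp_restrict_eq F ι t]
  have key : ∀ (u : EtCoh.sect ((EtShriek.lowerShriek g).obj ((EtShriek.lowerShriek h).obj F)) V)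
      (σ : EtShriek.shriekSubgroup h F P),
      ((shriekToPush g).app ((EtShriek.lowerShriek h).obj F)).hom.app (op V) u = toShriek h F P σ →
      F.obj.map ι.op (((compToPush h g).app F).hom.app (op V) u) = σ.1 := by
    intro u σ hu
    have h1 : ((shriekToPush h).app F).hom.app (op P)
        (((shriekToPush g).app ((EtShriek.lowerShriek h).obj F)).hom.app (op V) u) = σ.1 := by
      rw [hu]; exact shriekToPush_toShriek h F P σ
    refine Eq.trans ?_ h1
    have h2 := congrArg (fun t => t.hom.app (op V) (((shriekToPush h).app F).hom.app (op P)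
      (((shriekToPush g).app ((EtShriek.lowerShriek h).obj F)).hom.app (op V) u)))
      ((EtCoh.pushComp g h).hom_inv_id_app F)
    refine Eq.trans ?_ h2
    exact (congrArg (fun t => t (((compToPush h g).app F).hom.app (op V) u))
      (pushComp_inv_app h g F V)).symm
  constructor
  · rintro ⟨u, rfl⟩
    obtain ⟨σ, hσ⟩ := (toShriek_bijective h F P).2
      (((shriekToPush g).app ((EtShriek.lowerShriek h).obj F)).hom.app (op V) u)
    rw [hsupp, key u σ hσ.symm]
    refine ⟨(mem_shriekSubgroup_iff h F σ.1).mp σ.2, ?_⟩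
    rw [← sectSupp_toShriek, hσ]
    exact (range_shriekToPush g ((EtShriek.lowerShriek h).obj F) V).le ⟨u, rfl⟩
  · intro ht
    obtain ⟨h1, h2⟩ := hsupp.mp ht
    let σ : EtShriek.shriekSubgroup h F P := ⟨_, (mem_shriekSubgroup_iff h F _).mpr h1⟩
    have h2' : PropSupp g ((EtShriek.lowerShriek h).obj F) (V := V) (toShriek h F P σ) := by
      rw [PropSupp, sectSupp_toShriek]
      exact h2
    obtain ⟨u, hu⟩ := (range_shriekToPush g _ V).ge h2'
    refine ⟨u, ?_⟩
    have hinj : Function.Injective (F.obj.map ι.op) :=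
      ((ConcreteCategory.isIso_iff_bijective (F.obj.map ι.op)).mp inferInstance).1
    exact hinj (key u σ hu)

theorem existsUnique_shriekComp :
    ∃! φ : EtShriek.lowerShriek (h ≫ g) ≅ EtShriek.lowerShriek h ⋙ EtShriek.lowerShriek g,
      φ.hom ≫ compToPush h g = shriekToPush (h ≫ g) := by
  haveI := fun F => mono_shriekToPush (h ≫ g) F
  haveI := fun F => mono_compToPush h g F
  refine existsUnique_iso_of_ranges _ _ fun F V => ?_
  exact (range_shriekToPush (h ≫ g) F V.unop).trans (range_compToPush h g F V.unop).symm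

omit [IsSeparated g] [LocallyOfFiniteType g] [LocallyOfFiniteType h] in
lemma compat_iff
    (φ : EtShriek.lowerShriek (h ≫ g) ≅ EtShriek.lowerShriek h ⋙ EtShriek.lowerShriek g) :
    (∀ F : EtCoh.Ab X,
        φ.hom.app F ≫ (EtShriek.lowerShriek g).map (EtShriek.lowerShriekToPush h F) ≫
            EtShriek.lowerShriekToPush g ((EtCoh.push h).obj F) =
          EtShriek.lowerShriekToPush (h ≫ g) F ≫ (EtCoh.pushComp g h).inv.app F) ↔
      φ.hom ≫ compToPush h g = shriekToPush (h ≫ g) := by
  have e : ∀ F, (compToPush h g).app F = ((EtShriek.lowerShriek g).map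
      (EtShriek.lowerShriekToPush h F) ≫ EtShriek.lowerShriekToPush g ((EtCoh.push h).obj F)) ≫
      (EtCoh.pushComp g h).hom.app F := fun F => by
    simp only [compToPush, NatTrans.comp_app, Functor.whiskerLeft_app, Functor.whiskerRight_app]
    rw [← Category.assoc]
    congr 1
    exact ((shriekToPush g).naturality ((shriekToPush h).app F)).symm
  rw [NatTrans.ext_iff, funext_iff]
  refine forall_congr' fun F => ?_
  rw [NatTrans.comp_app, e F, ← Category.assoc (φ.hom.app F), ← Iso.app_inv, Iso.eq_comp_inv]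
  rfl

end Groth.Agent.Et18
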