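import Groth.Agent.Et18.ShriekSections
import Groth.Agent.Et18.ProperStageSets
import Groth.Agent.Et18.FilteredSections
import Groth.Agent.Et18.H0Lift.Supports
import Groth.Agent.Et18.UnitConst
import Mathlib.Algebra.Homology.ShortComplex.ExactFunctor

/-!
# `f_!` of a separated morphism locally of finite type is left exact and commutes with filtered colimits
-/

set_option autoImplicit false

universe u

open CategoryTheory CategoryTheory.Limits AlgebraicGeometry Opposite

set_option backward.isDefEq.respectTransparency.types false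
set_option backward.isDefEq.respectTransparency false

namespace Groth.Agent.Et18.ShriekFiltered

variable {X S : Scheme.{u}} (f : X ⟶ S)

theorem app_injective {Y : Scheme.{u}} {F G : EtCoh.Ab Y} (a : F ⟶ G) [Mono a] (W : Y.Etale) :
    Function.Injective (a.hom.app (op W)) :=
  (AddCommGrpCat.mono_iff_injective _).1
    (inferInstanceAs (Mono ((sheafToPresheaf _ _ ⋙ (evaluation _ _).obj (op W)).map a)))

variable [LocallyOfFiniteType f]

/-- The effect of `f_!` on sections. -/
theorem map_toShriek {F G : EtCoh.Ab X} (α : F ⟶ G) (V : S.Etale) (s : EtShriek.shriekSubgroup f F V)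
    (s' : EtShriek.shriekSubgroup f G V) (h : α.hom.app _ s.1 = s'.1) :
    ((EtShriek.lowerShriek f).map α).hom.app (op V) (toShriek f F V s) = toShriek f G V s' := by
  haveI := mono_shriekToPush f G
  refine app_injective ((shriekToPush f).app G) V ?_
  rw [shriekToPush_toShriek, ← h]
  refine (congrArg (fun q => q (toShriek f F V s)) (congrArg (fun q => q.hom.app (op V))
    ((shriekToPush f).naturality α))).trans ?_
  exact congrArg (α.hom.app _) (shriekToPush_toShriek f F V s)

/-- Sections of `f_!` are sections with proper support. -/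
theorem exists_toShriek (F : EtCoh.Ab X) (V : S.Etale) (z : EtCoh.sect ((EtShriek.lowerShriek f).obj F) V) :
    ∃ s, toShriek f F V s = z :=
  (toShriek_bijective f F V).2 z

theorem shriekPred_of_supp {F G : EtCoh.Ab X} {V : S.Etale} {s : EtCoh.sect F ((EtCoh.bc f).obj V)}
    {t : EtCoh.sect G ((EtCoh.bc f).obj V)} (hs : PropSupp f F s)
    (h : EtShriek.sectSupp G _ t ⊆ EtShriek.sectSupp F _ s) : t ∈ EtShriek.shriekSubgroup f G V :=
  (mem_shriekSubgroup_iff f G t).2 (IsProperOver.of_subset hs (isClosed_sectSupp G _ _) h)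

/-- `f_!` is left exact. -/
theorem preservesFiniteLimits : PreservesFiniteLimits (EtShriek.lowerShriek f) := by
  have hiff := (Functor.preservesFiniteLimits_tfae (EtShriek.lowerShriek f)).out 0 3 rfl rfl
  refine hiff.1 fun T hT => ?_
  haveI := hT.mono_f
  haveI : Mono ((EtShriek.lowerShriek f).map T.f) := by
    haveI := mono_shriekToPush f T.X₁
    haveI : Mono ((shriekToPush f).app T.X₁ ≫ (EtCoh.push f).map T.f) := mono_comp _ _
    exact mono_of_mono_fac ((shriekToPush f).naturality T.f)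
  refine ⟨exact_of_stalks _ fun y => ?_, inferInstance⟩
  rw [ShortComplex.ab_exact_iff]
  intro a ha
  let Φ := Scheme.pointSmallEtale (sepPoint S y)
  obtain ⟨V₀, v₀, z₀, rfl⟩ := Φ.toPresheafFiber_jointly_surjective
    (P := ((EtShriek.lowerShriek f).obj T.X₂).obj) a
  obtain ⟨V, g, v, hv, hz⟩ := (Φ.toPresheafFiber_eq_iff' (P := ((EtShriek.lowerShriek f).obj T.X₃).obj) V₀ v₀
    (((EtShriek.lowerShriek f).map T.g).hom.app (op V₀) z₀) 0).1
      (((Φ.toPresheafFiber_naturality_apply ((EtShriek.lowerShriek f).map T.g).hom V₀ v₀ z₀).symm.trans ha).trans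
        (map_zero _).symm)
  let z : EtCoh.sect ((EtShriek.lowerShriek f).obj T.X₂) V := ((EtShriek.lowerShriek f).obj T.X₂).obj.map g.op z₀
  have hgz : ((EtShriek.lowerShriek f).map T.g).hom.app (op V) z = 0 := by
    rw [map_zero] at hz
    exact (NatTrans.naturality_apply ((EtShriek.lowerShriek f).map T.g).hom g.op z₀).trans hz
  obtain ⟨s, hs⟩ := exists_toShriek f T.X₂ V z
  have h0 : T.g.hom.app _ s.1 = 0 := by
    have e := (congrArg (fun q => q z) (congrArg (fun q => q.hom.app (op V))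
      ((shriekToPush f).naturality T.g))).symm
    rw [← hs] at e
    refine (congrArg (T.g.hom.app _) (shriekToPush_toShriek f T.X₂ V s).symm).trans (e.trans ?_)
    refine (congrArg (((shriekToPush f).app T.X₃).hom.app (op V)) ?_).trans (map_zero _)
    rw [hs]; exact hgz
  have hE : Mono T.f := inferInstance
  let Ev := sheafToPresheaf X.smallEtaleTopology AddCommGrpCat.{u + 1} ⋙
    (evaluation X.Etaleᵒᵖ AddCommGrpCat.{u + 1}).obj (op ((EtCoh.bc f).obj V))
  haveI : PreservesFiniteLimits Ev := inferInstance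
  haveI : PreservesBinaryBiproducts Ev := preservesBinaryBiproducts_of_preservesBinaryProducts Ev
  haveI : Ev.Additive := Functor.additive_of_preservesBinaryBiproducts Ev
  have hex := (((Functor.preservesFiniteLimits_tfae Ev).out 1 3 rfl rfl).2 inferInstance T ⟨hT.exact, hE⟩).1
  rw [ShortComplex.ab_exact_iff] at hex
  obtain ⟨t, ht⟩ := hex s.1 h0
  have htm : t ∈ EtShriek.shriekSubgroup f T.X₁ V := by
    refine shriekPred_of_supp f ((mem_shriekSubgroup_iff f T.X₂ s.1).1 s.2) fun x hx W w hw h => hx W w hw ?_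
    refine app_injective T.f W (Eq.trans ?_ (map_zero (T.f.hom.app (op W)).hom).symm)
    refine (NatTrans.naturality_apply T.f.hom w.op t).trans ?_
    exact (congrArg (T.X₂.obj.map w.op) ht).trans h
  refine ⟨Φ.toPresheafFiber V v ((EtShriek.lowerShriek f).obj T.X₁).obj (toShriek f T.X₁ V ⟨t, htm⟩), ?_⟩
  refine (Φ.toPresheafFiber_naturality_apply ((EtShriek.lowerShriek f).map T.f).hom V v _).trans ?_
  refine (congrArg (Φ.toPresheafFiber V v ((EtShriek.lowerShriek f).obj T.X₂).obj)
    ((map_toShriek f T.f V ⟨t, htm⟩ s ht).trans hs)).trans ?_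
  rw [← hv]
  exact Φ.toPresheafFiber_w_apply g v _ z₀

section Colimit

variable [IsSeparated f] {J : Type u} [SmallCategory J] [IsFiltered J]

/-- A cocone is a colimit if it is one on stalks, elementwise. -/
theorem nonempty_isColimit_of_stalks' {Y : Scheme.{u}} {D : J ⥤ EtCoh.Ab Y} (c : Cocone D)
    (hsurj : ∀ (x : Y) (a : (EtCoh.stalk (sepPoint Y x)).obj c.pt),
      ∃ (j : J) (b : (EtCoh.stalk (sepPoint Y x)).obj (D.obj j)),
        (EtCoh.stalk (sepPoint Y x)).map (c.ι.app j) b = a)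
    (hinj : ∀ (x : Y) (j : J) (b : (EtCoh.stalk (sepPoint Y x)).obj (D.obj j)),
      (EtCoh.stalk (sepPoint Y x)).map (c.ι.app j) b = 0 →
        ∃ (k : J) (a : j ⟶ k), (EtCoh.stalk (sepPoint Y x)).map (D.map a) b = 0) :
    Nonempty (IsColimit c) := by
  let d := colimit.isColimit D
  let φ := d.desc c
  suffices IsIso φ from ⟨d.ofIsoColimit (Cocone.ext (asIso φ) fun j => d.fac c j)⟩
  refine isIso_of_stalks φ fun x => ?_
  let Φ := EtCoh.stalk (sepPoint Y x)
  have hfac : ∀ (j : J) (b : Φ.obj (D.obj j)),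
      Φ.map φ (Φ.map (colimit.ι D j) b) = Φ.map (c.ι.app j) b := fun j b =>
    ConcreteCategory.congr_hom ((Φ.map_comp _ _).symm.trans (congrArg Φ.map (d.fac c j))) b
  refine (ConcreteCategory.isIso_iff_bijective _).mpr ⟨?_, fun a => ?_⟩
  · refine (injective_iff_map_eq_zero _).mpr fun z hz => ?_
    obtain ⟨j, b, rfl⟩ := Concrete.isColimit_exists_rep _ (isColimitOfPreserves Φ d) z
    obtain ⟨k, a, hk⟩ := hinj x j b ((hfac j b).symm.trans hz)
    change Φ.map (colimit.ι D j) b = 0
    rw [← colimit.w D a, Φ.map_comp, ConcreteCategory.comp_apply, hk, map_zero]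
  · obtain ⟨j, b, hb⟩ := hsurj x a
    exact ⟨_, (hfac j b).trans hb⟩

theorem exists_qc_open (V : S.Etale) [IsAffine V.left] {Z : Set ((EtCoh.bc f).obj V).left}
    (hZ : ClSub.IsProperOver (EtShriek.prV f V) Z) :
    ∃ O : ((EtCoh.bc f).obj V).left.Opens, Z ⊆ O ∧ IsCompact (O : Set ((EtCoh.bc f).obj V).left) := by
  obtain ⟨hc, hp⟩ := hZ
  haveI : IsProper ((redSub Z hc).subschemeι ≫ EtShriek.prV f V) := hp
  haveI : CompactSpace (redSub Z hc).subscheme :=
    QuasiCompact.compactSpace_of_compactSpace ((redSub Z hc).subschemeι ≫ EtShriek.prV f V)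
  have hZc : IsCompact Z := range_redSub Z hc ▸ isCompact_range (redSub Z hc).subschemeι.continuous
  let U := ((EtCoh.bc f).obj V).left
  choose A hA hxA _ using fun x : U => exists_isAffineOpen_mem_and_subset (X := U) (x := x) (U := ⊤) trivial
  obtain ⟨T, hT⟩ := hZc.elim_finite_subcover (fun x => (A x : Set U)) (fun x => (A x).isOpen)
    (fun x _ => Set.mem_iUnion.2 ⟨x, hxA x⟩)
  refine ⟨⨆ x ∈ T, A x, fun z hz => ?_, ?_⟩
  · obtain ⟨x, hx, hzx⟩ := Set.mem_iUnion₂.1 (hT hz)
    exact TopologicalSpace.Opens.mem_iSup.2 ⟨x, TopologicalSpace.Opens.mem_iSup.2 ⟨hx, hzx⟩⟩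
  · simp only [TopologicalSpace.Opens.coe_iSup]
    exact T.finite_toSet.isCompact_biUnion fun x _ => (hA x).isCompact

variable (D : J ⥤ EtCoh.Ab X) (c : Cocone D) (hc : IsColimit c)

include hc in
theorem exists_lift_sect (U : X.Etale) [CompactSpace U.left] [QuasiSeparatedSpace U.left]
    (σ : EtCoh.sect c.pt U) : ∃ (j : J) (t : EtCoh.sect (D.obj j) U), (c.ι.app j).hom.app (op U) t = σ :=
  (isLocColim_of_isColimit c hc).exists_lift U σ

include hc in
theorem eventually_zero (U : X.Etale) [CompactSpace U.left] [QuasiSeparatedSpace U.left]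
    {j : J} (t : EtCoh.sect (D.obj j) U) (h : (c.ι.app j).hom.app (op U) t = 0) :
    ∃ (k : J) (a : j ⟶ k), (D.map a).hom.app (op U) t = 0 := by
  let z : EtCoh.sect (D.obj j) U := 0
  obtain ⟨k, a, ha⟩ := (isLocColim_of_isColimit c hc).eventually_eq U t z
    (h.trans (map_zero ((c.ι.app j).hom.app (op U)).hom).symm)
  exact ⟨k, a, ha.trans (map_zero ((D.map a).hom.app (op U)).hom)⟩

theorem quasiSeparatedSpace_opens (V : S.Etale) [IsAffine V.left]
    (O : ((EtCoh.bc f).obj V).left.Opens) : QuasiSeparatedSpace O.toScheme := by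
  haveI : IsSeparated (EtShriek.prV f V) := isSeparated_prV f V
  exact quasiSeparatedSpace_of_quasiSeparated (O.ι ≫ EtShriek.prV f V)

/-- A section vanishes if it does on an open and its support lies in that open. -/
theorem eq_zero_of_open {Y : Scheme.{u}} (G : EtCoh.Ab Y) (U : Y.Etale) (O : U.left.Opens)
    (s : EtCoh.sect G U) (hs : EtShriek.sectSupp G U s ⊆ O)
    (h0 : G.obj.map (etalePieceHom U O).op s = 0) : s = 0 :=
  eq_zero_of_sectSupp_eq_empty G U s (Set.eq_empty_iff_forall_notMem.2 fun x hx =>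
    hx _ (etalePieceHom U O) ⟨⟨x, hs hx⟩, rfl⟩ h0)

include hc in
theorem exists_lift_proper (V : S.Etale) [IsAffine V.left] (σ : EtCoh.sect c.pt ((EtCoh.bc f).obj V))
    (hσ : PropSupp f c.pt σ) : ∃ (j : J) (τ : EtCoh.sect (D.obj j) ((EtCoh.bc f).obj V)),
      PropSupp f (D.obj j) τ ∧ (c.ι.app j).hom.app _ τ = σ := by
  let B := (EtCoh.bc f).obj V
  obtain ⟨O, hZO, hO⟩ := exists_qc_open f V hσ
  let P := etalePiece B O
  let π : P ⟶ B := etalePieceHom B O
  haveI : CompactSpace P.left := isCompact_iff_compactSpace.1 hO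
  haveI : QuasiSeparatedSpace P.left := quasiSeparatedSpace_opens f V O
  obtain ⟨j, t, ht⟩ := exists_lift_sect D c hc P (c.pt.obj.map π.op σ)
  let pr : P.left ⟶ V.left := O.ι ≫ EtShriek.prV f V
  haveI : IsSeparated (EtShriek.prV f V) := isSeparated_prV f V
  haveI : LocallyOfFiniteType (EtShriek.prV f V) := locallyOfFiniteType_prV f V
  haveI : IsSeparated pr := inferInstanceAs (IsSeparated (O.ι ≫ EtShriek.prV f V))
  haveI : LocallyOfFiniteType pr := inferInstanceAs (LocallyOfFiniteType (O.ι ≫ EtShriek.prV f V))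
  haveI : CompactSpace O.toScheme := isCompact_iff_compactSpace.1 hO
  haveI : QuasiCompact pr := inferInstanceAs (QuasiCompact (O.ι ≫ EtShriek.prV f V))
  let Z : Set P.left := O.ι ⁻¹' EtShriek.sectSupp c.pt B σ
  have hZ : ClSub.IsProperOver pr Z := by
    obtain ⟨hcl, hp⟩ := hσ
    let κ := (redSub (EtShriek.sectSupp c.pt B σ) hcl).subschemeι
    haveI : IsProper (κ ≫ EtShriek.prV f V) := hp
    have hκ : Set.range κ ⊆ Set.range O.ι := by
      rw [range_redSub, Scheme.Opens.range_ι]; exact hZO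
    let l := IsOpenImmersion.lift O.ι κ hκ
    haveI : IsProper (l ≫ pr) := by
      change IsProper (l ≫ O.ι ≫ EtShriek.prV f V)
      rw [← Category.assoc, IsOpenImmersion.lift_fac]; infer_instance
    have h := isProperOver_range pr l
    have hr : Set.range l = Z := by
      ext x
      constructor
      · rintro ⟨y, rfl⟩
        have e : O.ι (l y) = κ y := congrArg (fun k => k y) (IsOpenImmersion.lift_fac O.ι κ hκ)
        have : κ y ∈ Set.range κ := ⟨y, rfl⟩
        rw [range_redSub] at this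
        exact (congrArg (· ∈ EtShriek.sectSupp c.pt B σ) e).mpr this
      · intro hx
        obtain ⟨y, hy⟩ : O.ι x ∈ Set.range κ := by rw [range_redSub]; exact hx
        refine ⟨y, O.ι.isEmbedding.injective ?_⟩
        exact (congrArg (fun k => k y) (IsOpenImmersion.lift_fac O.ι κ hκ)).trans hy
    exact hr ▸ h
  let Sk : (Under j)ᵒᵖ → Set P.left := fun k =>
    EtShriek.sectSupp (D.obj k.unop.right) P ((D.map k.unop.hom).hom.app (op P) t)
  have hmono : ∀ ⦃k l : (Under j)ᵒᵖ⦄, (k ⟶ l) → Sk k ⊆ Sk l := fun k l a => by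
    change EtShriek.sectSupp _ P ((D.map k.unop.hom).hom.app (op P) t) ⊆ _
    rw [← Under.w a.unop, Functor.map_comp]
    exact EtShriek.sectSupp_map_subset (D.map a.unop.right) P _
  have hinter : ∀ x, (∀ k, x ∈ Sk k) → x ∈ Z := fun x hx => by
    by_contra hxZ
    change ¬ ∀ (W : X.Etale) (g : W ⟶ B), (∃ w, g.left w = O.ι x) → c.pt.obj.map g.op σ ≠ 0 at hxZ
    push Not at hxZ
    obtain ⟨W₁, g, ⟨w, hw⟩, hg⟩ := hxZ
    obtain ⟨_, ⟨(A : P.left.Opens), hA, rfl⟩, hxA, hAsub⟩ :=
      P.left.isBasis_affineOpens.exists_subset_of_mem_open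
        (show x ∈ ((⊤ : P.left.Opens) : Set P.left) from trivial) isOpen_univ
    haveI := etale_map_left g
    let R : X.Etale := etalePiece P (A ⊓ ⟨O.ι ⁻¹' Set.range g.left,
      g.left.isOpenMap.isOpen_range.preimage O.ι.continuous⟩)
    obtain ⟨_, ⟨(A' : R.left.Opens), hA', rfl⟩, hxA', -⟩ :=
      R.left.isBasis_affineOpens.exists_subset_of_mem_open
        (Set.mem_univ (⟨x, hxA, ⟨w, hw⟩⟩ : R.left)) isOpen_univ
    let R' := etalePiece R A'
    let ρ : R' ⟶ P := etalePieceHom R A' ≫ etalePieceHom P _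
    haveI : IsAffine R'.left := hA'
    have hσ0 : c.pt.obj.map (ρ ≫ π).op σ = 0 := by
      refine eq_zero_of_sectSupp_eq_empty _ _ _ (Set.eq_empty_iff_forall_notMem.2 fun y hy => ?_)
      have hy' := sectSupp_restrict_subset c.pt (ρ ≫ π) σ hy
      obtain ⟨w', hw'⟩ := ((etalePieceHom R A').left y).2.2
      exact hy' W₁ g ⟨w', hw'⟩ hg
    have h0 : (c.ι.app j).hom.app (op R') ((D.obj j).obj.map ρ.op t) = 0 := by
      refine (NatTrans.naturality_apply (c.ι.app j).hom ρ.op t).trans ?_
      rw [ht]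
      refine Eq.trans ?_ hσ0
      exact (Functor.map_comp_apply c.pt.obj π.op ρ.op σ).symm
    obtain ⟨k, a, hk⟩ := eventually_zero D c hc R' _ h0
    refine hx (op (Under.mk a)) R' ρ ⟨⟨⟨x, hxA, ⟨w, hw⟩⟩, hxA'⟩, rfl⟩ ?_
    exact ((NatTrans.naturality_apply (D.map a).hom ρ.op t).symm.trans hk)
  obtain ⟨k, hk⟩ := exists_isProperOver_stage pr Sk (fun k => isClosed_sectSupp _ _ _) hmono hZ hinter
  let tk := (D.map k.unop.hom).hom.app (op P) t
  let C : Set B.left := O.ι '' Sk k
  have hC : ClSub.IsProperOver (EtShriek.prV f V) C := by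
    obtain ⟨hcl, hp⟩ := hk
    haveI : IsProper ((redSub (Sk k) hcl).subschemeι ≫ pr) := hp
    haveI : IsProper (((redSub (Sk k) hcl).subschemeι ≫ O.ι) ≫ EtShriek.prV f V) := by
      rw [Category.assoc]; exact hp
    have h := isProperOver_range (EtShriek.prV f V) ((redSub (Sk k) hcl).subschemeι ≫ O.ι)
    have hr : Set.range ((redSub (Sk k) hcl).subschemeι ≫ O.ι) = C := by
      simp only [Scheme.Hom.comp_base, TopCat.coe_comp, Set.range_comp, range_redSub]
      rfl
    exact hr ▸ h
  let N : B.left.Opens := ⟨Cᶜ, (IsProperOver.isClosed hC).isOpen_compl⟩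
  let Wf : ULift.{u + 1} Bool → X.Etale := fun b => bif b.down then P else etalePiece B N
  let af : ∀ b, Wf b ⟶ B := fun b => match b with
    | ⟨true⟩ => π
    | ⟨false⟩ => etalePieceHom B N
  let tf : ∀ b, EtCoh.sect (D.obj k.unop.right) (Wf b) := fun b => match b with
    | ⟨true⟩ => tk
    | ⟨false⟩ => 0
  have hzero : ∀ (R : X.Etale) (g₁ : R ⟶ P) (g₂ : R ⟶ etalePiece B N),
      g₁ ≫ π = g₂ ≫ etalePieceHom B N → (D.obj k.unop.right).obj.map g₁.op tk = 0 := fun R g₁ g₂ hg => by
    refine eq_zero_of_sectSupp_eq_empty _ _ _ (Set.eq_empty_iff_forall_notMem.2 fun r hr => ?_)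
    have h1 := sectSupp_restrict_subset _ g₁ tk hr
    have h2 : π.left (g₁.left r) = (etalePieceHom B N).left (g₂.left r) :=
      congrArg (fun q : R ⟶ B => q.left r) hg
    exact (g₂.left r).2 ⟨g₁.left r, h1, h2⟩
  obtain ⟨τ, hτ⟩ := H0Lift.exists_glue_cover (F := D.obj k.unop.right) B Wf af (fun x => by
      by_cases hx : x ∈ O
      · exact ⟨⟨true⟩, ⟨x, hx⟩, rfl⟩
      · refine ⟨⟨false⟩, ⟨x, ?_⟩, rfl⟩
        rintro ⟨y, -, rfl⟩
        exact hx y.2) tf
    (fun b b' R g g' hg r hr => by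
      rcases b with ⟨_ | _⟩ <;> rcases b' with ⟨_ | _⟩
      · rw [show (tf ⟨false⟩) = 0 from rfl, map_zero, map_zero, sub_zero] at hr
        exact (Set.eq_empty_iff_forall_notMem.1 (sectSupp_zero _ R)) r hr
      · have e : (D.obj k.unop.right).obj.map g.op (tf ⟨false⟩) -
            (D.obj k.unop.right).obj.map g'.op (tf ⟨true⟩) = 0 :=
          (congrArg₂ (· - ·) (map_zero ((D.obj k.unop.right).obj.map g.op).hom) (hzero R g' g hg.symm)).trans (sub_zero _)
        rw [e] at hr
        exact (Set.eq_empty_iff_forall_notMem.1 (sectSupp_zero _ R)) r hr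
      · have e : (D.obj k.unop.right).obj.map g.op (tf ⟨true⟩) -
            (D.obj k.unop.right).obj.map g'.op (tf ⟨false⟩) = 0 :=
          (congrArg₂ (· - ·) (hzero R g g' hg) (map_zero ((D.obj k.unop.right).obj.map g'.op).hom)).trans (sub_zero _)
        rw [e] at hr
        exact (Set.eq_empty_iff_forall_notMem.1 (sectSupp_zero _ R)) r hr
      · have : g = g' := etaleHom_ext (by
          have := congrArg (fun q : R ⟶ B => q.left) hg
          exact (cancel_mono O.ι).1 this)
        rw [this, sub_self] at hr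
        exact (Set.eq_empty_iff_forall_notMem.1 (sectSupp_zero _ R)) r hr)
  have hsupp : EtShriek.sectSupp (D.obj k.unop.right) B τ ⊆ C := fun x hx => by
    by_contra hxC
    exact hx _ (etalePieceHom B N) ⟨⟨x, hxC⟩, rfl⟩ (hτ ⟨false⟩)
  refine ⟨k.unop.right, τ, IsProperOver.of_subset hC (isClosed_sectSupp _ _ _) hsupp, ?_⟩
  refine sub_eq_zero.1 (eq_zero_of_open c.pt B O _ ?_ ?_)
  · intro x hx
    rw [sub_eq_add_neg] at hx
    rcases sectSupp_add c.pt B _ _ hx with h | h
    · obtain ⟨y, -, rfl⟩ := hsupp (EtShriek.sectSupp_map_subset (c.ι.app k.unop.right) B τ h)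
      exact y.2
    · rw [sectSupp_neg] at h
      exact hZO h
  · rw [map_sub, sub_eq_zero, ← ht]
    refine (NatTrans.naturality_apply (c.ι.app k.unop.right).hom π.op τ).symm.trans ?_
    refine (congrArg _ (hτ ⟨true⟩)).trans ?_
    exact congrArg (fun q => q t) (congrArg (fun q => q.hom.app (op P)) (c.w k.unop.hom))

include hc in
theorem nonempty_isColimit_shriek : Nonempty (IsColimit ((EtShriek.lowerShriek f).mapCocone c)) := by
  refine nonempty_isColimit_of_stalks' _ (fun y a => ?_) fun y j b hb => ?_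
  · let Φ := Scheme.pointSmallEtale (sepPoint S y)
    obtain ⟨V₀, v₀, z₀, rfl⟩ := Φ.toPresheafFiber_jointly_surjective
      (P := ((EtShriek.lowerShriek f).obj c.pt).obj) a
    obtain ⟨_, ⟨(A : V₀.left.Opens), hA, rfl⟩, hxA, -⟩ :=
      V₀.left.isBasis_affineOpens.exists_subset_of_mem_open (Set.mem_univ (fiberPt v₀)) isOpen_univ
    let V := etalePiece V₀ A
    obtain ⟨v, rfl⟩ := UnitConst.exists_lift_nhd (etalePieceHom V₀ A) v₀ ⟨⟨_, hxA⟩, rfl⟩
    haveI : IsAffine V.left := hA
    obtain ⟨s, hs⟩ := exists_toShriek f c.pt V (((EtShriek.lowerShriek f).obj c.pt).obj.map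
      (etalePieceHom V₀ A).op z₀)
    obtain ⟨j, τ, hτ, e⟩ := exists_lift_proper f D c hc V s.1 ((mem_shriekSubgroup_iff f _ s.1).1 s.2)
    refine ⟨j, Φ.toPresheafFiber V v ((EtShriek.lowerShriek f).obj (D.obj j)).obj (toShriek f _ V ⟨τ, (mem_shriekSubgroup_iff f _ τ).2 hτ⟩), ?_⟩
    refine (Φ.toPresheafFiber_naturality_apply ((EtShriek.lowerShriek f).map (c.ι.app j)).hom V v _).trans ?_
    refine (congrArg (Φ.toPresheafFiber V v ((EtShriek.lowerShriek f).obj c.pt).obj)
      ((map_toShriek f (c.ι.app j) V ⟨τ, (mem_shriekSubgroup_iff f _ τ).2 hτ⟩ s e).trans hs)).trans ?_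
    exact Φ.toPresheafFiber_w_apply _ v _ z₀
  · let Φ := Scheme.pointSmallEtale (sepPoint S y)
    obtain ⟨V₀, v₀, z₀, rfl⟩ := Φ.toPresheafFiber_jointly_surjective
      (P := ((EtShriek.lowerShriek f).obj (D.obj j)).obj) b
    obtain ⟨V₁, g, v₁, hv₁, hz⟩ := (Φ.toPresheafFiber_eq_iff'
      (P := ((EtShriek.lowerShriek f).obj c.pt).obj) V₀ v₀
      (((EtShriek.lowerShriek f).map (c.ι.app j)).hom.app (op V₀) z₀) 0).1
        (((Φ.toPresheafFiber_naturality_apply ((EtShriek.lowerShriek f).map (c.ι.app j)).hom V₀ v₀ z₀).symm.trans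
          hb).trans (map_zero _).symm)
    obtain ⟨_, ⟨(A : V₁.left.Opens), hA, rfl⟩, hxA, -⟩ :=
      V₁.left.isBasis_affineOpens.exists_subset_of_mem_open (Set.mem_univ (fiberPt v₁)) isOpen_univ
    let V := etalePiece V₁ A
    obtain ⟨v, hv⟩ := UnitConst.exists_lift_nhd (etalePieceHom V₁ A) v₁ ⟨⟨_, hxA⟩, rfl⟩
    haveI : IsAffine V.left := hA
    let h : V ⟶ V₀ := etalePieceHom V₁ A ≫ g
    have hh : Φ.fiber.map h v = v₀ := by
      rw [← hv₁, ← hv]
      exact ConcreteCategory.congr_hom (Φ.fiber.map_comp _ _) v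
    let z := ((EtShriek.lowerShriek f).obj (D.obj j)).obj.map h.op z₀
    have hz' : ((EtShriek.lowerShriek f).map (c.ι.app j)).hom.app (op V) z = 0 := by
      refine (NatTrans.naturality_apply ((EtShriek.lowerShriek f).map (c.ι.app j)).hom h.op z₀).trans ?_
      rw [map_zero] at hz
      rw [op_comp, Functor.map_comp, ConcreteCategory.comp_apply]
      exact (congrArg _ hz).trans (map_zero _)
    obtain ⟨s, hs⟩ := exists_toShriek f (D.obj j) V z
    have hp := (mem_shriekSubgroup_iff f _ s.1).1 s.2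
    have h0 : (c.ι.app j).hom.app _ s.1 = 0 := by
      have hmem : (c.ι.app j).hom.app _ s.1 ∈ EtShriek.shriekSubgroup f c.pt V :=
        shriekPred_of_supp f hp (EtShriek.sectSupp_map_subset (c.ι.app j) _ s.1)
      have e := map_toShriek f (c.ι.app j) V s ⟨_, hmem⟩ rfl
      rw [hs] at e
      exact congrArg Subtype.val ((toShriek_bijective f c.pt V).1 ((e.symm.trans hz').trans (map_zero _).symm))
    obtain ⟨O, hZO, hO⟩ := exists_qc_open f V hp
    haveI : CompactSpace (etalePiece ((EtCoh.bc f).obj V) O).left := isCompact_iff_compactSpace.1 hO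
    haveI : QuasiSeparatedSpace (etalePiece ((EtCoh.bc f).obj V) O).left := quasiSeparatedSpace_opens f V O
    obtain ⟨k, a, hk⟩ := eventually_zero D c hc (etalePiece ((EtCoh.bc f).obj V) O)
      ((D.obj j).obj.map (etalePieceHom _ O).op s.1) (by
        refine (NatTrans.naturality_apply (c.ι.app j).hom _ s.1).trans ?_
        rw [h0, map_zero])
    have hk0 : (D.map a).hom.app _ s.1 = 0 := eq_zero_of_open _ _ O _
      ((EtShriek.sectSupp_map_subset (D.map a) _ s.1).trans hZO)
      ((NatTrans.naturality_apply (D.map a).hom _ s.1).symm.trans hk)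
    refine ⟨k, a, ?_⟩
    rw [← hh]
    refine (congrArg _ (Φ.toPresheafFiber_w_apply h v _ z₀).symm).trans ?_
    refine (Φ.toPresheafFiber_naturality_apply ((EtShriek.lowerShriek f).map (D.map a)).hom V v z).trans ?_
    rw [← hs, map_toShriek f (D.map a) V s 0 hk0, map_zero, map_zero]

theorem preservesColimitsOfShape :
    PreservesColimitsOfShape J (EtShriek.lowerShriek f) :=
  ⟨fun {D} => ⟨fun {c} hc => nonempty_isColimit_shriek f D c hc⟩⟩

end Colimit

end Groth.Agent.Et18.ShriekFiltered
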