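import Groth.Agent.Et18.ProperOver
import Groth.Agent.Et18.FiniteFibreStalk

/-!
# Sections with proper support form a subgroup
-/

universe u

open CategoryTheory CategoryTheory.Limits AlgebraicGeometry Opposite

set_option backward.isDefEq.respectTransparency.types false
set_option backward.isDefEq.respectTransparency false

namespace Groth.Agent.Et18

variable {X Y : Scheme.{u}} (f : X ⟶ Y) (F : EtCoh.Ab X)

theorem isPullback_prV {V V' : Y.Etale} (φ : V' ⟶ V) :
    IsPullback ((EtCoh.bc f).map φ).left (EtShriek.prV f V') (EtShriek.prV f V) φ.left :=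
  EtCoh.isPullback_bc_map f φ

instance isSeparated_prV [IsSeparated f] (V : Y.Etale) : IsSeparated (EtShriek.prV f V) :=
  MorphismProperty.pullback_fst _ _ inferInstance

instance locallyOfFiniteType_prV [LocallyOfFiniteType f] (V : Y.Etale) :
    LocallyOfFiniteType (EtShriek.prV f V) :=
  MorphismProperty.pullback_fst _ _ inferInstance

instance locallyQuasiFinite_prV [LocallyQuasiFinite f] (V : Y.Etale) :
    LocallyQuasiFinite (EtShriek.prV f V) :=
  MorphismProperty.pullback_fst _ _ inferInstance

theorem sectSupp_zero (U : X.Etale) : EtShriek.sectSupp F U 0 = ∅ := by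
  refine Set.eq_empty_iff_forall_notMem.mpr fun x hx => ?_
  exact hx U (𝟙 U) ⟨x, rfl⟩ (map_zero _)

theorem sectSupp_add (U : X.Etale) (a b : EtCoh.sect F U) :
    EtShriek.sectSupp F U (a + b) ⊆ EtShriek.sectSupp F U a ∪ EtShriek.sectSupp F U b := by
  intro x hx
  obtain ⟨v, hv⟩ := exists_fiber_point (sepPoint X (U.hom x)) U x (sepPoint_default X _).symm
  by_contra hcon
  rw [Set.mem_union, not_or, ← hv] at hcon
  refine not_mem_sectSupp_of_germ_eq_zero F _ U (a + b) v ?_ (hv.symm ▸ hx)
  rw [map_add, germ_eq_zero_of_not_mem_sectSupp F _ U a v hcon.1,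
    germ_eq_zero_of_not_mem_sectSupp F _ U b v hcon.2, add_zero]

theorem sectSupp_neg (U : X.Etale) (a : EtCoh.sect F U) :
    EtShriek.sectSupp F U (-a) = EtShriek.sectSupp F U a := by
  ext x
  simp [EtShriek.sectSupp]

/-- A section with proper support. -/
def PropSupp {V : Y.Etale} (s : EtCoh.sect F ((EtCoh.bc f).obj V)) : Prop :=
  ClSub.IsProperOver (EtShriek.prV f V) (EtShriek.sectSupp F _ s)

theorem propSupp_of_hasProperSupport {V : Y.Etale} {s : EtCoh.sect F ((EtCoh.bc f).obj V)}
    (h : EtShriek.HasProperSupport F _ s (EtShriek.prV f V)) : PropSupp f F s :=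
  IsProperOver.of_subset h.choose_spec.2 (isClosed_sectSupp F _ s) h.choose_spec.1

theorem PropSupp.map {V V' : Y.Etale} (φ : V' ⟶ V)
    {s : EtCoh.sect F ((EtCoh.bc f).obj V)} (h : PropSupp f F s) :
    PropSupp f F (F.obj.map ((EtCoh.bc f).map φ).op s) :=
  IsProperOver.of_subset (IsProperOver.preimage h (isPullback_prV f φ)) (isClosed_sectSupp F _ _)
    (sectSupp_restrict_subset F _ s)

theorem shriekPred_iff {V : Y.Etale}
    (s : EtCoh.sect F ((EtCoh.bc f).obj V)) :
    EtShriek.ShriekPred f F V s ↔ PropSupp f F s := by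
  constructor
  · intro h
    have := propSupp_of_hasProperSupport f F (h V (𝟙 V))
    have e : F.obj.map ((EtCoh.bc f).map (𝟙 V)).op s = s := by simp
    rwa [e] at this
  · exact fun h V' φ => ⟨_, subset_rfl, h.map f F φ⟩

theorem mem_shriekSubgroup_iff [LocallyOfFiniteType f] {V : Y.Etale}
    (s : EtCoh.sect F ((EtCoh.bc f).obj V)) :
    s ∈ EtShriek.shriekSubgroup f F V ↔ PropSupp f F s := by
  constructor
  · intro h
    induction h using AddSubgroup.closure_induction with
    | mem x hx => exact (shriekPred_iff f F x).mp hx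
    | zero =>
      change ClSub.IsProperOver _ _
      rw [sectSupp_zero]
      exact isProperOver_empty _
    | add x y _ _ hx hy =>
      exact IsProperOver.of_subset (IsProperOver.union hx hy) (isClosed_sectSupp F _ _) (sectSupp_add F _ x y)
    | neg x _ hx =>
      change ClSub.IsProperOver _ _
      rw [sectSupp_neg]
      exact hx
  · exact fun h => AddSubgroup.subset_closure ((shriekPred_iff f F s).mpr h)

end Groth.Agent.Et18
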