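import Groth.Agent.Et18.ShriekSheaf
import Groth.Agent.Et18.SubSheafIso
import Groth.Agent.Et18.ShriekFibre

/-!
# Sections of `f_!`
-/

universe u

open CategoryTheory CategoryTheory.Limits AlgebraicGeometry Opposite

set_option backward.isDefEq.respectTransparency.types false
set_option backward.isDefEq.respectTransparency false

namespace Groth.Agent.Et18

variable {X Y : Scheme.{u}} (f : X ⟶ Y) (F : EtCoh.Ab X)

/-- Sections with proper support map to sections of `f_!`. -/
noncomputable def toShriek (V : Y.Etale) :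
    EtShriek.shriekSubgroup f F V →+ EtCoh.sect ((EtShriek.lowerShriek f).obj F) V :=
  ((CategoryTheory.toSheafify Y.smallEtaleTopology (EtShriek.lowerShriekPre f F)).app (op V)).hom

lemma shriekToPush_toShriek (V : Y.Etale) (s : EtShriek.shriekSubgroup f F V) :
    ((shriekToPush f).app F).hom.app (op V) (toShriek f F V s) = s.1 := by
  have h := ((sheafificationAdjunction Y.smallEtaleTopology AddCommGrpCat.{u + 1}).homEquiv
    (EtShriek.lowerShriekPre f F) ((EtCoh.push f).obj F)).apply_symm_apply
      (EtShriek.lowerShriekPreι f F)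
  rw [Adjunction.homEquiv_unit] at h
  exact congrArg (fun t => t s) (congrArg (fun t => t.app (op V)) h)

lemma toShriek_map {V W : Y.Etale} (φ : W ⟶ V) (s : EtShriek.shriekSubgroup f F V) :
    ((EtShriek.lowerShriek f).obj F).obj.map φ.op (toShriek f F V s) =
      toShriek f F W ((EtShriek.lowerShriekPre f F).map φ.op s) :=
  (congrArg (fun t => t s) ((CategoryTheory.toSheafify Y.smallEtaleTopology
    (EtShriek.lowerShriekPre f F)).naturality φ.op)).symm

variable [LocallyOfFiniteType f]

lemma toShriek_bijective (V : Y.Etale) : Function.Bijective (toShriek f F V) :=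
  haveI := isIso_toSheafify_lowerShriekPre f F
  (ConcreteCategory.isIso_iff_bijective
    ((CategoryTheory.toSheafify Y.smallEtaleTopology (EtShriek.lowerShriekPre f F)).app (op V))).mp
      inferInstance

/-- The image of `f_! F` in `f_* F`. -/
theorem range_shriekToPush (V : Y.Etale) :
    Set.range (((shriekToPush f).app F).hom.app (op V)) = {s | PropSupp f F (V := V) s} := by
  ext t
  constructor
  · rintro ⟨z, rfl⟩
    obtain ⟨s, rfl⟩ := (toShriek_bijective f F V).2 z
    rw [shriekToPush_toShriek]
    exact (mem_shriekSubgroup_iff f F s.1).mp s.2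
  · intro ht
    exact ⟨toShriek f F V ⟨t, (mem_shriekSubgroup_iff f F t).mpr ht⟩, shriekToPush_toShriek f F V _⟩

/-- The support of a section of `f_!` is the image of the support. -/
theorem sectSupp_toShriek (V : Y.Etale) (s : EtShriek.shriekSubgroup f F V) :
    EtShriek.sectSupp ((EtShriek.lowerShriek f).obj F) V (toShriek f F V s) =
      EtShriek.prV f V '' EtShriek.sectSupp F _ s.1 := by
  have hs := (mem_shriekSubgroup_iff f F s.1).mp s.2
  have hzero : ∀ (W : Y.Etale) (g : W ⟶ V),
      ((EtShriek.lowerShriek f).obj F).obj.map g.op (toShriek f F V s) = 0 ↔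
        EtShriek.prV f V '' EtShriek.sectSupp F _ s.1 ∩ Set.range g.left = ∅ := by
    intro W g
    rw [toShriek_map, map_eq_zero_iff _ (toShriek_bijective f F W).1]
    constructor
    · intro h
      have h' : F.obj.map ((EtCoh.bc f).map g).op s.1 = 0 := congrArg Subtype.val h
      refine Set.eq_empty_iff_forall_notMem.mpr fun y => ?_
      rintro ⟨⟨x, hx, rfl⟩, w, hw⟩
      obtain ⟨z, hz, -⟩ := Scheme.Pullback.exists_preimage_pullback
        (f := EtShriek.prV f V) (g := g.left) x w hw.symm
      refine hx _ ((EtCoh.bc f).map g) ⟨(isPullback_prV f g).isoPullback.inv z, ?_⟩ h'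
      rw [← Scheme.Hom.comp_apply, IsPullback.isoPullback_inv_fst]
      exact hz
    · intro h
      refine Subtype.ext (eq_zero_of_sectSupp_eq_empty F _ _ ?_)
      refine Set.eq_empty_iff_forall_notMem.mpr fun x hx => ?_
      have hx' := sectSupp_restrict_subset F ((EtCoh.bc f).map g) s.1 hx
      refine Set.eq_empty_iff_forall_notMem.mp h _ ⟨⟨_, hx', rfl⟩, EtShriek.prV f W x, ?_⟩
      exact (congrArg (fun k : _ ⟶ V.left => k x) (isPullback_prV f g).w).symm
  ext y
  constructor
  · intro hy
    by_contra hyn
    let O : V.left.Opens := ⟨(EtShriek.prV f V '' EtShriek.sectSupp F _ s.1)ᶜ,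
      (IsProperOver.isClosed_image hs).isOpen_compl⟩
    refine hy (etalePiece V O) (etalePieceHom V O) ⟨⟨y, hyn⟩, rfl⟩ ((hzero _ _).mpr ?_)
    refine Set.eq_empty_iff_forall_notMem.mpr fun z => ?_
    rintro ⟨hz, w, rfl⟩
    exact (w : O.toScheme).2 hz
  · intro hy W g hw h0
    obtain ⟨w, hw⟩ := hw
    exact Set.eq_empty_iff_forall_notMem.mp ((hzero W g).mp h0) y ⟨hy, w, hw⟩

end Groth.Agent.Et18
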