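import Groth.Agent.Et18.ShriekSingle
import Groth.Agent.Et18.Stalk
import Groth.Agent.Et18.IntegralPush
import Mathlib.Algebra.Homology.ShortComplex.Ab
import Mathlib.Algebra.Homology.ShortComplex.ExactFunctor
import Mathlib.Algebra.DirectSum.Basic
import Mathlib.CategoryTheory.Sites.Point.Skyscraper

/-!
# Stalks and exactness of `f_!` for separated locally quasi-finite morphisms
-/

universe u

open CategoryTheory CategoryTheory.Limits AlgebraicGeometry Opposite DirectSum

set_option backward.isDefEq.respectTransparency.types false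
set_option backward.isDefEq.respectTransparency false
set_option maxHeartbeats 1000000

namespace Groth.Agent.Et18

/-- Exactness can be checked on a jointly surjective family of geometric points. -/
theorem exact_of_stalks_family {X : Scheme.{u}} {ι : Type (u + 1)} {K : ι → Type u} [∀ i, Field (K i)]
    [∀ i, IsSepClosed (K i)] (s : ∀ i, Spec (CommRingCat.of (K i)) ⟶ X)
    (hs : ∀ x : X, ∃ i, s i default = x) (S : ShortComplex (EtCoh.Ab X))
    (h : ∀ i, (S.map (EtCoh.stalk (s i))).Exact) : S.Exact := by
  rw [S.exact_iff_isZero_homology, IsZero.iff_id_eq_zero]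
  have : Mono (0 : S.homology ⟶ S.homology) := mono_of_stalks_family s hs _ fun i => by
    have : Subsingleton ((EtCoh.stalk (s i)).obj S.homology) :=
      AddCommGrpCat.subsingleton_of_isZero
        (IsZero.of_iso ((S.map (EtCoh.stalk (s i))).exact_iff_isZero_homology.mp (h i))
          (S.mapHomologyIso (EtCoh.stalk (s i))).symm)
    exact Function.injective_of_subsingleton _
  rw [← cancel_mono (0 : S.homology ⟶ S.homology)]
  simp

variable {X Y : Scheme.{u}} (f : X ⟶ Y) {Ω : Type u} [Field Ω] [IsAlgClosed Ω]
  (η : Spec (CommRingCat.of Ω) ⟶ Y)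

instance additive_presheafFiber :
    ((Scheme.pointSmallEtale η).presheafFiber (A := AddCommGrpCat.{u + 1})).Additive where
  map_add {P Q a b} := by
    refine AddCommGrpCat.hom_ext (AddMonoidHom.ext fun p => ?_)
    obtain ⟨V, v, s, rfl⟩ := (Scheme.pointSmallEtale η).toPresheafFiber_jointly_surjective p
    simp only [AddCommGrpCat.hom_add, AddMonoidHom.add_apply]
    simp

instance additive_lowerShriekPreFunctor : (EtShriek.lowerShriekPreFunctor f).Additive where
  map_add {F G α β} := by
    ext V ⟨s, hs⟩
    rfl

/-- The stalk of `f_!` is the fibre of the presheaf of sections with proper support. -/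
noncomputable def stalkShriekIso :
    EtShriek.lowerShriek f ⋙ EtCoh.stalk η ≅
      EtShriek.lowerShriekPreFunctor f ⋙
        (Scheme.pointSmallEtale η).presheafFiber (A := AddCommGrpCat.{u + 1}) :=
  Functor.associator _ _ _ ≪≫ Functor.isoWhiskerLeft _
    ((Scheme.pointSmallEtale η).presheafToSheafCompSheafFiberIso AddCommGrpCat.{u + 1})

variable [IsSeparated f] [LocallyOfFiniteType f] [LocallyQuasiFinite f] (F : EtCoh.Ab X)

/-- A stalk at a point of the fibre. -/
noncomputable abbrev fibreStalk (ξ : FibrePts f η) : AddCommGrpCat.{u + 1} :=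
  ((Scheme.pointSmallEtale ξ.1).sheafFiber (A := AddCommGrpCat.{u + 1})).obj F

/-- Extension of a germ by zero. -/
noncomputable def single (ξ : FibrePts f η) : fibreStalk f η F ξ →+ preFib f η F :=
  AddMonoidHom.mk' (fun a => (exists_single f η F ξ a).choose) fun a b => by
    refine shriekToFibre_injective f η F (funext fun ξ' => ?_)
    have ha := (exists_single f η F ξ a).choose_spec
    have hb := (exists_single f η F ξ b).choose_spec
    have hab := (exists_single f η F ξ (a + b)).choose_spec
    simp only [map_add]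
    rcases eq_or_ne ξ' ξ with rfl | hne
    · rw [hab.1, ha.1, hb.1]
    · rw [hab.2 _ hne, ha.2 _ hne, hb.2 _ hne, add_zero]

lemma shriekToFibre_single_self (ξ : FibrePts f η) (a : fibreStalk f η F ξ) :
    shriekToFibre f η F ξ (single f η F ξ a) = a :=
  (exists_single f η F ξ a).choose_spec.1

lemma shriekToFibre_single_ne {ξ ξ' : FibrePts f η} (h : ξ' ≠ ξ) (a : fibreStalk f η F ξ) :
    shriekToFibre f η F ξ' (single f η F ξ a) = 0 :=
  (exists_single f η F ξ a).choose_spec.2 ξ' h

open scoped Classical in
/-- The comparison with the direct sum. -/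
noncomputable def sumToPreFib : (⨁ ξ, fibreStalk f η F ξ) →+ preFib f η F :=
  DirectSum.toAddMonoid (single f η F)

open scoped Classical in
lemma shriekToFibre_sumToPreFib (x : ⨁ ξ, fibreStalk f η F ξ) (ξ : FibrePts f η) :
    shriekToFibre f η F ξ (sumToPreFib f η F x) = x ξ := by
  induction x using DirectSum.induction_on with
  | zero => simp
  | of i a =>
    simp only [sumToPreFib, DirectSum.toAddMonoid_of]
    rcases eq_or_ne ξ i with rfl | hne
    · rw [shriekToFibre_single_self, DirectSum.of_eq_same]
    · rw [shriekToFibre_single_ne f η F hne, DirectSum.of_eq_of_ne _ _ _ hne]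
  | add x y hx hy => rw [map_add, map_add, hx, hy]; rfl

open scoped Classical in
theorem sumToPreFib_bijective : Function.Bijective (sumToPreFib f η F) := by
  refine ⟨fun x y h => DFinsupp.ext fun ξ => ?_, fun p => ?_⟩
  · rw [← shriekToFibre_sumToPreFib, h, shriekToFibre_sumToPreFib]
  · refine ⟨DFinsupp.mk (finite_support_shriekToFibre f η F p).toFinset
      fun ξ => shriekToFibre f η F ξ.1 p, shriekToFibre_injective f η F (funext fun ξ => ?_)⟩
    change shriekToFibre f η F ξ (sumToPreFib f η F _) = _
    rw [shriekToFibre_sumToPreFib, DFinsupp.mk_apply]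
    split_ifs with hξ
    · rfl
    · simpa using (Eq.symm (not_not.mp (fun hn => hξ ((Set.Finite.mem_toFinset _).mpr hn))))

open scoped Classical in
/-- The cofan of a direct sum. -/
noncomputable def sumCofan {I : Type u} (M : I → AddCommGrpCat.{u + 1}) : Cofan M :=
  Cofan.mk (AddCommGrpCat.of (⨁ i, M i)) fun i =>
    AddCommGrpCat.ofHom (DirectSum.of (fun i => (M i : Type (u + 1))) i)

open scoped Classical in
lemma sumCofan_app_same {I : Type u} (M : I → AddCommGrpCat.{u + 1}) (i : I) (a : M i) :
    (show (⨁ i, (M i : Type (u + 1))) from (sumCofan M).inj i a) i = a :=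
  DirectSum.of_eq_same (β := fun i => (M i : Type (u + 1))) i a

open scoped Classical in
lemma sumCofan_app_ne {I : Type u} (M : I → AddCommGrpCat.{u + 1}) {i k : I} (h : k ≠ i) (a : M i) :
    (show (⨁ i, (M i : Type (u + 1))) from (sumCofan M).inj i a) k = 0 :=
  DirectSum.of_eq_of_ne (β := fun i => (M i : Type (u + 1))) i k a h

open scoped Classical in
/-- The direct sum is a coproduct. -/
noncomputable def sumCofanIsColimit {I : Type u} (M : I → AddCommGrpCat.{u + 1}) :
    IsColimit (sumCofan M) :=
  mkCofanColimit _ (fun s => AddCommGrpCat.ofHom (DirectSum.toAddMonoid fun i => (s.inj i).hom))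
    (fun s i => by ext a; exact DirectSum.toAddMonoid_of (β := fun i => (M i : Type (u + 1))) (fun i => (s.inj i).hom) i a)
    (fun s m h => by
      refine AddCommGrpCat.hom_ext (DirectSum.addHom_ext fun i a => ?_)
      exact (congrArg (fun t => t a) (h i)).trans
        (DirectSum.toAddMonoid_of (β := fun i => (M i : Type (u + 1))) (fun i => (s.inj i).hom) i a).symm)

open scoped Classical in
/-- The comparison, as an equivalence. -/
noncomputable def sumEquiv : (⨁ ξ, fibreStalk f η F ξ) ≃+ preFib f η F :=
  AddEquiv.ofBijective (sumToPreFib f η F) (sumToPreFib_bijective f η F)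

/-- The stalks of `f_!` are the direct sums of the stalks over the fibre. -/
noncomputable def stalkShriekSumIso :
    (EtCoh.stalk η).obj ((EtShriek.lowerShriek f).obj F) ≅
      ∐ fun ξ : FibrePts f η => fibreStalk f η F ξ :=
  (stalkShriekIso f η).app F ≪≫
    (AddEquiv.toAddCommGrpIso (sumEquiv f η F)).symm ≪≫
    (colimit.isoColimitCocone ⟨_, sumCofanIsColimit _⟩).symm

theorem shortExact_preFib (S : ShortComplex (EtCoh.Ab X)) (hS : S.ShortExact)
    :
    (S.map (EtShriek.lowerShriekPreFunctor f ⋙
      (Scheme.pointSmallEtale η).presheafFiber (A := AddCommGrpCat.{u + 1}))).ShortExact := by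
  have hst : ∀ ξ : FibrePts f η,
      (S.map ((Scheme.pointSmallEtale ξ.1).sheafFiber (A := AddCommGrpCat.{u + 1}))).ShortExact :=
    fun ξ => hS.map_of_exact _
  have hnat : ∀ {F G : EtCoh.Ab X} (α : F ⟶ G) (ξ : FibrePts f η) (p : preFib f η F),
      shriekToFibre f η G ξ ((EtShriek.lowerShriekPreFunctor f ⋙
        (Scheme.pointSmallEtale η).presheafFiber (A := AddCommGrpCat.{u + 1})).map α p) =
      (Scheme.pointSmallEtale ξ.1).sheafFiber.map α (shriekToFibre f η F ξ p) :=
    fun α ξ p => shriekToFibre_naturality f η _ α ξ p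
  refine ShortComplex.ShortExact.mk' ?_ ?_ ?_
  · rw [ShortComplex.ab_exact_iff]
    intro (p : preFib f η S.X₂) hp
    classical
    have hx : ∀ ξ, (Scheme.pointSmallEtale ξ.1).sheafFiber.map S.g (shriekToFibre f η S.X₂ ξ p) = 0 :=
      fun ξ => (hnat S.g ξ p).symm.trans ((congrArg _ hp).trans (map_zero _))
    choose b hb using fun ξ => (ShortComplex.ab_exact_iff _).mp (hst ξ).exact _ (hx ξ)
    let q := sumToPreFib f η S.X₁
      (DFinsupp.mk (finite_support_shriekToFibre f η S.X₂ p).toFinset fun ξ => b ξ.1)
    refine ⟨q, shriekToFibre_injective f η S.X₂ (funext fun ξ => (hnat S.f ξ q).trans ?_)⟩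
    rw [show shriekToFibre f η S.X₁ ξ q = _ from shriekToFibre_sumToPreFib f η S.X₁ _ ξ,
      DFinsupp.mk_apply]
    split_ifs with hξ
    · exact hb ξ
    · rw [map_zero]
      exact (not_not.mp (fun hn => hξ ((Set.Finite.mem_toFinset _).mpr hn))).symm
  · refine ConcreteCategory.mono_of_injective _ fun (p : preFib f η S.X₁) (q : preFib f η S.X₁) h => ?_
    refine shriekToFibre_injective f η S.X₁ (funext fun ξ => ?_)
    have := (hst ξ).mono_f
    refine (AddCommGrpCat.mono_iff_injective _).mp this ?_
    exact (hnat S.f ξ p).symm.trans ((congrArg _ h).trans (hnat S.f ξ q))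
  · refine ConcreteCategory.epi_of_surjective _ fun (p : preFib f η S.X₃) => ?_
    classical
    choose b hb using fun ξ : FibrePts f η => (AddCommGrpCat.epi_iff_surjective _).mp (hst ξ).epi_g
      (shriekToFibre f η S.X₃ ξ p)
    let q := sumToPreFib f η S.X₂
      (DFinsupp.mk (finite_support_shriekToFibre f η S.X₃ p).toFinset fun ξ => b ξ.1)
    refine ⟨q, shriekToFibre_injective f η S.X₃ (funext fun ξ => (hnat S.g ξ q).trans ?_)⟩
    rw [show shriekToFibre f η S.X₂ ξ q = _ from shriekToFibre_sumToPreFib f η S.X₂ _ ξ,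
      DFinsupp.mk_apply]
    split_ifs with hξ
    · exact hb ξ
    · rw [map_zero]
      exact (not_not.mp (fun hn => hξ ((Set.Finite.mem_toFinset _).mpr hn))).symm

/-- `f_!` is exact. -/
theorem lowerShriek_exact :
    PreservesFiniteLimits (EtShriek.lowerShriek f) ∧
      PreservesFiniteColimits (EtShriek.lowerShriek f) := by
  have key : ∀ (S : ShortComplex (EtCoh.Ab X)), S.ShortExact →
      (S.map (EtShriek.lowerShriek f)).ShortExact := by
    intro S hS
    let s := fun y : ULift.{u + 1} Y => algPoint Y y.down
    have hs : ∀ y : Y, ∃ i : ULift.{u + 1} Y, s i default = y := fun y =>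
      ⟨⟨y⟩, algPoint_default Y y⟩
    have hst : ∀ i, ((S.map (EtShriek.lowerShriek f)).map (EtCoh.stalk (s i))).ShortExact := by
      intro i
      exact ShortComplex.shortExact_of_iso
        (S.mapNatIso (stalkShriekIso f (s i))).symm (shortExact_preFib f (s i) S hS)
    haveI := mono_of_stalks_family _ hs (S.map (EtShriek.lowerShriek f)).f fun i =>
      (AddCommGrpCat.mono_iff_injective _).mp (hst i).mono_f
    haveI := epi_of_stalks_family _ hs (S.map (EtShriek.lowerShriek f)).g fun i =>
      (AddCommGrpCat.epi_iff_surjective _).mp (hst i).epi_g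
    refine ShortComplex.ShortExact.mk' ?_ inferInstance inferInstance
    exact exact_of_stalks_family _ hs _ fun i => (hst i).exact
  exact ((EtShriek.lowerShriek f).exact_tfae.out 0 3).mp key

end Groth.Agent.Et18
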