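import Groth.Agent.Et18.TensAb
import Groth.Agent.Et18.ShriekStalk
import Groth.Agent.Et18.ShriekSections
import Groth.Agent.Et18.ShriekCocont

/-!
# The projection formula for direct images with proper support
-/

universe u

open CategoryTheory CategoryTheory.Limits AlgebraicGeometry Opposite TensorProduct

set_option backward.isDefEq.respectTransparency.types false
set_option backward.isDefEq.respectTransparency false
set_option maxHeartbeats 1000000
set_option synthInstance.maxHeartbeats 100000

namespace Groth.Agent.Et18.ShriekProj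

variable {X Y : Scheme.{u}} (f : X ⟶ Y) (F : EtCoh.Ab X) (G : EtCoh.Ab Y)

/-- `F ⊗ f⁻¹G`. -/
noncomputable abbrev tgt : EtCoh.Ab X := (EtTens.tensorBi.obj F).obj ((EtCoh.pull f).obj G)

/-- Pure tensors of sections. -/
noncomputable abbrev tU (F' : EtCoh.Ab X) (G' : EtCoh.Ab X) :
    EtTens.tensorObj F'.obj G'.obj ⟶ ((EtTens.tensorBi.obj F').obj G').obj :=
  toSheafify X.smallEtaleTopology (EtTens.tensorObj F'.obj G'.obj)

/-- The unit on sections. -/
noncomputable abbrev unitApp (V : Y.Etale) :
    EtCoh.sect G V →+ EtCoh.sect ((EtCoh.pull f).obj G) ((EtCoh.bc f).obj V) :=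
  (((EtCoh.pullPushAdj f).unit.app G).hom.app (op V)).hom

/-- The value of the comparison on sections. -/
noncomputable def projVal (V : Y.Etale) :
    (EtShriek.shriekSubgroup f F V ⊗[ℤ] EtCoh.sect G V) →+ EtCoh.sect (tgt f F G) ((EtCoh.bc f).obj V) :=
  ((tU F ((EtCoh.pull f).obj G)).app (op ((EtCoh.bc f).obj V))).hom.comp
    (TensorProduct.map (EtShriek.shriekSubgroup f F V).subtype.toIntLinearMap
      (unitApp f G V).toIntLinearMap).toAddMonoidHom

lemma sectSupp_tensor_subset {U : X.Etale} (s : EtCoh.sect F U) (F' : EtCoh.Ab X) (t : EtCoh.sect F' U) :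
    EtShriek.sectSupp ((EtTens.tensorBi.obj F).obj F') U
      ((tU F F').app (op U) (show (EtTens.tensorObj F.obj F'.obj).obj (op U) from s ⊗ₜ[ℤ] t)) ⊆
        EtShriek.sectSupp F U s := by
  intro x hx W g hw h0
  refine hx W g hw ?_
  refine (NatTrans.naturality_apply (tU F F') g.op _).symm.trans ?_
  show (tU F F').app (op W) ((F.obj.map g.op s) ⊗ₜ[ℤ] (F'.obj.map g.op t)) = 0
  rw [h0]
  exact (congrArg ((tU F F').app (op W)).hom (TensorProduct.zero_tmul _ _)).trans (map_zero _)

variable [LocallyOfFiniteType f]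

lemma projVal_mem (V : Y.Etale) (z : EtShriek.shriekSubgroup f F V ⊗[ℤ] EtCoh.sect G V) :
    projVal f F G V z ∈ EtShriek.shriekSubgroup f (tgt f F G) V := by
  induction z using TensorProduct.induction_on with
  | zero => rw [map_zero]; exact zero_mem _
  | tmul s g =>
    refine (mem_shriekSubgroup_iff f _ _).mpr ?_
    exact IsProperOver.of_subset ((mem_shriekSubgroup_iff f F s.1).mp s.2) (isClosed_sectSupp _ _ _)
      (sectSupp_tensor_subset F s.1 _ _)
  | add a b ha hb => rw [map_add]; exact add_mem ha hb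

/-- The comparison on presheaves. -/
noncomputable def projPre :
    EtTens.tensorObj (EtShriek.lowerShriekPre f F) G.obj ⟶ EtShriek.lowerShriekPre f (tgt f F G) where
  app V := AddCommGrpCat.ofHom ((projVal f F G V.unop).codRestrict _ (projVal_mem f F G V.unop))
  naturality V W a := EtTens.hom_ext_tmul fun s g => Subtype.ext (by
    let a' := ((EtCoh.bc f).map a.unop).op
    refine Eq.trans ?_ (NatTrans.naturality_apply (tU F ((EtCoh.pull f).obj G)) a' _)
    refine congrArg ((tU F ((EtCoh.pull f).obj G)).app (op ((EtCoh.bc f).obj W.unop))) ?_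
    exact congrArg (fun t => (F.obj.map a' s.1) ⊗ₜ[ℤ] t)
      (NatTrans.naturality_apply ((EtCoh.pullPushAdj f).unit.app G).hom a g))

variable [IsSeparated f] [LocallyQuasiFinite f] {Ω : Type u} [Field Ω] [IsAlgClosed Ω]
  (η : Spec (CommRingCat.of Ω) ⟶ Y)

/-- The fibre of `G`. -/
noncomputable abbrev fibG : AddCommGrpCat.{u + 1} := TensAb.Fib (Scheme.pointSmallEtale η) G.obj

omit [LocallyOfFiniteType f] [IsSeparated f] [LocallyQuasiFinite f] in
instance isIso_fibrePointHom (ξ : FibrePts f η) : IsIso (fibrePointHom f η ξ) := by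
  haveI : IsIso (fibreFiberHom f η ξ) := by
    haveI : ∀ V, IsIso ((fibreFiberHom f η ξ).app V) := fun V =>
      (isIso_iff_bijective _).mpr (bcLiftEquiv f η ξ V).bijective
    exact NatIso.isIso_of_isIso_app _
  refine ⟨⟨inv (fibreFiberHom f η ξ)⟩, GrothendieckTopology.Point.hom_ext ?_,
    GrothendieckTopology.Point.hom_ext ?_⟩
  · exact IsIso.inv_hom_id (fibreFiberHom f η ξ)
  · exact IsIso.hom_inv_id (fibreFiberHom f η ξ)

/-- The stalk of the inverse image at a point of the fibre. -/
noncomputable def pullGerm (ξ : FibrePts f η) :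
    fibG G η ⟶ TensAb.Fib (Scheme.pointSmallEtale ξ.1) ((EtCoh.pull f).obj G).obj :=
  (Scheme.pointSmallEtale η).presheafFiber.map ((EtCoh.pullPushAdj f).unit.app G).hom ≫
    (fibreNat f η AddCommGrpCat.{u + 1} ξ).app ((EtCoh.pull f).obj G)

omit [LocallyOfFiniteType f] [IsSeparated f] [LocallyQuasiFinite f] in
lemma pullGerm_germ (ξ : FibrePts f η) (V : Y.Etale) (v : (Scheme.pointSmallEtale η).fiber.obj V)
    (g : EtCoh.sect G V) :
    pullGerm f G η ξ ((Scheme.pointSmallEtale η).toPresheafFiber V v G.obj g) =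
      (Scheme.pointSmallEtale ξ.1).toPresheafFiber ((EtCoh.bc f).obj V) (bcLift f η ξ V v)
        ((EtCoh.pull f).obj G).obj (unitApp f G V g) := by
  have h := congrArg (fun t => t g) ((Scheme.pointSmallEtale η).toPresheafFiber_naturality
    ((EtCoh.pullPushAdj f).unit.app G).hom V v)
  refine (congrArg (fun p => (fibreNat f η AddCommGrpCat.{u + 1} ξ).app ((EtCoh.pull f).obj G) p) h).trans ?_
  exact congrArg (fun t => t (unitApp f G V g))
    (toPresheafFiber_fibreNat f η AddCommGrpCat.{u + 1} ξ ((EtCoh.pull f).obj G) V v)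

omit [LocallyOfFiniteType f] [IsSeparated f] [LocallyQuasiFinite f] in
theorem pullGerm_bijective (ξ : FibrePts f η) : Function.Bijective (pullGerm f G η ξ) := by
  let Φ := Scheme.pointSmallEtale ξ.1
  let Φc := Φ.comap (EtCoh.bc f) (EtCoh.coverPreserving_bc f)
  let c := Φ.sheafFiberComapIso (EtCoh.bc f) (EtCoh.coverPreserving_bc f) AddCommGrpCat.{u + 1}
  let η₀ := (EtCoh.pullPushAdj f).unit.app G
  have h1 : Φc.sheafFiber.map η₀ ≫
      pushFiberMap Φ (EtCoh.bc f) (EtCoh.coverPreserving_bc f) AddCommGrpCat.{u + 1} ((EtCoh.pull f).obj G) =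
        c.hom.app G := by
    rw [pushFiberMap]
    refine (Category.assoc _ _ _).symm.trans ?_
    refine (congrArg (· ≫ _) (c.hom.naturality η₀)).trans ?_
    refine (Category.assoc _ _ _).trans ?_
    refine (congrArg (c.hom.app G ≫ ·) ((Functor.map_comp Φ.sheafFiber _ _).symm.trans
      (congrArg Φ.sheafFiber.map ((EtCoh.pullPushAdj f).left_triangle_components G)))).trans ?_
    rw [CategoryTheory.Functor.map_id]
    exact Category.comp_id _
  haveI : IsIso ((fibrePointHom f η ξ).sheafFiber (A := AddCommGrpCat.{u + 1})) :=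
    inferInstanceAs (IsIso (sheafFiberIsoOfIso (A := AddCommGrpCat.{u + 1}) (asIso (fibrePointHom f η ξ))).inv)
  have h2 : pullGerm f G η ξ =
      ((fibrePointHom f η ξ).sheafFiber (A := AddCommGrpCat.{u + 1})).app G ≫ c.hom.app G := by
    rw [← h1]
    refine Eq.trans ?_ (Category.assoc _ _ _)
    refine ((Category.assoc _ _ _).symm.trans ?_)
    exact congrArg (fun t => t ≫ _)
      (((fibrePointHom f η ξ).sheafFiber (A := AddCommGrpCat.{u + 1})).naturality η₀)
  rw [h2]
  exact (ConcreteCategory.isIso_iff_bijective _).mp inferInstance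

omit [LocallyOfFiniteType f] [IsSeparated f] [LocallyQuasiFinite f] in
/-- The stalk of a tensor product of sheaves. -/
theorem tensStalk_bijective (ξ : FibrePts f η) :
    Function.Bijective (((Scheme.pointSmallEtale ξ.1).presheafFiber.map (tU F ((EtCoh.pull f).obj G))).hom.comp
      (TensAb.fromTens (Scheme.pointSmallEtale ξ.1) F.obj ((EtCoh.pull f).obj G).obj)) :=
  ((Scheme.pointSmallEtale ξ.1).toPresheafFiber_map_bijective _).comp (TensAb.fromTens_bijective _ _ _)

/-- The stalk of `F ⊗ f⁻¹G` at a point of the fibre. -/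
noncomputable def compEquiv (ξ : FibrePts f η) :
    (fibreStalk f η F ξ ⊗[ℤ] fibG G η) ≃+ fibreStalk f η (tgt f F G) ξ :=
  (TensorProduct.congr (LinearEquiv.refl ℤ (fibreStalk f η F ξ))
    (AddEquiv.ofBijective (pullGerm f G η ξ).hom (pullGerm_bijective f G η ξ)).toIntLinearEquiv).toAddEquiv.trans
      (AddEquiv.ofBijective _ (tensStalk_bijective f F G η ξ))

/-- The comparison on fibres. -/
noncomputable def fibProj : (preFib f η F ⊗[ℤ] fibG G η) →+ preFib f η (tgt f F G) :=
  ((Scheme.pointSmallEtale η).presheafFiber.map (projPre f F G)).hom.comp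
    (TensAb.fromTens (Scheme.pointSmallEtale η) (EtShriek.lowerShriekPre f F) G.obj)

lemma shriekToFibre_fibProj (ξ : FibrePts f η) (p : preFib f η F) (q : fibG G η) :
    shriekToFibre f η (tgt f F G) ξ (fibProj f F G η (p ⊗ₜ q)) =
      ((Scheme.pointSmallEtale ξ.1).presheafFiber.map (tU F ((EtCoh.pull f).obj G))).hom
        (TensAb.fromTens (Scheme.pointSmallEtale ξ.1) F.obj ((EtCoh.pull f).obj G).obj
          (shriekToFibre f η F ξ p ⊗ₜ pullGerm f G η ξ q)) := by
  obtain ⟨V, v, s, g, rfl, rfl⟩ := TensAb.exists_common (Scheme.pointSmallEtale η) p q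
  rw [shriekToFibre_germ, pullGerm_germ]
  refine (congrArg (fun z => shriekToFibre f η (tgt f F G) ξ
    ((Scheme.pointSmallEtale η).presheafFiber.map (projPre f F G) z))
      (TensAb.fromTens_tmul _ _ _ V v s g)).trans ?_
  refine Eq.trans ?_ (congrArg
    (fun z => (Scheme.pointSmallEtale ξ.1).presheafFiber.map (tU F ((EtCoh.pull f).obj G)) z)
    (TensAb.fromTens_tmul _ _ _ _ (bcLift f η ξ V v) _ _).symm)
  refine (congrArg (fun z => shriekToFibre f η (tgt f F G) ξ z)
    ((Scheme.pointSmallEtale η).toPresheafFiber_naturality_apply (projPre f F G) V v _)).trans ?_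
  refine (shriekToFibre_germ f η (tgt f F G) ξ V v _).trans ?_
  exact ((Scheme.pointSmallEtale ξ.1).toPresheafFiber_naturality_apply (tU F ((EtCoh.pull f).obj G)) _
    (bcLift f η ξ V v) _).symm

lemma fibProj_single (ξ : FibrePts f η) (a : fibreStalk f η F ξ) (q : fibG G η) :
    fibProj f F G η (single f η F ξ a ⊗ₜ q) = single f η (tgt f F G) ξ (compEquiv f F G η ξ (a ⊗ₜ q)) := by
  refine shriekToFibre_injective f η (tgt f F G) (funext fun ξ' => ?_)
  refine (shriekToFibre_fibProj f F G η ξ' _ q).trans ?_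
  rcases eq_or_ne ξ' ξ with rfl | hne
  · rw [shriekToFibre_single_self]
    exact (shriekToFibre_single_self f η (tgt f F G) ξ' _).symm
  · rw [shriekToFibre_single_ne f η F hne, TensorProduct.zero_tmul, map_zero, map_zero]
    exact (shriekToFibre_single_ne f η (tgt f F G) hne _).symm

open scoped Classical in
theorem fibProj_bijective : Function.Bijective (fibProj f F G η) := by
  let R : preFib f η (tgt f F G) →+ (preFib f η F ⊗[ℤ] fibG G η) :=
    (DirectSum.toAddMonoid fun ξ => ((TensorProduct.map (single f η F ξ).toIntLinearMap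
      LinearMap.id).toAddMonoidHom.comp (compEquiv f F G η ξ).symm.toAddMonoidHom)).comp
        (sumEquiv f η (tgt f F G)).symm.toAddMonoidHom
  have hsingle : ∀ ξ c, R (single f η (tgt f F G) ξ c) =
      TensorProduct.map (single f η F ξ).toIntLinearMap LinearMap.id ((compEquiv f F G η ξ).symm c) :=
    fun ξ c => by
      have e : (sumEquiv f η (tgt f F G)).symm (single f η (tgt f F G) ξ c) = DirectSum.of _ ξ c :=
        (AddEquiv.symm_apply_eq _).mpr (DirectSum.toAddMonoid_of (single f η (tgt f F G)) ξ c).symm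
      simp only [R, AddMonoidHom.comp_apply, AddEquiv.coe_toAddMonoidHom, e, DirectSum.toAddMonoid_of]
      rfl
  refine Function.bijective_iff_has_inverse.mpr ⟨R, fun z => ?_, fun z => ?_⟩
  · induction z using TensorProduct.induction_on with
    | zero => rw [map_zero, map_zero]
    | tmul p q =>
      obtain ⟨x, rfl⟩ := (sumToPreFib_bijective f η F).2 p
      induction x using DirectSum.induction_on with
      | zero => simp
      | of ξ a =>
        simp only [sumToPreFib, DirectSum.toAddMonoid_of]
        rw [fibProj_single, hsingle, AddEquiv.symm_apply_apply]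
        rfl
      | add x y hx hy => simp only [map_add, TensorProduct.add_tmul, hx, hy]
    | add a b ha hb => rw [map_add, map_add, ha, hb]
  · obtain ⟨x, rfl⟩ := (sumToPreFib_bijective f η (tgt f F G)).2 z
    induction x using DirectSum.induction_on with
    | zero => simp
    | of ξ c =>
      simp only [sumToPreFib, DirectSum.toAddMonoid_of]
      rw [hsingle]
      obtain ⟨w, rfl⟩ := (compEquiv f F G η ξ).surjective c
      rw [AddEquiv.symm_apply_apply]
      induction w using TensorProduct.induction_on with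
      | zero => simp
      | tmul a q => exact fibProj_single f F G η ξ a q
      | add a b ha hb => simp only [map_add, ha, hb]
    | add x y hx hy => simp only [map_add, hx, hy]

omit [IsSeparated f] [LocallyQuasiFinite f] in
/-- The comparison as a morphism of sheaves. -/
noncomputable def projHom :
    (EtTens.tensorBi.obj ((EtShriek.lowerShriek f).obj F)).obj G ⟶
      (EtShriek.lowerShriek f).obj (tgt f F G) :=
  haveI := isIso_toSheafify_lowerShriekPre f F
  ⟨sheafifyLift Y.smallEtaleTopology
    (EtTens.tensorHom (inv (toSheafify Y.smallEtaleTopology (EtShriek.lowerShriekPre f F))) (𝟙 G.obj) ≫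
      projPre f F G ≫ toSheafify Y.smallEtaleTopology (EtShriek.lowerShriekPre f (tgt f F G)))
    ((EtShriek.lowerShriek f).obj (tgt f F G)).2⟩

theorem isIso_projHom : IsIso (projHom f F G) := by
  refine isIso_of_stalks_family (ι := ULift.{u + 1} Y) (fun y => algPoint Y y.down)
    (fun y => ⟨⟨y⟩, algPoint_default Y y⟩) _ fun y => ?_
  let η := algPoint Y y.down
  let Φ := Scheme.pointSmallEtale η
  haveI := isIso_toSheafify_lowerShriekPre f F
  haveI := isIso_toSheafify_lowerShriekPre f (tgt f F G)
  let a := toSheafify Y.smallEtaleTopology (EtShriek.lowerShriekPre f F)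
  let ψ := EtTens.tensorHom (inv a) (𝟙 G.obj) ≫ projPre f F G ≫
    toSheafify Y.smallEtaleTopology (EtShriek.lowerShriekPre f (tgt f F G))
  haveI : IsIso (EtTens.tensorHom (inv a) (𝟙 G.obj)) :=
    ⟨EtTens.tensorHom a (𝟙 G.obj), by
      rw [← EtTens.tensorHom_comp, IsIso.inv_hom_id, Category.comp_id, EtTens.tensorHom_id],
      by rw [← EtTens.tensorHom_comp, IsIso.hom_inv_id, Category.comp_id, EtTens.tensorHom_id]⟩
  haveI : IsIso (Φ.presheafFiber.map (projPre f F G)) := by
    refine (ConcreteCategory.isIso_iff_bijective _).mpr ?_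
    exact (Function.Bijective.of_comp_iff _ (TensAb.fromTens_bijective Φ (EtShriek.lowerShriekPre f F) G.obj)).mp
      (fibProj_bijective f F G η)
  haveI : IsIso (Φ.presheafFiber.map ψ) := by
    simp only [ψ, Functor.map_comp]
    infer_instance
  let t := toSheafify Y.smallEtaleTopology
    (EtTens.tensorObj ((EtShriek.lowerShriek f).obj F).obj G.obj)
  haveI : IsIso (Φ.presheafFiber.map t) :=
    (ConcreteCategory.isIso_iff_bijective _).mpr (Φ.toPresheafFiber_map_bijective t)
  haveI : IsIso (Φ.presheafFiber.map t ≫ Φ.presheafFiber.map (projHom f F G).hom) := by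
    rw [← Functor.map_comp]
    have e : t ≫ (projHom f F G).hom = ψ := toSheafify_sheafifyLift _ _ _
    rw [e]
    infer_instance
  exact IsIso.of_isIso_comp_left (Φ.presheafFiber.map t) (Φ.presheafFiber.map (projHom f F G).hom)

omit Ω η in
/-- **Projection formula for `f_!`.** -/
theorem projection_formula :
    Nonempty ((EtTens.tensorBi.obj ((EtShriek.lowerShriek f).obj F)).obj G ≅
      (EtShriek.lowerShriek f).obj ((EtTens.tensorBi.obj F).obj ((EtCoh.pull f).obj G))) :=
  haveI := isIso_projHom f F G
  ⟨asIso (projHom f F G)⟩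

end Groth.Agent.Et18.ShriekProj
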