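import Groth.Prelude.Def_EtShriek2
import Mathlib.CategoryTheory.Sites.LeftExact
import Mathlib.Algebra.Category.Grp.FilteredColimits
import Mathlib.Algebra.Category.Grp.Limits
import Mathlib.Algebra.Category.Grp.Colimits

/-!
# `f_! ⟶ f_*` is injective and natural
-/

universe u

open CategoryTheory CategoryTheory.Limits AlgebraicGeometry Opposite

set_option backward.isDefEq.respectTransparency.types false
set_option backward.isDefEq.respectTransparency false

namespace Groth.Agent.Et18

variable {X Y : Scheme.{u}} (f : X ⟶ Y)

lemma lowerShriekPreι_naturality {F G : EtCoh.Ab X} (a : F ⟶ G) :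
    (EtShriek.lowerShriekPreFunctor f).map a ≫ EtShriek.lowerShriekPreι f G =
      EtShriek.lowerShriekPreι f F ≫ ((EtCoh.push f).map a).hom := by
  ext V ⟨s, hs⟩
  rfl

/-- The natural transformation `f_! ⟶ f_*`. -/
noncomputable def shriekToPush : EtShriek.lowerShriek f ⟶ EtCoh.push f where
  app F := EtShriek.lowerShriekToPush f F
  naturality F G a := by
    change (presheafToSheaf _ _).map _ ≫
      ((sheafificationAdjunction Y.smallEtaleTopology AddCommGrpCat.{u + 1}).homEquiv _ _).symm _ =
      ((sheafificationAdjunction Y.smallEtaleTopology AddCommGrpCat.{u + 1}).homEquiv _ _).symm _ ≫ _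
    rw [← Adjunction.homEquiv_naturality_left_symm, ← Adjunction.homEquiv_naturality_right_symm]
    exact congrArg _ (lowerShriekPreι_naturality f a)

instance mono_lowerShriekPreι (F : EtCoh.Ab X) : Mono (EtShriek.lowerShriekPreι f F) := by
  haveI : ∀ V, Mono ((EtShriek.lowerShriekPreι f F).app V) := fun V =>
    ConcreteCategory.mono_of_injective _ fun a b h => Subtype.ext h
  exact NatTrans.mono_of_mono_app _

/-- `f_! F ⟶ f_* F` is a monomorphism. -/
theorem mono_shriekToPush (F : EtCoh.Ab X) : Mono ((shriekToPush f).app F) := by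
  change Mono (((sheafificationAdjunction Y.smallEtaleTopology AddCommGrpCat.{u + 1}).homEquiv
    _ _).symm _)
  rw [Adjunction.homEquiv_counit]
  haveI : Mono ((presheafToSheaf Y.smallEtaleTopology AddCommGrpCat.{u + 1}).map
      (EtShriek.lowerShriekPreι f F)) := inferInstance
  haveI : IsIso ((sheafificationAdjunction Y.smallEtaleTopology AddCommGrpCat.{u + 1}).counit.app
      ((EtCoh.push f).obj F)) := inferInstance
  exact mono_comp _ _

end Groth.Agent.Et18
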