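import Groth.Agent.Et18.ShriekPre
import Groth.Agent.Et18.ShriekToPush
import Groth.Agent.Et18.Subterminal

/-!
# Sections with proper support form a sheaf
-/

universe u

open CategoryTheory CategoryTheory.Limits AlgebraicGeometry Opposite

set_option backward.isDefEq.respectTransparency.types false
set_option backward.isDefEq.respectTransparency false

namespace Groth.Agent.Et18

/-- Being universally closed is étale local on the base. -/
theorem universallyClosed_of_etale_cover {Z V : Scheme.{u}} (g : Z ⟶ V) {ι : Type*}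
    (T : ι → Scheme.{u}) (q : ∀ i, T i ⟶ V) [∀ i, Etale (q i)]
    (hs : ∀ v : V, ∃ i, v ∈ Set.range (q i)) (h : ∀ i, UniversallyClosed (pullback.snd g (q i))) :
    UniversallyClosed g := by
  constructor
  intro X' Y' i₁ i₂ f' H C hC
  rw [← isOpen_compl_iff, isOpen_iff_forall_mem_open]
  intro y hy
  obtain ⟨i, t, ht⟩ := hs (i₂ y)
  let r := pullback.fst i₂ (q i)
  haveI : Etale r := MorphismProperty.pullback_fst _ _ inferInstance
  haveI : UniversallyClosed (pullback.snd g (q i)) := h i
  -- the base change of `f'` along `r`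
  let p := pullback.fst f' r
  let f'' := pullback.snd f' r
  have hsq : IsPullback (p ≫ i₁) f'' g (r ≫ i₂) :=
    (IsPullback.of_hasPullback f' r).paste_horiz H.flip
  have hr : r ≫ i₂ = pullback.snd i₂ (q i) ≫ q i := pullback.condition
  rw [hr] at hsq
  have hcl : UniversallyClosed f'' := by
    let e : pullback f' r ⟶ pullback g (q i) :=
      pullback.lift (p ≫ i₁) (f'' ≫ pullback.snd i₂ (q i)) (by rw [hsq.w, Category.assoc])
    have : IsPullback e f'' (pullback.snd g (q i)) (pullback.snd i₂ (q i)) :=
      IsPullback.of_right (by simpa [e] using hsq) (by simp [e]) (IsPullback.of_hasPullback g (q i))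
    exact MorphismProperty.of_isPullback this ‹_›
  obtain ⟨z, hz, -⟩ := Scheme.Pullback.exists_preimage_pullback (f := i₂) (g := q i) y t ht.symm
  refine ⟨r '' (f'' '' (p ⁻¹' C))ᶜ, ?_, r.isOpenMap _
    (f''.isClosedMap _ (hC.preimage p.continuous)).isOpen_compl, ⟨z, ?_, hz⟩⟩
  · rintro _ ⟨a, ha, rfl⟩ ⟨c, hc, hca⟩
    obtain ⟨b, hb₁, hb₂⟩ := Scheme.Pullback.exists_preimage_pullback (f := f') (g := r) c a hca
    exact ha ⟨b, by simp only [Set.mem_preimage, p, hb₁, hc], hb₂⟩
  · rintro ⟨b, hb, hbz⟩
    refine hy ⟨p b, hb, ?_⟩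
    rw [← hz, ← hbz]
    exact congrArg (fun k : pullback f' r ⟶ Y' => k b) pullback.condition

/-- Being separated is étale local on the base. -/
theorem isSeparated_of_etale_cover {Z V : Scheme.{u}} (g : Z ⟶ V) {ι : Type*}
    (T : ι → Scheme.{u}) (q : ∀ i, T i ⟶ V) [∀ i, Etale (q i)]
    (hs : ∀ v : V, ∃ i, v ∈ Set.range (q i)) (h : ∀ i, IsSeparated (pullback.snd g (q i))) :
    IsSeparated g := by
  suffices hr : IsClosed (Set.range (pullback.diagonal g)) from
    ⟨IsClosedImmersion.of_isPreimmersion _ hr⟩
  rw [← isOpen_compl_iff, isOpen_iff_forall_mem_open]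
  intro z hz
  let s := pullback.fst g g ≫ g
  obtain ⟨i, t, ht⟩ := hs (s z)
  haveI := h i
  let r := pullback.fst s (q i)
  haveI : Etale r := MorphismProperty.pullback_fst _ _ inferInstance
  let P := pullback g (q i)
  let δ : P ⟶ pullback s (q i) :=
    pullback.lift (pullback.fst g (q i) ≫ pullback.diagonal g) (pullback.snd g (q i))
      (by simp [s, pullback.condition])
  let e : pullback s (q i) ⟶ pullback (pullback.snd g (q i)) (pullback.snd g (q i)) :=
    pullback.lift
      (pullback.lift (r ≫ pullback.fst g g) (pullback.snd s (q i))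
        (by rw [Category.assoc]; exact pullback.condition))
      (pullback.lift (r ≫ pullback.snd g g) (pullback.snd s (q i))
        (by rw [Category.assoc, ← pullback.condition]; exact pullback.condition))
      (by simp)
  let e' : pullback (pullback.snd g (q i)) (pullback.snd g (q i)) ⟶ pullback s (q i) :=
    pullback.lift
      (pullback.lift (pullback.fst _ _ ≫ pullback.fst g (q i))
        (pullback.snd _ _ ≫ pullback.fst g (q i))
        (by simp only [Category.assoc, pullback.condition]; rw [pullback.condition_assoc]))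
      (pullback.fst _ _ ≫ pullback.snd g (q i))
      (by simp [s, pullback.condition])
  have hee : e ≫ e' = 𝟙 _ := by
    apply pullback.hom_ext
    · apply pullback.hom_ext <;> simp [e, e', r]
    · simp [e, e']
  have hδ : δ ≫ e = pullback.diagonal (pullback.snd g (q i)) := by
    apply pullback.hom_ext <;> apply pullback.hom_ext <;> simp [δ, e, r]
  have hdc : IsClosed (Set.range δ) := by
    have : Set.range δ = e ⁻¹' Set.range (δ ≫ e) := by
      refine subset_antisymm (fun x ⟨p, hp⟩ => ⟨p, by rw [Scheme.Hom.comp_apply, hp]⟩) fun x ⟨p, hp⟩ => ⟨p, ?_⟩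
      have := congrArg e' hp
      rw [← Scheme.Hom.comp_apply, ← Scheme.Hom.comp_apply, Category.assoc,
        hee, Category.comp_id] at this
      exact this.trans rfl
    rw [this, hδ]
    exact (pullback.diagonal (pullback.snd g (q i))).isClosedEmbedding.isClosed_range.preimage
      e.continuous
  obtain ⟨w, hw, -⟩ := Scheme.Pullback.exists_preimage_pullback (f := s) (g := q i) z t ht.symm
  refine ⟨r '' (Set.range δ)ᶜ, ?_, r.isOpenMap _ hdc.isOpen_compl, ⟨w, ?_, hw⟩⟩
  · rintro _ ⟨x, hx, rfl⟩ ⟨c, hc⟩
    obtain ⟨b, hb₁, hb₂⟩ :=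
      Scheme.Pullback.exists_preimage_pullback (f := pullback.diagonal g) (g := r) c x hc
    refine hx ⟨pullback.lift (pullback.fst (pullback.diagonal g) r)
      (pullback.snd (pullback.diagonal g) r ≫ pullback.snd s (q i)) (by
        rw [Category.assoc, ← pullback.condition (f := s), ← pullback.condition_assoc]
        simp [s]) b, ?_⟩
    rw [← Scheme.Hom.comp_apply, ← hb₂]
    exact congrArg (fun k : _ ⟶ pullback s (q i) => k b)
      (by apply pullback.hom_ext <;> simp [δ, r, pullback.condition])
  · rintro ⟨p, hp⟩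
    refine hz ⟨pullback.fst g (q i) p, ?_⟩
    rw [← hw, ← hp, ← Scheme.Hom.comp_apply, ← Scheme.Hom.comp_apply]
    simp [δ]
    rfl

variable {X Y : Scheme.{u}} (f : X ⟶ Y) [LocallyOfFiniteType f] (F : EtCoh.Ab X)

omit [LocallyOfFiniteType f] in
theorem sectSupp_restrict_eq {U W : X.Etale} (m : W ⟶ U) (s : EtCoh.sect F U) :
    EtShriek.sectSupp F W (F.obj.map m.op s) = m.left ⁻¹' EtShriek.sectSupp F U s := by
  refine subset_antisymm (sectSupp_restrict_subset F m s) fun x hx => ?_
  obtain ⟨v, hv⟩ := exists_fiber_point (sepPoint X (W.hom x)) W x (sepPoint_default X _).symm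
  by_contra hn
  have h0 := germ_eq_zero_of_not_mem_sectSupp F _ W _ v (hv.symm ▸ hn)
  rw [GrothendieckTopology.Point.toPresheafFiber_w_apply] at h0
  have := not_mem_sectSupp_of_germ_eq_zero F _ U s _ h0
  rw [← fiberPt_map m v, hv] at this
  exact this hx

/-- Proper support is local on the base. -/
theorem propSupp_of_local {V : Y.Etale} (s : EtCoh.sect F ((EtCoh.bc f).obj V))
    (h : ∀ v : V.left, ∃ (V' : Y.Etale) (φ : V' ⟶ V), v ∈ Set.range φ.left ∧
      PropSupp f F (F.obj.map ((EtCoh.bc f).map φ).op s)) :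
    PropSupp f F s := by
  choose V' φ hv hp using h
  let hZ := isClosed_sectSupp F _ s
  let ι := (redSub _ hZ).subschemeι
  haveI : ∀ v, Etale (φ v).left := fun v => etale_map_left (φ v)
  suffices hpv : ∀ v, IsProper (pullback.snd (ι ≫ EtShriek.prV f V) (φ v).left) by
    haveI : UniversallyClosed (ι ≫ EtShriek.prV f V) := universallyClosed_of_etale_cover _
      (fun v => (V' v).left) (fun v => (φ v).left) (fun v => ⟨v, hv v⟩)
      fun v => (hpv v).toUniversallyClosed
    haveI : IsSeparated (ι ≫ EtShriek.prV f V) := isSeparated_of_etale_cover _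
      (fun v => (V' v).left) (fun v => (φ v).left) (fun v => ⟨v, hv v⟩)
      fun v => (hpv v).toIsSeparated
    exact ⟨hZ, { }⟩
  intro v
  have hsq := isPullback_prV f (φ v)
  let m := ((EtCoh.bc f).map (φ v)).left
  have H : IsPullback (pullback.fst ι m) (pullback.snd ι m ≫ EtShriek.prV f (V' v))
      (ι ≫ EtShriek.prV f V) (φ v).left :=
    (IsPullback.of_hasPullback ι m).paste_vert hsq
  suffices IsProper (pullback.snd ι m ≫ EtShriek.prV f (V' v)) by
    rw [← H.isoPullback_inv_snd]
    infer_instance
  -- compare with the reduced structure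
  let k := pullback.snd ι m
  obtain ⟨hZ', hpr⟩ := hp v
  have hle : k.ker ≤ redSub _ hZ' := by
    refine Scheme.IdealSheafData.le_support_iff_le_vanishingIdeal.mp fun x hx => k.range_subset_ker_support ?_
    rw [Scheme.Pullback.range_snd, range_redSub]
    exact sectSupp_restrict_subset F _ s hx
  haveI : IsIso k.toImage := inferInstance
  let a := Scheme.IdealSheafData.inclusion hle ≫ inv k.toImage
  have ha : a ≫ k = (redSub _ hZ').subschemeι := by
    have : inv k.toImage ≫ k = k.imageι := (IsIso.inv_comp_eq _).mpr k.toImage_imageι.symm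
    rw [Category.assoc, this]
    exact Scheme.IdealSheafData.inclusion_subschemeι hle
  haveI : Surjective a := by
    refine ⟨fun x => ?_⟩
    have hx : k x ∈ EtShriek.sectSupp F _ (F.obj.map ((EtCoh.bc f).map (φ v)).op s) := by
      rw [sectSupp_restrict_eq]
      have hxr : k x ∈ Set.range k := Set.mem_range_self x
      rw [Scheme.Pullback.range_snd, range_redSub] at hxr
      exact hxr
    obtain ⟨z, hz⟩ := (range_redSub _ hZ').symm ▸ hx
    exact ⟨z, k.isClosedEmbedding.injective ((Scheme.Hom.comp_apply a k z).symm.trans (ha ▸ hz))⟩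
  haveI : IsProper (a ≫ k ≫ EtShriek.prV f (V' v)) := by rw [reassoc_of% ha]; exact hpr
  haveI : UniversallyClosed (k ≫ EtShriek.prV f (V' v)) :=
    UniversallyClosed.of_comp_surjective a _
  haveI : IsSeparated (k ≫ EtShriek.prV f (V' v)) := by
    haveI : IsClosedImmersion (a ≫ k) := by rw [ha]; infer_instance
    haveI : IsClosedImmersion a := IsClosedImmersion.of_comp a k
    exact isSeparated_of_covers a a _ (by rw [Set.union_self]; exact a.surjective.range_eq)
  exact { }

theorem isSheaf_lowerShriekPre :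
    Presheaf.IsSheaf Y.smallEtaleTopology (EtShriek.lowerShriekPre f F) := by
  rw [Presheaf.isSheaf_iff_isSheaf_forget (s := forget AddCommGrpCat.{u + 1}),
    isSheaf_iff_isSheaf_of_type]
  have hG : Presieve.IsSheaf Y.smallEtaleTopology
      (((EtCoh.push f).obj F).obj ⋙ forget AddCommGrpCat.{u + 1}) :=
    (isSheaf_iff_isSheaf_of_type _ _).mp
      ((sheafCompose Y.smallEtaleTopology (forget AddCommGrpCat.{u + 1})).obj
        ((EtCoh.push f).obj F)).property
  intro V S hS x hx
  let G := ((EtCoh.push f).obj F).obj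
  let x' : Presieve.FamilyOfElements (G ⋙ forget AddCommGrpCat.{u + 1}) S.arrows :=
    fun W g hg => (x g hg : EtShriek.shriekSubgroup f F W).1
  have hx' : x'.Compatible := fun W₁ W₂ T g₁ g₂ a₁ a₂ h₁ h₂ e =>
    congrArg Subtype.val (hx g₁ g₂ h₁ h₂ e)
  obtain ⟨t, ht, htu⟩ := hG S hS x' hx'
  have hmem : (t : EtCoh.sect F ((EtCoh.bc f).obj V)) ∈ EtShriek.shriekSubgroup f F V := by
    refine (mem_shriekSubgroup_iff f F _).mpr (propSupp_of_local f F _ fun v => ?_)
    obtain ⟨W, g, hg, hv⟩ := exists_mem_of_covering hS v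
    refine ⟨W, g, hv, ?_⟩
    have := (mem_shriekSubgroup_iff f F _).mp (x g hg).2
    rwa [show F.obj.map ((EtCoh.bc f).map g).op t = (x g hg).1 from ht g hg]
  refine ⟨(⟨t, hmem⟩ : EtShriek.shriekSubgroup f F V), fun W g hg => Subtype.ext (ht g hg),
    fun z hz => Subtype.ext (htu z.1 fun W g hg => congrArg Subtype.val (hz g hg))⟩

/-- The sheaf of sections with proper support. -/
noncomputable def shriekSheaf : EtCoh.Ab Y :=
  ⟨EtShriek.lowerShriekPre f F, isSheaf_lowerShriekPre f F⟩

instance isIso_toSheafify_lowerShriekPre :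
    IsIso (CategoryTheory.toSheafify Y.smallEtaleTopology (EtShriek.lowerShriekPre f F)) :=
  isIso_toSheafify _ (isSheaf_lowerShriekPre f F)

end Groth.Agent.Et18
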