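import Groth.Agent.Et18.ShriekFibre
import Groth.Agent.Et18.EtalePieces

/-!
# Sections with proper support and prescribed germs
-/

universe u

open CategoryTheory CategoryTheory.Limits AlgebraicGeometry Opposite

set_option backward.isDefEq.respectTransparency.types false
set_option backward.isDefEq.respectTransparency false
set_option maxHeartbeats 1000000

namespace Groth.Agent.Et18

variable {X Y : Scheme.{u}} (f : X ⟶ Y) {Ω : Type u} [Field Ω] [IsAlgClosed Ω]
  (η : Spec (CommRingCat.of Ω) ⟶ Y) (F : EtCoh.Ab X)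

lemma mono_lift_of_mono {P V A B X' : Scheme.{u}} (l : P ⟶ V) (r : P ⟶ A) (φ : A ⟶ B) (p : V ⟶ B)
    (sq : IsPullback r l φ p) {E : Scheme.{u}} (m : P ⟶ E) (e₁ : E ⟶ V) (e₂ : E ⟶ X')
    (h₁ : m ≫ e₁ = l) (a : A ⟶ X') (h₂ : m ≫ e₂ = r ≫ a)
    (ha : ∀ {T : Scheme.{u}} (x y : T ⟶ A), x ≫ a = y ≫ a → x ≫ φ = y ≫ φ → x = y) : Mono m :=
  ⟨fun g₁ g₂ e => by
    have hl : g₁ ≫ l = g₂ ≫ l := by rw [← h₁, reassoc_of% e]
    refine sq.hom_ext (ha _ _ ?_ ?_) hl
    · rw [Category.assoc, Category.assoc, ← h₂, reassoc_of% e]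
    · rw [Category.assoc, Category.assoc, sq.w, reassoc_of% hl]⟩

/-- A germ at one point of the fibre, extended by zero at the others. -/
theorem exists_single [IsSeparated f] [LocallyOfFiniteType f] [LocallyQuasiFinite f]
    (ξ₀ : FibrePts f η)
    (a : ((Scheme.pointSmallEtale ξ₀.1).sheafFiber (A := AddCommGrpCat.{u + 1})).obj F) :
    ∃ p : preFib f η F, shriekToFibre f η F ξ₀ p = a ∧
      ∀ ξ, ξ ≠ ξ₀ → shriekToFibre f η F ξ p = 0 := by
  classical
  obtain ⟨W, w, σ, rfl⟩ := (Scheme.pointSmallEtale ξ₀.1).toPresheafFiber_jointly_surjective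
    (P := F.obj) a
  let wl : Spec (CommRingCat.of Ω) ⟶ W.left := w.left
  have hwl : wl ≫ W.hom = ξ₀.1 := Over.w w
  haveI : Etale W.hom := W.prop
  -- splitting off a finite piece
  obtain ⟨T, q, _, -, V₀, V₁, v₀, hcompl, _, hv₀⟩ :=
    exists_etale_isCompl_of_quasiFiniteAt f rfl (f.quasiFiniteAt (ξ₀.1 default))
  obtain ⟨l, hl, hld⟩ := Scheme.exists_fac_of_etale_of_isSepClosed (pullback.fst f q) ξ₀.1 v₀.1 hv₀
  obtain ⟨A, hA, htA, -⟩ := exists_isAffineOpen_mem_and_subset (X := T)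
    (x := pullback.snd f q v₀.1) (U := ⊤) trivial
  let φ : ((V₀.ι ≫ pullback.snd f q) ⁻¹ᵁ A).toScheme ⟶ A.toScheme :=
    (V₀.ι ≫ pullback.snd f q) ∣_ A
  haveI : IsFinite φ := IsZariskiLocalAtTarget.restrict ‹_› A
  haveI : IsAffine A.toScheme := hA
  haveI : IsAffine ((V₀.ι ≫ pullback.snd f q) ⁻¹ᵁ A).toScheme := isAffine_of_isAffineHom φ
  let Z := ((V₀.ι ≫ pullback.snd f q) ⁻¹ᵁ A).toScheme
  let ζ : Z ⟶ pullback f q := ((V₀.ι ≫ pullback.snd f q) ⁻¹ᵁ A).ι ≫ V₀.ι
  let aZ : Z ⟶ X := ζ ≫ pullback.fst f q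
  have hφ : φ ≫ A.ι = ζ ≫ pullback.snd f q :=
    (morphismRestrict_ι _ _).trans (Category.assoc _ _ _).symm
  haveI : Etale aZ := by
    haveI : Etale (pullback.fst f q) := MorphismProperty.pullback_fst _ _ ‹_›
    infer_instance
  obtain ⟨l₀, hl₀⟩ : ∃ l₀ : Spec (CommRingCat.of Ω) ⟶ Z, l₀ ≫ ζ = l := by
    haveI : IsOpenImmersion ζ := inferInstance
    refine ⟨IsOpenImmersion.lift ζ l ?_, IsOpenImmersion.lift_fac _ _ _⟩
    rintro _ ⟨t, rfl⟩
    refine ⟨⟨v₀, ?_⟩, ?_⟩
    · exact htA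
    · rw [Subsingleton.elim t default, hld]
      rfl
  let tA : Spec (CommRingCat.of Ω) ⟶ A.toScheme := l₀ ≫ φ
  have htη : tA ≫ A.ι ≫ q = η := by
    simp only [tA, Category.assoc, reassoc_of% hφ, reassoc_of% hl₀, ← pullback.condition,
      reassoc_of% hl]
    exact ξ₀.2
  have hl₀X : l₀ ≫ aZ = ξ₀.1 := by simp only [aZ, reassoc_of% hl₀, hl]
  let i₀ : FibrePts φ tA := ⟨l₀, rfl⟩
  haveI := finite_lifts_of_isFinite φ tA
  -- neighbourhoods
  have key : ∀ i : FibrePts φ tA, ∃ (O : Scheme.{u}) (_ : IsAffine O) (qi : O ⟶ Z) (_ : Etale qi)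
      (wi : Spec (CommRingCat.of Ω) ⟶ O) (_ : wi ≫ qi = i.1),
      i = i₀ → ∃ e : O ⟶ W.left, e ≫ W.hom = qi ≫ aZ ∧ wi ≫ e = wl := by
    intro i
    by_cases hi : i = i₀
    · subst hi
      let w₁ : Spec (CommRingCat.of Ω) ⟶ pullback aZ W.hom :=
        pullback.lift l₀ wl (hl₀X.trans hwl.symm)
      obtain ⟨O, hO, hwO, -⟩ := exists_isAffineOpen_mem_and_subset (X := pullback aZ W.hom)
        (x := w₁ default) (U := ⊤) trivial
      haveI : Etale (pullback.fst aZ W.hom) := MorphismProperty.pullback_fst _ _ W.prop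
      have hr : Set.range w₁ ⊆ Set.range O.ι := by
        rw [Scheme.Opens.range_ι]
        rintro _ ⟨t, rfl⟩
        rw [Subsingleton.elim t default]
        exact hwO
      refine ⟨O.toScheme, hO, O.ι ≫ pullback.fst aZ W.hom, inferInstance,
        IsOpenImmersion.lift O.ι w₁ hr, ?_, fun _ => ⟨O.ι ≫ pullback.snd aZ W.hom, ?_, ?_⟩⟩
      · rw [IsOpenImmersion.lift_fac_assoc, pullback.lift_fst]
      · rw [Category.assoc, Category.assoc, pullback.condition]
      · rw [IsOpenImmersion.lift_fac_assoc, pullback.lift_snd]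
    · exact ⟨Z, inferInstance, 𝟙 Z, inferInstance, i.1, Category.comp_id _, fun h => absurd h hi⟩
  choose O hO qi hqi wi hwi he using key
  obtain ⟨e, he₁, he₂⟩ := he i₀ rfl
  obtain ⟨T', p, _, v', hv', P, r, l', sq, D, hdis, hcov, h, x, hx⟩ :=
    exists_affine_split φ tA (fun i : FibrePts φ tA => i.1) (fun i => i.2) Subtype.val_injective
      (fun t ht => ⟨⟨t, ht⟩, rfl⟩) O qi wi hwi
  -- the neighbourhood in the base
  let V : Y.Etale := Scheme.Etale.mk (p ≫ A.ι ≫ q)
  let v : (Scheme.pointSmallEtale η).fiber.obj V :=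
    Over.homMk v' (by
      change v' ≫ p ≫ A.ι ≫ q = η
      rw [reassoc_of% hv', htη])
  let B := (EtCoh.bc f).obj V
  let m : P ⟶ pullback V.hom f := pullback.lift l' (r ≫ aZ) (by
    change l' ≫ p ≫ A.ι ≫ q = _
    rw [← sq.w_assoc, reassoc_of% hφ, ← pullback.condition]
    simp only [aZ, Category.assoc])
  haveI : Etale r := MorphismProperty.of_isPullback sq.flip ‹Etale p›
  haveI : IsFinite l' := MorphismProperty.of_isPullback sq ‹IsFinite φ›
  haveI : Etale V.hom := V.prop
  haveI : Etale m := by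
    haveI : Etale (m ≫ pullback.snd V.hom f) := by simp only [m, pullback.lift_snd]; infer_instance
    haveI : Etale (pullback.snd V.hom f) := MorphismProperty.pullback_snd _ _ V.prop
    exact Etale.of_comp m (pullback.snd V.hom f)
  haveI : IsFinite m := by
    haveI : IsFinite (m ≫ pullback.fst V.hom f) := by simp only [m, pullback.lift_fst]; infer_instance
    exact IsFinite.of_comp m (pullback.fst V.hom f)
  haveI : Mono m := mono_lift_of_mono l' r φ p sq m (pullback.fst V.hom f) (pullback.snd V.hom f)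
    (pullback.lift_fst _ _ _) aZ (pullback.lift_snd _ _ _) fun a b h₁ h₂ => by
      rw [← cancel_mono ζ]
      refine pullback.hom_ext ?_ ?_
      · simpa only [aZ, Category.assoc] using h₁
      · have := congrArg (fun t => t ≫ A.ι) h₂
        simpa only [Category.assoc, hφ] using this
  haveI : IsOpenImmersion m := FEtLib.isOpenImmersion_of_etale_universallyInjective m
  -- the piece carrying the germ
  have hDclosed : IsClosed (D i₀ : Set P) := by
    have : (D i₀ : Set P)ᶜ = ⋃ (j : FibrePts φ tA) (_ : j ≠ i₀), (D j : Set P) := by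
      ext y
      simp only [Set.mem_compl_iff, Set.mem_iUnion, SetLike.mem_coe]
      constructor
      · intro hy
        obtain ⟨j, hj⟩ := TopologicalSpace.Opens.mem_iSup.mp
          (hcov ▸ TopologicalSpace.Opens.mem_top y)
        exact ⟨j, fun hji => hy (hji ▸ hj), hj⟩
      · rintro ⟨j, hj, hyj⟩ hy
        exact Set.disjoint_left.mp (TopologicalSpace.Opens.coe_disjoint.mpr (hdis j i₀ hj)) hyj hy
    rw [← isOpen_compl_iff, this]
    exact isOpen_iUnion fun j => isOpen_iUnion fun _ => (D j).2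
  haveI : IsClosedImmersion (D i₀).ι := IsClosedImmersion.of_isPreimmersion _ (by
    rwa [Scheme.Opens.range_ι])
  let k : (D i₀).toScheme ⟶ B.left := (D i₀).ι ≫ m
  haveI : IsOpenImmersion k := inferInstanceAs (IsOpenImmersion ((D i₀).ι ≫ m))
  have hkl : k ≫ EtShriek.prV f V = (D i₀).ι ≫ l' :=
    (Category.assoc _ _ _).trans (congrArg (fun t => (D i₀).ι ≫ t) (pullback.lift_fst _ _ _))
  have hkX : k ≫ B.hom = (D i₀).ι ≫ r ≫ aZ :=
    (Category.assoc _ _ _).trans (congrArg (fun t => (D i₀).ι ≫ t) (pullback.lift_snd _ _ _))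
  haveI : IsFinite (k ≫ EtShriek.prV f V) := by rw [hkl]; infer_instance
  haveI : UniversallyClosed (k ≫ EtShriek.prV f V) := inferInstance
  have hkclosed : IsClosed (Set.range k) :=
    IsProperOver.isClosed (isProperOver_range (EtShriek.prV f V) k)
  let Q : B.left.Opens := k.opensRange
  let Qc : B.left.Opens := ⟨(Set.range k)ᶜ, hkclosed.isOpen_compl⟩
  let gW : etalePiece B Q ⟶ W := MorphismProperty.Over.homMk (k.isoOpensRange.inv ≫ h i₀ ≫ e) (by
    change (k.isoOpensRange.inv ≫ h i₀ ≫ e) ≫ W.hom = Q.ι ≫ B.hom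
    rw [← k.isoOpensRange_inv_comp]
    simp only [Category.assoc, he₁, reassoc_of% (hx i₀).1, hkX])
  obtain ⟨s, hs⟩ := exists_glue_etalePieces
    ((isSheaf_iff_isSheaf_of_type _ _).mp
      ((sheafCompose X.smallEtaleTopology (forget AddCommGrpCat.{u + 1})).obj F).property)
    B (μ := ULift.{u} Bool) (fun b => bif b.down then Q else Qc)
    (fun a b hab => by
      obtain ⟨a⟩ := a; obtain ⟨b⟩ := b
      have hd : Disjoint Q Qc := TopologicalSpace.Opens.coe_disjoint.mp disjoint_compl_right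
      cases a <;> cases b
      · exact absurd rfl hab
      · exact hd.symm
      · exact hd
      · exact absurd rfl hab)
    (by
      refine eq_top_iff.mpr fun y _ => TopologicalSpace.Opens.mem_iSup.mpr ?_
      by_cases hy : y ∈ Set.range k
      · exact ⟨⟨true⟩, hy⟩
      · exact ⟨⟨false⟩, hy⟩)
    (fun b => match b with
      | ⟨true⟩ => F.obj.map gW.op σ
      | ⟨false⟩ => (0 : EtCoh.sect F (etalePiece B Qc)))
  have hsQ : F.obj.map (etalePieceHom B Q).op s = F.obj.map gW.op σ := hs ⟨true⟩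
  have hsQc : F.obj.map (etalePieceHom B Qc).op s = (0 : EtCoh.sect F (etalePiece B Qc)) :=
    hs ⟨false⟩
  have hsupp : EtShriek.sectSupp F B s ⊆ Set.range k := fun y hy => by
    by_contra hyk
    exact hy (etalePiece B Qc) (etalePieceHom B Qc) ⟨⟨y, hyk⟩, rfl⟩ hsQc
  have hmem : s ∈ EtShriek.shriekSubgroup f F V := (mem_shriekSubgroup_iff f F s).mpr
    (IsProperOver.of_subset (isProperOver_range (EtShriek.prV f V) k) (isClosed_sectSupp F B s)
      hsupp)
  refine ⟨(Scheme.pointSmallEtale η).toPresheafFiber V v (EtShriek.lowerShriekPre f F) ⟨s, hmem⟩,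
    ?_, ?_⟩
  · refine (shriekToFibre_germ f η F ξ₀ V v _).trans ?_
    have hpt : bcPt f η ξ₀ V v = x i₀ ≫ k := by
      refine pullback.hom_ext ?_ ?_
      · refine (pullback.lift_fst _ _ _).trans ?_
        refine Eq.symm ((Category.assoc _ _ _).trans ?_)
        exact (congrArg (fun t => x i₀ ≫ t) hkl).trans (hx i₀).2.1
      · refine (pullback.lift_snd _ _ _).trans ?_
        refine Eq.symm ((Category.assoc _ _ _).trans ?_)
        refine (congrArg (fun t => x i₀ ≫ t) hkX).trans ?_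
        rw [← reassoc_of% (hx i₀).1, reassoc_of% (hx i₀).2.2, reassoc_of% hwi i₀]
        exact hl₀X
    let d : (Scheme.pointSmallEtale ξ₀.1).fiber.obj (etalePiece B Q) :=
      Over.homMk (x i₀ ≫ k.isoOpensRange.hom) (by
        change (x i₀ ≫ k.isoOpensRange.hom) ≫ Q.ι ≫ B.hom = ξ₀.1
        rw [Category.assoc, ← Category.assoc k.isoOpensRange.hom,
          show k.isoOpensRange.hom ≫ Q.ι = k from Scheme.Hom.isoOpensRange_hom_ι k, hkX,
          ← reassoc_of% (hx i₀).1, reassoc_of% (hx i₀).2.2, reassoc_of% hwi i₀]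
        exact hl₀X)
    have hd₁ : (Scheme.pointSmallEtale ξ₀.1).fiber.map (etalePieceHom B Q) d = bcLift f η ξ₀ V v := by
      refine Over.OverMorphism.ext (Eq.trans ?_ hpt.symm)
      change (x i₀ ≫ k.isoOpensRange.hom) ≫ Q.ι = x i₀ ≫ k
      rw [Category.assoc, Scheme.Hom.isoOpensRange_hom_ι]
    have hd₂ : (Scheme.pointSmallEtale ξ₀.1).fiber.map gW d = w := by
      refine Over.OverMorphism.ext ?_
      change (x i₀ ≫ k.isoOpensRange.hom) ≫ k.isoOpensRange.inv ≫ h i₀ ≫ e = wl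
      rw [Category.assoc, Iso.hom_inv_id_assoc, reassoc_of% (hx i₀).2.2, he₂]
    rw [← hd₁, ← GrothendieckTopology.Point.toPresheafFiber_w_apply, hsQ,
      GrothendieckTopology.Point.toPresheafFiber_w_apply, hd₂]
  · intro ξ hξ
    refine (shriekToFibre_germ f η F ξ V v _).trans ?_
    refine germ_eq_zero_of_not_mem_sectSupp F _ _ _ _ fun hy => hξ ?_
    obtain ⟨y₀, hy₀⟩ := hsupp hy
    let y : Spec (CommRingCat.of Ω) ⟶ (D i₀).toScheme :=
      IsOpenImmersion.lift k (bcPt f η ξ V v) (by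
        rintro _ ⟨t, rfl⟩
        exact ⟨y₀, hy₀.trans (congrArg (bcPt f η ξ V v)
          (Subsingleton.elim (α := Spec (CommRingCat.of Ω)) default t))⟩)
    have hyk : y ≫ k = bcPt f η ξ V v := IsOpenImmersion.lift_fac _ _ _
    have hyl : y ≫ (D i₀).ι ≫ l' = v' := by
      rw [← hkl, reassoc_of% hyk]
      exact bcLift_left_fst f η ξ V v
    let i : FibrePts φ tA := ⟨y ≫ (D i₀).ι ≫ r, by
      rw [Category.assoc, Category.assoc, sq.w, reassoc_of% hyl, hv']⟩
    have heq : x i ≫ (D i).ι = y ≫ (D i₀).ι := by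
      refine sq.hom_ext ?_ ?_
      · rw [Category.assoc, Category.assoc, ← (hx i).1, reassoc_of% (hx i).2.2, hwi i]
      · rw [Category.assoc, Category.assoc, (hx i).2.1, hyl]
    have hii : i = i₀ := by
      by_contra hne
      refine Set.disjoint_left.mp (TopologicalSpace.Opens.coe_disjoint.mpr (hdis i i₀ hne))
        (x i default).2 ?_
      have := congrArg (fun t : Spec (CommRingCat.of Ω) ⟶ P => t default) heq
      exact (show ((x i default).1 : P) = (y default).1 from this) ▸ (y default).2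
    have hxy : x i₀ ≫ (D i₀).ι = y ≫ (D i₀).ι := by rw [← heq, hii]
    have hxy' : x i₀ = y := (cancel_mono (D i₀).ι).mp hxy
    refine bcLift_left_injective f η V v ?_
    refine hyk.symm.trans ?_
    rw [← hxy']
    refine Eq.symm ?_
    refine pullback.hom_ext ?_ ?_
    · refine (pullback.lift_fst _ _ _).trans ?_
      refine Eq.symm ((Category.assoc _ _ _).trans ?_)
      exact (congrArg (fun t => x i₀ ≫ t) hkl).trans (hx i₀).2.1
    · refine (pullback.lift_snd _ _ _).trans ?_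
      refine Eq.symm ((Category.assoc _ _ _).trans ?_)
      refine (congrArg (fun t => x i₀ ≫ t) hkX).trans ?_
      rw [← reassoc_of% (hx i₀).1, reassoc_of% (hx i₀).2.2, reassoc_of% hwi i₀]
      exact hl₀X

end Groth.Agent.Et18
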