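import Groth.Agent.Et18.ShriekSections
import Groth.Agent.Et18.ShriekStalk

/-!
# `f_!` commutes with direct sums
-/

universe u

open CategoryTheory CategoryTheory.Limits AlgebraicGeometry Opposite DirectSum

set_option backward.isDefEq.respectTransparency.types false
set_option backward.isDefEq.respectTransparency false

namespace Groth.Agent.Et18

variable {X : Scheme.{u}} {ι : Type u} {M : ι → EtCoh.Ab X} (c : Cofan M) (hc : IsColimit c)

open scoped Classical in
/-- The projection to a summand. -/
noncomputable def sumProj (i : ι) : c.pt ⟶ M i :=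
  Cofan.IsColimit.desc hc fun k => if h : k = i then eqToHom (by rw [h]) else 0

lemma inj_sumProj_self (i : ι) : c.inj i ≫ sumProj c hc i = 𝟙 (M i) := by
  simp [sumProj]

lemma inj_sumProj_ne {i k : ι} (h : k ≠ i) : c.inj k ≫ sumProj c hc i = 0 := by
  simp [sumProj, h]

/-- The idempotent of a summand. -/
noncomputable abbrev sumIdem (i : ι) : c.pt ⟶ c.pt := sumProj c hc i ≫ c.inj i

/-- An element of a stalk of a direct sum is the sum of finitely many components. -/
theorem exists_finset_stalk {Ω : Type u} [Field Ω] [IsSepClosed Ω]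
    {ξ : Spec (CommRingCat.of Ω) ⟶ X} [PreservesColimitsOfShape (Discrete ι)
      (EtCoh.stalk ξ)]
    (x : (EtCoh.stalk ξ).obj c.pt) :
    ∃ I₀ : Finset ι, ∀ J, I₀ ⊆ J → x = ∑ i ∈ J, (EtCoh.stalk ξ).map (sumIdem c hc i) x := by
  classical
  have hd : IsColimit ((EtCoh.stalk ξ).mapCocone c) := isColimitOfPreserves _ hc
  let N := fun i => (EtCoh.stalk ξ).obj (M i)
  let hd' : IsColimit (Cofan.mk ((EtCoh.stalk ξ).obj c.pt)
      fun i => (EtCoh.stalk ξ).map (c.inj i)) := isColimitCofanMkObjOfIsColimit (EtCoh.stalk ξ) M _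
        (IsColimit.ofIsoColimit hc (Cofan.ext (Iso.refl _)))
  let e := (sumCofanIsColimit N).coconePointUniqueUpToIso hd'
  obtain ⟨y, rfl⟩ : ∃ y : (⨁ i, (N i : Type (u + 1))), e.hom y = x :=
    ⟨e.inv x, congrArg (fun t => t x) e.inv_hom_id⟩
  induction y using DirectSum.induction_on with
  | zero =>
    refine ⟨∅, fun J _ => ?_⟩
    have : e.hom (0 : (sumCofan N).pt) = 0 := map_zero _
    erw [this]
    simp
  | of k a =>
    refine ⟨{k}, fun J hJ => ?_⟩
    have hka : e.hom ((sumCofan N).inj k a) = (EtCoh.stalk ξ).map (c.inj k) a :=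
      congrArg (fun t => t a) ((sumCofanIsColimit N).comp_coconePointUniqueUpToIso_hom hd' ⟨k⟩)
    have hof : (show (⨁ i, (N i : Type (u + 1))) from (sumCofan N).inj k a) =
        DirectSum.of (fun i => (N i : Type (u + 1))) k a := by
      refine DFinsupp.ext fun i => ?_
      rcases eq_or_ne i k with rfl | hne
      · rw [sumCofan_app_same, DirectSum.of_eq_same]
      · rw [sumCofan_app_ne N hne, DirectSum.of_eq_of_ne _ _ _ hne]
    rw [← hof]
    erw [hka]
    rw [Finset.sum_eq_single_of_mem k (hJ (Finset.mem_singleton_self k))]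
    · rw [← ConcreteCategory.comp_apply, ← Functor.map_comp, sumIdem, ← Category.assoc,
        inj_sumProj_self, Category.id_comp]
    · intro i _ hik
      rw [← ConcreteCategory.comp_apply, ← Functor.map_comp, sumIdem, ← Category.assoc,
        inj_sumProj_ne c hc (Ne.symm hik), zero_comp, Functor.map_zero]
      rfl
  | add a b ha hb =>
    obtain ⟨Ia, ha⟩ := ha
    obtain ⟨Ib, hb⟩ := hb
    refine ⟨Ia ∪ Ib, fun J hJ => ?_⟩
    have : e.hom (a + b) = e.hom a + e.hom b := map_add _ _ _
    erw [this]
    simp only [map_add, Finset.sum_add_distrib]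
    exact congrArg₂ (· + ·) (ha J (Finset.union_subset_left hJ)) (hb J (Finset.union_subset_right hJ))

/-- A section of a direct sum with compact support is the sum of finitely many components. -/
theorem exists_finset_section [∀ x : X, PreservesColimitsOfShape (Discrete ι)
      (EtCoh.stalk (sepPoint X x))] (P : X.Etale) (s : EtCoh.sect c.pt P)
    (hs : IsCompact (EtShriek.sectSupp c.pt P s)) :
    ∃ I₀ : Finset ι, s = ∑ i ∈ I₀, (sumIdem c hc i).hom.app (op P) s := by
  classical
  choose v hv using fun y : P.left =>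
    exists_fiber_point (sepPoint X (P.hom y)) P y (sepPoint_default X _).symm
  let germ := fun (y : P.left) => (Scheme.pointSmallEtale (sepPoint X (P.hom y))).toPresheafFiber P (v y) c.pt.obj
  have hgerm : ∀ (y : P.left) (i : ι), germ y ((sumIdem c hc i).hom.app (op P) s) =
      (EtCoh.stalk (sepPoint X (P.hom y))).map (sumIdem c hc i) (germ y s) := fun y i =>
    (congrArg (fun t => t s) ((Scheme.pointSmallEtale _).toPresheafFiber_naturality
      (sumIdem c hc i).hom P (v y))).symm
  choose I hI using fun y : P.left => exists_finset_stalk c hc (germ y s)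
  let T := fun (J : Finset ι) => EtShriek.sectSupp c.pt P
    (s - ∑ i ∈ J, (sumIdem c hc i).hom.app (op P) s)
  obtain ⟨t, ht⟩ := hs.elim_finite_subcover (fun y : P.left => (T (I y))ᶜ)
    (fun y => (isClosed_sectSupp c.pt P _).isOpen_compl) (fun y _ => by
      refine Set.mem_iUnion.mpr ⟨y, ?_⟩
      have h0 : germ y (s - ∑ i ∈ I y, (sumIdem c hc i).hom.app (op P) s) = 0 := by
        rw [map_sub, map_sum]
        simp only [hgerm]
        rw [← hI y (I y) subset_rfl, sub_self]
      have := not_mem_sectSupp_of_germ_eq_zero c.pt _ P _ (v y) h0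
      rwa [hv y] at this)
  let I₀ := t.biUnion I
  refine ⟨I₀, sub_eq_zero.mp (eq_zero_of_sectSupp_eq_empty c.pt P _
    (Set.eq_empty_iff_forall_notMem.mpr fun y hy => ?_))⟩
  refine not_mem_sectSupp_of_germ_eq_zero c.pt _ P _ (v y) ?_ ((hv y).symm ▸ hy)
  change germ y _ = 0
  rw [map_sub, map_sum, sub_eq_zero]
  simp only [hgerm]
  by_cases hys : y ∈ EtShriek.sectSupp c.pt P s
  · obtain ⟨z, hz, hyz⟩ := Set.mem_iUnion₂.mp (ht hys)
    have h0 : germ y (s - ∑ i ∈ I z, (sumIdem c hc i).hom.app (op P) s) = 0 :=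
      germ_eq_zero_of_not_mem_sectSupp c.pt _ P _ (v y) (by rw [hv y]; exact hyz)
    rw [map_sub, map_sum, sub_eq_zero] at h0
    simp only [hgerm] at h0
    have key : ∀ i, i ∉ I z → (EtCoh.stalk _).map (sumIdem c hc i) (germ y s) = 0 := fun i hi => by
      conv_lhs => rw [h0]
      rw [map_sum]
      refine Finset.sum_eq_zero fun k hk => ?_
      have hki : k ≠ i := fun h => hi (h ▸ hk)
      rw [← ConcreteCategory.comp_apply, ← Functor.map_comp, sumIdem, sumIdem, Category.assoc,
        ← Category.assoc (c.inj k), inj_sumProj_ne c hc hki, zero_comp, comp_zero, Functor.map_zero]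
      rfl
    refine h0.trans (Finset.sum_subset (Finset.subset_biUnion_of_mem I hz) fun i _ hi => ?_)
    exact key i hi
  · have h0 : germ y s = 0 :=
      germ_eq_zero_of_not_mem_sectSupp c.pt _ P _ (v y) (by rw [hv y]; exact hys)
    refine h0.trans (Eq.symm (Finset.sum_eq_zero fun i _ => ?_))
    exact (congrArg _ h0).trans (map_zero _)

variable {Y : Scheme.{u}} (f : X ⟶ Y) [LocallyOfFiniteType f]

omit [LocallyOfFiniteType f] in
lemma isCompact_supp {V : Y.Etale} [CompactSpace V.left] {F : EtCoh.Ab X}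
    {s : EtCoh.sect F ((EtCoh.bc f).obj V)} (h : PropSupp f F s) :
    IsCompact (EtShriek.sectSupp F _ s) := by
  obtain ⟨hZ, hp⟩ := h
  let k := (redSub _ hZ).subschemeι ≫ EtShriek.prV f V
  haveI : IsProper k := hp
  haveI : CompactSpace (redSub _ hZ).subscheme :=
    QuasiCompact.compactSpace_of_compactSpace k
  rw [← range_redSub _ hZ]
  exact isCompact_range (redSub _ hZ).subschemeι.continuous

/-- `f_!` commutes with direct sums. -/
theorem lowerShriek_preservesCoproduct (hc : IsColimit c) :
    Nonempty (IsColimit ((EtShriek.lowerShriek f).mapCocone c)) := by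
  haveI : ∀ (Z : Scheme.{u}) {Ω : Type u} [Field Ω] [IsSepClosed Ω]
      (ξ : Spec (CommRingCat.of Ω) ⟶ Z), PreservesColimitsOfShape (Discrete ι) (EtCoh.stalk ξ) :=
    fun Z Ω _ _ ξ => preservesColimitsOfShape_of_natIso (J := Discrete ι) (bigStalkIso ξ)
  let G := EtShriek.lowerShriek f
  let d := colimit.isColimit (Discrete.functor fun i => G.obj (M i))
  let dc : Cofan fun i => G.obj (M i) := colimit.cocone _
  let ψ : dc.pt ⟶ G.obj c.pt := Cofan.IsColimit.desc d fun i => G.map (c.inj i)
  haveI : Mono ψ := by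
    refine mono_of_stalks _ fun y => ?_
    rw [injective_iff_map_eq_zero]
    intro x hx
    obtain ⟨I₀, hI⟩ := exists_finset_stalk dc d x
    rw [hI I₀ subset_rfl]
    refine Finset.sum_eq_zero fun i _ => ?_
    have : ψ ≫ G.map (sumProj c hc i) = sumProj dc d i := by
      refine Cofan.IsColimit.hom_ext d _ _ fun k => ?_
      rw [← Category.assoc, Cofan.IsColimit.fac, ← Functor.map_comp]
      rcases eq_or_ne k i with rfl | hne
      · rw [inj_sumProj_self, CategoryTheory.Functor.map_id, inj_sumProj_self]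
      · rw [inj_sumProj_ne c hc hne, inj_sumProj_ne dc d hne]
        exact (EtShriek.lowerShriek f).map_zero _ _
    rw [sumIdem, ← this, Category.assoc, Functor.map_comp, ConcreteCategory.comp_apply, hx,
      map_zero]
  haveI : Epi ψ := by
    refine epi_of_stalks _ fun y => ?_
    intro x
    let Φ := Scheme.pointSmallEtale (sepPoint Y y)
    obtain ⟨V, v, z, rfl⟩ := Φ.toPresheafFiber_jointly_surjective (P := (G.obj c.pt).obj) x
    obtain ⟨U, hU, hvU, -⟩ := exists_isAffineOpen_mem_and_subset (X := V.left)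
      (x := fiberPt v) (U := ⊤) trivial
    let vl : Spec (CommRingCat.of _) ⟶ V.left := v.left
    obtain ⟨w, hw⟩ : ∃ w : Φ.fiber.obj (etalePiece V U), Φ.fiber.map (etalePieceHom V U) w = v := by
      refine ⟨Over.homMk (IsOpenImmersion.lift U.ι vl ?_) ?_,
        Over.OverMorphism.ext (IsOpenImmersion.lift_fac _ _ _)⟩
      · rintro _ ⟨t, rfl⟩
        exact ⟨⟨_, hvU⟩, congrArg vl (Subsingleton.elim (α := Spec (CommRingCat.of _)) default t)⟩
      · refine (Category.assoc _ _ _).symm.trans ?_
        rw [IsOpenImmersion.lift_fac]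
        exact Over.w v
    rw [← hw, ← GrothendieckTopology.Point.toPresheafFiber_w_apply]
    obtain ⟨s, hs⟩ := (toShriek_bijective f c.pt (etalePiece V U)).2
      ((G.obj c.pt).obj.map (etalePieceHom V U).op z)
    haveI : CompactSpace (etalePiece V U).left := isCompact_iff_compactSpace.mp hU.isCompact
    have hp := (mem_shriekSubgroup_iff f c.pt s.1).mp s.2
    obtain ⟨I₀, hI₀⟩ := exists_finset_section c hc _ s.1 (isCompact_supp f hp)
    let σ : ∀ i, EtShriek.shriekSubgroup f (M i) (etalePiece V U) := fun i =>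
      ⟨(sumProj c hc i).hom.app _ s.1, EtShriek.shriekSubgroup_le_comap_app f _ _ s.2⟩
    have hsum : (G.obj c.pt).obj.map (etalePieceHom V U).op z =
        ∑ i ∈ I₀, (G.map (c.inj i)).hom.app (op (etalePiece V U)) (toShriek f (M i) _ (σ i)) := by
      rw [← hs]
      have hnat : ∀ i, (G.map (c.inj i)).hom.app (op (etalePiece V U)) (toShriek f (M i) _ (σ i)) =
          toShriek f c.pt _ (((EtShriek.lowerShriekPreFunctor f).map (c.inj i)).app _ (σ i)) :=
        fun i => (congrArg (fun t => t.app (op (etalePiece V U)) (σ i))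
          (toSheafify_naturality Y.smallEtaleTopology
            ((EtShriek.lowerShriekPreFunctor f).map (c.inj i)))).symm
      simp only [hnat]
      refine (congrArg (toShriek f c.pt (etalePiece V U)) ?_).trans (map_sum _ _ _)
      refine Subtype.ext ?_
      refine hI₀.trans ?_
      refine Eq.trans ?_ (map_sum (EtShriek.shriekSubgroup f c.pt (etalePiece V U)).subtype _ _).symm
      rfl
    refine ⟨∑ i ∈ I₀, (EtCoh.stalk (sepPoint Y y)).map (dc.inj i)
      (Φ.toPresheafFiber _ w (G.obj (M i)).obj (toShriek f (M i) _ (σ i))), ?_⟩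
    rw [hsum, map_sum, map_sum]
    refine Finset.sum_congr rfl fun i _ => ?_
    refine ((congrArg (fun t => t (Φ.toPresheafFiber _ w (G.obj (M i)).obj
      (toShriek f (M i) _ (σ i)))) ((EtCoh.stalk (sepPoint Y y)).map_comp (dc.inj i) ψ)).symm).trans ?_
    rw [Cofan.IsColimit.fac]
    exact congrArg (fun t => t (toShriek f (M i) _ (σ i)))
      (Φ.toPresheafFiber_naturality (G.map (c.inj i)).hom (etalePiece V U) w)
  haveI : IsIso ψ := isIso_of_mono_of_epi ψ
  refine ⟨?_⟩
  exact (isColimitMapCoconeCofanMkEquiv G M c.inj).symm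
    (IsColimit.ofIsoColimit d (Cocone.ext (asIso ψ) fun ⟨i⟩ => Cofan.IsColimit.fac d _ i))
    |> fun h => IsColimit.ofIsoColimit h (Cocone.ext (Iso.refl _))

theorem lowerShriek_preservesCoproducts :
    PreservesColimitsOfShape (Discrete ι) (EtShriek.lowerShriek f) :=
  ⟨fun {K} =>
    haveI : PreservesColimit (Discrete.functor (K.obj ∘ Discrete.mk)) (EtShriek.lowerShriek f) :=
      preservesColimit_of_preserves_colimit_cocone (colimit.isColimit _)
        (lowerShriek_preservesCoproduct _ f (colimit.isColimit _)).some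
    preservesColimit_of_iso_diagram _ (Discrete.natIsoFunctor (F := K)).symm⟩

end Groth.Agent.Et18
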