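import Groth.Agent.Et18.H0Lift.SpectralGlue
import Groth.Agent.H8ProCons.ConsTopology
import Mathlib.Topology.Connected.Clopen
import Mathlib.Topology.Connected.TotallyDisconnected

/-!
# Clopen subsets of spectral spaces
-/

set_option autoImplicit false

universe u

open TopologicalSpace Topology Set

namespace Groth.Agent.Et18.SpectralClopen

variable {X : Type u} [TopologicalSpace X] [SpectralSpace X]

/-- In a spectral space the connected component is the intersection of the clopens containing it. -/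
theorem exists_isClopen_of_notMem_connectedComponent {x y : X} (h : y ∉ connectedComponent x) :
    ∃ W : Set X, IsClopen W ∧ x ∈ W ∧ y ∉ W := by
  classical
  let ι := {W : Set X // IsClopen W ∧ x ∈ W}
  have hne : Nonempty ι := ⟨⟨univ, isClopen_univ, trivial⟩⟩
  let C : Set X := ⋂ W : ι, W.1
  have hC : IsClosed C := isClosed_iInter fun W => W.2.1.1
  by_contra hall
  push Not at hall
  refine h (IsPreconnected.subset_connectedComponent ?_
    (show x ∈ C from mem_iInter.2 fun W => W.2.2) (show y ∈ C from mem_iInter.2 fun W => hall W.1 W.2.1 W.2.2))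
  rw [isPreconnected_closed_iff]
  intro A B hA hB hcov ⟨a, ha⟩ ⟨b, hb⟩
  by_contra hAB
  rw [not_nonempty_iff_eq_empty] at hAB
  have hsep : ∀ (A B : Set X), IsClosed A → IsClosed B → C ∩ (A ∩ B) = ∅ →
      ∃ U : Set X, IsOpen U ∧ IsCompact U ∧ C ∩ A ⊆ U ∧ C ∩ B ∩ U = ∅ := by
    intro A B hA hB hAB
    have hV : ∀ p : ↥(C ∩ A), ∃ V : Set X, (IsOpen V ∧ IsCompact V) ∧ p.1 ∈ V ∧ V ⊆ (C ∩ B)ᶜ := fun p =>
      PrespectralSpace.isTopologicalBasis.exists_subset_of_mem_open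
        (fun hp => (eq_empty_iff_forall_notMem.1 hAB) p.1 ⟨p.2.1, p.2.2, hp.2⟩)
        (hC.inter hB).isOpen_compl
    choose V hV hpV hVs using hV
    obtain ⟨t, ht⟩ := (hC.inter hA).isCompact.elim_finite_subcover V (fun p => (hV p).1)
      (fun p hp => mem_iUnion.2 ⟨⟨p, hp⟩, hpV ⟨p, hp⟩⟩)
    refine ⟨_, isOpen_biUnion fun p _ => (hV p).1, t.finite_toSet.isCompact_biUnion fun p _ => (hV p).2,
      ht, eq_empty_iff_forall_notMem.2 fun q ⟨hq, hq'⟩ => ?_⟩
    obtain ⟨p, -, hp⟩ := mem_iUnion₂.1 hq'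
    exact hVs p hp hq
  obtain ⟨U, hUo, hUc, hAU, hBU⟩ := hsep A B hA hB hAB
  obtain ⟨V, hVo, hVc, hBV, hAV⟩ := hsep B A hB hA (by rwa [inter_comm B A])
  have hUV : IsCompact (U ∩ V) := QuasiSeparatedSpace.inter_isCompact U V hUo hUc hVo hVc
  have hbad : IsCompact ((U ∪ V)ᶜ ∪ U ∩ V) := (hUo.union hVo).isClosed_compl.isCompact.union hUV
  have hdir : Directed (fun s t => s ⊇ t) fun W : ι => W.1 := fun W W' =>
    ⟨⟨W.1 ∩ W'.1, W.2.1.inter W'.2.1, W.2.2, W'.2.2⟩, inter_subset_left, inter_subset_right⟩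
  obtain ⟨W, hW⟩ := hbad.elim_directed_family_closed (fun W : ι => W.1) (fun W => W.2.1.1) (by
    refine eq_empty_iff_forall_notMem.2 fun q ⟨hq, hqC⟩ => ?_
    rcases hcov hqC with hqA | hqB
    · rcases hq with hq | hq
      · exact hq (Or.inl (hAU ⟨hqC, hqA⟩))
      · exact eq_empty_iff_forall_notMem.1 hAV q ⟨⟨hqC, hqA⟩, hq.2⟩
    · rcases hq with hq | hq
      · exact hq (Or.inr (hBV ⟨hqC, hqB⟩))
      · exact eq_empty_iff_forall_notMem.1 hBU q ⟨⟨hqC, hqB⟩, hq.1⟩) hdir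
  have hWU : IsClopen (W.1 ∩ U) := by
    refine ⟨?_, W.2.1.2.inter hUo⟩
    have : W.1 ∩ U = W.1 ∩ Vᶜ := by
      ext q
      have := eq_empty_iff_forall_notMem.1 hW q
      simp only [mem_inter_iff, mem_union, mem_compl_iff] at this ⊢
      tauto
    rw [this]
    exact W.2.1.1.inter hVo.isClosed_compl
  -- `x` lies on one side, so the other one is empty
  have hxC : x ∈ C := mem_iInter.2 fun W => W.2.2
  by_cases hx : x ∈ U
  · exact eq_empty_iff_forall_notMem.1 hBU b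
      ⟨hb, (mem_iInter.1 hb.1 ⟨W.1 ∩ U, hWU, W.2.2, hx⟩).2⟩
  · exact (mem_iInter.1 ha.1 ⟨W.1 ∩ (W.1 ∩ U)ᶜ, W.2.1.inter hWU.compl, W.2.2, fun h => hx h.2⟩).2
      ⟨mem_iInter.1 ha.1 W, hAU ha⟩

/-- Decompositions of a closed subset meeting every closure in a connected set extend. -/
theorem exists_isClopen_inter_eq (Z : Set X) (hZ : IsClosed Z)
    (hconn : ∀ x : X, _root_.IsConnected (Z ∩ closure {x})) (Z₁ Z₂ : Set X) (h₁ : IsClosed Z₁)
    (h₂ : IsClosed Z₂) (hdisj : Disjoint Z₁ Z₂) (hunion : Z₁ ∪ Z₂ = Z) :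
    ∃ W : Set X, IsClopen W ∧ Z ∩ W = Z₁ ∧ Z ∩ Wᶜ = Z₂ := by
  classical
  let P : H0Lift.GermSystem.{u, u, 0} X :=
    { Sec := fun U => {f : U → Bool // IsLocallyConstant f}
      Stk := fun _ => Bool
      germ := fun _ y hy s => s.1 ⟨y, hy⟩
      isOpen_eq := fun U V s t => by
        refine isOpen_iff_forall_mem_open.2 fun y ⟨h, h', he⟩ => ?_
        obtain ⟨O, hO, hOs⟩ := isOpen_induced_iff.1 (s.2 {s.1 ⟨y, h⟩})
        obtain ⟨O', hO', hOt⟩ := isOpen_induced_iff.1 (t.2 {t.1 ⟨y, h'⟩})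
        refine ⟨(O ∩ U) ∩ (O' ∩ V), fun q ⟨⟨hqO, hqU⟩, hqO', hqV⟩ => ⟨hqU, hqV, ?_⟩,
          (hO.inter U.2).inter (hO'.inter V.2),
          ⟨(Set.ext_iff.1 hOs ⟨y, h⟩).2 rfl, h⟩, (Set.ext_iff.1 hOt ⟨y, h'⟩).2 rfl, h'⟩
        have e1 : s.1 ⟨q, hqU⟩ = s.1 ⟨y, h⟩ := (Set.ext_iff.1 hOs ⟨q, hqU⟩).1 hqO
        have e2 : t.1 ⟨q, hqV⟩ = t.1 ⟨y, h'⟩ := (Set.ext_iff.1 hOt ⟨q, hqV⟩).1 hqO'
        exact e1.trans (he.trans e2.symm)
      glue := fun M V hM hxM s σ hσ => by
        refine ⟨⟨fun y => σ y.1, (IsLocallyConstant.iff_exists_open _).2 fun x => ?_⟩, fun y => rfl⟩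
        obtain ⟨O, hO, hOs⟩ := isOpen_induced_iff.1 ((s x.1).2 {(s x.1).1 ⟨x.1, hM x.1 (hxM x.1)⟩})
        refine ⟨Subtype.val ⁻¹' (O ∩ M x.1), (hO.inter (M x.1).2).preimage continuous_subtype_val,
          ⟨(Set.ext_iff.1 hOs ⟨x.1, hM x.1 (hxM x.1)⟩).2 rfl, hxM x.1⟩, fun y hy => ?_⟩
        exact ((hσ x.1 y.1 hy.2).symm.trans ((Set.ext_iff.1 hOs ⟨y.1, hM x.1 hy.2⟩).1 hy.1)).trans
          (hσ x.1 x.1 (hxM x.1)) }
  have hmem : ∀ z : Z, z.1 ∈ Z₁ ∨ z.1 ∈ Z₂ := fun z => hunion.symm ▸ z.2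
  let V : Z → Opens X := fun z =>
    if z.1 ∈ Z₁ then ⟨Z₂ᶜ, h₂.isOpen_compl⟩ else ⟨Z₁ᶜ, h₁.isOpen_compl⟩
  have hV : ∀ z : Z, z.1 ∈ V z := fun z => by
    by_cases h : z.1 ∈ Z₁
    · simpa [V, h] using disjoint_left.1 hdisj h
    · simpa [V, h] using h
  let t : ∀ z : Z, P.Sec (V z) := fun z => ⟨fun _ => decide (z.1 ∈ Z₁), IsLocallyConstant.const _⟩
  have hV' : ∀ k z : Z, z.1 ∈ V k → decide (k.1 ∈ Z₁) = decide (z.1 ∈ Z₁) := fun k z hzk => by
    have h12 := fun h : z.1 ∈ Z₁ => disjoint_left.1 hdisj h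
    have := hmem z
    by_cases h : k.1 ∈ Z₁
    · have : z.1 ∉ Z₂ := by simpa [V, h] using hzk
      simp [h, (hmem z).resolve_right this]
    · have : z.1 ∉ Z₁ := by simpa [V, h] using hzk
      simp [h, this]
  obtain ⟨T, hT⟩ := H0Lift.exists_glue P Z hZ hconn V hV t fun k l z hk hl =>
    (hV' k z hk).trans (hV' l z hl).symm
  have hc : IsLocallyConstant fun x : X => T.1 ⟨x, trivial⟩ :=
    T.2.comp_continuous (continuous_id.subtype_mk _)
  refine ⟨(fun x : X => T.1 ⟨x, trivial⟩) ⁻¹' {true}, hc.isClopen_fiber true, ?_, ?_⟩ <;>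
    ext q <;> constructor
  · rintro ⟨hq, hq'⟩
    exact of_decide_eq_true ((hT ⟨q, hq⟩).symm.trans hq')
  · intro hq
    have hqZ : q ∈ Z := hunion ▸ Or.inl hq
    exact ⟨hqZ, (hT ⟨q, hqZ⟩).trans (decide_eq_true hq)⟩
  · rintro ⟨hq, hq'⟩
    refine (hmem ⟨q, hq⟩).resolve_left fun h => hq' ?_
    exact (hT ⟨q, hq⟩).trans (decide_eq_true h)
  · intro hq
    have hqZ : q ∈ Z := hunion ▸ Or.inr hq
    refine ⟨hqZ, fun h => disjoint_left.1 hdisj ?_ hq⟩
    exact of_decide_eq_true ((hT ⟨q, hqZ⟩).symm.trans h)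

theorem exists_isClosed_singleton_mem {S : Set X} (hS : IsClosed S) (hne : S.Nonempty) :
    ∃ x ∈ S, IsClosed ({x} : Set X) :=
  hS.exists_closed_singleton hne

theorem surjective_closedPoint_component :
    Function.Surjective (fun x : {x : X // IsClosed ({x} : Set X)} => ConnectedComponents.mk x.1) := by
  intro c
  obtain ⟨y, rfl⟩ := ConnectedComponents.surjective_coe c
  obtain ⟨x, hx, hxc⟩ := exists_isClosed_singleton_mem isClosed_connectedComponent
    ⟨y, mem_connectedComponent⟩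
  exact ⟨⟨x, hxc⟩, ConnectedComponents.coe_eq_coe.2 (connectedComponent_eq hx).symm⟩

theorem eq_of_isClopen_separated {x y : {x : X // IsClosed ({x} : Set X)}}
    (h : ConnectedComponents.mk x.1 = ConnectedComponents.mk y.1) {W : Set X} (hW : IsClopen W)
    (hx : x.1 ∈ W) : y.1 ∈ W :=
  hW.connectedComponent_subset hx
    (ConnectedComponents.coe_eq_coe.1 h ▸ mem_connectedComponent)

/-- Covers refine to clopen partitions iff closed points biject to connected components. -/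
theorem refinement_iff :
    (∀ (ι : Type u) (U : ι → Set X), (∀ i, IsOpen (U i)) → (⋃ i, U i) = Set.univ →
      ∃ (n : ℕ) (V : Fin n → Set X), (∀ k, IsClopen (V k)) ∧
        Pairwise (fun k l => Disjoint (V k) (V l)) ∧ (⋃ k, V k) = Set.univ ∧ ∀ k, ∃ i, V k ⊆ U i) ↔
    Function.Bijective (fun x : {x : X // IsClosed ({x} : Set X)} => _root_.ConnectedComponents.mk x.1) := by
  classical
  refine ⟨fun h => ⟨fun x y hxy => ?_, surjective_closedPoint_component⟩, fun h ι U hU hcov => ?_⟩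
  · by_contra hne
    have hne' : x.1 ≠ y.1 := fun e => hne (Subtype.ext e)
    obtain ⟨n, V, hV, -, hVu, hVi⟩ := h (ULift.{u} Bool) (fun b => if b.down then {x.1}ᶜ else {y.1}ᶜ)
      (fun b => by rcases b with ⟨_ | _⟩ <;> simp [x.2, y.2])
      (eq_univ_of_forall fun q => mem_iUnion.2 (by
        by_cases hq : q = x.1
        · exact ⟨⟨false⟩, by simp [hq, hne']⟩
        · exact ⟨⟨true⟩, by simpa using hq⟩))
    obtain ⟨k, hk⟩ := mem_iUnion.1 (hVu.symm ▸ mem_univ x.1 : x.1 ∈ ⋃ k, V k)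
    have hyk := eq_of_isClopen_separated hxy (hV k) hk
    obtain ⟨⟨_ | _⟩, hb⟩ := hVi k
    · exact hb hyk rfl
    · exact hb hk rfl
  · have hloc : ∀ p : X, ∃ W : Set X, IsClopen W ∧ p ∈ W ∧ ∃ i, W ⊆ U i := by
      intro p
      obtain ⟨x, hx, hxc⟩ := exists_isClosed_singleton_mem isClosed_connectedComponent
        ⟨p, mem_connectedComponent⟩
      obtain ⟨i, hi⟩ := mem_iUnion.1 (hcov.symm ▸ mem_univ x : x ∈ ⋃ i, U i)
      have hsub : connectedComponent x ⊆ U i := fun q hq => by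
        by_contra hqU
        obtain ⟨x', ⟨hx'C, hx'U⟩, hx'c⟩ := exists_isClosed_singleton_mem
          (isClosed_connectedComponent.inter (hU i).isClosed_compl)
          (S := connectedComponent x ∩ (U i)ᶜ) ⟨q, hq, hqU⟩
        have e := h.1 (a₁ := ⟨x', hx'c⟩) (a₂ := ⟨x, hxc⟩)
          (ConnectedComponents.coe_eq_coe.2 (connectedComponent_eq hx'C).symm)
        exact hx'U ((show x' = x from congrArg Subtype.val e) ▸ hi)
      let κ := {W : Set X // IsClopen W ∧ x ∈ W}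
      have : Nonempty κ := ⟨⟨univ, isClopen_univ, trivial⟩⟩
      obtain ⟨W, hW⟩ := (hU i).isClosed_compl.isCompact.elim_directed_family_closed
        (fun W : κ => W.1) (fun W => W.2.1.1) (by
          refine eq_empty_iff_forall_notMem.2 fun q ⟨hq, hq'⟩ => ?_
          obtain ⟨W, hW, hxW, hqW⟩ := exists_isClopen_of_notMem_connectedComponent
            (x := x) (y := q) fun hqc => hq (hsub hqc)
          exact hqW (mem_iInter.1 hq' ⟨W, hW, hxW⟩))
        (fun W W' => ⟨⟨W.1 ∩ W'.1, W.2.1.inter W'.2.1, W.2.2, W'.2.2⟩,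
          inter_subset_left, inter_subset_right⟩)
      refine ⟨W.1, W.2.1, W.2.1.connectedComponent_subset W.2.2 ?_, i, fun q hq => ?_⟩
      · exact connectedComponent_eq hx ▸ mem_connectedComponent
      · by_contra hqU
        exact eq_empty_iff_forall_notMem.1 hW q ⟨hqU, hq⟩
    choose W hW hpW hWi using hloc
    obtain ⟨t, ht⟩ := isCompact_univ.elim_finite_subcover W (fun p => (hW p).2)
      (fun p _ => mem_iUnion.2 ⟨p, hpW p⟩)
    let g : Fin t.card → Set X := fun k => W (t.equivFin.symm k).1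
    refine ⟨t.card, fun k => g k ∩ ⋂ l : {l : Fin t.card // l < k}, (g l.1)ᶜ, fun k => ?_,
      fun k l hkl => ?_, ?_, fun k => ?_⟩
    · exact (hW _).inter (isClopen_iInter_of_finite fun l => (hW _).compl)
    · refine disjoint_left.2 fun q hk hl => ?_
      rcases lt_or_gt_of_ne hkl with hlt | hlt
      · exact mem_iInter.1 hl.2 ⟨k, hlt⟩ hk.1
      · exact mem_iInter.1 hk.2 ⟨l, hlt⟩ hl.1
    · refine eq_univ_of_forall fun q => ?_
      obtain ⟨p, hp, hq⟩ := mem_iUnion₂.1 (ht (mem_univ q))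
      have hex : ∃ k, q ∈ g k := ⟨t.equivFin ⟨p, hp⟩, by simpa [g] using hq⟩
      obtain ⟨k, hk, hmin⟩ := (Finset.univ.filter fun k => q ∈ g k).exists_min_image id
        (by simpa [Finset.filter_nonempty_iff] using hex)
      simp only [Finset.mem_filter, Finset.mem_univ, true_and] at hk hmin
      exact mem_iUnion.2 ⟨k, hk, mem_iInter.2 fun l hl => (hmin l.1 hl).not_gt l.2⟩
    · obtain ⟨i, hi⟩ := hWi (t.equivFin.symm k).1
      exact ⟨i, inter_subset_left.trans hi⟩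

/-- When closed points form a closed set and specializations are unique, closed points biject to
connected components. -/
theorem bijective_of_unique_specialization (h0 : IsClosed {x : X | IsClosed ({x} : Set X)})
    (huniq : ∀ x : X, ∃! z : X, IsClosed ({z} : Set X) ∧ x ⤳ z) :
    Function.Bijective (fun x : {x : X // IsClosed ({x} : Set X)} => _root_.ConnectedComponents.mk x.1) := by
  classical
  refine ⟨fun x y hxy => ?_, surjective_closedPoint_component⟩
  by_contra hne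
  let Z := {x : X | IsClosed ({x} : Set X)}
  have hne' : x.1 ≠ y.1 := fun e => hne (Subtype.ext e)
  obtain ⟨V, ⟨hVo, hVc⟩, hxV, hVy⟩ := PrespectralSpace.isTopologicalBasis.exists_subset_of_mem_open
    (show x.1 ∈ ({y.1}ᶜ : Set X) from hne') y.2.isOpen_compl
  have hcl : IsClosed (Z ∩ V) := by
    refine isClosed_of_closure_subset fun q hq => ?_
    have hcons : IsClosed[constructibleTopology X] (Z ∩ V) :=
      @IsClosed.inter X _ _ (constructibleTopology X)
        ((@isOpen_compl_iff X _ (constructibleTopology X)).1 (H8ProCons.isOpen_cons_of_isOpen h0.isOpen_compl))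
        ((@isOpen_compl_iff X _ (constructibleTopology X)).1 (H8ProCons.isOpen_cons_compl_of_isCompact hVo hVc))
    obtain ⟨p, hp, hpq⟩ := H8ProCons.exists_specializes_of_mem_closure hcons hq
    have : q ∈ ({p} : Set X) := hpq.mem_closed hp.1 rfl
    rwa [show q = p from this]
  have hconn : ∀ q : X, _root_.IsConnected (Z ∩ closure {q}) := fun q => by
    obtain ⟨z, ⟨hz, hqz⟩, hzu⟩ := huniq q
    have : Z ∩ closure {q} = {z} := Subset.antisymm
      (fun p hp => hzu p ⟨hp.1, specializes_iff_mem_closure.2 hp.2⟩)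
      (singleton_subset_iff.2 ⟨hz, hqz.mem_closure⟩)
    rw [this]
    exact isConnected_singleton
  obtain ⟨W, hW, hW1, -⟩ := exists_isClopen_inter_eq Z h0 hconn (Z ∩ V) (Z ∩ Vᶜ) hcl
    (h0.inter hVo.isClosed_compl) (disjoint_left.2 fun q h h' => h'.2 h.2)
    (by rw [← inter_union_distrib_left, union_compl_self, inter_univ])
  have hxW : x.1 ∈ W := ((Set.ext_iff.1 hW1 x.1).2 ⟨x.2, hxV⟩).2
  exact hVy (((Set.ext_iff.1 hW1 y.1).1 ⟨y.2, eq_of_isClopen_separated hxy hW hxW⟩).2) rfl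

end Groth.Agent.Et18.SpectralClopen
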