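import Groth.Agent.Et18.SheafPullSet
import Groth.Agent.H8ProCons.ConsTopology
import Mathlib.Topology.Spectral.Basic
import Mathlib.Topology.LocallyConstant.Basic

/-!
# Restriction of sections to a closed subset meeting every closure in a connected set
-/

set_option autoImplicit false

universe u

open CategoryTheory CategoryTheory.Limits Opposite TopologicalSpace Topology

namespace Groth.Agent.Et18.SpectralRestrict

open SheafPullSet

variable {X : TopCat.{u}}

/-- In a spectral space a point of `⋂` over compact opens containing a compact set generalizes a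
point of it. -/
theorem exists_specializes {S : Set X} [PrespectralSpace X] (hS : IsCompact S) {y : X}
    (hy : ∀ W : Set X, IsOpen W → IsCompact W → S ⊆ W → y ∈ W) : ∃ z ∈ S, y ⤳ z := by
  by_contra h
  push Not at h
  have hW : ∀ z : S, ∃ W : Set X, (IsOpen W ∧ IsCompact W) ∧ (z : X) ∈ W ∧ y ∉ W := by
    intro z
    have hz := h z.1 z.2
    rw [specializes_iff_forall_open] at hz
    push Not at hz
    obtain ⟨U, hU, hzU, hyU⟩ := hz
    obtain ⟨W, hW, hzW, hWU⟩ := PrespectralSpace.isTopologicalBasis.exists_subset_of_mem_open hzU hU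
    exact ⟨W, hW, hzW, fun h' => hyU (hWU h')⟩
  choose W hW hzW hyW using hW
  obtain ⟨t, ht⟩ := hS.elim_finite_subcover W (fun z => (hW z).1)
    (fun z hz => Set.mem_iUnion.2 ⟨⟨z, hz⟩, hzW ⟨z, hz⟩⟩)
  have := hy _ (isOpen_biUnion fun z _ => (hW z).1)
    (t.finite_toSet.isCompact_biUnion fun z _ => (hW z).2) ht
  obtain ⟨z, -, hz⟩ := Set.mem_iUnion₂.1 this
  exact hyW z hz

set_option maxHeartbeats 800000 in
theorem bijective_restrict [SpectralSpace X] (Z : Set X) (hZ : IsClosed Z)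
    (hconn : ∀ x : X, IsConnected (Z ∩ closure {x})) (F : TopCat.Sheaf (Type u) X) :
    Function.Bijective ((unit (TopCat.ofHom ⟨(Subtype.val : Z → X), continuous_subtype_val⟩) F).hom.app
      (op ⊤)) := by
  classical
  let g : TopCat.of Z ⟶ X := TopCat.ofHom ⟨(Subtype.val : Z → X), continuous_subtype_val⟩
  have hsp : ∀ {x z : X}, z ∈ closure ({x} : Set X) → x ⤳ z := fun h =>
    specializes_iff_mem_closure.2 h
  refine ⟨fun t t' htt' => ?_, fun ξ => ?_⟩
  · refine TopCat.Presheaf.section_ext F ⊤ t t' fun x _ => ?_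
    obtain ⟨z, hzZ, hzx⟩ := (hconn x).1
    have h1 : TopCat.Presheaf.germ F.obj ⊤ z trivial t = TopCat.Presheaf.germ F.obj ⊤ z trivial t' := by
      refine (bijective_germMap g F ⟨z, hzZ⟩).1 ?_
      refine (germMap_germ g F (z := ⟨z, hzZ⟩) (U := ⊤) trivial t).trans
        ((congrArg _ htt').trans (germMap_germ g F (z := ⟨z, hzZ⟩) (U := ⊤) trivial t').symm)
    have h2 := congrArg (TopCat.Presheaf.stalkSpecializes F.obj (hsp hzx)) h1
    exact (TopCat.Presheaf.germ_stalkSpecializes_apply F.obj (U := ⊤) (y := z) trivial (hsp hzx) t).symm.trans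
      (h2.trans (TopCat.Presheaf.germ_stalkSpecializes_apply F.obj (U := ⊤) (y := z) trivial (hsp hzx) t'))
  -- germs along `Z`
  let G := (TopCat.Sheaf.pullback (Type u) g).obj F
  choose e he using fun z : Z =>
    (bijective_germMap g F z).2 (TopCat.Presheaf.germ G.obj ((Opens.map g).obj ⊤) z trivial ξ)
  have hloc : ∀ z : Z, ∃ (V : Opens X) (t : F.obj.obj (op V)), (z : X) ∈ V ∧ IsCompact (V : Set X) ∧
      ∀ (z' : Z) (h : (z' : X) ∈ V), e z' = TopCat.Presheaf.germ F.obj V (z' : X) h t := by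
    intro z
    obtain ⟨U, W', hW, hW', t, hzW', heq⟩ := exists_local g F ξ (z := z) trivial
    obtain ⟨O, hO, hOW⟩ := isOpen_induced_iff.1 W'.2
    have hzO : (z : X) ∈ O ∩ U := ⟨by
      have : z ∈ Subtype.val ⁻¹' O := hOW ▸ hzW'
      exact this, hW' hzW'⟩
    obtain ⟨V, ⟨hVo, hVc⟩, hzV, hVsub⟩ :=
      PrespectralSpace.isTopologicalBasis.exists_subset_of_mem_open hzO (hO.inter U.2)
    let V' : Opens X := ⟨V, hVo⟩
    have hle : V' ≤ U := fun a ha => (hVsub ha).2
    refine ⟨V', F.obj.map (homOfLE hle).op t, hzV, hVc, fun z' hz' => ?_⟩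
    have hz'W : z' ∈ W' := by
      have : z' ∈ Subtype.val ⁻¹' O := (hVsub hz').1
      rw [hOW] at this
      exact this
    refine (bijective_germMap g F z').1 ?_
    rw [he z', TopCat.Presheaf.germ_res_apply]
    refine Eq.trans ?_ (germMap_germ g F (U := U) (z := z') (hle hz') t).symm
    refine ((TopCat.Presheaf.germ_res_apply G.obj (homOfLE hW) z' hz'W ξ).symm.trans ?_)
    exact (congrArg _ heq).trans (TopCat.Presheaf.germ_res_apply G.obj (homOfLE hW') z' hz'W _)
  choose V t hzV hVc hVe using hloc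
  -- the common value along `Z ∩ closure {x}`
  have hdom : ∀ (x : X) (k : Z) (z : Z) (_ : (z : X) ∈ closure ({x} : Set X)), (z : X) ∈ V k → x ∈ V k :=
    fun x k z hz hzk => (hsp hz).mem_open (V k).2 hzk
  let v : ∀ (x : X) (z : Z), (z : X) ∈ closure ({x} : Set X) → TopCat.Presheaf.stalk F.obj x :=
    fun x z hz => TopCat.Presheaf.stalkSpecializes F.obj (hsp hz) (e z)
  have hv : ∀ (x : X) (k z : Z) (hz : (z : X) ∈ closure ({x} : Set X)) (hzk : (z : X) ∈ V k),
      v x z hz = TopCat.Presheaf.germ F.obj (V k) x (hdom x k z hz hzk) (t k) := fun x k z hz hzk => by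
    simp only [v, hVe k z hzk, TopCat.Presheaf.germ_stalkSpecializes_apply]
  have hconst : ∀ (x : X) (z z' : Z) (hz : (z : X) ∈ closure ({x} : Set X))
      (hz' : (z' : X) ∈ closure ({x} : Set X)), v x z hz = v x z' hz' := by
    intro x z z' hz hz'
    have : PreconnectedSpace ↥(Z ∩ closure ({x} : Set X)) :=
      isPreconnected_iff_preconnectedSpace.1 (hconn x).2
    let f : ↥(Z ∩ closure ({x} : Set X)) → TopCat.Presheaf.stalk F.obj x := fun w => v x ⟨w.1, w.2.1⟩ w.2.2
    have hf : IsLocallyConstant f := by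
      refine (IsLocallyConstant.iff_exists_open f).2 fun w => ?_
      refine ⟨Subtype.val ⁻¹' (V ⟨w.1, w.2.1⟩ : Set X), (V _).2.preimage continuous_subtype_val,
        hzV ⟨w.1, w.2.1⟩, fun w' hw' => ?_⟩
      exact (hv x ⟨w.1, w.2.1⟩ ⟨w'.1, w'.2.1⟩ w'.2.2 hw').trans (hv x ⟨w.1, w.2.1⟩ ⟨w.1, w.2.1⟩ w.2.2 (hzV _)).symm
    exact hf.apply_eq_of_preconnectedSpace ⟨z.1, z.2, hz⟩ ⟨z'.1, z'.2, hz'⟩
  choose p hpZ hpx using fun x : X => (hconn x).1
  let σ : ∀ x : X, TopCat.Presheaf.stalk F.obj x := fun x => v x ⟨p x, hpZ x⟩ (hpx x)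
  have hσ : ∀ (x : X) (k z : Z) (hz : (z : X) ∈ closure ({x} : Set X)) (hzk : (z : X) ∈ V k),
      σ x = TopCat.Presheaf.germ F.obj (V k) x (hdom x k z hz hzk) (t k) :=
    fun x k z hz hzk => (hconst x _ z (hpx x) hz).trans (hv x k z hz hzk)
  -- the values form a section
  have hZc : IsCompact Z := hZ.isCompact
  obtain ⟨s, hs⟩ := hZc.elim_finite_subcover (fun k : Z => (V k : Set X)) (fun k => (V k).2)
    fun z hz => Set.mem_iUnion.2 ⟨⟨z, hz⟩, hzV ⟨z, hz⟩⟩
  have key : ∀ (x : X) (k : Z) (z : Z) (hz : (z : X) ∈ closure ({x} : Set X)) (_ : (z : X) ∈ V k) (l : Z),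
      ∃ N : Set X, IsOpen N ∧ x ∈ N ∧ ∀ y ∈ N, ∀ (hyk : y ∈ V k) (z' : Z),
        (z' : X) ∈ closure ({y} : Set X) → (z' : X) ∈ V l →
        σ y = TopCat.Presheaf.germ F.obj (V k) y hyk (t k) := by
    intro x k z hz hzk l
    by_contra hbad
    push Not at hbad
    let E : Set X := {y | ∃ (hk : y ∈ V k) (hl : y ∈ V l),
      TopCat.Presheaf.germ F.obj (V k) y hk (t k) = TopCat.Presheaf.germ F.obj (V l) y hl (t l)}
    have hE : IsOpen E := by
      refine isOpen_iff_forall_mem_open.2 ?_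
      rintro y ⟨hk, hl, hy⟩
      obtain ⟨O, hyO, i, j, hij⟩ := TopCat.Presheaf.germ_eq F.obj y hk hl _ _ hy
      refine ⟨O, fun y' hy' => ⟨i.le hy', j.le hy', ?_⟩, O.2, hyO⟩
      rw [← TopCat.Presheaf.germ_res_apply F.obj i y' hy', hij, TopCat.Presheaf.germ_res_apply]
    let ι₀ := {N : Set X // IsOpen N ∧ IsCompact N ∧ x ∈ N} ⊕
      {W : Set X // IsOpen W ∧ IsCompact W ∧ Z ∩ (V l : Set X) ⊆ W}
    let Cl : ι₀ → Set X := Sum.elim Subtype.val Subtype.val
    let S₀ : Set X := ((V k : Set X) ∩ V l) ∩ Eᶜ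
    have hclosed : ∀ C : Set X, IsOpen C → IsCompact C → IsClosed[constructibleTopology X] C :=
      fun C hC hCc => (@isOpen_compl_iff X C (constructibleTopology X)).1
        (H8ProCons.isOpen_cons_compl_of_isCompact hC hCc)
    have hS₀ : IsClosed[constructibleTopology X] S₀ :=
      @IsClosed.inter X _ _ (constructibleTopology X)
        (@IsClosed.inter X _ _ (constructibleTopology X) (hclosed _ (V k).2 (hVc k)) (hclosed _ (V l).2 (hVc l)))
        (@IsOpen.isClosed_compl X (constructibleTopology X) _ (H8ProCons.isOpen_cons_of_isOpen hE))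
    have hcpt : @IsCompact X (constructibleTopology X) S₀ := by
      have hc : @CompactSpace X (constructibleTopology X) :=
        @Function.Surjective.compactSpace _ _ _ (constructibleTopology X) _
          (WithTopology.continuous_ofTopology (constructibleTopology X)) _
          (WithTopology.ofTopology_surjective _)
      exact @IsClosed.isCompact X (constructibleTopology X) _ hc hS₀
    have hfip : ∀ u : Finset ι₀, (S₀ ∩ ⋂ i ∈ u, Cl i).Nonempty := by
      intro u
      let N₀ : Set X := (V k : Set X) ∩ ⋂ i ∈ u, (Sum.elim Subtype.val (fun _ => Set.univ) i : Set X)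
      have hN₀o : IsOpen N₀ := (V k).2.inter (isOpen_biInter_finset fun i _ => by
        cases i with
        | inl a => exact a.2.1
        | inr _ => exact isOpen_univ)
      have hxN₀ : x ∈ N₀ := ⟨hdom x k z hz hzk, Set.mem_iInter₂.2 fun i _ => by
        cases i with
        | inl a => exact a.2.2.2
        | inr _ => trivial⟩
      obtain ⟨y, hyN, hyk, z', hz'y, hz'l, hne⟩ := hbad N₀ hN₀o hxN₀
      have hyl : y ∈ V l := hdom y l z' hz'y hz'l
      refine ⟨y, ⟨⟨hyk, hyl⟩, fun ⟨_, _, h⟩ => hne ((hσ y l z' hz'y hz'l).trans h.symm)⟩,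
        Set.mem_iInter₂.2 fun i hi => ?_⟩
      cases i with
      | inl a => exact Set.mem_iInter₂.1 hyN.2 (Sum.inl a) hi
      | inr b => exact (hsp hz'y).mem_open b.2.1 (b.2.2.2 ⟨z'.2, hz'l⟩)
    obtain ⟨y, hy₀, hy⟩ : (S₀ ∩ ⋂ i, Cl i).Nonempty := by
      refine @IsCompact.inter_iInter_nonempty X (constructibleTopology X) _ ι₀ hcpt Cl (fun i => ?_) hfip
      cases i with
      | inl a => exact hclosed _ a.2.1 a.2.2.1
      | inr b => exact hclosed _ b.2.1 b.2.2.1
    have hy := Set.mem_iInter.1 hy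
    have hyx : y ⤳ x := specializes_iff_forall_open.2 fun O hO hxO => by
      obtain ⟨N, hN, hxN, hNO⟩ := PrespectralSpace.isTopologicalBasis.exists_subset_of_mem_open hxO hO
      exact hNO (hy (Sum.inl ⟨N, hN.1, hN.2, hxN⟩))
    obtain ⟨z', hz'S, hyz'⟩ := exists_specializes ((hVc l).inter_left hZ) (y := y)
      fun W hWo hWc hWs => hy (Sum.inr ⟨W, hWo, hWc, hWs⟩)
    refine hy₀.2 ⟨hy₀.1.1, hy₀.1.2, ?_⟩
    exact (hσ y k z ((hyx.trans (hsp hz)).mem_closure) hzk).symm.trans
      (hσ y l ⟨z', hz'S.1⟩ hyz'.mem_closure hz'S.2)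
  choose q hqs hqV using fun x : X => Set.mem_iUnion₂.1 (hs (hpZ x))
  choose N hNo hxN hN using fun x : X => fun l : Z =>
    key x (q x) ⟨p x, hpZ x⟩ (hpx x) (hqV x) l
  let M : X → Opens X := fun x => ⟨(V (q x) : Set X) ∩ ⋂ l ∈ s, N x l,
    (V (q x)).2.inter (isOpen_biInter_finset fun l _ => hNo x l)⟩
  have hMle : ∀ x, M x ≤ V (q x) := fun x y hy => hy.1
  have hMσ : ∀ x y (hy : y ∈ M x),
      σ y = TopCat.Presheaf.germ F.obj (V (q x)) y (hMle x hy) (t (q x)) := fun x y hy =>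
    hN x (q y) y (Set.mem_iInter₂.1 hy.2 (q y) (hqs y)) _ ⟨p y, hpZ y⟩ (hpx y) (hqV y)
  obtain ⟨T, hT, -⟩ := TopCat.Sheaf.existsUnique_gluing' F M ⊤ (fun x => homOfLE le_top)
    (fun x _ => Opens.mem_iSup.2 ⟨x, ⟨hdom x (q x) ⟨p x, hpZ x⟩ (hpx x) (hqV x),
      Set.mem_iInter₂.2 fun l _ => hxN x l⟩⟩)
    (fun x => F.obj.map (homOfLE (hMle x)).op (t (q x))) (fun x x' => by
      refine TopCat.Presheaf.section_ext F _ _ _ fun y hy => ?_
      simp only [TopCat.Presheaf.germ_res_apply]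
      exact (hMσ x y hy.1).symm.trans (hMσ x' y hy.2))
  refine ⟨T, ?_⟩
  refine TopCat.Presheaf.section_ext G _ _ _ fun z _ => ?_
  refine (germMap_germ g F (U := ⊤) trivial T).symm.trans ?_
  refine Eq.trans ?_ (he z)
  congr 1
  have hzM : (z : X) ∈ M z := ⟨hdom z (q z) ⟨p z, hpZ z⟩ (hpx z) (hqV z),
    Set.mem_iInter₂.2 fun l _ => hxN z l⟩
  refine (TopCat.Presheaf.germ_res_apply F.obj (homOfLE (le_top : M z ≤ ⊤)) z hzM T).symm.trans ?_
  refine (congrArg _ (hT (z : X))).trans ?_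
  refine (TopCat.Presheaf.germ_res_apply F.obj _ _ hzM _).trans ?_
  rw [← hMσ z z hzM]
  have hzz : (z : X) ∈ closure ({(z : X)} : Set X) := subset_closure rfl
  rw [hσ z z z hzz (hzV z), hVe z z (hzV z)]

end Groth.Agent.Et18.SpectralRestrict
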