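import Groth.Agent.Et18.FLC
import Groth.Agent.H8Top.General
import Groth.Agent.H8Lim.Constructible
import Groth.Prelude.Def_PBC
import Mathlib.AlgebraicGeometry.Morphisms.Immersion
import Mathlib.AlgebraicGeometry.IdealSheaf.Subscheme

/-!
# Stratifications adapted to finite locally constant sheaves
-/

universe u

open CategoryTheory CategoryTheory.Limits AlgebraicGeometry Opposite Topology

set_option backward.isDefEq.respectTransparency.types false
set_option backward.isDefEq.respectTransparency false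

namespace Groth.Agent.Et18

variable {X Y : Scheme.{u}}

/-- A finite partition of `S` into locally constructible subschemes along which `F` becomes finite
locally constant. -/
def Stratified (F : EtCoh.Ab X) (S : Set X) : Prop :=
  ∃ (ι : Type) (_ : Finite ι) (T : ι → Scheme.{u}) (g : ∀ i, T i ⟶ X),
    (∀ i, IsImmersion (g i)) ∧ (∀ i, IsLocallyConstructible (Set.range (g i))) ∧
      Pairwise (fun i j => Disjoint (Set.range (g i)) (Set.range (g j))) ∧
      (⋃ i, Set.range (g i)) = S ∧
      ∀ i, EtCoh.IsFiniteLocallyConstant ((EtCoh.pull (g i)).obj F)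

/-- Locally closed subsets underlie subschemes. -/
lemma exists_immersion_range {T : Scheme.{u}} {L : Set T} (hL : IsLocallyClosed L) :
    ∃ (T' : Scheme.{u}) (h : T' ⟶ T), IsImmersion h ∧ Set.range h = L := by
  obtain ⟨O, C, hO, hC, rfl⟩ := hL
  let O' : T.Opens := ⟨O, hO⟩
  let Z : TopologicalSpace.Closeds (O'.toScheme) := ⟨O'.ι ⁻¹' C, hC.preimage O'.ι.continuous⟩
  refine ⟨_, (Scheme.IdealSheafData.vanishingIdeal Z).subschemeι ≫ O'.ι, inferInstance, ?_⟩
  rw [Scheme.Hom.comp_base, TopCat.coe_comp, Set.range_comp, Scheme.IdealSheafData.range_subschemeι,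
    Scheme.IdealSheafData.coe_support_vanishingIdeal]
  show O'.ι '' (O'.ι ⁻¹' C) = O ∩ C
  rw [Set.image_preimage_eq_inter_range, Scheme.Opens.range_ι, Set.inter_comm]
  rfl

lemma isFLC_pull_comp {Z : Scheme.{u}} {F : EtCoh.Ab X} {g : Y ⟶ X}
    (h : EtCoh.IsFiniteLocallyConstant ((EtCoh.pull g).obj F)) (k : Z ⟶ Y) :
    EtCoh.IsFiniteLocallyConstant ((EtCoh.pull (k ≫ g)).obj F) :=
  isFLC_of_iso (isFLC_pull h k) ((EtCore.pullComp k g).app F).symm

lemma Stratified.of_iso {F G : EtCoh.Ab X} {S : Set X} (h : Stratified F S) (e : F ≅ G) :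
    Stratified G S := by
  obtain ⟨ι, hι, T, g, hg, hc, hd, hu, hF⟩ := h
  exact ⟨ι, hι, T, g, hg, hc, hd, hu, fun i => isFLC_of_iso (hF i) ((EtCoh.pull (g i)).mapIso e)⟩

lemma Stratified.isLocallyConstructible {F : EtCoh.Ab X} {S : Set X} (h : Stratified F S) :
    IsLocallyConstructible S := by
  obtain ⟨ι, hι, T, g, hg, hc, hd, hu, hF⟩ := h
  exact hu ▸ IsLocallyConstructible.iUnion hc

/-- Restriction of a stratification to a locally closed piece. -/
lemma Stratified.inter {F : EtCoh.Ab X} {S : Set X} (h : Stratified F S) {L : Set X}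
    (hL : IsLocallyClosed L) (hLc : IsLocallyConstructible L) : Stratified F (S ∩ L) := by
  obtain ⟨ι, hι, T, g, hg, hc, hd, rfl, hF⟩ := h
  choose T' k hk hr using fun i => exists_immersion_range (hL.preimage (g i).continuous)
  have hr' : ∀ i, Set.range (k i ≫ g i) = Set.range (g i) ∩ L := fun i => by
    rw [Scheme.Hom.comp_base, TopCat.coe_comp, Set.range_comp, hr, Set.image_preimage_eq_inter_range,
      Set.inter_comm]
  refine ⟨ι, hι, T', fun i => k i ≫ g i, fun i => inferInstance, fun i => ?_, fun i j hij => ?_, ?_,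
    fun i => isFLC_pull_comp (hF i) (k i)⟩
  · rw [hr']; exact (hc i).inter hLc
  · show Disjoint (Set.range (k i ≫ g i)) (Set.range (k j ≫ g j))
    rw [hr', hr']
    exact (hd hij).mono Set.inter_subset_left Set.inter_subset_left
  · simp only [hr', Set.iUnion_inter]

/-- Inverse image of a stratification. -/
lemma Stratified.pull {F : EtCoh.Ab Y} {S : Set Y} (h : Stratified F S) (f : X ⟶ Y) :
    Stratified ((EtCoh.pull f).obj F) (f ⁻¹' S) := by
  obtain ⟨ι, hι, T, g, hg, hc, hd, rfl, hF⟩ := h
  have hr : ∀ i, Set.range (pullback.fst f (g i)) = f ⁻¹' Set.range (g i) := fun i =>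
    Scheme.Pullback.range_fst f (g i)
  refine ⟨ι, hι, fun i => pullback f (g i), fun i => pullback.fst f (g i), fun i => inferInstance,
    fun i => ?_, fun i j hij => ?_, ?_, fun i => ?_⟩
  · rw [hr]; exact H8Lim.isLocallyConstructible_preimage f (hc i)
  · show Disjoint (Set.range (pullback.fst f (g i))) (Set.range (pullback.fst f (g j)))
    rw [hr, hr]
    exact (hd hij).preimage f
  · simp only [hr, Set.preimage_iUnion]
  · exact isFLC_of_iso (isFLC_pull_comp (hF i) (pullback.snd f (g i)))
      ((EtCore.pullCongr pullback.condition.symm).app F ≪≫ (EtCore.pullComp _ f).app F)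

/-- Disjoint unions of stratifications. -/
lemma Stratified.iUnion {F : EtCoh.Ab X} {κ : Type} [Finite κ] {S : κ → Set X}
    (hd : Pairwise (fun i j => Disjoint (S i) (S j))) (h : ∀ k, Stratified F (S k)) :
    Stratified F (⋃ k, S k) := by
  choose ι hι T g hg hc hdd hu hF using h
  refine ⟨Σ k, ι k, inferInstance, fun p => T p.1 p.2, fun p => g p.1 p.2, fun p => hg _ _,
    fun p => hc _ _, ?_, ?_, fun p => hF _ _⟩
  · rintro ⟨k, i⟩ ⟨k', i'⟩ hne
    by_cases hk : k = k'
    · subst hk
      exact hdd k fun (e : i = i') => hne (congrArg (Sigma.mk k) e)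
    · exact (hd hk).mono ((Set.subset_iUnion (fun i => Set.range (g k i)) i).trans_eq (hu k))
        ((Set.subset_iUnion (fun i => Set.range (g k' i)) i').trans_eq (hu k'))
  · rw [Set.iUnion_sigma]
    exact Set.iUnion_congr hu

/-- In a qcqs scheme, the image of a locally constructible set under an immersion with
constructible image is locally constructible. -/
lemma isLocallyConstructible_image [CompactSpace X] [QuasiSeparatedSpace X] {T : Scheme.{u}}
    (g : T ⟶ X) [IsImmersion g] (hg : IsLocallyConstructible (Set.range g)) {L : Set T}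
    (hL : IsLocallyConstructible L) : IsLocallyConstructible (g '' L) := by
  have hgc : IsConstructible (Set.range g) := hg.isConstructible
  haveI : CompactSpace T := ⟨by
    rw [g.isEmbedding.isCompact_iff, Set.image_univ]
    exact H8Lim.isCompact_of_isLocallyConstructible hg⟩
  haveI : QuasiSeparatedSpace T := quasiSeparatedSpace_of_quasiSeparated g
  let e : T ≃ₜ Set.range g := g.isEmbedding.toHomeomorph
  have h1 : IsConstructible (e.symm ⁻¹' L) :=
    hL.isConstructible.preimage_of_isOpenEmbedding e.symm.isOpenEmbedding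
  have h2 : g '' L = Subtype.val '' (e.symm ⁻¹' L) := by
    rw [← e.image_eq_preimage_symm, ← Set.image_comp]
    rfl
  rw [h2]
  exact (H8Top.isConstructible_image_val hgc h1).isLocallyConstructible

/-- Pushing a stratification forward along an immersion with constructible image. -/
lemma Stratified.image [CompactSpace X] [QuasiSeparatedSpace X] {T : Scheme.{u}} (g : T ⟶ X)
    [IsImmersion g] (hg : IsLocallyConstructible (Set.range g)) {F : EtCoh.Ab X} {S : Set T}
    (h : Stratified ((EtCoh.pull g).obj F) S) : Stratified F (g '' S) := by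
  obtain ⟨ι, hι, W, k, hk, hc, hd, rfl, hF⟩ := h
  have hr : ∀ i, Set.range (k i ≫ g) = g '' Set.range (k i) := fun i => by
    rw [Scheme.Hom.comp_base, TopCat.coe_comp, Set.range_comp]
  refine ⟨ι, hι, W, fun i => k i ≫ g, fun i => inferInstance, fun i => ?_, fun i j hij => ?_, ?_,
    fun i => isFLC_of_iso (hF i) ((EtCore.pullComp (k i) g).app F).symm⟩
  · rw [hr]; exact isLocallyConstructible_image g hg (hc i)
  · show Disjoint (Set.range (k i ≫ g)) (Set.range (k j ≫ g))
    rw [hr, hr]
    exact Set.disjoint_image_of_injective g.isEmbedding.injective (hd hij)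
  · simp only [hr, Set.image_iUnion]

lemma isLocallyConstructible_range_opens [CompactSpace X] [QuasiSeparatedSpace X] (U : X.Opens)
    (hU : IsCompact (U : Set X)) : IsLocallyConstructible (Set.range U.ι) := by
  rw [Scheme.Opens.range_ι]
  exact (hU.isConstructible U.2).isLocallyConstructible

/-- Stratifications glue along finite coverings by quasi-compact opens. -/
theorem stratified_of_openCover [CompactSpace X] [QuasiSeparatedSpace X] {F : EtCoh.Ab X} {n : ℕ}
    (U : Fin n → X.Opens) (hU : ∀ k, IsCompact (U k : Set X)) (hcov : (⋃ k, (U k : Set X)) = Set.univ)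
    (h : ∀ k, Stratified ((EtCoh.pull (U k).ι).obj F) Set.univ) : Stratified F Set.univ := by
  classical
  let D : Fin n → Set X := fun k => (⋃ j : {j // j < k}, (U j.1 : Set X))ᶜ
  have hD : ∀ k, IsClosed (D k) ∧ IsLocallyConstructible (D k) := fun k =>
    ⟨(isOpen_iUnion fun j : {j // j < k} => (U j.1).2).isClosed_compl,
      H8Lim.isLocallyConstructible_compl (IsLocallyConstructible.iUnion fun j : {j // j < k} =>
        ((hU j.1).isConstructible (U j.1).2).isLocallyConstructible)⟩
  have key : ∀ k, Stratified F ((U k : Set X) ∩ D k) := fun k => by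
    have := (h k).image (U k).ι (isLocallyConstructible_range_opens _ (hU k))
    rw [Set.image_univ, Scheme.Opens.range_ι] at this
    exact this.inter (hD k).1.isLocallyClosed (hD k).2
  have hdis : Pairwise (fun i j => Disjoint ((U i : Set X) ∩ D i) ((U j : Set X) ∩ D j)) := by
    have aux : ∀ i j, i < j → Disjoint ((U i : Set X) ∩ D i) ((U j : Set X) ∩ D j) :=
      fun i j hij => Set.disjoint_left.mpr fun x hx hx' =>
        hx'.2 (Set.mem_iUnion.mpr ⟨⟨i, hij⟩, hx.1⟩)
    intro i j hij
    exact (lt_or_gt_of_ne hij).elim (aux i j) fun h => (aux j i h).symm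
  have := Stratified.iUnion hdis key
  convert this using 1
  refine (Set.eq_univ_of_forall fun x => ?_).symm
  have hx : ∃ k, x ∈ (U k : Set X) := Set.mem_iUnion.mp (hcov ▸ Set.mem_univ x)
  refine Set.mem_iUnion.mpr ⟨Fin.find _ hx, Fin.find_spec hx, fun hx' => ?_⟩
  obtain ⟨⟨j, hj⟩, hxj⟩ := Set.mem_iUnion.mp hx'
  exact Fin.find_min hx hj hxj

/-- Adapted strata of a quasi-compact quasi-separated open are stratifications of the open
subscheme. -/
theorem adaptedStrata_iff (F : EtCoh.Ab X) (U : X.Opens) [CompactSpace U.toScheme]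
    [QuasiSeparatedSpace U.toScheme] :
    EtPBC.AdaptedStrata F (U : Set X) ↔ Stratified ((EtCoh.pull U.ι).obj F) Set.univ := by
  constructor
  · rintro ⟨n, T, g, hg, hc, hd, hu, hF⟩
    have hsub : ∀ i, Set.range (g i) ⊆ Set.range U.ι := fun i => by
      rw [Scheme.Opens.range_ι, ← hu]
      exact Set.subset_iUnion (fun i => Set.range (g i)) i
    let k : ∀ i, T i ⟶ U.toScheme := fun i => IsOpenImmersion.lift U.ι (g i) (hsub i)
    have hk : ∀ i, k i ≫ U.ι = g i := fun i => IsOpenImmersion.lift_fac _ _ _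
    have hr : ∀ i, Set.range (k i) = U.ι ⁻¹' Set.range (g i) := fun i => by
      rw [← hk i, Scheme.Hom.comp_base, TopCat.coe_comp, Set.range_comp,
        Set.preimage_image_eq _ U.ι.isOpenEmbedding.injective]
    refine ⟨Fin n, inferInstance, T, k, fun i => ?_, fun i => ?_, fun i j hij => ?_, ?_, fun i => ?_⟩
    · haveI : IsImmersion (k i ≫ U.ι) := (hk i).symm ▸ hg i
      exact IsImmersion.of_comp (k i) U.ι
    · rw [hr]; exact (hc i).isLocallyConstructible
    · show Disjoint (Set.range (k i)) (Set.range (k j))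
      rw [hr, hr]; exact (hd hij).preimage U.ι
    · simp only [hr, ← Set.preimage_iUnion, hu]
      exact Set.eq_univ_of_forall fun x => x.2
    · exact isFLC_of_iso (@hF i (EtCoh.bcCont _))
        ((EtCore.pullCongr (hk i).symm).app F ≪≫ (EtCore.pullComp (k i) U.ι).app F)
  · rintro ⟨ι, hι, T, g, hg, hc, hd, hu, hF⟩
    obtain ⟨n, ⟨e⟩⟩ := Finite.exists_equiv_fin ι
    have hr : ∀ i, Set.range (g i ≫ U.ι) = U.ι '' Set.range (g i) := fun i => by
      rw [Scheme.Hom.comp_base, TopCat.coe_comp, Set.range_comp]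
    refine ⟨n, fun m => T (e.symm m), fun m => g (e.symm m) ≫ U.ι, fun m => inferInstance,
      fun m => ?_, fun m m' hm => ?_, ?_, fun m => ?_⟩
    · rw [hr]
      have hsub := (Set.preimage_image_eq (Set.range (g (e.symm m))) U.ι.isOpenEmbedding.injective).symm
      exact hsub ▸ (hc (e.symm m)).isConstructible
    · show Disjoint (Set.range (g (e.symm m) ≫ U.ι)) (Set.range (g (e.symm m') ≫ U.ι))
      rw [hr, hr]
      exact Set.disjoint_image_of_injective U.ι.isOpenEmbedding.injective
        (hd (e.symm.injective.ne hm))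
    · rw [Function.Surjective.iUnion_comp e.symm.surjective (fun i => Set.range (g i ≫ U.ι))]
      simp only [hr, ← Set.image_iUnion, hu, Set.image_univ, Scheme.Opens.range_ι]
    · intro _
      exact isFLC_of_iso (hF _) ((EtCore.pullComp _ U.ι).app F).symm

lemma qcqs_of_isAffineOpen {U : X.Opens} (hU : IsAffineOpen U) :
    CompactSpace U.toScheme ∧ QuasiSeparatedSpace U.toScheme := by
  haveI : IsAffine U.toScheme := hU
  exact ⟨inferInstance, inferInstance⟩

/-- Constructibility by stratifications of the affine opens. -/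
theorem isConstructible_iff_affine (F : EtCoh.Ab X) :
    EtPBC.IsConstructible F ↔
      ∀ U : X.Opens, IsAffineOpen U → Stratified ((EtCoh.pull U.ι).obj F) Set.univ := by
  refine forall_congr' fun U => forall_congr' fun hU => ?_
  have := (qcqs_of_isAffineOpen hU).1
  have := (qcqs_of_isAffineOpen hU).2
  exact adaptedStrata_iff F U

lemma exists_finite_affine_cover (X : Scheme.{u}) [CompactSpace X] :
    ∃ (n : ℕ) (U : Fin n → X.Opens), (∀ k, IsAffineOpen (U k)) ∧ (⋃ k, (U k : Set X)) = Set.univ := by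
  obtain ⟨t, ht⟩ := isCompact_univ.elim_finite_subcover (fun U : X.affineOpens => (U.1 : Set X))
    (fun U => U.1.2) (fun x _ => by
      obtain ⟨_, ⟨V, hV, rfl⟩, hxV, -⟩ := X.isBasis_affineOpens.exists_subset_of_mem_open
        (Set.mem_univ x) isOpen_univ
      exact Set.mem_iUnion.mpr ⟨⟨V, hV⟩, hxV⟩)
  refine ⟨t.card, fun k => (t.equivFin.symm k).1.1, fun k => (t.equivFin.symm k).1.2,
    Set.eq_univ_of_forall fun x => ?_⟩
  obtain ⟨V, hV, hxV⟩ := Set.mem_iUnion₂.mp (ht (Set.mem_univ x))
  exact Set.mem_iUnion.mpr ⟨t.equivFin ⟨V, hV⟩, by simpa using hxV⟩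

/-- On a qcqs scheme, constructible sheaves are the stratified ones. -/
theorem isConstructible_iff_stratified [CompactSpace X] [QuasiSeparatedSpace X] (F : EtCoh.Ab X) :
    EtPBC.IsConstructible F ↔ Stratified F Set.univ := by
  rw [isConstructible_iff_affine]
  refine ⟨fun h => ?_, fun h U _ => h.pull U.ι⟩
  obtain ⟨n, U, hU, hcov⟩ := exists_finite_affine_cover X
  exact stratified_of_openCover U (fun k => (hU k).isCompact) hcov fun k => h _ (hU k)

/-- Constructibility is local. -/
theorem isConstructible_of_cover {F : EtCoh.Ab X} {ι : Type*} (U : ι → X.Opens)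
    (hU : ∀ x : X, ∃ i, x ∈ U i) (h : ∀ i, EtPBC.IsConstructible ((EtCoh.pull (U i).ι).obj F)) :
    EtPBC.IsConstructible F := by
  rw [isConstructible_iff_affine]
  intro V hV
  have := (qcqs_of_isAffineOpen hV).1
  have := (qcqs_of_isAffineOpen hV).2
  have key : ∀ y : V.toScheme, ∃ W : V.toScheme.Opens, IsAffineOpen W ∧ y ∈ W ∧
      ∃ i, (V.ι '' (W : Set V.toScheme)) ⊆ U i := fun y => by
    obtain ⟨i, hi⟩ := hU (V.ι y)
    obtain ⟨_, ⟨W, hW, rfl⟩, hyW, hWU⟩ := V.toScheme.isBasis_affineOpens.exists_subset_of_mem_open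
      (show y ∈ (V.ι ⁻¹ᵁ U i : Set V.toScheme) from hi) (V.ι ⁻¹ᵁ U i).2
    exact ⟨W, hW, hyW, i, Set.image_subset_iff.mpr hWU⟩
  choose W hW hyW i hWi using key
  obtain ⟨t, ht⟩ := isCompact_univ.elim_finite_subcover (fun y => (W y : Set V.toScheme))
    (fun y => (W y).2) fun y _ => Set.mem_iUnion.mpr ⟨y, hyW y⟩
  refine stratified_of_openCover (fun k : Fin t.card => W (t.equivFin.symm k).1)
    (fun k => (hW _).isCompact) (Set.eq_univ_of_forall fun x => ?_) fun k => ?_
  · obtain ⟨y, hy, hxy⟩ := Set.mem_iUnion₂.mp (ht (Set.mem_univ x))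
    exact Set.mem_iUnion.mpr ⟨t.equivFin ⟨y, hy⟩, by simpa using hxy⟩
  · let y := (t.equivFin.symm k).1
    have hsub : Set.range ((W y).ι ≫ V.ι) ⊆ Set.range (U (i y)).ι := by
      rw [Scheme.Hom.comp_base, TopCat.coe_comp, Set.range_comp, Scheme.Opens.range_ι,
        Scheme.Opens.range_ι]
      exact hWi y
    let j := IsOpenImmersion.lift (U (i y)).ι ((W y).ι ≫ V.ι) hsub
    haveI : IsAffine (W y).toScheme := hW y
    haveI : IsOpenImmersion (j ≫ (U (i y)).ι) := by
      rw [IsOpenImmersion.lift_fac]; infer_instance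
    haveI : IsOpenImmersion j := IsOpenImmersion.of_comp j (U (i y)).ι
    have haff : IsAffineOpen j.opensRange := isAffineOpen_opensRange j
    have := (qcqs_of_isAffineOpen haff).1
    have := (qcqs_of_isAffineOpen haff).2
    have hs := ((isConstructible_iff_affine _).mp (h (i y)) _ haff).pull
      j.isoOpensRange.hom
    have hs' : Stratified ((EtCoh.pull j.isoOpensRange.hom).obj ((EtCoh.pull j.opensRange.ι).obj
        ((EtCoh.pull (U (i y)).ι).obj F))) Set.univ := hs
    refine hs'.of_iso ?_
    exact ((EtCore.pullComp _ _).app _).symm ≪≫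
      (EtCore.pullCongr j.isoOpensRange_hom_ι).app _ ≪≫ ((EtCore.pullComp j (U (i y)).ι).app F).symm ≪≫
      (EtCore.pullCongr (IsOpenImmersion.lift_fac _ _ hsub)).app F ≪≫
      (EtCore.pullComp (W y).ι V.ι).app F

/-- Inverse images of constructible sheaves. -/
theorem isConstructible_pull (f : X ⟶ Y) {F : EtCoh.Ab Y} (hF : EtPBC.IsConstructible F) :
    EtPBC.IsConstructible ((EtCoh.pull f).obj F) := by
  refine isConstructible_of_cover
    (fun p : { W : X.Opens // IsAffineOpen W ∧ ∃ V : Y.Opens, IsAffineOpen V ∧ W ≤ f ⁻¹ᵁ V } => p.1)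
    (fun x => ?_) ?_
  · obtain ⟨_, ⟨V, hV, rfl⟩, hxV, -⟩ := Y.isBasis_affineOpens.exists_subset_of_mem_open
      (Set.mem_univ (f x)) isOpen_univ
    obtain ⟨_, ⟨W, hW, rfl⟩, hxW, hWV⟩ := X.isBasis_affineOpens.exists_subset_of_mem_open
      (show x ∈ (f ⁻¹ᵁ V : Set X) from hxV) (f ⁻¹ᵁ V).2
    exact ⟨⟨W, hW, V, hV, hWV⟩, hxW⟩
  · rintro ⟨W, hW, V, hV, hWV⟩
    have := (qcqs_of_isAffineOpen hW).1
    have := (qcqs_of_isAffineOpen hW).2
    rw [isConstructible_iff_stratified]
    refine (((isConstructible_iff_affine F).mp hF V hV).pull (f.resLE V W hWV)).of_iso ?_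
    exact ((EtCore.pullComp _ _).app F).symm ≪≫ (EtCore.pullCongr (f.resLE_comp_ι hWV)).app F ≪≫
      (EtCore.pullComp W.ι f).app F

end Groth.Agent.Et18
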