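import Groth.Agent.Et18.IsoLocus
import Mathlib.AlgebraicGeometry.ZariskisMainTheorem

/-!
# Finite strata of an étale morphism
-/

universe u

open CategoryTheory CategoryTheory.Limits AlgebraicGeometry Opposite Topology

set_option backward.isDefEq.respectTransparency.types false
set_option backward.isDefEq.respectTransparency false

namespace Groth.Agent.Et18

variable {U X : Scheme.{u}}

/-- With constantly many lifts the map is closed. -/
theorem isClosedMap_of_constLifts (j : U ⟶ X) [Etale j] [IsSeparated j] {n : ℕ}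
    (hn : ConstLifts j n) : IsClosedMap j := by
  classical
  intro C hC
  refine ⟨isOpen_iff_forall_mem_open.mpr fun x hx => ?_⟩
  let ξ := sepPoint X x
  obtain ⟨e, he⟩ := (hn _ ξ).1
  obtain ⟨W, w, s, hw, hs, hws, hinj⟩ := exists_nhd_sections j n ξ e he
  haveI : Etale W.hom := W.prop
  let V : Set W.left := ⋂ i, (s i) ⁻¹' Cᶜ
  have hV : IsOpen V := isOpen_iInter_of_finite fun i => hC.isOpen_compl.preimage (s i).continuous
  refine ⟨W.hom '' V, ?_, W.hom.isOpenMap _ hV, ⟨w default, Set.mem_iInter.mpr fun i hmem => ?_, ?_⟩⟩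
  · rintro _ ⟨w', hw', rfl⟩ ⟨y, hyC, hy⟩
    let η := sepPoint W.left w'
    obtain ⟨v, hv, hvd⟩ := Scheme.exists_fac_of_etale_of_isSepClosed j (η ≫ W.hom) y
      (hy.trans (congrArg W.hom (sepPoint_default W.left w')).symm)
    let e' : Fin n → {v // v ≫ j = η ≫ W.hom} := fun i =>
      ⟨η ≫ s i, (Category.assoc _ _ _).trans (congrArg (fun q => η ≫ q) (hs i))⟩
    have he' : Function.Injective e' := fun a b hab => hinj _ η (congrArg Subtype.val hab)
    obtain ⟨i, hi⟩ : ∃ i, e' i = ⟨v, hv⟩ := by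
      by_contra hne
      exact (hn _ (η ≫ W.hom)).2
        ⟨Fin.cons ⟨v, hv⟩ e', Fin.cons_injective_iff.mpr ⟨fun ⟨i, hi⟩ => hne ⟨i, hi⟩, he'⟩⟩
    refine Set.mem_iInter.mp hw' i ?_
    show s i w' ∈ C
    have h2 : s i (η default) = y :=
      (congrArg (fun t : Spec (CommRingCat.of _) ⟶ U => t default) (congrArg Subtype.val hi)).trans hvd
    rw [sepPoint_default] at h2
    exact h2 ▸ hyC
  · refine hx ⟨_, hmem, ?_⟩
    exact ((congrArg (fun t : W.left ⟶ X => t (w default)) (hs i)).trans
      (congrArg (fun t : Spec (CommRingCat.of _) ⟶ X => t default) hw)).trans (sepPoint_default X x)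
  · exact (congrArg (fun t : Spec (CommRingCat.of _) ⟶ X => t default) hw).trans (sepPoint_default X x)

/-- Constant lift count is stable under base change. -/
lemma ConstLifts.baseChange {T : Scheme.{u}} {j : U ⟶ X} {n : ℕ} (hn : ConstLifts j n) (g : T ⟶ X) :
    ConstLifts (pullback.snd j g) n := fun Ω _ _ η => by
  rw [hasLifts_baseChange, hasLifts_baseChange]
  exact hn Ω (η ≫ g)

/-- Separated quasi-compact étale morphisms with constantly many lifts are finite. -/
theorem isFinite_of_constLifts (j : U ⟶ X) [Etale j] [IsSeparated j] [QuasiCompact j] {n : ℕ}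
    (hn : ConstLifts j n) : IsFinite j := by
  haveI : UniversallyClosed j := by
    rw [universallyClosed_iff]
    intro X' Y' i₁ i₂ f' H
    have hcl := isClosedMap_of_constLifts (pullback.snd j i₂) (hn.baseChange i₂)
    have e : H.flip.isoPullback.hom ≫ pullback.snd j i₂ = f' := H.flip.isoPullback_hom_snd
    show IsClosedMap f'
    rw [← e, Scheme.Hom.comp_base, TopCat.coe_comp]
    exact hcl.comp H.flip.isoPullback.hom.homeomorph.isClosedMap
  haveI : IsProper j := {}
  exact IsFinite.of_isProper_of_locallyQuasiFinite j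

/-- Finitely many disjoint constructible strata with constant lift counts. -/
theorem exists_strata_clopen [CompactSpace X] [QuasiSeparatedSpace X] (j : U ⟶ X) [Etale j]
    [IsSeparated j] [QuasiCompact j] {κ : Type} [Finite κ] (P : κ → U.Opens)
    (hP : ∀ k, IsRetrocompact (P k : Set U)) :
    ∃ (N : ℕ) (T : Fin N → Scheme.{u}) (g : ∀ i, T i ⟶ X), (∀ i, IsImmersion (g i)) ∧
      (∀ i, IsConstructible (Set.range (g i))) ∧
      Pairwise (fun i i' => Disjoint (Set.range (g i)) (Set.range (g i'))) ∧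
      (⋃ i, Set.range (g i)) = Set.univ ∧
      ∀ i, (∃ n, ConstLifts (pullback.snd j (g i)) n) ∧
        ∀ k, IsClosed ((pullback.fst j (g i)) ⁻¹' (P k : Set U)) := by
  classical
  haveI : CompactSpace U := QuasiCompact.compactSpace_of_compactSpace j
  let O : Option κ → U.Opens := fun k => k.elim ⊤ P
  have hqc : ∀ k, QuasiCompact ((O k).ι ≫ j) := fun k => by
    haveI : QuasiCompact (O k).ι := quasiCompact_iff_isSpectralMap.mpr
      (IsRetrocompact_iff_isSpectralMap_subtypeVal.mp (by cases k <;> [exact .univ; exact hP _]))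
    infer_instance
  choose E hEo hEc _ hE using fun k => fun l => exists_atLeast l ((O k).ι ≫ j)
  have hbd : ∀ k, ∃ N, ∀ x, x ∉ E k N := fun k => by
    haveI := hqc k
    obtain ⟨N, hN⟩ := exists_bound_lifts ((O k).ι ≫ j)
    exact ⟨N, fun x hx => hN _ (sepPoint X x) ((hE k N _ _).mpr (by rw [sepPoint_default]; exact hx))⟩
  have hanti : ∀ k {a b : ℕ}, a ≤ b → E k b ⊆ E k a := fun k a b hab x hx => by
    rw [← sepPoint_default X x, ← hE] at hx ⊢
    exact hx.mono hab
  choose B hB using hbd
  cases nonempty_fintype κ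
  let N := Finset.univ.sup B + 1
  let L : (Option κ → Fin N) → Set X := fun f =>
    (⋂ k, E k (f k)) ∩ (⋃ k, E k ((f k : ℕ) + 1))ᶜ
  have hLc : ∀ f, IsConstructible (L f) := fun f =>
    (IsConstructible.iInter fun k => (hEc k _ (hqc k) ‹_›).isConstructible (hEo k _)).inter
      (IsConstructible.iUnion fun k => (hEc k _ (hqc k) ‹_›).isConstructible (hEo k _)).compl
  have hLl : ∀ f, IsLocallyClosed (L f) := fun f =>
    (isOpen_iInter_of_finite fun k => hEo k _).isLocallyClosed.inter
      (isOpen_iUnion fun k => hEo k _).isClosed_compl.isLocallyClosed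
  choose T g hg hr using fun f => exists_immersion_range (hLl f)
  let eq := (Fintype.equivFin (Option κ → Fin N)).symm
  refine ⟨_, fun i => T (eq i), fun i => g (eq i), fun i => hg _, fun i => hr _ ▸ hLc _, ?_, ?_, fun i => ?_⟩
  · intro a b hab
    simp only [hr]
    refine Set.disjoint_left.mpr fun x hxa hxb => hab (eq.injective (funext fun k => ?_))
    by_contra hne
    rcases lt_or_gt_of_ne hne with hlt | hlt
    · exact hxa.2 (Set.mem_iUnion.mpr ⟨k, hanti k hlt (Set.mem_iInter.mp hxb.1 k)⟩)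
    · exact hxb.2 (Set.mem_iUnion.mpr ⟨k, hanti k hlt (Set.mem_iInter.mp hxa.1 k)⟩)
  · refine Set.eq_univ_of_forall fun x => ?_
    have hm : ∀ k, ∃ m : Fin N, x ∈ E k m ∧ x ∉ E k ((m : ℕ) + 1) := fun k => by
      have hex : ∃ l, x ∉ E k l := ⟨B k, hB k x⟩
      have h0 : x ∈ E k 0 := by
        rw [← sepPoint_default X x, ← hE]
        exact ⟨Fin.elim0, fun a => a.elim0⟩
      obtain ⟨m, hm⟩ : ∃ m, Nat.find hex = m + 1 :=
        ⟨Nat.find hex - 1, (Nat.succ_pred_eq_of_ne_zero fun h => (h ▸ Nat.find_spec hex) h0).symm⟩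
      have hmN : m < N := by
        have : Nat.find hex ≤ B k := Nat.find_min' hex (hB k x)
        have := Finset.le_sup (f := B) (Finset.mem_univ k)
        omega
      exact ⟨⟨m, hmN⟩, by_contra fun h => Nat.find_min hex (hm ▸ m.lt_succ_self) h,
        hm ▸ Nat.find_spec hex⟩
    choose m hm using hm
    refine Set.mem_iUnion.mpr ⟨eq.symm m, ?_⟩
    rw [hr, Equiv.apply_symm_apply]
    exact ⟨Set.mem_iInter.mpr fun k => (hm k).1, by
      simp only [Set.mem_compl_iff, Set.mem_iUnion, not_exists]; exact fun k => (hm k).2⟩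
  · set f := eq i
    have hcount : ∀ k, ConstLifts ((pullback.fst j (g f) ⁻¹ᵁ O k).ι ≫ pullback.snd j (g f)) (f k) := by
      intro k Ω _ _ η
      have hη : g f (η default) ∈ L f := hr f ▸ ⟨_, rfl⟩
      rw [hasLifts_preimage, hasLifts_preimage, hE, hE]
      exact ⟨Set.mem_iInter.mp hη.1 k, fun h => hη.2 (Set.mem_iUnion.mpr ⟨k, h⟩)⟩
    have hn : ConstLifts (pullback.snd j (g f)) (f none) := fun Ω _ _ η => by
      have key : ∀ l, HasLifts (pullback.snd j (g f)) η l ↔
          HasLifts ((pullback.fst j (g f) ⁻¹ᵁ O none).ι ≫ pullback.snd j (g f)) η l := fun l => by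
        constructor
        · rintro ⟨e, he⟩
          have : ∀ a, ∃ t, t ≫ (pullback.fst j (g f) ⁻¹ᵁ O none).ι = (e a).1 :=
            fun a => exists_lift_of_mem _ _ (by rw [Scheme.Opens.range_ι]; trivial)
          choose t ht using this
          exact ⟨fun a => ⟨t a, by rw [← Category.assoc, ht, (e a).2]⟩, fun a b hab => he (Subtype.ext (by
            rw [← ht, ← ht]; exact congrArg (fun z => z.1 ≫ _) hab))⟩
        · rintro ⟨e, he⟩
          exact ⟨fun a => ⟨(e a).1 ≫ Scheme.Opens.ι _, (Category.assoc _ _ _).trans (e a).2⟩,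
            fun a b hab => he (Subtype.ext ((cancel_mono (Scheme.Opens.ι _)).mp (congrArg Subtype.val hab)))⟩
      rw [key, key]
      exact hcount none Ω η
    exact ⟨⟨_, hn⟩, fun k => isClosed_of_constLifts (pullback.snd j (g f)) hn
      (pullback.fst j (g f) ⁻¹ᵁ P k) (hcount (some k))⟩

/-- A morphism covered by clopens on which it is separated is separated. -/
theorem isSeparated_of_clopen_cover (f : U ⟶ X) {κ : Type} (V : κ → U.Opens)
    (hV : ∀ k, IsClosed (V k : Set U)) (hcov : ∀ u, ∃ k, u ∈ V k)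
    (hs : ∀ k, IsSeparated ((V k).ι ≫ f)) : IsSeparated f := by
  refine ⟨IsClosedImmersion.of_isPreimmersion _ ⟨isOpen_iff_forall_mem_open.mpr fun p hp => ?_⟩⟩
  obtain ⟨k, hk⟩ := hcov (pullback.fst f f p)
  by_cases hk' : pullback.snd f f p ∈ V k
  · haveI := hs k
    let q : pullback ((V k).ι ≫ f) ((V k).ι ≫ f) ⟶ pullback f f :=
      pullback.map _ _ _ _ (V k).ι (V k).ι (𝟙 X) (by simp) (by simp)
    have hq : p ∈ Set.range q := by
      simp only [q, Scheme.Pullback.range_map, Scheme.Opens.range_ι]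
      exact ⟨hk, hk'⟩
    obtain ⟨p', rfl⟩ := hq
    haveI : IsOpenImmersion q := inferInstance
    refine ⟨q '' (Set.range (pullback.diagonal ((V k).ι ≫ f)))ᶜ, ?_,
      q.isOpenEmbedding.isOpenMap _
        (pullback.diagonal ((V k).ι ≫ f)).isClosedEmbedding.isClosed_range.isOpen_compl,
      ⟨p', fun ⟨a, ha⟩ => hp ⟨(V k).ι a, ?_⟩, rfl⟩⟩
    · rintro _ ⟨p'', hp'', rfl⟩ ⟨u, hu⟩
      have h1 : pullback.fst f f (q p'') = u := by
        rw [← hu, ← Scheme.Hom.comp_apply, pullback.diagonal_fst]; rfl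
      have h2 : pullback.fst f f (q p'') ∈ V k := by
        rw [← Scheme.Hom.comp_apply, show q ≫ pullback.fst f f = pullback.fst _ _ ≫ (V k).ι from pullback.lift_fst _ _ _,
          Scheme.Hom.comp_apply]
        exact (pullback.fst ((V k).ι ≫ f) ((V k).ι ≫ f) p'').2
      refine hp'' ⟨⟨u, h1 ▸ h2⟩, q.isOpenEmbedding.injective ?_⟩
      have : pullback.diagonal ((V k).ι ≫ f) ≫ q = (V k).ι ≫ pullback.diagonal f := by
        apply pullback.hom_ext <;> simp [q]
      exact (congrArg (fun t : (V k).toScheme ⟶ pullback f f => t ⟨u, h1 ▸ h2⟩) this).trans hu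
    · have : (V k).ι ≫ pullback.diagonal f = pullback.diagonal ((V k).ι ≫ f) ≫ q := by
        apply pullback.hom_ext <;> simp [q]
      rw [← ha]
      exact congrArg (fun t : (V k).toScheme ⟶ pullback f f => t a) this
  · refine ⟨pullback.fst f f ⁻¹' (V k : Set U) ∩ pullback.snd f f ⁻¹' (V k : Set U)ᶜ, ?_,
      ((V k).2.preimage (pullback.fst f f).continuous).inter
        ((hV k).isOpen_compl.preimage (pullback.snd f f).continuous), hk, hk'⟩
    rintro _ ⟨h1, h2⟩ ⟨u, rfl⟩
    refine h2 ?_
    simp only [Set.mem_preimage, ← Scheme.Hom.comp_apply, pullback.diagonal_fst,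
      pullback.diagonal_snd] at h1 ⊢
    exact h1

/-- Finite strata for an étale morphism of qcqs schemes. -/
theorem exists_strata_finite [CompactSpace U] [QuasiSeparatedSpace U]
    [CompactSpace X] [QuasiSeparatedSpace X] (j : U ⟶ X) [Etale j] :
    ∃ (n : ℕ) (T : Fin n → Scheme.{u}) (g : ∀ i, T i ⟶ X),
      (∀ i, IsImmersion (g i)) ∧ (∀ i, IsConstructible (Set.range (g i))) ∧
      Pairwise (fun i i' => Disjoint (Set.range (g i)) (Set.range (g i'))) ∧
      (⋃ i, Set.range (g i)) = Set.univ ∧ ∀ i, IsFinite (pullback.snd j (g i)) := by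
  obtain ⟨m, V, hVa, hVcov⟩ := exists_finite_affine_cover U
  haveI : ∀ k, IsAffine (V k).toScheme := fun k => hVa k
  let Z := ∐ fun k : Fin m => (V k).toScheme
  let q : Z ⟶ U := Sigma.desc fun k => (V k).ι
  haveI : Surjective q := ⟨fun v => by
    obtain ⟨k, hk⟩ := Set.mem_iUnion.mp (hVcov.symm ▸ Set.mem_univ v)
    refine ⟨Sigma.ι (fun k : Fin m => (V k).toScheme) k ⟨v, hk⟩, ?_⟩
    rw [← Scheme.Hom.comp_apply]
    exact congrArg (fun r : (V k).toScheme ⟶ U => r ⟨v, hk⟩)
      (show Sigma.ι (fun k : Fin m => (V k).toScheme) k ≫ q = (V k).ι from Sigma.ι_desc _ _)⟩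
  haveI : Etale q := IsZariskiLocalAtSource.sigmaDesc (P := @Etale) fun k => inferInstance
  haveI : QuasiSeparated (terminal.from X) := (quasiSeparatedSpace_iff_quasiSeparated X).mp inferInstance
  haveI : QuasiSeparated (terminal.from U) := (quasiSeparatedSpace_iff_quasiSeparated U).mp inferInstance
  haveI : IsSeparated (q ≫ j) := IsSeparated.of_comp (q ≫ j) (terminal.from X)
  haveI : QuasiCompact (q ≫ j) := QuasiCompact.of_comp (q ≫ j) (terminal.from X)
  haveI : QuasiCompact q := QuasiCompact.of_comp q (terminal.from U)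
  obtain ⟨N, T, g, hg, hc, hd, hu, hgood⟩ := exists_strata_clopen (q ≫ j) (fun k => q ⁻¹ᵁ V k)
    (fun k U' hU' hU'o => QuasiSeparatedSpace.inter_isCompact _ _ (q ⁻¹ᵁ V k).2
      (q.isSpectralMap.isCompact_preimage_of_isOpen (V k).2 (hVa k).isCompact) hU'o hU')
  refine ⟨N, T, g, hg, hc, hd, hu, fun i => ?_⟩
  obtain ⟨⟨n, hn⟩, hcl⟩ := hgood i
  haveI := hg i
  haveI : IsFinite (pullback.snd (q ≫ j) (g i)) := isFinite_of_constLifts _ hn
  let p : pullback (q ≫ j) (g i) ⟶ pullback j (g i) :=
    pullback.map _ _ _ _ q (𝟙 _) (𝟙 _) (by simp) (by simp)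
  have hp : p ≫ pullback.snd j (g i) = pullback.snd (q ≫ j) (g i) := by simp [p]
  haveI : Surjective p := ⟨Set.range_eq_univ.mp (by
    simp only [p, Scheme.Pullback.range_map, q.surjective.range_eq]
    simp)⟩
  haveI : UniversallyClosed (p ≫ pullback.snd j (g i)) := hp.symm ▸ inferInstance
  haveI : UniversallyClosed (pullback.snd j (g i)) := UniversallyClosed.of_comp_surjective p _
  let W : Fin m → (pullback j (g i)).Opens := fun k => pullback.fst j (g i) ⁻¹ᵁ V k
  have hW : ∀ k, IsClosed (W k : Set ↥(pullback j (g i))) := fun k => by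
    refine ⟨?_⟩
    have he : ((W k : Set ↥(pullback j (g i))))ᶜ =
        p '' ((pullback.fst (q ≫ j) (g i)) ⁻¹' ((q ⁻¹ᵁ V k : Z.Opens) : Set Z))ᶜ := by
      have h1 : (pullback.fst (q ≫ j) (g i)) ⁻¹' ((q ⁻¹ᵁ V k : Z.Opens) : Set Z) = p ⁻¹' W k := by
        ext z
        show q (pullback.fst (q ≫ j) (g i) z) ∈ V k ↔ pullback.fst j (g i) (p z) ∈ V k
        rw [← Scheme.Hom.comp_apply, ← Scheme.Hom.comp_apply,
          show p ≫ pullback.fst j (g i) = pullback.fst (q ≫ j) (g i) ≫ q from pullback.lift_fst _ _ _]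
      rw [h1, ← Set.preimage_compl, Set.image_preimage_eq _ p.surjective]
    rw [he]
    haveI : Etale p := by
      haveI : Etale (p ≫ pullback.snd j (g i)) := hp.symm ▸ inferInstance
      exact Etale.of_comp p (pullback.snd j (g i))
    exact p.isOpenMap _ (hcl k).isOpen_compl
  haveI : IsSeparated (pullback.snd j (g i)) := by
    refine isSeparated_of_clopen_cover _ W hW (fun z => ?_) fun k => ?_
    · obtain ⟨k, hk⟩ := Set.mem_iUnion.mp ((Set.ext_iff.mp hVcov (pullback.fst j (g i) z)).mpr trivial)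
      exact ⟨k, hk⟩
    · haveI : IsSeparated ((V k).ι ≫ j) := IsSeparated.of_comp _ (terminal.from X)
      let e : (W k).toScheme ⟶ pullback ((V k).ι ≫ j) (g i) :=
        pullback.lift (pullback.fst j (g i) ∣_ V k) ((W k).ι ≫ pullback.snd j (g i))
          (by
            simp only [Category.assoc]
            rw [← Category.assoc (pullback.fst j (g i) ∣_ V k), morphismRestrict_ι, Category.assoc,
              pullback.condition])
      have he : e ≫ pullback.snd _ _ = (W k).ι ≫ pullback.snd j (g i) := pullback.lift_snd _ _ _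
      haveI : IsImmersion e := by
        haveI : IsImmersion (e ≫ pullback.map ((V k).ι ≫ j) (g i) j (g i) (V k).ι (𝟙 _) (𝟙 _) (by simp) (by simp)) := by
          rw [show e ≫ pullback.map ((V k).ι ≫ j) (g i) j (g i) (V k).ι (𝟙 _) (𝟙 _) (by simp) (by simp) = (W k).ι by
            apply pullback.hom_ext
            · rw [Category.assoc, pullback.lift_fst, ← Category.assoc, pullback.lift_fst]
              exact morphismRestrict_ι _ _
            · simp [e]]
          infer_instance
        exact IsImmersion.of_comp e (pullback.map ((V k).ι ≫ j) (g i) j (g i) (V k).ι (𝟙 _) (𝟙 _) _ _)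
      rw [← he]
      infer_instance
  haveI : QuasiCompact j := QuasiCompact.of_comp j (terminal.from X)
  haveI : IsProper (pullback.snd j (g i)) := {}
  exact IsFinite.of_isProper_of_locallyQuasiFinite _

end Groth.Agent.Et18
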