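import Groth.Agent.HenselLib.LocalHens
import Groth.Agent.Et18.AcyclicComp

/-!
# Factorisation of maps of strict henselizations
-/

set_option autoImplicit false
set_option linter.style.haveILetI false
set_option backward.isDefEq.respectTransparency.types false
set_option backward.isDefEq.respectTransparency false

universe u

open IsLocalRing

namespace Groth.Agent.Et18.StrictFactor

variable {A B : Type u} [CommRing A] [CommRing B] [IsLocalRing A] [IsLocalRing B] (a : A →+* B) [IsLocalHom a]
  (R : Type u) [CommRing R] [IsLocalRing R] [Algebra A R] [IsLocalHom (algebraMap A R)]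
  [Hensel.IsStrictHenselization A R]
  (S : Type u) [CommRing S] [IsLocalRing S] [Algebra B S] [IsLocalHom (algebraMap B S)]
  [Hensel.IsStrictHenselization B S]

theorem isLocalHom_of_residue {T : Type u} [CommRing T] [IsLocalRing T] (g : R →+* T)
    (τ : ResidueField R →+* ResidueField T) (h : ∀ x, residue T (g x) = τ (residue R x)) : IsLocalHom g := by
  refine ⟨fun x hx => ?_⟩
  have h1 : residue T (g x) ≠ 0 := fun h0 => (residue_eq_zero_iff _).1 h0 hx
  rw [h] at h1
  by_contra hn
  exact h1 (by rw [(residue_eq_zero_iff _).2 hn, map_zero])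

/-- A local homomorphism extends to strict henselizations. -/
theorem exists_hom : ∃ σ : R →+* S, IsLocalHom σ ∧ σ.comp (algebraMap A R) = (algebraMap B S).comp a := by
  haveI := Hensel.IsStrictHenselization.henselian (R := B) (S := S)
  haveI := (Hensel.IsStrictHenselization.isSepClosure (R := A) (S := R)).separable
  haveI := (Hensel.IsStrictHenselization.isSepClosure (R := B) (S := S)).sep_closed
  let f : A →+* S := (algebraMap B S).comp a
  haveI : IsLocalHom f := inferInstanceAs (IsLocalHom ((algebraMap B S).comp a))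
  letI : Algebra (ResidueField A) (ResidueField S) := (ResidueField.map f).toAlgebra
  let τ : ResidueField R →ₐ[ResidueField A] ResidueField S := IsSepClosed.lift
  obtain ⟨g, ⟨hg, hg'⟩, -⟩ := Hensel.IsStrictHenselization.universal (R := A) (S := R) S f τ.toRingHom
    (by
      ext x
      obtain ⟨r, rfl⟩ := residue_surjective x
      exact τ.commutes (residue A r))
  exact ⟨g, isLocalHom_of_residue R g _ hg', hg⟩

variable {C : Type u} [CommRing C] [IsLocalRing C] (b : B →+* C) [IsLocalHom b]
  (T : Type u) [CommRing T] [IsLocalRing T] [Algebra C T] [IsLocalHom (algebraMap C T)]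
  [Hensel.IsStrictHenselization C T]

/-- A map of strict henselizations over a composite factors through any strict henselization in the middle. -/
theorem exists_factor (σ : R →+* T) [IsLocalHom σ]
    (hσ : σ.comp (algebraMap A R) = ((algebraMap C T).comp b).comp a) :
    ∃ (σ₁ : R →+* S) (σ₂ : S →+* T), IsLocalHom σ₁ ∧ IsLocalHom σ₂ ∧
      σ₁.comp (algebraMap A R) = (algebraMap B S).comp a ∧
      σ₂.comp (algebraMap B S) = (algebraMap C T).comp b ∧ σ₂.comp σ₁ = σ := by
  haveI := Hensel.IsStrictHenselization.henselian (R := B) (S := S)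
  haveI := Hensel.IsStrictHenselization.henselian (R := C) (S := T)
  haveI := (Hensel.IsStrictHenselization.isSepClosure (R := A) (S := R)).separable
  haveI := (Hensel.IsStrictHenselization.isSepClosure (R := B) (S := S)).sep_closed
  obtain ⟨σ₂, h₂, hc₂⟩ := exists_hom b S T
  let τ₂ : ResidueField S →+* ResidueField T := ResidueField.map σ₂
  let σbar : ResidueField R →+* ResidueField T := ResidueField.map σ
  let f : A →+* S := (algebraMap B S).comp a
  haveI : IsLocalHom f := inferInstanceAs (IsLocalHom ((algebraMap B S).comp a))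
  letI : Algebra (ResidueField A) (ResidueField S) := (ResidueField.map f).toAlgebra
  letI : Algebra (ResidueField A) (ResidueField T) := (τ₂.comp (ResidueField.map f)).toAlgebra
  have hAT : σbar.comp (algebraMap (ResidueField A) (ResidueField R)) = τ₂.comp (ResidueField.map f) := by
    ext x
    obtain ⟨r, rfl⟩ := residue_surjective x
    show residue T (σ (algebraMap A R r)) = residue T (σ₂ (algebraMap B S (a r)))
    exact congrArg (residue T) ((RingHom.congr_fun hσ r).trans (RingHom.congr_fun hc₂ (a r)).symm)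
  have hmem : ∀ x, ∃ y, τ₂ y = σbar x := by
    intro x
    let i : ResidueField R →ₐ[ResidueField A] ResidueField T :=
      { toRingHom := σbar, commutes' := fun r => RingHom.congr_fun hAT r }
    let j : ResidueField S →ₐ[ResidueField A] ResidueField T :=
      { toRingHom := τ₂, commutes' := fun r => rfl }
    have hs : IsSeparable (ResidueField A) (i x) :=
      IsSeparable.map i i.injective (Algebra.IsSeparable.isSeparable (ResidueField A) x)
    let p := minpoly (ResidueField A) (i x)
    have hsp : (p.map (algebraMap (ResidueField A) (ResidueField S))).Splits :=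
      IsSepClosed.splits_codomain _ hs
    have hroot : (p.map (algebraMap (ResidueField A) (ResidueField T))).IsRoot (i x) := by
      rw [Polynomial.IsRoot, Polynomial.eval_map_algebraMap]
      exact minpoly.aeval _ _
    have he : p.map (algebraMap (ResidueField A) (ResidueField T)) =
        (p.map (algebraMap (ResidueField A) (ResidueField S))).map τ₂ := (Polynomial.map_map _ _ _).symm
    rw [he] at hroot
    have hne : (p.map (algebraMap (ResidueField A) (ResidueField S))).map τ₂ ≠ 0 :=
      Polynomial.map_ne_zero (Polynomial.map_ne_zero (minpoly.ne_zero hs.isIntegral))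
    have := (Polynomial.mem_roots hne).2 hroot
    rw [hsp.roots_map, Multiset.mem_map] at this
    obtain ⟨y, -, hy⟩ := this
    exact ⟨y, hy⟩
  choose τ₁ hτ₁ using hmem
  let t₁ : ResidueField R →+* ResidueField S :=
    { toFun := τ₁
      map_one' := τ₂.injective (by rw [hτ₁, map_one, map_one])
      map_mul' := fun x y => τ₂.injective (by rw [map_mul, hτ₁, hτ₁, hτ₁, map_mul])
      map_zero' := τ₂.injective (by rw [hτ₁, map_zero, map_zero])
      map_add' := fun x y => τ₂.injective (by rw [map_add, hτ₁, hτ₁, hτ₁, map_add]) }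
  obtain ⟨σ₁, ⟨hc₁, hr₁⟩, -⟩ := Hensel.IsStrictHenselization.universal (R := A) (S := R) S f t₁ (by
    refine RingHom.ext fun x => τ₂.injective ?_
    exact (hτ₁ _).trans (RingHom.congr_fun hAT x))
  refine ⟨σ₁, σ₂, isLocalHom_of_residue R σ₁ t₁ hr₁, h₂, hc₁, hc₂, ?_⟩
  let F : A →+* T := ((algebraMap C T).comp b).comp a
  haveI : IsLocalHom F := inferInstanceAs (IsLocalHom (((algebraMap C T).comp b).comp a))
  obtain ⟨g, -, huniq⟩ := Hensel.IsStrictHenselization.universal (R := A) (S := R) T F σbar (by
    ext x
    obtain ⟨r, rfl⟩ := residue_surjective x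
    exact congrArg (residue T) (RingHom.congr_fun hσ r))
  refine (huniq (σ₂.comp σ₁) ⟨?_, fun x => ?_⟩).trans (huniq σ ⟨hσ, fun x => rfl⟩).symm
  · rw [RingHom.comp_assoc, hc₁, ← RingHom.comp_assoc, hc₂]
  · show residue T (σ₂ (σ₁ x)) = σbar (residue R x)
    refine Eq.trans ?_ (hτ₁ (residue R x))
    exact congrArg τ₂ (hr₁ x)

section Schemes

open CategoryTheory AlgebraicGeometry

variable {X Y Z : Scheme.{u}} (g : X ⟶ Y) (h : Y ⟶ Z)

/-- A property cancellable against the members of a class passes between strict localizations of `h` and `g ≫ h`. -/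
theorem onStrictLocalizations_comp_iff (hg : Function.Surjective g.base)
    (P : ∀ ⦃X' Y' : Scheme.{u}⦄, (X' ⟶ Y') → Prop)
    (hP : ∀ ⦃A B C : Scheme.{u}⦄ (a : A ⟶ B) (b : B ⟶ C), P a → (P b ↔ P (a ≫ b)))
    (hloc : EtAcyc.OnStrictLocalizations g P) :
    EtAcyc.OnStrictLocalizations h P ↔ EtAcyc.OnStrictLocalizations (g ≫ h) P := by
  constructor
  · intro hh x RZ RX _ _ _ _ iA il iS _ _ _ _ _ hc
    let y := g.base x
    letI : Algebra (Z.presheaf.stalk (h.base y)) RZ := iA
    haveI : IsLocalHom (algebraMap (Z.presheaf.stalk (h.base y)) RZ) := il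
    haveI : Hensel.IsStrictHenselization (Z.presheaf.stalk (h.base y)) RZ := iS
    let OY := Y.presheaf.stalk y
    letI : IsLocalRing (HenselLib.LocalSH OY) := HenselianLocalRing.toIsLocalRing
    haveI := HenselLib.isStrictHenselization_localSH (R := OY)
    obtain ⟨σ₁, σ₂, l₁, l₂, c₁, c₂, hcomp⟩ := exists_factor (A := Z.presheaf.stalk (h.base y))
      (h.stalkMap y).hom RZ (HenselLib.LocalSH OY) (g.stalkMap x).hom RX (algebraMap RZ RX) (by
        refine hc.trans ?_
        rw [Scheme.Hom.stalkMap_comp, CommRingCat.hom_comp, RingHom.comp_assoc])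
    letI := σ₁.toAlgebra
    letI := σ₂.toAlgebra
    haveI : IsLocalHom (algebraMap RZ (HenselLib.LocalSH OY)) := l₁
    haveI : IsLocalHom (algebraMap (HenselLib.LocalSH OY) RX) := l₂
    have h1 := hloc x (HenselLib.LocalSH OY) RX c₂
    have h2 := hh y RZ (HenselLib.LocalSH OY) c₁
    have h3 := (hP _ _ h1).1 h2
    rw [← Spec.map_comp] at h3
    have e : CommRingCat.ofHom (algebraMap RZ RX) = CommRingCat.ofHom σ₁ ≫ CommRingCat.ofHom σ₂ :=
      CommRingCat.hom_ext hcomp.symm
    rw [e]
    exact h3
  · intro hgh y RZ RY _ _ _ _ iA il iS _ _ _ _ _ hc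
    obtain ⟨x, rfl⟩ := hg y
    letI : Algebra (Z.presheaf.stalk ((g ≫ h).base x)) RZ := iA
    haveI : IsLocalHom (algebraMap (Z.presheaf.stalk ((g ≫ h).base x)) RZ) := il
    haveI : Hensel.IsStrictHenselization (Z.presheaf.stalk ((g ≫ h).base x)) RZ := iS
    let OX := X.presheaf.stalk x
    letI : IsLocalRing (HenselLib.LocalSH OX) := HenselianLocalRing.toIsLocalRing
    haveI := HenselLib.isStrictHenselization_localSH (R := OX)
    obtain ⟨σ₂, l₂, c₂⟩ := exists_hom (g.stalkMap x).hom RY (HenselLib.LocalSH OX)
    letI := σ₂.toAlgebra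
    haveI : IsLocalHom (algebraMap RY (HenselLib.LocalSH OX)) := l₂
    letI := (σ₂.comp (algebraMap RZ RY)).toAlgebra
    haveI : IsLocalHom (algebraMap RZ (HenselLib.LocalSH OX)) :=
      inferInstanceAs (IsLocalHom (σ₂.comp (algebraMap RZ RY)))
    have h1 := hloc x RY (HenselLib.LocalSH OX) c₂
    have h3 := hgh x RZ (HenselLib.LocalSH OX) (by
      show (σ₂.comp (algebraMap RZ RY)).comp _ = _
      rw [RingHom.comp_assoc]
      refine (congrArg σ₂.comp hc).trans ?_
      rw [← RingHom.comp_assoc, c₂, Scheme.Hom.stalkMap_comp, CommRingCat.hom_comp, RingHom.comp_assoc])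
    refine (hP _ _ h1).2 ?_
    rw [← Spec.map_comp]
    exact h3

/-- Locally acyclic morphisms compose. -/
theorem isLocAcyclicN_comp_iff (hg : Function.Surjective g.base) (L : Set ℕ) (n : ℕ)
    (hloc : EtAcyc.IsLocAcyclicN g L n) :
    EtAcyc.IsLocAcyclicN h L n ↔ EtAcyc.IsLocAcyclicN (g ≫ h) L n :=
  onStrictLocalizations_comp_iff g h hg (fun _ _ k => EtAcyc.IsAcyclicN k L n)
    (fun _ _ _ a b ha => AcyclicComp.isAcyclicN_comp_iff a b ha) hloc

theorem isLocZeroAcyclic_comp_iff (hg : Function.Surjective g.base) (hloc : EtAcyc.IsLocZeroAcyclic g) :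
    EtAcyc.IsLocZeroAcyclic h ↔ EtAcyc.IsLocZeroAcyclic (g ≫ h) :=
  onStrictLocalizations_comp_iff g h hg (fun _ _ k => EtAcyc.IsZeroAcyclic k)
    (fun _ _ _ a b ha => AcyclicComp.isZeroAcyclic_comp_iff a b ha) hloc

end Schemes

end Groth.Agent.Et18.StrictFactor
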