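import Mathlib.RingTheory.Polynomial.UniversalFactorizationRing
import Mathlib.RingTheory.Etale.StandardEtale
import Mathlib.RingTheory.Unramified.LocalStructure
import Mathlib.RingTheory.Polynomial.ScaleRoots
import Mathlib.RingTheory.Ideal.GoingUp
import Mathlib.FieldTheory.IsAlgClosed.Basic
import Mathlib.LinearAlgebra.Matrix.Charpoly.LinearMap
import Mathlib.Topology.Compactness.Compact

/-!
# Integral algebras near a geometric point

Let `η : R → Ω` be a geometric point and `S` an integral `R`-algebra. After an étale extension of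
`R` through which `η` factors, idempotents of `S` separate the lifts of `η` to `S`, and étale
`S`-algebras acquire sections.  This replaces the use of strict henselisations.
-/

universe u

open TensorProduct Polynomial

namespace Groth.Agent.Et18.SHensel

/-- An étale extension of `R` with a point over the given geometric point. -/
structure Nbhd (R Ω : Type u) [CommRing R] [Field Ω] [Algebra R Ω] where
  /-- The algebra. -/
  A : Type u
  /-- It is a ring. -/
  [ring : CommRing A]
  /-- It is an algebra. -/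
  [alg : Algebra R A]
  /-- It is étale. -/
  [etale : Algebra.Etale R A]
  /-- The point. -/
  pt : A →ₐ[R] Ω

attribute [instance] Nbhd.ring Nbhd.alg Nbhd.etale

variable {R Ω : Type u} [CommRing R] [Field Ω] [Algebra R Ω] {S : Type u} [CommRing S] [Algebra R S]

/-- Evaluation at a lift. -/
noncomputable def Nbhd.eval (N : Nbhd R Ω) (ξ : S →ₐ[R] Ω) : N.A ⊗[R] S →ₐ[R] Ω :=
  Algebra.TensorProduct.lift N.pt ξ fun _ _ => Commute.all _ _

@[simp]
lemma Nbhd.eval_tmul (N : Nbhd R Ω) (ξ : S →ₐ[R] Ω) (a : N.A) (s : S) :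
    N.eval ξ (a ⊗ₜ s) = N.pt a * ξ s :=
  Algebra.TensorProduct.lift_tmul _ _ _ _ _

/-- A refinement. -/
structure Nbhd.Hom (N M : Nbhd R Ω) where
  /-- The map. -/
  map : N.A →ₐ[R] M.A
  /-- It respects the points. -/
  comp : M.pt.comp map = N.pt

/-- Transport along a refinement. -/
noncomputable def Nbhd.Hom.bc {N M : Nbhd R Ω} (ψ : N.Hom M) : N.A ⊗[R] S →ₐ[R] M.A ⊗[R] S :=
  Algebra.TensorProduct.map ψ.map (AlgHom.id R S)

lemma Nbhd.Hom.eval_bc {N M : Nbhd R Ω} (ψ : N.Hom M) (ξ : S →ₐ[R] Ω) (a : N.A ⊗[R] S) :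
    M.eval ξ (ψ.bc a) = N.eval ξ a := by
  induction a with
  | zero => simp
  | tmul a s =>
    simp only [Nbhd.Hom.bc, Algebra.TensorProduct.map_tmul, Nbhd.eval_tmul, AlgHom.id_apply]
    rw [show M.pt (ψ.map a) = N.pt a from AlgHom.congr_fun ψ.comp a]
  | add a b ha hb => simp [ha, hb]

/-- The trivial neighbourhood. -/
noncomputable def Nbhd.base : Nbhd R Ω where
  A := R
  pt := Algebra.ofId R Ω

/-- Composition of refinements. -/
def Nbhd.Hom.trans {N M L : Nbhd R Ω} (ψ : N.Hom M) (χ : M.Hom L) : N.Hom L where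
  map := χ.map.comp ψ.map
  comp := by rw [← AlgHom.comp_assoc, χ.comp, ψ.comp]

/-- A common refinement. -/
noncomputable def Nbhd.prod (N M : Nbhd R Ω) : Nbhd R Ω :=
  haveI : Algebra.Etale R (N.A ⊗[R] M.A) := Algebra.Etale.comp R N.A (N.A ⊗[R] M.A)
  { A := N.A ⊗[R] M.A
    pt := Algebra.TensorProduct.lift N.pt M.pt fun _ _ => Commute.all _ _ }

/-- The first map to a common refinement. -/
noncomputable def Nbhd.prodLeft (N M : Nbhd R Ω) : N.Hom (N.prod M) where
  map := Algebra.TensorProduct.includeLeft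
  comp := Algebra.TensorProduct.lift_comp_includeLeft _ _ fun _ _ => Commute.all _ _

/-- The second map to a common refinement. -/
noncomputable def Nbhd.prodRight (N M : Nbhd R Ω) : M.Hom (N.prod M) where
  map := Algebra.TensorProduct.includeRight
  comp := Algebra.TensorProduct.lift_comp_includeRight _ _ fun _ _ => Commute.all _ _

variable [IsAlgClosed Ω] [Algebra.IsIntegral R S]

/-- Separation of two lifts by an idempotent. -/
theorem exists_separate {ξ₁ ξ₂ : S →ₐ[R] Ω} (h : ξ₁ ≠ ξ₂) :
    ∃ (N : Nbhd R Ω) (e : N.A ⊗[R] S),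
      IsIdempotentElem e ∧ N.eval ξ₁ e = 1 ∧ N.eval ξ₂ e = 0 := by
  obtain ⟨s, hs⟩ : ∃ s, ξ₁ s ≠ ξ₂ s := by
    by_contra! hh
    exact h (AlgHom.ext hh)
  obtain ⟨P, hP, hPs⟩ := Algebra.IsIntegral.isIntegral (R := R) s
  have hΩ : (P.map (algebraMap R Ω)).Monic := hP.map _
  obtain ⟨Q, hQ, hQα⟩ :=
    (P.map (algebraMap R Ω)).exists_eq_pow_rootMultiplicity_mul_and_not_dvd hΩ.ne_zero (ξ₁ s)
  set m := (P.map (algebraMap R Ω)).rootMultiplicity (ξ₁ s)
  have hF : ((X - C (ξ₁ s)) ^ m).Monic := (monic_X_sub_C _).pow _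
  have hQm : Q.Monic := hF.of_mul_monic_left (hQ ▸ hΩ)
  have hdeg : P.natDegree = m + Q.natDegree := by
    have := congrArg natDegree hQ
    rwa [hF.natDegree_mul hQm, natDegree_pow, natDegree_X_sub_C, mul_one, hP.natDegree_map] at this
  have hco : IsCoprime ((X - C (ξ₁ s)) ^ m) Q :=
    (((irreducible_X_sub_C _).coprime_iff_not_dvd).mpr hQα).pow_left
  have hm : ((X - C (ξ₁ s)) ^ m).natDegree = m := by simp [natDegree_pow]
  let T := UniversalCoprimeFactorizationRing m Q.natDegree hdeg (MonicDegreeEq.mk P hP rfl)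
  let pt : T →ₐ[R] Ω := (UniversalCoprimeFactorizationRing.homEquiv Ω m Q.natDegree hdeg
    (MonicDegreeEq.mk P hP rfl)).symm
      ⟨(MonicDegreeEq.mk _ hF hm, MonicDegreeEq.mk Q hQm rfl), hQ.symm, hco⟩
  let N : Nbhd R Ω := { A := T, pt := pt }
  let P₁ := (UniversalCoprimeFactorizationRing.factor₁ m Q.natDegree hdeg
    (MonicDegreeEq.mk P hP rfl)).1
  let P₂ := (UniversalCoprimeFactorizationRing.factor₂ m Q.natDegree hdeg
    (MonicDegreeEq.mk P hP rfl)).1
  have h12 : P₁ * P₂ = P.map (algebraMap R T) :=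
    UniversalCoprimeFactorizationRing.factor₁_mul_factor₂ _ _ _ _
  obtain ⟨a, b, hab⟩ := UniversalCoprimeFactorizationRing.isCoprime_factor₁_factor₂ m Q.natDegree
    hdeg (MonicDegreeEq.mk P hP rfl)
  have hP₁ : P₁.map pt.toRingHom = (X - C (ξ₁ s)) ^ m := by
    have := congrArg (fun q => q.1.1.1) ((UniversalCoprimeFactorizationRing.homEquiv Ω m Q.natDegree
      hdeg (MonicDegreeEq.mk P hP rfl)).apply_symm_apply
        ⟨(MonicDegreeEq.mk _ hF hm, MonicDegreeEq.mk Q hQm rfl), hQ.symm, hco⟩)
    refine Eq.trans ?_ this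
    simp [UniversalCoprimeFactorizationRing.homEquiv, UniversalFactorizationRing.homEquiv, P₁, pt,
      UniversalCoprimeFactorizationRing.factor₁, Polynomial.map_map]
    rfl
  let σ : T ⊗[R] S := 1 ⊗ₜ s
  have hσ : aeval σ P₁ * aeval σ P₂ = 0 := by
    rw [← map_mul, h12, aeval_map_algebraMap]
    rw [show σ = (Algebra.TensorProduct.includeRight : S →ₐ[R] T ⊗[R] S) s from rfl,
      aeval_algHom_apply, aeval_def, hPs, map_zero]
  have hab' : aeval σ a * aeval σ P₁ + aeval σ b * aeval σ P₂ = 1 := by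
    rw [← map_mul, ← map_mul, ← map_add, hab, map_one]
  refine ⟨N, aeval σ b * aeval σ P₂, ?_, ?_, ?_⟩
  · change _ * _ = _
    linear_combination (aeval σ b * aeval σ P₂) * hab' - (aeval σ a * aeval σ b) * hσ
  all_goals
    have hev : ∀ (ζ : S →ₐ[R] Ω) (p : T[X]),
        N.eval ζ (aeval σ p) = (p.map pt.toRingHom).eval (ζ s) := fun ζ p => by
      induction p using Polynomial.induction_on' with
      | add p q hp hq => simp [hp, hq]
      | monomial n c =>
        rw [aeval_monomial, map_mul, map_pow, map_monomial, eval_monomial]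
        change N.eval ζ (c ⊗ₜ 1) * N.eval ζ (1 ⊗ₜ s) ^ n = _
        refine (congrArg₂ (· * ·) (Nbhd.eval_tmul _ _ _ _)
          (congrArg (· ^ n) (Nbhd.eval_tmul _ _ _ _))).trans ?_
        simp [N]
  · have := congrArg (N.eval ξ₁) hab'
    rw [map_add, map_mul, map_mul, map_one, hev ξ₁ P₁, hP₁] at this
    rw [map_mul]
    have hm0 : m ≠ 0 := by
      rw [← Nat.pos_iff_ne_zero, rootMultiplicity_pos hΩ.ne_zero, IsRoot, eval_map, ← aeval_def,
        aeval_algHom_apply, aeval_def, hPs, map_zero]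
    simpa [zero_pow hm0] using this
  · rw [map_mul]
    have := congrArg (N.eval ξ₂) hσ
    rw [map_mul, map_zero, hev ξ₂ P₁, hP₁, eval_pow, eval_sub, eval_X, eval_C, mul_eq_zero] at this
    rw [this.resolve_left (pow_ne_zero _ (sub_ne_zero.mpr (Ne.symm hs))), mul_zero]

/-- Finitely many lifts are separated from a given one by one idempotent. -/
theorem exists_separate_finset {ι : Type*} (t : Finset ι) (z : ι → (S →ₐ[R] Ω)) (ξ : S →ₐ[R] Ω)
    (h : ∀ i ∈ t, z i ≠ ξ) : ∃ (N : Nbhd R Ω) (e : N.A ⊗[R] S),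
      IsIdempotentElem e ∧ N.eval ξ e = 1 ∧ ∀ i ∈ t, N.eval (z i) e = 0 := by
  classical
  induction t using Finset.induction with
  | empty => exact ⟨.base, 1, .one, map_one _, by simp⟩
  | insert i t _ ih =>
    obtain ⟨N, e, he, he1, he0⟩ := ih fun j hj => h j (Finset.mem_insert_of_mem hj)
    obtain ⟨M, d, hd, hd1, hd0⟩ := exists_separate (h i (Finset.mem_insert_self i t)).symm
    refine ⟨N.prod M, (N.prodLeft M).bc e * (N.prodRight M).bc d,
      (he.map (N.prodLeft M).bc).mul (hd.map (N.prodRight M).bc), ?_, fun j hj => ?_⟩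
    · simp [Nbhd.Hom.eval_bc, he1, hd1]
    · rcases Finset.mem_insert.mp hj with rfl | hj
      · simp [Nbhd.Hom.eval_bc, hd0]
      · simp [Nbhd.Hom.eval_bc, he0 j hj]

lemma isLocallyConstant_eval [TopologicalSpace Ω] [DiscreteTopology Ω] (N : Nbhd R Ω)
    (a : N.A ⊗[R] S) :
    IsLocallyConstant (fun f : {f : S → Ω // ∃ ξ : S →ₐ[R] Ω, (ξ : S → Ω) = f} =>
      N.eval f.2.choose a) := by
  induction a with
  | zero =>
    simp only [map_zero]
    exact IsLocallyConstant.const (0 : Ω)
  | tmul a s =>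
    have : IsLocallyConstant (fun f : {f : S → Ω // ∃ ξ : S →ₐ[R] Ω, (ξ : S → Ω) = f} => f.1 s) :=
      (IsLocallyConstant.iff_continuous _).mpr ((continuous_apply s).comp continuous_subtype_val)
    convert this.comp fun t => N.pt a * t using 1
    funext f
    simp [congrFun f.2.choose_spec s]
  | add a b ha hb => simpa [Pi.add_def] using ha.comp₂ hb (· + ·)

/-- An open cover of the space of lifts has a finite subcover. -/
theorem exists_finite_cover {ι : Type*} (N : ι → Nbhd R Ω) (a : ∀ i, (N i).A ⊗[R] S)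
    (K : ∀ _ : S →ₐ[R] Ω, Prop) (M : Nbhd R Ω) (b : M.A ⊗[R] S)
    (hK : ∀ ξ, K ξ ↔ M.eval ξ b = 0)
    (hcov : ∀ ξ, K ξ → ∃ i, (N i).eval ξ (a i) = 0) :
    ∃ t : Finset ι, ∀ ξ, K ξ → ∃ i ∈ t, (N i).eval ξ (a i) = 0 := by
  classical
  let : TopologicalSpace Ω := ⊥
  have : DiscreteTopology Ω := ⟨rfl⟩
  let L := {f : S → Ω // ∃ ξ : S →ₐ[R] Ω, (ξ : S → Ω) = f}
  let root : S → Set Ω := fun s =>
    {x | x ∈ ((minpoly R s).map (algebraMap R Ω)).roots}
  have hcpt : IsCompact (Set.univ.pi root) :=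
    isCompact_univ_pi fun s => ((((minpoly R s).map (algebraMap R Ω)).roots.toFinset.finite_toSet).subset
      (fun x (hx : x ∈ ((minpoly R s).map (algebraMap R Ω)).roots) => Multiset.mem_toFinset.mpr hx)).isCompact
  have hclosed : IsClosed {f : S → Ω | ∃ ξ : S →ₐ[R] Ω, (ξ : S → Ω) = f} := by
    have : {f : S → Ω | ∃ ξ : S →ₐ[R] Ω, (ξ : S → Ω) = f} =
        {f | f 1 = 1} ∩ (⋂ (x : S) (y : S), {f | f (x * y) = f x * f y}) ∩
          (⋂ (x : S) (y : S), {f | f (x + y) = f x + f y}) ∩
          (⋂ r : R, {f | f (algebraMap R S r) = algebraMap R Ω r}) := by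
      ext f
      simp only [Set.mem_setOf_eq, Set.mem_inter_iff, Set.mem_iInter]
      constructor
      · rintro ⟨ξ, rfl⟩
        exact ⟨⟨⟨map_one ξ, map_mul ξ⟩, map_add ξ⟩, ξ.commutes⟩
      · rintro ⟨⟨⟨h1, hmul⟩, hadd⟩, hc⟩
        exact ⟨{ toFun := f, map_one' := h1, map_mul' := hmul, map_add' := hadd,
                 map_zero' := by simpa using hadd 0 0, commutes' := hc }, rfl⟩
    rw [this]
    refine ((IsClosed.inter ?_ ?_).inter ?_).inter ?_
    · exact isClosed_eq (continuous_apply _) continuous_const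
    · exact isClosed_iInter fun x => isClosed_iInter fun y =>
        isClosed_eq (continuous_apply _)
          (show Continuous ((fun p : Ω × Ω => p.1 * p.2) ∘ fun f : S → Ω => (f x, f y)) from
            continuous_of_discreteTopology.comp ((continuous_apply x).prodMk (continuous_apply y)))
    · exact isClosed_iInter fun x => isClosed_iInter fun y =>
        isClosed_eq (continuous_apply _)
          (show Continuous ((fun p : Ω × Ω => p.1 + p.2) ∘ fun f : S → Ω => (f x, f y)) from
            continuous_of_discreteTopology.comp ((continuous_apply x).prodMk (continuous_apply y)))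
    · exact isClosed_iInter fun r => isClosed_eq (continuous_apply _) continuous_const
  have hL : CompactSpace L := by
    refine isCompact_iff_compactSpace.mp (hcpt.of_isClosed_subset hclosed ?_)
    rintro f ⟨ξ, rfl⟩ s -
    simp only [root, Set.mem_setOf_eq]
    rw [mem_roots ((minpoly.monic (Algebra.IsIntegral.isIntegral s)).map _).ne_zero, IsRoot,
      eval_map, ← aeval_def, aeval_algHom_apply, minpoly.aeval, map_zero]
  let pick : L → (S →ₐ[R] Ω) := fun f => f.2.choose
  have hpick : ∀ ξ : S →ₐ[R] Ω, pick ⟨_, ξ, rfl⟩ = ξ := fun ξ =>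
    DFunLike.coe_injective (⟨_, ξ, rfl⟩ : L).2.choose_spec
  have hKc : IsCompact {f : L | M.eval (pick f) b = 0} :=
    ((isLocallyConstant_eval M b).isClopen_fiber 0).isClosed.isCompact
  obtain ⟨t, ht⟩ := hKc.elim_finite_subcover (fun i => {f : L | (N i).eval (pick f) (a i) = 0})
    (fun i => ((isLocallyConstant_eval (N i) (a i)).isClopen_fiber 0).isOpen)
    (fun f hf => Set.mem_iUnion.mpr (hcov _ ((hK _).mpr hf)))
  refine ⟨t, fun ξ hξ => ?_⟩
  have hm := ht (show (⟨_, ξ, rfl⟩ : L) ∈ {f : L | M.eval (pick f) b = 0} by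
    change M.eval (pick ⟨_, ξ, rfl⟩) b = 0
    rw [hpick]; exact (hK ξ).mp hξ)
  obtain ⟨i, hi, hi0⟩ := Set.mem_iUnion₂.mp hm
  exact ⟨i, hi, by simpa [hpick] using hi0⟩

omit [Algebra.IsIntegral R S] in
/-- A point of the base extends over a prime of an integral algebra. -/
theorem exists_hom_of_prime {A B : Type u} [CommRing A] [CommRing B] [Algebra A B]
    [Algebra.IsIntegral A B] (f : A →+* Ω) (Q : Ideal B) [Q.IsPrime]
    (hQ : Q.comap (algebraMap A B) = RingHom.ker f) :
    ∃ w : B →+* Ω, w.comp (algebraMap A B) = f ∧ ∀ b ∈ Q, w b = 0 := by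
  let p := RingHom.ker f
  have : p.IsPrime := RingHom.ker_isPrime _
  have : Q.LiesOver p := ⟨hQ.symm⟩
  let : Algebra (A ⧸ p) Ω := (RingHom.kerLift f).toAlgebra
  have : Module.IsTorsionFree (A ⧸ p) Ω :=
    Module.isTorsionFree_iff_algebraMap_injective.mpr (RingHom.kerLift_injective f)
  have : Module.IsTorsionFree (A ⧸ p) (B ⧸ Q) :=
    Module.isTorsionFree_iff_algebraMap_injective.mpr (FaithfulSMul.algebraMap_injective _ _)
  have : Algebra.IsIntegral (A ⧸ p) (B ⧸ Q) := Algebra.IsIntegral.tower_top (R := A)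
  have : Algebra.IsAlgebraic (A ⧸ p) (B ⧸ Q) := Algebra.IsIntegral.isAlgebraic
  let φ : (B ⧸ Q) →ₐ[A ⧸ p] Ω := IsAlgClosed.lift
  refine ⟨φ.toRingHom.comp (Ideal.Quotient.mk Q), RingHom.ext fun r =>
    φ.commutes (Ideal.Quotient.mk p r), fun b hb => ?_⟩
  change φ (Ideal.Quotient.mk Q b) = 0
  rw [Ideal.Quotient.eq_zero_iff_mem.mpr hb, map_zero]

/-- An element invertible at all lifts becomes invertible near the point. -/
theorem exists_mem_span_of_forall_ne_zero (N : Nbhd R Ω) (a : N.A ⊗[R] S)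
    (h : ∀ ξ, N.eval ξ a ≠ 0) : ∃ r : N.A, N.pt r ≠ 0 ∧ r ⊗ₜ (1 : S) ∈ Ideal.span {a} := by
  by_contra! hh
  have : (RingHom.ker N.pt.toRingHom).IsPrime := RingHom.ker_isPrime _
  obtain ⟨Q, hQa, _, hQp⟩ := Ideal.exists_ideal_over_prime_of_isIntegral (R := N.A)
    (S := N.A ⊗[R] S) (RingHom.ker N.pt.toRingHom) (Ideal.span {a}) fun r hr => by
      by_contra hr'
      exact hh r hr' (by simpa [Algebra.TensorProduct.algebraMap_apply] using hr)
  obtain ⟨w, hw₀, hwQ⟩ := exists_hom_of_prime N.pt.toRingHom Q hQp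
  have hw : ∀ r : N.A, w (r ⊗ₜ 1) = N.pt r := fun r => RingHom.congr_fun hw₀ r
  let ξ : S →ₐ[R] Ω :=
    { w.comp Algebra.TensorProduct.includeRight.toRingHom with
      commutes' := fun r => by
        change w (1 ⊗ₜ algebraMap R S r) = _
        rw [Algebra.algebraMap_eq_smul_one r, tmul_smul, smul_tmul', ← Algebra.algebraMap_eq_smul_one,
          hw, N.pt.commutes] }
  refine h ξ ?_
  have : ∀ x, N.eval ξ x = w x := fun x => by
    induction x with
    | zero => simp
    | tmul r s =>
      rw [Nbhd.eval_tmul, ← hw]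
      change w (r ⊗ₜ 1) * w (1 ⊗ₜ s) = _
      rw [← map_mul, Algebra.TensorProduct.tmul_mul_tmul, mul_one, one_mul]
    | add x y hx hy => simp [hx, hy]
  rw [this]
  exact hwQ a (hQa (Ideal.mem_span_singleton_self a))

/-- Shrinking at an element of the base. -/
noncomputable def Nbhd.shrink (N : Nbhd R Ω) (r : N.A) (hr : N.pt r ≠ 0) : Nbhd R Ω :=
  haveI : Algebra.Etale N.A (Localization.Away r) := .of_isLocalizationAway r
  haveI : Algebra.Etale R (Localization.Away r) := Algebra.Etale.comp R N.A _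
  { A := Localization.Away r
    pt := IsLocalization.Away.liftAlgHom (f := N.pt) r (Ne.isUnit hr) }

/-- The map to a shrinking. -/
noncomputable def Nbhd.toShrink (N : Nbhd R Ω) (r : N.A) (hr : N.pt r ≠ 0) :
    N.Hom (N.shrink r hr) where
  map := IsScalarTower.toAlgHom R N.A (Localization.Away r)
  comp := by
    ext x
    exact IsLocalization.Away.lift_eq (S := Localization.Away r) (g := N.pt.toRingHom) r (Ne.isUnit hr) x

/-- An element invertible at all lifts becomes a unit on a smaller neighbourhood. -/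
theorem exists_hom_isUnit (N : Nbhd R Ω) (a : N.A ⊗[R] S) (h : ∀ ξ, N.eval ξ a ≠ 0) :
    ∃ (M : Nbhd R Ω) (ψ : N.Hom M), IsUnit (ψ.bc a) := by
  obtain ⟨r, hr, hra⟩ := exists_mem_span_of_forall_ne_zero N a h
  refine ⟨N.shrink r hr, N.toShrink r hr, ?_⟩
  obtain ⟨c, hc⟩ := Ideal.mem_span_singleton.mp hra
  have hu : IsUnit ((N.toShrink r hr).bc (r ⊗ₜ[R] (1 : S))) :=
    (IsLocalization.Away.algebraMap_isUnit r).map
      (Algebra.TensorProduct.includeLeft : Localization.Away r →ₐ[R] Localization.Away r ⊗[R] S)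
  rw [hc, map_mul] at hu
  exact isUnit_of_mul_isUnit_left hu

/-- Near a lift, an element nonzero there dominates an idempotent. -/
theorem exists_idempotent_dvd (N : Nbhd R Ω) (h : N.A ⊗[R] S) (ξ : S →ₐ[R] Ω)
    (hξ : N.eval ξ h ≠ 0) : ∃ (M : Nbhd R Ω) (ψ : N.Hom M) (e : M.A ⊗[R] S),
      IsIdempotentElem e ∧ M.eval ξ e = 1 ∧ ψ.bc h ∣ e := by
  have hsep : ∀ ζ : {ζ : S →ₐ[R] Ω // N.eval ζ h = 0}, ∃ (M : Nbhd R Ω) (e : M.A ⊗[R] S),
      IsIdempotentElem e ∧ M.eval ξ e = 1 ∧ M.eval ζ.1 e = 0 := fun ζ =>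
    exists_separate fun e => hξ (e ▸ ζ.2)
  choose M e he he1 he0 using hsep
  obtain ⟨t, ht⟩ := exists_finite_cover M e (fun ζ => N.eval ζ h = 0) N h (fun _ => Iff.rfl)
    fun ζ hζ => ⟨⟨ζ, hζ⟩, he0 _⟩
  obtain ⟨L, ψ, d, hd, hd1, hd0⟩ : ∃ (L : Nbhd R Ω) (_ : N.Hom L) (d : L.A ⊗[R] S),
      IsIdempotentElem d ∧ L.eval ξ d = 1 ∧
        ∀ ζ i, i ∈ t → (M i).eval ζ (e i) = 0 → L.eval ζ d = 0 := by
    clear ht
    classical
    induction t using Finset.induction with
    | empty => exact ⟨N, ⟨AlgHom.id R N.A, AlgHom.comp_id _⟩, 1, .one, map_one _, by simp⟩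
    | insert i t _ ih =>
      obtain ⟨L, ψ, d, hd, hd1, hd0⟩ := ih
      refine ⟨L.prod (M i), ψ.trans (L.prodLeft (M i)),
        (L.prodLeft (M i)).bc d * (L.prodRight (M i)).bc (e i),
        (hd.map (L.prodLeft (M i)).bc).mul ((he i).map (L.prodRight (M i)).bc),
        by simp [Nbhd.Hom.eval_bc, hd1, he1], fun ζ j hj hj0 => ?_⟩
      rcases Finset.mem_insert.mp hj with rfl | hj
      · simp [Nbhd.Hom.eval_bc, hj0]
      · simp [Nbhd.Hom.eval_bc, hd0 ζ j hj hj0]
  have hne : ∀ ζ, L.eval ζ (ψ.bc h * d + (1 - d)) ≠ 0 := by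
    intro ζ
    rw [map_add, map_sub, map_mul, map_one, Nbhd.Hom.eval_bc]
    rcases (IsIdempotentElem.iff_eq_zero_or_one.mp (hd.map (L.eval ζ))) with h0 | h1
    · simp [h0]
    · rw [h1]
      simp only [mul_one, sub_self, add_zero]
      intro h0
      obtain ⟨i, hi, hi0⟩ := ht ζ h0
      exact one_ne_zero (h1.symm.trans (hd0 ζ i hi hi0))
  obtain ⟨L', χ, hu⟩ := exists_hom_isUnit L _ hne
  obtain ⟨u, hu⟩ := hu
  refine ⟨L', ψ.trans χ, χ.bc d, hd.map χ.bc, by rw [Nbhd.Hom.eval_bc, hd1],
    χ.bc d * (↑u⁻¹ : L'.A ⊗[R] S), ?_⟩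
  have htr : (ψ.trans χ).bc h = χ.bc (ψ.bc h) := by
    have : ((ψ.trans χ).bc : N.A ⊗[R] S →ₐ[R] L'.A ⊗[R] S) = χ.bc.comp ψ.bc := by
      ext <;> simp [Nbhd.Hom.bc, Nbhd.Hom.trans]
    exact AlgHom.congr_fun this h
  rw [map_add, map_sub, map_mul, map_one] at hu
  have hdd : χ.bc d * χ.bc d = χ.bc d := by rw [← map_mul, hd.eq]
  rw [htr]
  calc χ.bc d = χ.bc d * ((u : L'.A ⊗[R] S) * (↑u⁻¹ : L'.A ⊗[R] S)) := by rw [Units.mul_inv, mul_one]
    _ = χ.bc (ψ.bc h) * (χ.bc d * (↑u⁻¹ : L'.A ⊗[R] S)) := by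
      rw [hu]
      linear_combination (χ.bc (ψ.bc h) - 1) * (↑u⁻¹ : L'.A ⊗[R] S) * hdd

/-- A simple root marked by an idempotent lifts. -/
theorem exists_root_of_idempotent {D : Type u} [CommRing D] (q : D →+* Ω) (f : D[X]) (hf : f.Monic)
    (e : AdjoinRoot f) (he : IsIdempotentElem e) (α : Ω) (hα : f.eval₂ q α = 0)
    (hα' : f.derivative.eval₂ q α ≠ 0) (he1 : AdjoinRoot.lift q α hα e = 1)
    (he0 : ∀ β (hβ : f.eval₂ q β = 0), β ≠ α → AdjoinRoot.lift q β hβ e = 0) :
    ∃ h : D, q h ≠ 0 ∧ ∃ t : Localization.Away h,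
      f.eval₂ (algebraMap D _) t = 0 ∧
        ∀ q' : Localization.Away h →+* Ω, q'.comp (algebraMap D _) = q → q' t = α := by
  have hFm : (f.map q).Monic := hf.map q
  let P := AdjoinRoot.modByMonicHom hf e
  have hPe : AdjoinRoot.mk f P = e := AdjoinRoot.mk_leftInverse hf e
  have hlift : ∀ β (hβ : f.eval₂ q β = 0), AdjoinRoot.lift q β hβ e = (P.map q).eval β :=
    fun β hβ => by rw [← hPe, AdjoinRoot.lift_mk, eval_map]
  have hp1 : (P.map q).eval α = 1 := (hlift α hα).symm.trans he1
  -- the image of `e` is supported at the simple root `α`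
  have hdvd : f.map q ∣ (X - C α) * P.map q := by
    obtain ⟨Q, hQ⟩ := dvd_iff_isRoot.mpr (show (f.map q).IsRoot α by rwa [IsRoot, eval_map])
    have hQα : Q.eval α ≠ 0 := by
      intro h0
      apply hα'
      rw [← eval_map, ← derivative_map, hQ, derivative_mul]
      simp [h0]
    have h1 : f.map q ∣ P.map q * (1 - P.map q) := by
      have : AdjoinRoot.mk f (P * (1 - P)) = 0 := by
        rw [map_mul, map_sub, map_one, hPe, mul_sub, mul_one, he.eq, sub_self]
      rw [← Polynomial.map_one q, ← Polynomial.map_sub, ← Polynomial.map_mul]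
      exact Polynomial.map_dvd _ (AdjoinRoot.mk_eq_zero.mp this)
    have hcop : IsCoprime Q (1 - P.map q) :=
      (isCoprime_iff_aeval_ne_zero_of_isAlgClosed (K := Ω) Ω _ _).mpr fun β => by
        by_contra! hc
        simp only [coe_aeval_eq_eval, eval_sub, eval_one] at hc
        have hβ : f.eval₂ q β = 0 := by rw [← eval_map, hQ, eval_mul, hc.1, mul_zero]
        have hne : β ≠ α := fun hh => hQα (hh ▸ hc.1)
        rw [← hlift β hβ, he0 β hβ hne] at hc
        simp at hc
    rw [hQ]
    exact mul_dvd_mul_left _ (hcop.dvd_of_dvd_mul_right ((dvd_mul_left Q _).trans (hQ ▸ h1)))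
  have hXP : (AdjoinRoot.modByMonicHom hf (AdjoinRoot.root f * e)).map q = C α * P.map q := by
    rw [← hPe, AdjoinRoot.root, ← map_mul, AdjoinRoot.modByMonicHom_mk,
      Polynomial.map_modByMonic _ hf, Polynomial.map_mul, map_X]
    have hPdeg : (C α * P.map q) %ₘ f.map q = C α * P.map q := by
      rw [modByMonic_eq_self_iff hFm]
      refine lt_of_le_of_lt (show (C α * P.map q).degree ≤ P.degree by
        rw [← smul_eq_C_mul]; exact (degree_smul_le _ _).trans degree_map_le) ?_
      rcases subsingleton_or_nontrivial D with hD | hD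
      · exact absurd (congrArg q (Subsingleton.elim (1 : D) 0)) (by simp)
      · rw [hf.degree_map q]
        have : P = P %ₘ f := by
          conv_lhs => rw [show P = AdjoinRoot.modByMonicHom hf (AdjoinRoot.mk f P) by rw [hPe]]
          rfl
        rw [this]
        exact degree_modByMonic_lt _ hf
    have := (modByMonic_eq_zero_iff_dvd hFm).mpr hdvd
    rw [sub_mul, sub_modByMonic, sub_eq_zero, hPdeg] at this
    exact this
  have hp0 : P.map q ≠ 0 := fun h0 => by simp [h0] at hp1
  obtain ⟨i, hi⟩ : ∃ i, (P.map q).coeff i ≠ 0 := by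
    by_contra! hh
    exact hp0 (Polynomial.ext (by simpa using hh))
  set u := P.coeff i with hu
  set s := (AdjoinRoot.modByMonicHom hf (AdjoinRoot.root f * e)).coeff i with hs
  have hqu : q u ≠ 0 := by simpa [hu] using hi
  have hqs : q s = α * q u := by
    have := congrArg (fun p => p.coeff i) hXP
    simpa [hs, hu] using this
  let p := RingHom.ker q
  -- the defect `W` lies in `p • M`
  let L : AdjoinRoot f →ₗ[D] AdjoinRoot f := LinearMap.mulLeft D e
  let W := u • (AdjoinRoot.root f * e) - s • e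
  have hW : W ∈ (p • ⊤ : Submodule D (AdjoinRoot f)) := by
    have hc : ∀ k, (AdjoinRoot.modByMonicHom hf W).coeff k ∈ p := fun k => by
      rw [RingHom.mem_ker, ← coeff_map]
      simp only [W, LinearMap.map_sub, LinearMap.map_smul, Polynomial.map_sub, Polynomial.map_smul,
        coeff_sub, coeff_smul, smul_eq_mul, hXP, coeff_C_mul, hqs, P]
      ring
    rw [← AdjoinRoot.mk_leftInverse hf W, (AdjoinRoot.modByMonicHom hf W).as_sum_support, map_sum]
    refine Submodule.sum_mem _ fun k _ => ?_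
    rw [← smul_X_eq_monomial, ← AdjoinRoot.smul_mk]
    exact Submodule.smul_mem_smul (hc k) Submodule.mem_top
  have hW' : W ∈ p • L.range := by
    have : L W = W := by
      simp only [L, W, LinearMap.mulLeft_apply, mul_sub, mul_smul_comm, he.eq]
      rw [mul_left_comm, he.eq]
    rw [← this, ← Submodule.map_top L, ← Submodule.map_smul'']
    exact Submodule.mem_map_of_mem hW
  let N := Submodule.span D {e}
  let n := f.natDegree
  -- `u ^ n` maps `M` into `N + p M`
  have hpow : ∀ k, u ^ k • (AdjoinRoot.root f ^ k * e) - s ^ k • e ∈ p • L.range := by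
    intro k
    induction k with
    | zero => simp
    | succ k ih =>
      have h1 : L.range.map (LinearMap.mulLeft D (AdjoinRoot.root f)) ≤ L.range := by
        rintro _ ⟨_, ⟨x, rfl⟩, rfl⟩
        exact ⟨AdjoinRoot.root f * x, by simp [L]; ring⟩
      have h2 : u • (AdjoinRoot.root f * (u ^ k • (AdjoinRoot.root f ^ k * e) - s ^ k • e)) ∈
          p • L.range := by
        refine Submodule.smul_mem _ _ (Submodule.smul_mono le_rfl h1 ?_)
        rw [← Submodule.map_smul'']
        exact Submodule.mem_map_of_mem ih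
      have h3 : s ^ k • W ∈ p • L.range := Submodule.smul_mem _ _ hW'
      convert add_mem h2 h3 using 1
      simp only [W, mul_sub, smul_sub, mul_smul_comm, smul_smul, pow_succ]
      rw [show AdjoinRoot.root f ^ k * AdjoinRoot.root f * e =
        AdjoinRoot.root f * (AdjoinRoot.root f ^ k * e) by ring, mul_comm (u ^ k) u,
        mul_comm (s ^ k) u]
      abel
  let Q₀ : Submodule D (AdjoinRoot f ⧸ N) := L.range.map N.mkQ
  have : Module.Finite D (AdjoinRoot f) := hf.finite_adjoinRoot
  have : Module.Finite D Q₀ := Module.Finite.iff_fg.mpr ((Module.Finite.iff_fg.mp (Module.Finite.range L)).map _)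
  let φ : Module.End D Q₀ := u ^ n • 1
  have hφ : LinearMap.range φ ≤ p • ⊤ := by
    rintro _ ⟨⟨_, _, ⟨x, rfl⟩, rfl⟩, rfl⟩
    rw [← Submodule.comap_map_eq_of_injective Q₀.injective_subtype (p • ⊤), Submodule.mem_comap,
      Submodule.map_smul'', Submodule.map_subtype_top]
    change u ^ n • N.mkQ (e * x) ∈ _
    rw [← map_smul, ← Submodule.map_smul'']
    rw [← AdjoinRoot.mk_leftInverse hf x, (AdjoinRoot.modByMonicHom hf x).as_sum_support, map_sum,
      Finset.mul_sum, Finset.smul_sum, map_sum]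
    refine Submodule.sum_mem _ fun k hk => ?_
    have hkn : k ≤ n := by
      have h1 := le_natDegree_of_mem_supp k hk
      have h2 : (AdjoinRoot.modByMonicHom hf x).natDegree ≤ n := by
        rw [← AdjoinRoot.mk_leftInverse hf x, AdjoinRoot.modByMonicHom_mk]
        exact natDegree_modByMonic_le _ hf
      omega
    rw [← smul_X_eq_monomial, ← AdjoinRoot.smul_mk, mul_smul_comm, smul_comm, map_smul]
    refine Submodule.smul_mem _ _ ?_
    obtain ⟨j, hj⟩ := Nat.le.dest hkn
    have hm := Submodule.mem_map_of_mem (f := N.mkQ) (Submodule.smul_mem _ (u ^ j) (hpow k))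
    have h0 : N.mkQ e = 0 :=
      (Submodule.Quotient.mk_eq_zero N).mpr (Submodule.mem_span_singleton_self e)
    rw [map_smul, map_sub, map_smul (N.mkQ) (s ^ k), h0, smul_zero, sub_zero, map_smul,
      smul_smul, ← pow_add, add_comm j k, hj] at hm
    rw [map_pow, AdjoinRoot.mk_X, mul_comm e, map_smul]
    exact hm
  obtain ⟨P', hP'm, -, hP'c, hP'0⟩ :=
    LinearMap.exists_monic_and_natDegree_eq_and_coeff_mem_pow_and_aeval_eq_zero D φ p hφ
  set r := P'.eval (u ^ n) with hr
  have hqr : q r ≠ 0 := by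
    have : P'.map q = X ^ P'.natDegree := by
      ext k
      rw [coeff_map, coeff_X_pow]
      split_ifs with hk
      · rw [hk, hP'm.coeff_natDegree, map_one]
      · rcases lt_or_gt_of_ne hk with hk | hk
        · exact Ideal.pow_le_self (by omega) (hP'c k)
        · rw [coeff_eq_zero_of_natDegree_lt hk, map_zero]
    rw [hr, ← eval₂_at_apply, eval₂_eq_eval_map, this, eval_pow, eval_X, map_pow]
    exact pow_ne_zero _ (pow_ne_zero _ hqu)
  have hker : ∀ x : AdjoinRoot f, r • (e * x) ∈ N := by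
    intro x
    let z : Q₀ := ⟨N.mkQ (e * x), Submodule.mem_map_of_mem ⟨x, rfl⟩⟩
    have h0 := congrArg (fun g : Module.End D Q₀ => g z) hP'0
    have haev : aeval φ P' = r • (1 : Module.End D Q₀) := by
      rw [show φ = algebraMap D (Module.End D Q₀) (u ^ n) by simp [φ, Algebra.algebraMap_eq_smul_one],
        aeval_algebraMap_apply, coe_aeval_eq_eval, Algebra.algebraMap_eq_smul_one]
    rw [haev] at h0
    have h1 := congrArg Subtype.val h0
    simp only [z, LinearMap.smul_apply, Module.End.one_apply, LinearMap.zero_apply, SetLike.val_smul,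
      ZeroMemClass.coe_zero, ← map_smul] at h1
    exact (Submodule.Quotient.mk_eq_zero N).mp h1
  obtain ⟨t₀, ht₀⟩ := Submodule.mem_span_singleton.mp (hker (AdjoinRoot.root f))
  -- `r T e = t₀ e`
  have hqt : q t₀ = q r * α := by
    have := congrArg (AdjoinRoot.lift q α hα) ht₀
    rw [Algebra.smul_def, Algebra.smul_def, map_mul, map_mul, map_mul, he1,
      AdjoinRoot.algebraMap_eq, AdjoinRoot.lift_of, AdjoinRoot.lift_of, AdjoinRoot.lift_root] at this
    simpa using this
  have hG : (f.scaleRoots r).eval t₀ * u = 0 := by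
    have h1 : aeval (r • AdjoinRoot.root f) (f.scaleRoots r) = 0 := by
      rw [Algebra.smul_def]
      exact scaleRoots_aeval_eq_zero (by rw [AdjoinRoot.aeval_eq, AdjoinRoot.mk_self])
    have h2 : ∀ G : D[X], aeval (r • AdjoinRoot.root f) G * e = G.eval t₀ • e := by
      intro G
      induction G using Polynomial.induction_on' with
      | add a b ha hb => rw [map_add, add_mul, ha, hb, eval_add, add_smul]
      | monomial k c =>
        have hk : ∀ k : ℕ, (r • AdjoinRoot.root f) ^ k * e = t₀ ^ k • e := by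
          intro k
          induction k with
          | zero => simp
          | succ k ih =>
            have ht₁ : (r • AdjoinRoot.root f) * e = t₀ • e := by
              rw [ht₀, smul_mul_assoc, mul_comm]
            rw [pow_succ, mul_assoc, ht₁, mul_smul_comm, ih, smul_smul, pow_succ, mul_comm t₀]
        rw [aeval_monomial, mul_assoc, hk, eval_monomial, mul_smul_comm, ← Algebra.smul_def,
          smul_smul, mul_comm (t₀ ^ k)]
    have h3 := h2 (f.scaleRoots r)
    rw [h1, zero_mul] at h3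
    have h4 := congrArg (fun x => (AdjoinRoot.modByMonicHom hf x).coeff i) h3.symm
    simpa [hu, P] using h4
  refine ⟨r * u, by simpa using mul_ne_zero hqr hqu, ?_⟩
  let A := Localization.Away (r * u)
  have hru' : IsUnit (algebraMap D A r * algebraMap D A u) := by
    rw [← map_mul]
    exact IsLocalization.Away.algebraMap_isUnit (S := A) (r * u)
  obtain ⟨hr1, hu1⟩ := IsUnit.mul_iff.mp hru'
  obtain ⟨ru, hru⟩ := hr1
  refine ⟨algebraMap D A t₀ * (↑ru⁻¹ : A), ?_, fun q' hq' => ?_⟩
  · have h := scaleRoots_eval₂_mul (p := f) (algebraMap D A)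
      (algebraMap D A t₀ * (↑ru⁻¹ : A)) r
    rw [← hru, mul_left_comm, Units.mul_inv, mul_one, eval₂_at_apply] at h
    have h0 : algebraMap D A ((f.scaleRoots r).eval t₀) = 0 :=
      hu1.mul_left_eq_zero.mp (by rw [← map_mul, hG, map_zero])
    rw [h0] at h
    exact ((ru.isUnit.pow _).mul_right_eq_zero).mp h.symm
  · have hr' : q' (ru : A) = q r := by rw [hru, ← RingHom.comp_apply, hq']
    have h1 : q' (↑ru⁻¹ : A) * q r = 1 := by rw [← hr', ← map_mul, Units.inv_mul, map_one]
    have h2 : q' (algebraMap D A t₀) = q r * α := by rw [← RingHom.comp_apply, hq', hqt]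
    rw [map_mul, h2, mul_comm (q r) α, mul_assoc, mul_comm (q r), h1, mul_one]

/-- An étale algebra has a section near a lift of the point. -/
theorem exists_section (ξ : S →ₐ[R] Ω) (C : Type u) [CommRing C] [Algebra S C] [Algebra.Etale S C]
    (w : C →+* Ω) (hw : w.comp (algebraMap S C) = ξ.toRingHom) :
    ∃ (N : Nbhd R Ω) (h : N.A ⊗[R] S) (hξ : N.eval ξ h ≠ 0) (g : C →+* Localization.Away h),
      g.comp (algebraMap S C) = (algebraMap (N.A ⊗[R] S) (Localization.Away h)).comp
          (Algebra.TensorProduct.includeRight : S →ₐ[R] N.A ⊗[R] S).toRingHom ∧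
      (IsLocalization.Away.lift h (g := (N.eval ξ).toRingHom) (Ne.isUnit hξ)).comp g = w := by
  classical
  let p := RingHom.ker w
  have : p.IsPrime := RingHom.ker_isPrime w
  obtain ⟨c, hc, hse⟩ := Algebra.IsEtaleAt.exists_isStandardEtale (R := S) p
  let C' := Localization.Away c
  let w' : C' →+* Ω := IsLocalization.Away.lift c (g := w) (Ne.isUnit hc)
  have hw' : w'.comp (algebraMap S C') = ξ.toRingHom := by
    rw [IsScalarTower.algebraMap_eq S C C', ← RingHom.comp_assoc]
    simp [w', IsLocalization.Away.lift, hw]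
  let P₀ : StandardEtalePresentation S C' :=
    Algebra.IsStandardEtale.nonempty_standardEtalePresentation.some
  have hm : ∀ G : S[X], G.eval₂ ξ.toRingHom (w' P₀.x) = w' (aeval P₀.x G) := fun G => by
    rw [aeval_def, hom_eval₂, hw']
  have hα : P₀.f.eval₂ ξ.toRingHom (w' P₀.x) = 0 := by rw [hm, P₀.hasMap.1, map_zero]
  have hg0 : P₀.g.eval₂ ξ.toRingHom (w' P₀.x) ≠ 0 := by
    rw [hm]; exact (P₀.hasMap.2.map w').ne_zero
  have hα' : P₀.f.derivative.eval₂ ξ.toRingHom (w' P₀.x) ≠ 0 := by
    rw [hm]; exact (P₀.hasMap.isUnit_derivative_f.map w').ne_zero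
  set α := w' P₀.x
  let S₁ := AdjoinRoot P₀.f
  have : Module.Finite S S₁ := P₀.monic_f.finite_adjoinRoot
  have : Algebra.IsIntegral R S₁ := Algebra.IsIntegral.trans S
  let lam : ∀ β, P₀.f.eval₂ ξ.toRingHom β = 0 → (S₁ →ₐ[R] Ω) := fun β hβ =>
    { AdjoinRoot.lift ξ.toRingHom β hβ with
      commutes' := fun r => by
        rw [IsScalarTower.algebraMap_apply R S S₁]
        exact (AdjoinRoot.lift_of _).trans (ξ.commutes r) }
  let others := ((P₀.f.map ξ.toRingHom).roots.toFinset.erase α).attach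
  have hroot : ∀ b : {x // x ∈ (P₀.f.map ξ.toRingHom).roots.toFinset.erase α},
      P₀.f.eval₂ ξ.toRingHom b.1 = 0 := fun b => by
    have := (Finset.mem_erase.mp b.2).2
    rw [Multiset.mem_toFinset, mem_roots (P₀.monic_f.map _).ne_zero, IsRoot, eval_map] at this
    exact this
  obtain ⟨N, e, he, he1, he0⟩ := exists_separate_finset others (fun b => lam b.1 (hroot b))
    (lam α hα) fun b _ hb => (Finset.mem_erase.mp b.2).1 (by
      have := AlgHom.congr_fun hb (AdjoinRoot.root P₀.f)
      exact ((AdjoinRoot.lift_root (h := hroot b)).symm.trans this).trans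
        (AdjoinRoot.lift_root (h := hα)))
  let D := N.A ⊗[R] S
  let ι : S →+* D := (Algebra.TensorProduct.includeRight : S →ₐ[R] D).toRingHom
  let fD := P₀.f.map ι
  let Φ : N.A ⊗[R] S₁ →ₐ[R] AdjoinRoot fD :=
    Algebra.TensorProduct.lift
      ((IsScalarTower.toAlgHom R D (AdjoinRoot fD)).comp Algebra.TensorProduct.includeLeft)
      { AdjoinRoot.lift ((algebraMap D (AdjoinRoot fD)).comp ι) (AdjoinRoot.root fD) (by
          rw [← eval₂_map, AdjoinRoot.algebraMap_eq, AdjoinRoot.eval₂_root]) with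
        commutes' := fun r => by
          rw [IsScalarTower.algebraMap_apply R S S₁, IsScalarTower.algebraMap_apply R D (AdjoinRoot fD)]
          exact (AdjoinRoot.lift_of _).trans (congrArg (algebraMap D (AdjoinRoot fD))
            ((Algebra.TensorProduct.includeRight : S →ₐ[R] D).commutes r)) }
      fun _ _ => Commute.all _ _
  let q : D →+* Ω := (N.eval ξ).toRingHom
  have hqι : q.comp ι = ξ.toRingHom := by
    ext s; simp [q, ι, D]
  have hev : ∀ β (hβ : P₀.f.eval₂ ξ.toRingHom β = 0) (x : N.A ⊗[R] S₁),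
      AdjoinRoot.lift q β (by rw [eval₂_map, hqι]; exact hβ) (Φ x) = N.eval (lam β hβ) x := by
    intro β hβ x
    induction x with
    | zero => simp
    | tmul a s =>
      rw [Algebra.TensorProduct.lift_tmul, map_mul, Nbhd.eval_tmul]
      congr 1
      · exact (AdjoinRoot.lift_of _).trans (by simp [q, D])
      · induction s using AdjoinRoot.induction_on with
        | ih G =>
          change AdjoinRoot.lift q β (by rw [eval₂_map, hqι]; exact hβ)
              (AdjoinRoot.lift ((algebraMap D (AdjoinRoot fD)).comp ι) (AdjoinRoot.root fD)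
                (by rw [← eval₂_map, AdjoinRoot.algebraMap_eq, AdjoinRoot.eval₂_root])
                (AdjoinRoot.mk P₀.f G)) =
            AdjoinRoot.lift ξ.toRingHom β hβ (AdjoinRoot.mk P₀.f G)
          rw [AdjoinRoot.lift_mk, AdjoinRoot.lift_mk, hom_eval₂, AdjoinRoot.lift_root]
          congr 1
          ext c
          exact (AdjoinRoot.lift_of (f := fD) (i := q) (a := β)
            (h := by rw [eval₂_map, hqι]; exact hβ)).trans (RingHom.congr_fun hqι c)
    | add x y hx hy => simp [hx, hy]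
  obtain ⟨h, hh, t, ht, htα⟩ := exists_root_of_idempotent q fD (P₀.monic_f.map ι) (Φ e) (he.map Φ)
    α (by rw [eval₂_map, hqι]; exact hα) (by rw [derivative_map, eval₂_map, hqι]; exact hα')
    (by rw [hev α hα]; exact he1)
    (fun β hβ hne => by
      have hβ' : P₀.f.eval₂ ξ.toRingHom β = 0 := by rwa [eval₂_map, hqι] at hβ
      rw [hev β hβ']
      exact he0 ⟨β, Finset.mem_erase.mpr ⟨hne, by
        rw [Multiset.mem_toFinset, mem_roots (P₀.monic_f.map _).ne_zero, IsRoot, eval_map]
        exact hβ'⟩⟩ (Finset.mem_attach _ _))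
  let θ := (algebraMap D (Localization.Away h)).comp ι
  have htf : P₀.f.eval₂ θ t = 0 := by rwa [eval₂_map] at ht
  let qh : Localization.Away h →+* Ω := IsLocalization.Away.lift h (g := q) (Ne.isUnit hh)
  have hqh : qh.comp (algebraMap D _) = q := IsLocalization.Away.lift_comp h _
  have hqt : qh t = α := htα qh hqh
  obtain ⟨k, x, hx⟩ := IsLocalization.Away.surj h (P₀.g.eval₂ θ t)
  have hqx : q x ≠ 0 := by
    have := congrArg qh hx
    rw [map_mul, map_pow, hom_eval₂, ← RingHom.comp_apply, hqh, hqt,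
      ← RingHom.comp_apply qh, hqh] at this
    rw [← this]
    refine mul_ne_zero ?_ (pow_ne_zero _ hh)
    rw [show qh.comp θ = ξ.toRingHom by rw [← hqι, ← hqh, RingHom.comp_assoc]]
    exact hg0
  let Dh' := Localization.Away (h * x)
  let res : Localization.Away h →+* Dh' :=
    IsLocalization.Away.lift h (g := algebraMap D Dh')
      (isUnit_of_mul_isUnit_left (by
        rw [← map_mul]; exact IsLocalization.Away.algebraMap_isUnit (S := Dh') (h * x)))
  have hres : res.comp (algebraMap D _) = algebraMap D Dh' := IsLocalization.Away.lift_comp h _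
  let : Algebra S Dh' := ((algebraMap D Dh').comp ι).toAlgebra
  have hmap : P₀.P.HasMap (res t) := by
    have hres' : ∀ G : S[X], aeval (res t) G = res (G.eval₂ θ t) := fun G => by
      rw [aeval_def, hom_eval₂, ← RingHom.comp_assoc, hres]
      rfl
    refine ⟨by rw [hres']; exact (congrArg res htf).trans (map_zero _), ?_⟩
    rw [hres']
    have := congrArg res hx
    rw [map_mul, ← RingHom.comp_apply res (algebraMap D _) x, hres] at this
    refine isUnit_of_mul_isUnit_left (y := res (algebraMap D (Localization.Away h) h ^ k)) ?_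
    rw [this]
    exact isUnit_of_mul_isUnit_right (by
      rw [← map_mul]; exact IsLocalization.Away.algebraMap_isUnit (S := Dh') (h * x))
  let φ : C' →ₐ[S] Dh' := (P₀.P.lift (res t) hmap).comp P₀.equivRing.toAlgHom
  have hξ' : N.eval ξ (h * x) ≠ 0 := by rw [map_mul]; exact mul_ne_zero hh hqx
  refine ⟨N, h * x, hξ', φ.toRingHom.comp (algebraMap C C'), ?_, ?_⟩
  · rw [RingHom.comp_assoc, ← IsScalarTower.algebraMap_eq]
    exact φ.comp_algebraMap
  · let q'' := IsLocalization.Away.lift (h * x) (S := Dh') (g := q) (Ne.isUnit hξ')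
    have hq'' : q''.comp (algebraMap D Dh') = q := IsLocalization.Away.lift_comp _ _
    let : Algebra S Ω := ξ.toRingHom.toAlgebra
    let a₁ : C' →ₐ[S] Ω :=
      { q''.comp φ.toRingHom with
        commutes' := fun s => by
          change q'' (φ (algebraMap S C' s)) = ξ s
          rw [φ.commutes]
          exact (RingHom.congr_fun hq'' (ι s)).trans (RingHom.congr_fun hqι s) }
    let a₂ : C' →ₐ[S] Ω := { w' with commutes' := fun s => RingHom.congr_fun hw' s }
    have h1 : q''.comp res = qh := by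
      apply IsLocalization.ringHom_ext (Submonoid.powers h)
      rw [RingHom.comp_assoc, hres, hq'', hqh]
    have : a₁ = a₂ := P₀.hom_ext (by
      change q'' (φ P₀.x) = α
      rw [show φ P₀.x = res t by simp [φ], ← RingHom.comp_apply, h1, hqt])
    have h2 : q''.comp φ.toRingHom = w' := congrArg (fun a : C' →ₐ[S] Ω => a.toRingHom) this
    rw [← RingHom.comp_assoc, h2]
    exact IsLocalization.Away.lift_comp c _

/-- An étale algebra has a section on an idempotent piece around a lift of the point. -/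
theorem exists_idempotent_section (ξ : S →ₐ[R] Ω) (C : Type u) [CommRing C] [Algebra S C]
    [Algebra.Etale S C] (w : C →+* Ω) (hw : w.comp (algebraMap S C) = ξ.toRingHom) :
    ∃ (N : Nbhd R Ω) (e : N.A ⊗[R] S) (_ : IsIdempotentElem e) (hξ : N.eval ξ e = 1)
      (g : C →+* Localization.Away e),
      g.comp (algebraMap S C) = (algebraMap (N.A ⊗[R] S) (Localization.Away e)).comp
          (Algebra.TensorProduct.includeRight : S →ₐ[R] N.A ⊗[R] S).toRingHom ∧
      (IsLocalization.Away.lift e (g := (N.eval ξ).toRingHom)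
        (show IsUnit ((N.eval ξ).toRingHom e) from
          isUnit_iff_ne_zero.mpr (by rw [show (N.eval ξ).toRingHom e = 1 from hξ]; exact one_ne_zero))).comp
        g = w := by
  obtain ⟨N, h, hξ, g, hg, hgw⟩ := exists_section ξ C w hw
  obtain ⟨M, ψ, e, he, he1, hdvd⟩ := exists_idempotent_dvd N h ξ hξ
  let res : Localization.Away h →+* Localization.Away e :=
    IsLocalization.Away.lift h
      (g := (algebraMap (M.A ⊗[R] S) (Localization.Away e)).comp ψ.bc.toRingHom) (by
        obtain ⟨c, hc⟩ := hdvd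
        have hu := IsLocalization.Away.algebraMap_isUnit (S := Localization.Away e) e
        conv at hu => arg 1; arg 2; rw [hc]
        rw [map_mul] at hu
        exact isUnit_of_mul_isUnit_left hu)
  have hres : res.comp (algebraMap _ _) =
      (algebraMap (M.A ⊗[R] S) (Localization.Away e)).comp ψ.bc.toRingHom :=
    IsLocalization.Away.lift_comp h _
  refine ⟨M, e, he, he1, res.comp g, ?_, ?_⟩
  · rw [RingHom.comp_assoc, hg, ← RingHom.comp_assoc, hres, RingHom.comp_assoc]
    congr 1
    ext s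
    simp [Nbhd.Hom.bc]
  · rw [← RingHom.comp_assoc]
    refine Eq.trans ?_ hgw
    congr 1
    apply IsLocalization.ringHom_ext (Submonoid.powers h)
    rw [RingHom.comp_assoc, hres, ← RingHom.comp_assoc, IsLocalization.Away.lift_comp,
      IsLocalization.Away.lift_comp]
    exact RingHom.ext fun a => ψ.eval_bc ξ a

end Groth.Agent.Et18.SHensel
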