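import Groth.Agent.Et18.StrictHensel
import Mathlib.RingTheory.Idempotents

/-!
# Sections of étale algebras along the whole geometric fibre

If étale algebras reach every lift of a geometric point, then after an étale extension of the base
the integral algebra splits into finitely many pieces with sections.
-/

universe u

open TensorProduct

namespace Groth.Agent.Et18.SHensel

variable {R Ω : Type u} [CommRing R] [Field Ω] [Algebra R Ω] {S : Type u} [CommRing S] [Algebra R S]

/-- Finitely many neighbourhoods have a common refinement. -/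
theorem exists_common : ∀ (n : ℕ) (M : Fin n → Nbhd R Ω),
    ∃ L : Nbhd R Ω, Nonempty (∀ k, (M k).Hom L) := by
  intro n
  induction n with
  | zero => exact fun M => ⟨.base, ⟨fun k => Fin.elim0 k⟩⟩
  | succ n ih =>
    intro M
    obtain ⟨L, ⟨φ⟩⟩ := ih (fun k => M k.succ)
    exact ⟨(M 0).prod L,
      ⟨Fin.cases ((M 0).prodLeft L) fun k => (φ k).trans ((M 0).prodRight L)⟩⟩

lemma Nbhd.Hom.trans_bc {N M L : Nbhd R Ω} (ψ : N.Hom M) (χ : M.Hom L) (a : N.A ⊗[R] S) :
    (ψ.trans χ).bc a = χ.bc (ψ.bc a) := by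
  have : ((ψ.trans χ).bc : N.A ⊗[R] S →ₐ[R] L.A ⊗[R] S) = χ.bc.comp ψ.bc := by
    ext <;> simp [Nbhd.Hom.bc, Nbhd.Hom.trans]
  exact AlgHom.congr_fun this a

variable [IsAlgClosed Ω] [Algebra.IsIntegral R S]

/-- Idempotents covering the fibre refine to a partition; the first one is kept. -/
theorem exists_partition (n : ℕ) (M : Fin (n + 1) → Nbhd R Ω)
    (e : ∀ k, (M k).A ⊗[R] S) (he : ∀ k, IsIdempotentElem (e k))
    (hcov : ∀ ζ, ∃ k, (M k).eval ζ (e k) = 1) :
    ∃ (L : Nbhd R Ω) (φ : ∀ k, (M k).Hom L) (E : Fin (n + 1) → L.A ⊗[R] S),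
      CompleteOrthogonalIdempotents E ∧ (∀ k, ∃ c, E k = (φ k).bc (e k) * c) ∧
      E 0 = (φ 0).bc (e 0) := by
  classical
  obtain ⟨L, ⟨φ⟩⟩ := exists_common (n + 1) M
  let d : Fin (n + 1) → L.A ⊗[R] S := fun k => (φ k).bc (e k)
  let z := ∏ k, (1 - d k)
  have hz : ∀ ζ, L.eval ζ (1 - z) ≠ 0 := by
    intro ζ
    obtain ⟨k, hk⟩ := hcov ζ
    have h0 : L.eval ζ z = 0 := by
      rw [map_prod]
      refine Finset.prod_eq_zero (Finset.mem_univ k) ?_
      rw [map_sub, map_one, Nbhd.Hom.eval_bc, hk, sub_self]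
    rw [map_sub, map_one, h0, sub_zero]
    exact one_ne_zero
  obtain ⟨L', χ, hu⟩ := exists_hom_isUnit L (1 - z) hz
  let D : Fin (n + 1) → L'.A ⊗[R] S := fun k => ((φ k).trans χ).bc (e k)
  have hD : ∀ k, D k = χ.bc (d k) := fun k => Nbhd.Hom.trans_bc _ _ _
  have hDi : ∀ k, IsIdempotentElem (D k) := fun k => (he k).map _
  have hz0 : ∏ k, (1 - D k) = 0 := by
    have hidem : IsIdempotentElem (∏ k, (1 - D k)) := by
      refine Finset.prod_induction _ IsIdempotentElem (fun a b ha hb => ha.mul hb) .one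
        fun k _ => (hDi k).one_sub
    have h1 : IsUnit (1 - ∏ k, (1 - D k)) := by
      simpa [z, hD] using hu
    have h2 : (1 - ∏ k, (1 - D k)) * ∏ k, (1 - D k) = 0 := by
      rw [sub_mul, one_mul, hidem.eq, sub_self]
    exact h1.mul_right_eq_zero.mp h2
  let E : Fin (n + 1) → L'.A ⊗[R] S := fun k => D k * ∏ l ∈ Finset.Iio k, (1 - D l)
  refine ⟨L', fun k => (φ k).trans χ, E, ?_, fun k => ⟨_, rfl⟩, by
    simp only [E, D]
    rw [show Finset.Iio (0 : Fin (n + 1)) = ∅ by ext; simp, Finset.prod_empty, mul_one]⟩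
  refine CompleteOrthogonalIdempotents.iff_ortho_complete.mpr ⟨?_, ?_⟩
  · have key : ∀ a b, a < b → E a * E b = 0 := by
      intro a b hab
      simp only [E]
      rw [← Finset.mul_prod_erase (Finset.Iio b) (fun l => 1 - D l) (Finset.mem_Iio.mpr hab),
        mul_mul_mul_comm]
      have : D a * (1 - D a) = 0 := by rw [mul_sub, mul_one, (hDi a).eq, sub_self]
      linear_combination ((D b) * (∏ l ∈ Finset.Iio a, (1 - D l)) *
        (∏ l ∈ (Finset.Iio b).erase a, (1 - D l))) * this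
    intro a b hab
    rcases lt_or_gt_of_ne hab with h | h
    · exact key a b h
    · rw [mul_comm]; exact key b a h
  · have htel : ∀ (m : ℕ) (f : Fin m → L'.A ⊗[R] S),
        (∑ k, f k * ∏ l ∈ Finset.Iio k, (1 - f l)) = 1 - ∏ k, (1 - f k) := by
      intro m
      induction m with
      | zero => intro f; simp
      | succ m ih =>
        intro f
        rw [Fin.sum_univ_castSucc, Fin.prod_univ_castSucc]
        have h1 : ∀ k : Fin m, ∏ l ∈ Finset.Iio k.castSucc, (1 - f l) =
            ∏ l ∈ Finset.Iio k, (1 - f l.castSucc) := fun k => by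
          rw [← Fin.map_castSuccEmb_Iio, Finset.prod_map]; rfl
        have h2 : ∏ l ∈ Finset.Iio (Fin.last m), (1 - f l) = ∏ l : Fin m, (1 - f l.castSucc) := by
          rw [Fin.Iio_last_eq_map, Finset.prod_map]; rfl
        simp only [h1]
        rw [ih (fun k => f k.castSucc), h2]
        ring
    rw [htel, hz0, sub_zero]

/-- Étale algebras reaching every lift have sections on the pieces of a partition. -/
theorem exists_partition_section {ι : Type*} (C : ι → Type u) [∀ i, CommRing (C i)]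
    [∀ i, Algebra S (C i)] [∀ i, Algebra.Etale S (C i)]
    (i : (S →ₐ[R] Ω) → ι) (w : ∀ ζ, C (i ζ) →+* Ω)
    (hw : ∀ ζ : S →ₐ[R] Ω, (w ζ).comp (algebraMap S (C (i ζ))) = ζ.toRingHom)
    (ξ : S →ₐ[R] Ω) :
    ∃ (N : Nbhd R Ω) (n : ℕ) (E : Fin (n + 1) → N.A ⊗[R] S) (hE : N.eval ξ (E 0) = 1)
      (z : Fin (n + 1) → (S →ₐ[R] Ω))
      (g : ∀ k, C (i (z k)) →+* (N.A ⊗[R] S) ⧸ Ideal.span {1 - E k}),
      CompleteOrthogonalIdempotents E ∧ (∀ k, (g k).comp (algebraMap S (C (i (z k)))) =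
        (Ideal.Quotient.mk _).comp
          (Algebra.TensorProduct.includeRight : S →ₐ[R] N.A ⊗[R] S).toRingHom) ∧
      ∃ hz : z 0 = ξ, ∀ c, Ideal.Quotient.lift (Ideal.span {1 - E 0}) (N.eval ξ).toRingHom
          (fun a ha => by
            obtain ⟨b, rfl⟩ := Ideal.mem_span_singleton.mp ha
            change N.eval ξ ((1 - E 0) * b) = 0
            rw [map_mul, map_sub, map_one, hE, sub_self, zero_mul]) (g 0 c) =
        w ξ (hz ▸ c) := by
  classical
  have hex := fun ζ => exists_idempotent_section ζ (C (i ζ)) (w ζ) (hw ζ)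
  choose M e he he1 g hg hgw using hex
  obtain ⟨t, ht⟩ := exists_finite_cover M (fun ζ => 1 - e ζ) (fun _ => True) (Nbhd.base (Ω := Ω)) 0
    (fun ζ => by simp) (fun ζ _ => ⟨ζ, by rw [map_sub, map_one, he1, sub_self]⟩)
  let z : Fin (t.card + 1) → (S →ₐ[R] Ω) := Fin.cons ξ fun k => (t.equivFin.symm k).1
  obtain ⟨L, φ, E, hE, hc, hE0⟩ := exists_partition t.card (fun k => M (z k)) (fun k => e (z k))
    (fun k => he _) (fun ζ => by
      obtain ⟨ζ', hζ', h⟩ := ht ζ trivial
      refine ⟨(t.equivFin ⟨ζ', hζ'⟩).succ, ?_⟩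
      have : z (t.equivFin ⟨ζ', hζ'⟩).succ = ζ' := by simp [z]
      rw [this]
      rw [map_sub, map_one, sub_eq_zero] at h
      exact h.symm)
  have hz0 : z 0 = ξ := rfl
  have hE1 : L.eval ξ (E 0) = 1 := by rw [hE0, Nbhd.Hom.eval_bc]; exact he1 ξ
  let res : ∀ k, Localization.Away (e (z k)) →+* (L.A ⊗[R] S) ⧸ Ideal.span {1 - E k} := fun k =>
    IsLocalization.Away.lift (e (z k)) (g := (Ideal.Quotient.mk _).comp (φ k).bc.toRingHom) (by
      obtain ⟨c, hck⟩ := hc k
      have h1 : Ideal.Quotient.mk (Ideal.span {1 - E k}) (E k) = 1 := by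
        rw [← map_one (Ideal.Quotient.mk (Ideal.span {1 - E k})), eq_comm, Ideal.Quotient.eq]
        exact Ideal.mem_span_singleton_self _
      refine IsUnit.of_mul_eq_one (Ideal.Quotient.mk _ c) ?_
      change Ideal.Quotient.mk (Ideal.span {1 - E k}) ((φ k).bc (e (z k))) * _ = 1
      rw [← map_mul, ← hck, h1])
  have hres : ∀ k, (res k).comp (algebraMap _ _) =
      (Ideal.Quotient.mk _).comp (φ k).bc.toRingHom := fun k =>
    IsLocalization.Away.lift_comp (e (z k)) _
  refine ⟨L, t.card, E, hE1, z, fun k => (res k).comp (g (z k)), hE, fun k => ?_, hz0, fun c => ?_⟩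
  · rw [RingHom.comp_assoc, hg, ← RingHom.comp_assoc, hres, RingHom.comp_assoc]
    congr 1
    ext s
    simp [Nbhd.Hom.bc]
  · change Ideal.Quotient.lift (Ideal.span {1 - E 0}) (L.eval ξ).toRingHom _ (res 0 (g ξ c)) = w ξ c
    refine Eq.trans ?_ (RingHom.congr_fun (hgw ξ) c)
    have hker : ∀ a ∈ Ideal.span {1 - E 0}, (L.eval ξ).toRingHom a = 0 := fun a ha => by
      obtain ⟨b, rfl⟩ := Ideal.mem_span_singleton.mp ha
      change L.eval ξ ((1 - E 0) * b) = 0
      rw [map_mul, map_sub, map_one, hE1, sub_self, zero_mul]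
    have hu : IsUnit (((M ξ).eval ξ).toRingHom (e ξ)) := by
      change IsUnit ((M ξ).eval ξ (e ξ))
      rw [he1]; exact isUnit_one
    change ((Ideal.Quotient.lift (Ideal.span {1 - E 0}) (L.eval ξ).toRingHom hker).comp (res 0))
      (g ξ c) = (IsLocalization.Away.lift (e ξ) hu) (g ξ c)
    congr 1
    apply IsLocalization.ringHom_ext (Submonoid.powers (e (z 0)))
    rw [RingHom.comp_assoc, hres, ← RingHom.comp_assoc]
    refine Eq.trans ?_ (IsLocalization.Away.lift_comp (S := Localization.Away (e ξ)) (e ξ) hu).symm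
    exact RingHom.ext fun a => (φ 0).eval_bc ξ a

/-- An étale algebra reaching every lift has a section near the geometric fibre. -/
theorem exists_section_of_forall_lift (C : Type u) [CommRing C] [Algebra S C] [Algebra.Etale S C]
    (ξ : S →ₐ[R] Ω) (w : C →+* Ω) (hw : w.comp (algebraMap S C) = ξ.toRingHom)
    (h : ∀ ζ : S →ₐ[R] Ω, ∃ w' : C →+* Ω, w'.comp (algebraMap S C) = ζ.toRingHom) :
    ∃ (N : Nbhd R Ω) (g : C →+* N.A ⊗[R] S),
      g.comp (algebraMap S C) =
        (Algebra.TensorProduct.includeRight : S →ₐ[R] N.A ⊗[R] S).toRingHom ∧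
      (N.eval ξ).toRingHom.comp g = w := by
  classical
  choose w' hw' using h
  let W : (S →ₐ[R] Ω) → (C →+* Ω) := Function.update w' ξ w
  have hW : ∀ ζ : S →ₐ[R] Ω, (W ζ).comp (algebraMap S C) = ζ.toRingHom := fun ζ => by
    by_cases hζ : ζ = ξ
    · subst hζ; simp [W, hw]
    · simp [W, hζ, hw']
  obtain ⟨N, n, E, hE1, z, g, hE, hg, hz, hgw⟩ :=
    exists_partition_section (fun _ : Unit => C) (fun _ => ()) W hW ξ
  let π : N.A ⊗[R] S ≃+* ∀ k, (N.A ⊗[R] S) ⧸ Ideal.span {1 - E k} :=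
    RingEquiv.ofBijective (Pi.ringHom fun k => Ideal.Quotient.mk _) hE.bijective_pi
  refine ⟨N, π.symm.toRingHom.comp (Pi.ringHom g), ?_, ?_⟩
  · ext s
    apply π.injective
    funext k
    simp only [RingHom.comp_apply, RingEquiv.toRingHom_eq_coe, RingHom.coe_coe,
      RingEquiv.apply_symm_apply]
    exact RingHom.congr_fun (hg k) s
  · ext c
    simp only [RingHom.comp_apply, RingEquiv.toRingHom_eq_coe, RingHom.coe_coe]
    set a := π.symm (Pi.ringHom g c) with ha
    have h0 : Ideal.Quotient.mk (Ideal.span {1 - E 0}) a = g 0 c := by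
      have := congrFun (π.apply_symm_apply (Pi.ringHom g c)) 0
      exact this
    have := hgw c
    rw [← h0, Ideal.Quotient.lift_mk] at this
    refine this.trans ?_
    simp [W]

end Groth.Agent.Et18.SHensel
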