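import Groth.Agent.Et18.SHDim
import Groth.Agent.EGA43.DimFormula.AffineSp
import Groth.Agent.EGA43.DimFormula.JacobsonDim
import Groth.Agent.EGA43.RectDepthJacobson
import Groth.Agent.CommAlg6.ExcellentBasic
import Groth.Agent.DimLib.Components
import Groth.Agent.DimLib.Morphism
import Groth.Prelude.Def_Hens2

/-! Residue fields on strict localizations, and local rings of schemes of finite type over a field. -/

set_option autoImplicit false
set_option backward.isDefEq.respectTransparency false
set_option linter.style.haveILetI false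

universe u

open CategoryTheory CategoryTheory.Limits AlgebraicGeometry IsLocalRing

namespace Groth.Agent.Et18.StrictLocTrd

open Groth.Agent

/-- Images of a quasi-finite algebra in a residue field are algebraic. -/
theorem isAlgebraic_of_stage {A E R : Type u} [CommRing A] [CommRing E] [CommRing R] [Algebra A E]
    [Algebra A R] [Algebra.QuasiFinite A E] (g : E →ₐ[A] R) (x : E)
    (p : Ideal A) [p.IsPrime] (q : Ideal R) [q.IsPrime] (hp : p = q.comap (algebraMap A R)) :
    letI := (Ideal.ResidueField.map p q (algebraMap A R) hp).toAlgebra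
    IsAlgebraic p.ResidueField (algebraMap R q.ResidueField (g x)) := by
  letI : Algebra p.ResidueField q.ResidueField :=
    (Ideal.ResidueField.map p q (algebraMap A R) hp).toAlgebra
  let Q : Ideal E := q.comap g.toRingHom
  haveI : Q.IsPrime := Ideal.IsPrime.comap _
  let j : Q.ResidueField →+* q.ResidueField := Ideal.ResidueField.map Q q g.toRingHom rfl
  have hQp : p = Q.comap (algebraMap A E) := by
    rw [hp, Ideal.comap_comap]
    congr 1
    exact g.comp_algebraMap.symm
  letI : Algebra p.ResidueField Q.ResidueField :=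
    (Ideal.ResidueField.map p Q (algebraMap A E) hQp).toAlgebra
  haveI : IsScalarTower A p.ResidueField Q.ResidueField := .of_algebraMap_eq fun a =>
    ((Ideal.ResidueField.map_algebraMap p Q (algebraMap A E) hQp a).trans
      (IsScalarTower.algebraMap_apply A E Q.ResidueField a).symm).symm
  haveI : Algebra.QuasiFinite p.ResidueField Q.ResidueField :=
    Algebra.QuasiFinite.of_restrictScalars A _ _
  haveI : Module.Finite p.ResidueField Q.ResidueField := .of_quasiFinite
  haveI : Algebra.IsAlgebraic p.ResidueField Q.ResidueField := Algebra.IsAlgebraic.of_finite _ _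
  have h1 : IsAlgebraic p.ResidueField (algebraMap E Q.ResidueField x) :=
    Algebra.IsAlgebraic.isAlgebraic _
  have hcomp : j.comp (algebraMap p.ResidueField Q.ResidueField) =
      algebraMap p.ResidueField q.ResidueField := by
    refine Ideal.ResidueField.ringHom_ext (RingHom.ext fun a => ?_)
    show j (Ideal.ResidueField.map p Q (algebraMap A E) hQp (algebraMap A _ a)) =
      Ideal.ResidueField.map p q (algebraMap A R) hp (algebraMap A _ a)
    rw [Ideal.ResidueField.map_algebraMap, Ideal.ResidueField.map_algebraMap,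
      Ideal.ResidueField.map_algebraMap]
    exact congrArg _ (g.commutes a)
  let jA : Q.ResidueField →ₐ[p.ResidueField] q.ResidueField :=
    { j with commutes' := fun a => RingHom.congr_fun hcomp a }
  have h2 := h1.algHom jA
  have h3 : jA (algebraMap E Q.ResidueField x) = algebraMap R q.ResidueField (g x) :=
    Ideal.ResidueField.map_algebraMap Q q g.toRingHom rfl x
  rwa [h3] at h2

/-- Residue fields of a strict henselization are algebraic below. -/
theorem isAlgebraic_residueField {A R : Type u} [CommRing A] [IsLocalRing A] [CommRing R] [IsLocalRing R]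
    [Algebra A R] [IsLocalHom (algebraMap A R)] [Hensel.IsStrictHenselization A R]
    (p : Ideal A) [p.IsPrime] (q : Ideal R) [q.IsPrime] (hp : p = q.comap (algebraMap A R)) :
    letI := (Ideal.ResidueField.map p q (algebraMap A R) hp).toAlgebra
    Algebra.IsAlgebraic p.ResidueField q.ResidueField := by
  letI : Algebra p.ResidueField q.ResidueField :=
    (Ideal.ResidueField.map p q (algebraMap A R) hp).toAlgebra
  obtain ⟨e⟩ := HenselLib.exists_equiv_localSH (R := A) R
  have key : ∀ r : R, IsAlgebraic p.ResidueField (algebraMap R q.ResidueField r) := by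
    intro r
    obtain ⟨P, x, hx⟩ := HenselLib.exists_rep (e.symm r)
    have hg : e.toAlgHom.comp (HenselLib.ι P) x = r := by
      show e (HenselLib.ι P x) = r
      rw [hx, e.apply_symm_apply]
    have h := isAlgebraic_of_stage (e.toAlgHom.comp (HenselLib.ι P)) x p q hp
    rwa [hg] at h
  refine ⟨fun z => ?_⟩
  obtain ⟨a, b, -, rfl⟩ := IsFractionRing.div_surjective (A := R ⧸ q) z
  obtain ⟨a, rfl⟩ := Ideal.Quotient.mk_surjective a
  obtain ⟨b, rfl⟩ := Ideal.Quotient.mk_surjective b
  rw [div_eq_mul_inv]
  exact (key a).mul (key b).inv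

/-- The residue field map of a preimmersion is surjective. -/
theorem surjective_residueFieldMap_preimmersion {X Y : Scheme.{u}} (f : X ⟶ Y) [IsPreimmersion f] (x : X) :
    Function.Surjective (f.residueFieldMap x).hom := by
  intro z
  obtain ⟨w, rfl⟩ := X.residue_surjective x z
  obtain ⟨v, rfl⟩ := (f.stalkMap_surjective x) w
  exact ⟨Y.residue (f x) v, ConcreteCategory.congr_hom (Scheme.residue_residueFieldMap f x) v⟩

theorem trdeg_residueFieldMap_specMap_eq_zero {A R : Type u} [CommRing A] [IsLocalRing A] [CommRing R]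
    [IsLocalRing R] [Algebra A R] [IsLocalHom (algebraMap A R)] [Hensel.IsStrictHenselization A R]
    (Q : Spec (CommRingCat.of R)) :
    @Algebra.trdeg _ _ _ _ ((Spec.map (CommRingCat.ofHom (algebraMap A R))).residueFieldMap Q).hom.toAlgebra = 0 := by
  let φ : CommRingCat.of A ⟶ CommRingCat.of R := CommRingCat.ofHom (algebraMap A R)
  let Q₀ : Spec (CommRingCat.of A) := Spec.map φ Q
  have hp : Q₀.asIdeal = Q.asIdeal.comap (algebraMap A R) := rfl
  let eR := (Scheme.Spec.residueFieldIso (CommRingCat.of A) Q₀).symm.commRingCatIsoToRingEquiv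
  let eS := (Scheme.Spec.residueFieldIso (CommRingCat.of R) Q).symm.commRingCatIsoToRingEquiv
  letI := ((Spec.map φ).residueFieldMap Q).hom.toAlgebra
  letI := (Ideal.ResidueField.map Q₀.asIdeal Q.asIdeal (algebraMap A R) hp).toAlgebra
  haveI := isAlgebraic_residueField Q₀.asIdeal Q.asIdeal hp
  show Algebra.trdeg ((Spec (CommRingCat.of A)).residueField Q₀) ((Spec (CommRingCat.of R)).residueField Q) = 0
  rw [← EGA43.Chevalley.trdeg_eq_of_ringEquiv (R := Q₀.asIdeal.ResidueField) (S := Q.asIdeal.ResidueField)
    (R' := (Spec (CommRingCat.of A)).residueField Q₀) (S' := (Spec (CommRingCat.of R)).residueField Q) eR eS ?_]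
  · exact trdeg_eq_zero
  refine Ideal.ResidueField.ringHom_ext (RingHom.ext fun a => ?_)
  show (Scheme.Spec.residueFieldIso (CommRingCat.of R) Q).inv
      (Ideal.ResidueField.map Q₀.asIdeal Q.asIdeal (algebraMap A R) hp (algebraMap A _ a)) =
    (Spec.map φ).residueFieldMap Q
      ((Scheme.Spec.residueFieldIso (CommRingCat.of A) Q₀).inv (algebraMap A _ a))
  rw [Ideal.ResidueField.map_algebraMap]
  have h1 := ConcreteCategory.congr_hom (Scheme.Spec.algebraMap_residueFieldIso_inv (CommRingCat.of A) Q₀) a
  have h2 := ConcreteCategory.congr_hom (Scheme.Spec.algebraMap_residueFieldIso_inv (CommRingCat.of R) Q) (φ a)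
  refine (h2.trans (Eq.trans ?_ (congrArg _ h1).symm))
  show (Spec (CommRingCat.of R)).Γevaluation Q ((Scheme.ΓSpecIso (CommRingCat.of R)).inv (φ a)) =
    (Spec.map φ).residueFieldMap Q
      ((Spec (CommRingCat.of A)).Γevaluation _ ((Scheme.ΓSpecIso (CommRingCat.of A)).inv a))
  rw [Scheme.Γevaluation_naturality_apply (Spec.map φ) Q]
  refine congrArg _ ?_
  exact ConcreteCategory.congr_hom (Scheme.ΓSpecIso_inv_naturality φ) a

/-- The residue extensions along a strict localization are algebraic. -/
theorem trdeg_residueFieldMap_specOf_eq_zero {Y : Scheme.{u}} (y₀ : Y) (R : Type u) [CommRing R]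
    [IsLocalRing R] [Algebra (Y.presheaf.stalk y₀) R] [IsLocalHom (algebraMap (Y.presheaf.stalk y₀) R)]
    [Hensel.IsStrictHenselization (Y.presheaf.stalk y₀) R] (Q : Spec (CommRingCat.of R)) :
    @Algebra.trdeg _ _ _ _ ((Hens2.specOf Y y₀ R).residueFieldMap Q).hom.toAlgebra = 0 := by
  let φ := CommRingCat.ofHom (algebraMap (Y.presheaf.stalk y₀) R)
  have hsurj := surjective_residueFieldMap_preimmersion (Y.fromSpecStalk y₀) (Spec.map φ Q)
  letI := ((Spec.map φ).residueFieldMap Q).hom.toAlgebra
  letI := ((Y.fromSpecStalk y₀).residueFieldMap (Spec.map φ Q)).hom.toAlgebra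
  letI := (((Spec.map φ).residueFieldMap Q).hom.comp
    ((Y.fromSpecStalk y₀).residueFieldMap (Spec.map φ Q)).hom).toAlgebra
  haveI : Algebra.IsAlgebraic ((Spec (Y.presheaf.stalk y₀)).residueField (Spec.map φ Q))
      ((Spec (CommRingCat.of R)).residueField Q) :=
    trdeg_eq_zero_iff.1 (trdeg_residueFieldMap_specMap_eq_zero (A := ↥(Y.presheaf.stalk y₀)) Q)
  haveI : IsScalarTower (Y.residueField (Y.fromSpecStalk y₀ (Spec.map φ Q)))
      ((Spec (Y.presheaf.stalk y₀)).residueField (Spec.map φ Q))
      ((Spec (CommRingCat.of R)).residueField Q) := .of_algebraMap_eq' rfl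
  haveI : Algebra.IsAlgebraic (Y.residueField (Y.fromSpecStalk y₀ (Spec.map φ Q)))
      ((Spec (Y.presheaf.stalk y₀)).residueField (Spec.map φ Q)) :=
    ⟨fun z => by obtain ⟨w, rfl⟩ := hsurj z; exact isAlgebraic_algebraMap w⟩
  haveI := Algebra.IsAlgebraic.trans (Y.residueField (Y.fromSpecStalk y₀ (Spec.map φ Q)))
    ((Spec (Y.presheaf.stalk y₀)).residueField (Spec.map φ Q))
    ((Spec (CommRingCat.of R)).residueField Q)
  have h := trdeg_eq_zero (R := Y.residueField (Y.fromSpecStalk y₀ (Spec.map φ Q)))
    (A := (Spec (CommRingCat.of R)).residueField Q)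
  rw [show (Hens2.specOf Y y₀ R).residueFieldMap Q = (Y.fromSpecStalk y₀).residueFieldMap (Spec.map φ Q) ≫
    (Spec.map φ).residueFieldMap Q from Scheme.residueFieldMap_comp _ _ _]
  exact h

/-- Local rings of schemes of finite type over a field are universally catenary. -/
theorem isUniversallyCatenary_stalk {k : Type u} [Field k] {Y : Scheme.{u}}
    (a : Y ⟶ Spec (CommRingCat.of k)) [LocallyOfFiniteType a] (y : Y) :
    CAlg.IsUniversallyCatenary (Y.presheaf.stalk y) := by
  obtain ⟨_, ⟨U, hU, rfl⟩, hyU, -⟩ :=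
    Y.isBasis_affineOpens.exists_subset_of_mem_open (Set.mem_univ y) isOpen_univ
  have hft := HasRingHomProperty.appLE @LocallyOfFiniteType a inferInstance
    ⟨⊤, isAffineOpen_top _⟩ ⟨U, hU⟩ le_top
  let ψ : k →+* Γ(Y, U) :=
    (a.appLE ⊤ U le_top).hom.comp (Scheme.ΓSpecIso (CommRingCat.of k)).inv.hom
  have hψ : ψ.FiniteType := hft.comp
    (RingHom.FiniteType.of_surjective _ (Scheme.ΓSpecIso (CommRingCat.of k)).symm.commRingCatIsoToRingEquiv.surjective)
  algebraize [ψ]
  have h := CommAlg6.isUniversallyCatenary_of_finiteType k Γ(Y, U)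
    EGA43.RectDepth.isUniversallyCatenary_of_regular
  letI := Y.presheaf.algebra_section_stalk (⟨y, hyU⟩ : ↥U)
  haveI := hU.isLocalization_stalk ⟨y, hyU⟩
  exact CAlgMisc2.isUniversallyCatenary_localization (hU.primeIdealOf ⟨y, hyU⟩).asIdeal.primeCompl _ h

/-- `trdeg_k κ(z)` is the transcendence degree over the residue field of the point of `Spec k`. -/
theorem ptDim_eq {k : Type u} [Field k] {Z : Scheme.{u}} (a : Z ⟶ Spec (CommRingCat.of k))
    [LocallyOfFiniteType a] (z : Z) : DimLib.ptDim a z = EGA43.DimFormula.trdAt a z := by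
  have h0 : DimLib.ptDim (𝟙 (Spec (CommRingCat.of k))) (a z) = 0 :=
    (DimLib.ptDim_eq_zero_iff _ _).2 (Set.subsingleton_singleton.isClosed)
  have h := DimLib.ptDim_comp (𝟙 (Spec (CommRingCat.of k))) a z
  simp only [Category.comp_id] at h
  rw [h, h0, zero_add]

end Groth.Agent.Et18.StrictLocTrd
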