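import Mathlib.LinearAlgebra.Finsupp.LinearCombination
import Mathlib.LinearAlgebra.Quotient.Basic
import Mathlib.Tactic.Abel

/-!
# The symmetric cocycle complex of an abelian group in low degrees
-/

universe u

namespace Groth.Agent.Et18.SymCocycle

variable {P : Type u} [AddCommGroup P]

/-- A symmetric two-cocycle. -/
structure Cocycle (P : Type u) [AddCommGroup P] (Q : Type u) [AddCommGroup Q] where
  /-- The values. -/
  c : P → P → Q
  assoc : ∀ p q r, c (p + q) r + c p q = c p (q + r) + c q r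
  symm : ∀ p q, c p q = c q p

variable {Q : Type u} [AddCommGroup Q] (κ : Cocycle P Q)

/-- The extension of `P` by `Q` with that cocycle. -/
@[ext]
structure Ext where
  /-- The fibre component. -/
  fst : Q
  /-- The base component. -/
  snd : P

lemma c_zero (r : P) : κ.c 0 r = κ.c 0 0 := by
  have h := κ.assoc 0 0 r
  simp only [zero_add] at h
  exact (add_left_cancel h).symm

/-- The group law. -/
@[instance_reducible]
def group : AddCommGroup (Ext (P := P) (Q := Q)) where
  add x y := ⟨x.fst + y.fst + κ.c x.snd y.snd, x.snd + y.snd⟩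
  zero := ⟨-κ.c 0 0, 0⟩
  neg x := ⟨-x.fst - κ.c (-x.snd) x.snd - κ.c 0 0, -x.snd⟩
  add_assoc x y z := by
    refine Ext.ext ?_ (add_assoc _ _ _)
    show x.fst + y.fst + κ.c x.snd y.snd + z.fst + κ.c (x.snd + y.snd) z.snd =
      x.fst + (y.fst + z.fst + κ.c y.snd z.snd) + κ.c x.snd (y.snd + z.snd)
    have h := κ.assoc x.snd y.snd z.snd
    calc x.fst + y.fst + κ.c x.snd y.snd + z.fst + κ.c (x.snd + y.snd) z.snd
        = x.fst + y.fst + z.fst + (κ.c (x.snd + y.snd) z.snd + κ.c x.snd y.snd) := by abel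
      _ = _ := by rw [h]; abel
  zero_add x := by
    refine Ext.ext ?_ (zero_add _)
    show -κ.c 0 0 + x.fst + κ.c 0 x.snd = x.fst
    rw [c_zero κ x.snd]; abel
  add_zero x := by
    refine Ext.ext ?_ (add_zero _)
    show x.fst + -κ.c 0 0 + κ.c x.snd 0 = x.fst
    rw [κ.symm x.snd 0, c_zero κ x.snd]; abel
  neg_add_cancel x := by
    refine Ext.ext ?_ (neg_add_cancel _)
    show -x.fst - κ.c (-x.snd) x.snd - κ.c 0 0 + x.fst + κ.c (-x.snd) x.snd = -κ.c 0 0
    abel
  add_comm x y := by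
    refine Ext.ext ?_ (add_comm _ _)
    show x.fst + y.fst + κ.c x.snd y.snd = y.fst + x.fst + κ.c y.snd x.snd
    rw [κ.symm, add_comm x.fst]
  nsmul := @nsmulRec _ ⟨⟨-κ.c 0 0, 0⟩⟩ ⟨fun x y => ⟨x.fst + y.fst + κ.c x.snd y.snd, x.snd + y.snd⟩⟩
  zsmul := @zsmulRec _ ⟨⟨-κ.c 0 0, 0⟩⟩ ⟨fun x y => ⟨x.fst + y.fst + κ.c x.snd y.snd, x.snd + y.snd⟩⟩
    ⟨fun x => ⟨-x.fst - κ.c (-x.snd) x.snd - κ.c 0 0, -x.snd⟩⟩
    (@nsmulRec _ ⟨⟨-κ.c 0 0, 0⟩⟩ ⟨fun x y => ⟨x.fst + y.fst + κ.c x.snd y.snd, x.snd + y.snd⟩⟩)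

variable (P)

/-- `Z[P] → P`. -/
noncomputable abbrev ε : (P →₀ ℤ) →ₗ[ℤ] P := Finsupp.linearCombination ℤ (fun p : P => p)

/-- The first differential. -/
noncomputable abbrev d₀ : (P × P →₀ ℤ) →ₗ[ℤ] (P →₀ ℤ) := Finsupp.linearCombination ℤ
  (fun pq : P × P => Finsupp.single (pq.1 + pq.2) 1 - Finsupp.single pq.1 1 - Finsupp.single pq.2 1)

/-- The second differential, cocycle part. -/
noncomputable abbrev d₁ : (P × P × P →₀ ℤ) →ₗ[ℤ] (P × P →₀ ℤ) := Finsupp.linearCombination ℤ
  (fun t : P × P × P => Finsupp.single (t.1 + t.2.1, t.2.2) 1 - Finsupp.single (t.1, t.2.1 + t.2.2) 1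
    + Finsupp.single (t.1, t.2.1) 1 - Finsupp.single (t.2.1, t.2.2) 1)

/-- The second differential, symmetry part. -/
noncomputable abbrev d₁' : (P × P →₀ ℤ) →ₗ[ℤ] (P × P →₀ ℤ) := Finsupp.linearCombination ℤ
  (fun pq : P × P => Finsupp.single pq 1 - Finsupp.single (pq.2, pq.1) 1)

variable {P}

theorem exact : Function.Surjective (ε P) ∧ LinearMap.ker (ε P) = LinearMap.range (d₀ P) ∧
    LinearMap.ker (d₀ P) = LinearMap.range (d₁ P) ⊔ LinearMap.range (d₁' P) := by
  refine ⟨fun p => ⟨Finsupp.single p 1, by simp⟩, le_antisymm ?_ ?_, le_antisymm ?_ ?_⟩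
  · intro x hx
    let π := Submodule.mkQ (LinearMap.range (d₀ P))
    have hrel : ∀ p q, π (Finsupp.single (p + q) 1) = π (Finsupp.single p 1) + π (Finsupp.single q 1) := fun p q => by
      rw [← sub_eq_zero, ← sub_sub, ← map_sub, ← map_sub]
      exact (Submodule.Quotient.mk_eq_zero _).mpr ⟨Finsupp.single (p, q) 1, by simp⟩
    let f : P →+ _ := AddMonoidHom.mk' (fun p => π (Finsupp.single p 1)) hrel
    have key : π = f.toIntLinearMap ∘ₗ ε P := Finsupp.lhom_ext fun p n => by
      rw [LinearMap.comp_apply, Finsupp.linearCombination_single, map_smul]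
      show π (Finsupp.single p n) = n • π (Finsupp.single p 1)
      rw [← map_smul, Finsupp.smul_single_one]
    refine (Submodule.Quotient.mk_eq_zero _).mp ?_
    show π x = 0
    rw [key, LinearMap.comp_apply, LinearMap.mem_ker.mp hx, map_zero]
  · rw [LinearMap.range_le_ker_iff]
    exact Finsupp.lhom_ext fun pq n => by simp [smul_sub]
  · intro x hx
    let R := LinearMap.range (d₁ P) ⊔ LinearMap.range (d₁' P)
    let π := Submodule.mkQ R
    let κ : Cocycle P ((P × P →₀ ℤ) ⧸ R) :=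
      { c := fun p q => π (Finsupp.single (p, q) 1)
        assoc := fun p q r => by
          rw [← map_add, ← map_add, ← sub_eq_zero, ← map_sub]
          refine (Submodule.Quotient.mk_eq_zero R).mpr (Submodule.mem_sup_left ⟨Finsupp.single (p, q, r) 1, ?_⟩)
          simp only [d₁, Finsupp.linearCombination_single, one_smul]
          abel
        symm := fun p q => by
          rw [← sub_eq_zero, ← map_sub]
          exact (Submodule.Quotient.mk_eq_zero R).mpr (Submodule.mem_sup_right ⟨Finsupp.single (p, q) 1, by simp⟩) }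
    letI := group κ
    let inj : ((P × P →₀ ℤ) ⧸ R) →+ Ext (P := P) (Q := (P × P →₀ ℤ) ⧸ R) :=
      AddMonoidHom.mk' (fun a => ⟨a - κ.c 0 0, 0⟩) fun a b => Ext.ext
        (show a + b - κ.c 0 0 = a - κ.c 0 0 + (b - κ.c 0 0) + κ.c 0 0 by abel) (add_zero 0).symm
    let s : (P →₀ ℤ) →ₗ[ℤ] Ext (P := P) (Q := (P × P →₀ ℤ) ⧸ R) :=
      Finsupp.linearCombination ℤ fun p => ⟨0, p⟩
    have key : s ∘ₗ d₀ P = -(inj.toIntLinearMap ∘ₗ π) := Finsupp.lhom_ext fun pq n => by
      rw [LinearMap.comp_apply, LinearMap.neg_apply, LinearMap.comp_apply, ← Finsupp.smul_single_one,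
        map_smul, map_smul, map_smul, map_smul, ← smul_neg]
      refine congrArg (n • ·) ?_
      simp only [d₀, Finsupp.linearCombination_single, one_smul, map_sub, s]
      rw [eq_neg_iff_add_eq_zero, ← sub_eq_zero]
      show _ - (0 : Ext (P := P) (Q := (P × P →₀ ℤ) ⧸ R)) = 0
      rw [sub_zero, sub_sub, sub_add_eq_add_sub, sub_eq_zero]
      refine Ext.ext ?_ ?_
      · show (0 : (P × P →₀ ℤ) ⧸ R) + (π (Finsupp.single pq 1) - κ.c 0 0) + κ.c (pq.1 + pq.2) 0 =
          0 + 0 + κ.c pq.1 pq.2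
        rw [κ.symm (pq.1 + pq.2) 0, c_zero κ (pq.1 + pq.2)]
        show _ = 0 + 0 + π (Finsupp.single (pq.1, pq.2) 1)
        abel
      · exact add_zero _
    have h := LinearMap.congr_fun key x
    rw [LinearMap.comp_apply, LinearMap.mem_ker.mp hx, map_zero, LinearMap.neg_apply, eq_comm, neg_eq_zero] at h
    have h2 : π x - κ.c 0 0 = -κ.c 0 0 := congrArg Ext.fst h
    exact (Submodule.Quotient.mk_eq_zero R).mp (show π x = 0 by simpa [sub_eq_add_neg] using h2)
  · refine sup_le ?_ ?_ <;> rw [LinearMap.range_le_ker_iff] <;> refine Finsupp.lhom_ext fun t n => ?_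
    · simp only [d₁, d₀, LinearMap.comp_apply, Finsupp.linearCombination_single, map_smul, map_sub, map_add,
        one_smul, add_assoc, LinearMap.zero_apply]
      refine (congrArg (n • ·) ?_).trans (smul_zero n)
      abel
    · simp only [d₁', d₀, LinearMap.comp_apply, Finsupp.linearCombination_single, map_smul, map_sub,
        one_smul, add_comm t.2 t.1, LinearMap.zero_apply]
      refine (congrArg (n • ·) ?_).trans (smul_zero n)
      abel

end Groth.Agent.Et18.SymCocycle
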