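/-
Traces on symmetric tensors and the inverse characteristic polynomial:
`det(1 - u t) * ∑ₙ tr(Γⁿ u) tⁿ = 1`.
-/
import Groth.Prelude.Def_SGA4hB
import Mathlib.LinearAlgebra.PiTensorProduct.Basis
import Mathlib.LinearAlgebra.Trace
import Mathlib.LinearAlgebra.Basis.Fin
import Mathlib.LinearAlgebra.Matrix.Block
import Mathlib.LinearAlgebra.Eigenspace.Triangularizable
import Mathlib.Data.Finsupp.Multiset
import Mathlib.RingTheory.MvPolynomial.Basic
import Mathlib.RingTheory.TensorProduct.Free
import Mathlib.FieldTheory.IsAlgClosed.AlgebraicClosure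
import Mathlib.RingTheory.PowerSeries.Basic

set_option autoImplicit false

universe u

open TensorProduct PiTensorProduct Polynomial Module

noncomputable section

namespace Groth.Agent.Et18.SymTensorTrace

variable {m n : ℕ}

/-- The multiset of values of a function on `Fin n`. -/
def σ (f : Fin n → Fin m) : Sym (Fin m) n :=
  ⟨(Finset.univ : Finset (Fin n)).val.map f, by simp⟩

lemma σ_surjective : Function.Surjective (σ : (Fin n → Fin m) → Sym (Fin m) n) := fun s ↦ by
  have hl : s.1.toList.length = n := by rw [Multiset.length_toList, s.2]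
  refine ⟨fun k ↦ s.1.toList.get (k.cast hl.symm), Subtype.ext ?_⟩
  change (Finset.univ : Finset (Fin n)).val.map _ = _
  rw [Fin.univ_val_map]
  refine Eq.trans ?_ (Multiset.coe_toList s.1)
  refine congrArg _ (List.ext_getElem (by simp) ?_)
  intro i h1 h2
  rw [List.getElem_ofFn]
  rfl

/-- A chosen ordering of a multiset. -/
def rep (s : Sym (Fin m) n) : Fin n → Fin m := (σ_surjective s).choose

lemma σ_rep (s : Sym (Fin m) n) : σ (rep s) = s := (σ_surjective s).choose_spec

lemma σ_comp (f : Fin n → Fin m) (e : Equiv.Perm (Fin n)) : σ (f ∘ e) = σ f := by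
  refine Subtype.ext ?_
  change (Finset.univ : Finset (Fin n)).val.map (f ∘ e) = (Finset.univ : Finset (Fin n)).val.map f
  rw [← Multiset.map_map]
  congr 1
  exact (Multiset.map_univ_val_equiv e)

lemma exists_perm {f g : Fin n → Fin m} (h : σ f = σ g) : ∃ e : Equiv.Perm (Fin n), f = g ∘ e := by
  have key : ∀ (f : Fin n → Fin m) (i : Fin m),
      Fintype.card {k // f k = i} = (σ f).1.count i := fun f i ↦ by
    rw [Fintype.card_subtype]
    change _ = (Finset.univ.val.map f).count i
    rw [Multiset.count_map, Finset.card_def, Finset.filter_val]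
    simp only [eq_comm]
  have hc : ∀ i, Fintype.card {k // f k = i} = Fintype.card {k // g k = i} := fun i ↦ by
    rw [key, key, h]
  exact ⟨Equiv.ofFiberEquiv fun i ↦ (Fintype.equivOfCardEq (hc i)),
    funext fun k ↦ (Equiv.ofFiberEquiv_map _ k).symm⟩

section Trace

variable {A : Type u} [CommRing A] {M : Type u} [AddCommGroup M] [Module A M]

variable (A M n) in
/-- Symmetric tensors. -/
abbrev Gam : Submodule A (⨂[A] _i : Fin n, M) :=
  ⨅ e : Equiv.Perm (Fin n),
    LinearMap.eqLocus ((PiTensorProduct.reindex A (fun _ : Fin n => M) e).toLinearMap) LinearMap.id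

variable (b : Basis (Fin m) A M)

variable (n) in
/-- The tensor basis. -/
def tb : Basis (Fin n → Fin m) A (⨂[A] _i : Fin n, M) := Basis.piTensorProduct fun _ ↦ b

lemma reindex_tb (e : Equiv.Perm (Fin n)) (g : Fin n → Fin m) :
    PiTensorProduct.reindex A (fun _ : Fin n => M) e (tb n b g) = tb n b (g ∘ e.symm) := by
  simp only [tb, Basis.piTensorProduct_apply]
  exact PiTensorProduct.reindex_tprod e _

lemma repr_reindex (e : Equiv.Perm (Fin n)) (x : ⨂[A] _i : Fin n, M) (f : Fin n → Fin m) :
    (tb n b).repr (PiTensorProduct.reindex A (fun _ => M) e x) f = (tb n b).repr x (f ∘ e) := by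
  classical
  let L : (⨂[A] _i : Fin n, M) →ₗ[A] A := (tb n b).coord f ∘ₗ
    (PiTensorProduct.reindex A (fun _ : Fin n => M) e).toLinearMap
  have hL : L = (tb n b).coord (f ∘ e) := (tb n b).ext fun g ↦ by
    simp only [L, LinearMap.comp_apply, LinearEquiv.coe_toLinearMap, Basis.coord_apply, reindex_tb,
      Basis.repr_self, Finsupp.single_apply]
    refine if_congr ⟨fun h ↦ ?_, fun h ↦ ?_⟩ rfl rfl
    · ext k; simp [← h]
    · ext k; simp [h]
  exact LinearMap.congr_fun hL x

lemma repr_symm (c : (Fin n → Fin m) → A) (f : Fin n → Fin m) :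
    (tb n b).repr ((tb n b).equivFun.symm c) f = c f :=
  congrFun ((tb n b).equivFun.apply_symm_apply c) f

lemma mem_Gam_iff (x : ⨂[A] _i : Fin n, M) :
    x ∈ Gam n A M ↔ ∀ (e : Equiv.Perm (Fin n)) f, (tb n b).repr x (f ∘ e) = (tb n b).repr x f := by
  rw [Submodule.mem_iInf]
  refine forall_congr' fun e ↦ ?_
  rw [LinearMap.mem_eqLocus]
  constructor
  · intro h f
    rw [← repr_reindex]
    exact congrArg (fun y ↦ (tb n b).repr y f) h
  · intro h
    exact (tb n b).ext_elem fun f ↦ (repr_reindex b e x f).trans (h f)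

variable (n) in
/-- Symmetric tensors are functions on multisets. -/
def gamEquiv : Gam n A M ≃ₗ[A] (Sym (Fin m) n → A) where
  toFun x s := (tb n b).repr x.1 (rep s)
  invFun c := ⟨(tb n b).equivFun.symm fun f ↦ c (σ f), (mem_Gam_iff b _).2 fun e f ↦ by
    rw [repr_symm, repr_symm, σ_comp]⟩
  map_add' x y := by ext s; simp
  map_smul' r x := by ext s; simp
  left_inv x := by
    refine Subtype.ext ((tb n b).ext_elem fun f ↦ ?_)
    rw [repr_symm]
    obtain ⟨e, he⟩ := exists_perm (σ_rep (σ f))
    show (tb n b).repr x.1 (rep (σ f)) = _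
    rw [he]
    exact (mem_Gam_iff b _).1 x.2 e f
  right_inv c := by
    ext s
    simp only
    rw [repr_symm, σ_rep]

/-- The trace of the symmetric power, as a polynomial in the matrix coefficients. -/
def trPoly (n : ℕ) {R : Type*} [CommRing R] (a : Matrix (Fin m) (Fin m) R) : R :=
  ∑ s : Sym (Fin m) n, ∑ f : Fin n → Fin m, if σ f = s then ∏ k, a (rep s k) (f k) else 0

lemma map_trPoly (n : ℕ) {R S : Type*} [CommRing R] [CommRing S] (φ : R →+* S)
    (a : Matrix (Fin m) (Fin m) R) : trPoly n (a.map φ) = φ (trPoly n a) := by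
  simp [trPoly, apply_ite φ, map_sum, map_prod]

lemma repr_map (u : M →ₗ[A] M) (f g : Fin n → Fin m) :
    (tb n b).repr (PiTensorProduct.map (fun _ : Fin n => u) (tb n b f)) g =
      ∏ k, LinearMap.toMatrix b b u (g k) (f k) := by
  rw [tb, Basis.piTensorProduct_apply]
  erw [PiTensorProduct.map_tprod, Basis.piTensorProduct_repr_tprod_apply]
  simp [LinearMap.toMatrix_apply]

lemma trace_eq (u : M →ₗ[A] M) (γ : Gam n A M →ₗ[A] Gam n A M)
    (hγ : ∀ x : Gam n A M, (γ x).1 = PiTensorProduct.map (fun _ : Fin n => u) x.1) :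
    LinearMap.trace A _ γ = trPoly n (LinearMap.toMatrix b b u) := by
  classical
  rw [← LinearMap.trace_conj' γ (gamEquiv n b),
    LinearMap.trace_eq_matrix_trace A (Pi.basisFun A (Sym (Fin m) n))]
  refine Finset.sum_congr rfl fun s _ ↦ ?_
  rw [Matrix.diag_apply, LinearMap.toMatrix_apply, Pi.basisFun_repr, Pi.basisFun_apply,
    LinearEquiv.conj_apply_apply]
  change (tb n b).repr (γ _).1 (rep s) = _
  rw [hγ]
  change (tb n b).repr (PiTensorProduct.map _ ((tb n b).equivFun.symm _)) (rep s) = _
  rw [Basis.equivFun_symm_apply, map_sum, map_sum, Finsupp.finsetSum_apply]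
  refine Finset.sum_congr rfl fun f _ ↦ ?_
  rw [map_smul, map_smul, Finsupp.smul_apply, repr_map b u]
  by_cases hf : σ f = s <;> simp [hf]

lemma det_sub_eq [Module.Free A M] [Module.Finite A M] (u : M →ₗ[A] M) :
    LinearMap.det (LinearMap.id - (X : A[X]) • u.baseChange A[X]) =
      (1 - (X : A[X]) • (LinearMap.toMatrix b b u).map C).det := by
  classical
  rw [← LinearMap.det_toMatrix (b.baseChange A[X])]
  refine congrArg Matrix.det ?_
  ext i j : 1
  simp only [LinearMap.toMatrix_apply, LinearMap.sub_apply, LinearMap.id_apply, LinearMap.smul_apply,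
    Basis.baseChange_apply, LinearMap.baseChange_tmul, Matrix.sub_apply, Matrix.smul_apply,
    Matrix.map_apply, smul_eq_mul]
  rw [map_sub, map_smul, Finsupp.sub_apply, Finsupp.smul_apply, Basis.baseChange_repr_tmul,
    Basis.baseChange_repr_tmul, Basis.repr_self]
  by_cases h : i = j <;> simp [h, Algebra.smul_def, Matrix.one_apply]

lemma detOneSub_eq [Module.Free A M] [Module.Finite A M] (u : M →ₗ[A] M) :
    SGA4h.detOneSub (ModuleCat.of A M) (ModuleCat.ofHom u) =
      (1 - (X : A[X]) • (LinearMap.toMatrix b b u).map C).det :=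
  det_sub_eq b u

/-- The left-hand side. -/
def lhs {R : Type*} [CommRing R] (a : Matrix (Fin m) (Fin m) R) : PowerSeries R :=
  ((1 - (X : R[X]) • a.map C).det : R[X]) * PowerSeries.mk fun n ↦ trPoly n a

lemma map_lhs {R S : Type*} [CommRing R] [CommRing S] (φ : R →+* S)
    (a : Matrix (Fin m) (Fin m) R) : lhs (a.map φ) = PowerSeries.map φ (lhs a) := by
  rw [lhs, lhs, map_mul, ← Polynomial.polynomial_map_coe]
  congr 2
  · rw [← Polynomial.coe_mapRingHom, RingHom.map_det]
    congr 1
    ext i j
    simp [Matrix.one_apply, apply_ite (Polynomial.map φ)]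
  · ext n
    simp [map_trPoly]

/-- The canonical endomorphism of the symmetric tensors. -/
def gamMap (n : ℕ) (u : M →ₗ[A] M) : Gam n A M →ₗ[A] Gam n A M :=
  (PiTensorProduct.map fun _ : Fin n => u).restrict fun x hx ↦ by
    rw [Submodule.mem_iInf] at hx ⊢
    intro e
    have he := hx e
    rw [LinearMap.mem_eqLocus] at he ⊢
    have := PiTensorProduct.map_reindex (fun _ : Fin n => u) e x
    exact this.symm.trans (congrArg (PiTensorProduct.map fun _ : Fin n => u) he)

lemma lhs_intrinsic (b : Basis (Fin m) A M) [Module.Free A M] [Module.Finite A M]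
    (u : M →ₗ[A] M) (γ : ∀ n, Gam n A M →ₗ[A] Gam n A M)
    (hγ : ∀ n (x : Gam n A M), (γ n x).1 = PiTensorProduct.map (fun _ : Fin n => u) x.1) :
    (↑(SGA4h.detOneSub (ModuleCat.of A M) (ModuleCat.ofHom u)) : PowerSeries A) *
      PowerSeries.mk (fun n => LinearMap.trace A _ (γ n)) = lhs (LinearMap.toMatrix b b u) := by
  rw [lhs, detOneSub_eq b u]
  congr 2
  exact funext fun n ↦ trace_eq b u (γ n) (hγ n)

end Trace

section Triangular

variable {R : Type*} [CommRing R]

lemma trPoly_triangular (n : ℕ) (a : Matrix (Fin m) (Fin m) R) (ha : a.IsUpperTriangular) :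
    trPoly n a = ∑ s : Sym (Fin m) n, ∏ i, a i i ^ s.1.count i := by
  refine Finset.sum_congr rfl fun s _ ↦ ?_
  rw [Finset.sum_eq_single (rep s)]
  · rw [if_pos (σ_rep s),
      ← Finset.prod_subset (Finset.subset_univ s.1.toFinset) (fun i _ hi ↦ by
        rw [Multiset.count_eq_zero.2 (by simpa using hi), pow_zero]),
      ← Finset.prod_multiset_map_count s.1 fun i ↦ a i i]
    conv_rhs => rw [← σ_rep s]
    change _ = ((Finset.univ.val.map (rep s)).map fun i ↦ a i i).prod
    rw [Multiset.map_map]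
    rfl
  · intro f _ hf
    split_ifs with h
    · by_contra hne
      have hle : ∀ k, (rep s k : ℕ) ≤ f k := fun k ↦ not_lt.1 fun hlt ↦
        hne (Finset.prod_eq_zero (Finset.mem_univ k) (ha hlt))
      have hsum : ∀ g : Fin n → Fin m, ∑ k, (g k : ℕ) = ((σ g).1.map Fin.val).sum := fun g ↦ by
        change _ = ((Finset.univ.val.map g).map Fin.val).sum
        rw [Multiset.map_map]
        rfl
      refine hf (funext fun k ↦ Fin.ext ?_)
      exact ((Finset.sum_eq_sum_iff_of_le fun k _ ↦ hle k).1
        (by rw [hsum, hsum, σ_rep, h]) k (Finset.mem_univ k)).symm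
    · rfl
  · simp

lemma geom_mul (d : R) :
    ((1 - Polynomial.C d * Polynomial.X : R[X]) : PowerSeries R) * PowerSeries.mk (d ^ ·) = 1 := by
  push_cast
  ext k
  rw [sub_mul, one_mul, map_sub, mul_assoc, PowerSeries.coeff_C_mul]
  rcases k with _ | k
  · simp
  · rw [PowerSeries.coeff_succ_X_mul]
    simp [pow_succ']

lemma lhs_triangular (a : Matrix (Fin m) (Fin m) R) (ha : a.IsUpperTriangular) : lhs a = 1 := by
  classical
  have hdet : (1 - (X : R[X]) • a.map C).det = ∏ i, (1 - C (a i i) * X) := by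
    rw [Matrix.det_of_isUpperTriangular]
    · simp [mul_comm X]
    · intro i j hij
      simp [Matrix.one_apply_ne (show j < i from hij).ne', ha hij]
  have hser : (PowerSeries.mk fun n ↦ trPoly n a) = ∏ i, PowerSeries.mk (a i i ^ ·) := by
    ext k
    rw [PowerSeries.coeff_mk, trPoly_triangular k a ha, PowerSeries.coeff_prod]
    refine Finset.sum_bij (fun s _ ↦ Finsupp.equivFunOnFinite.symm fun i ↦ s.1.count i)
      (fun s _ ↦ ?_) (fun s _ t _ h ↦ ?_) (fun l hl ↦ ?_) (fun s _ ↦ by simp)
    · rw [Finset.mem_finsuppAntidiag]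
      exact ⟨(Multiset.sum_count_eq_card fun i _ ↦ Finset.mem_univ i).trans s.2, Finset.subset_univ _⟩
    · exact Subtype.ext (Multiset.ext.2 fun i ↦ congrArg (fun l : Fin m →₀ ℕ ↦ l i) h)
    · rw [Finset.mem_finsuppAntidiag] at hl
      refine ⟨(Sym.equivNatSumOfFintype (Fin m) k).symm ⟨l, hl.1⟩, Finset.mem_univ _, ?_⟩
      ext i
      simp [Multiset.count_sum', Multiset.count_singleton]
  rw [lhs, hdet, hser, ← Polynomial.coeToPowerSeries.ringHom_apply, map_prod,
    ← Finset.prod_mul_distrib]
  exact Finset.prod_eq_one fun i _ ↦ geom_mul (a i i)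

end Triangular

section Field

variable {K : Type u} [Field K] [IsAlgClosed K]

/-- Over an algebraically closed field there is a triangularizing basis. -/
lemma exists_triangular : ∀ (d : ℕ) {V : Type u} [AddCommGroup V] [Module K V]
    [FiniteDimensional K V], finrank K V = d → ∀ f : V →ₗ[K] V,
    ∃ b : Basis (Fin d) K V, ∀ i j, j < i → b.repr (f (b j)) i = 0 := by
  intro d
  induction d with
  | zero => exact fun h f ↦ ⟨(finBasisOfFinrankEq K _ h), fun i ↦ i.elim0⟩
  | succ d ih =>
    intro V _ _ _ hd f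
    have : Nontrivial V := Module.nontrivial_of_finrank_eq_succ hd
    obtain ⟨μ, hμ⟩ := Module.End.exists_eigenvalue f
    obtain ⟨x, hx⟩ := hμ.exists_hasEigenvector
    let r := f - μ • LinearMap.id
    have hr : LinearMap.range r ≠ ⊤ := fun h ↦ by
      have hi : Function.Injective r :=
        LinearMap.injective_iff_surjective.2 (LinearMap.range_eq_top.1 h)
      exact hx.2 (hi (by simp [r, hx.apply_eq_smul]))
    obtain ⟨W, hWc, hW⟩ := (eq_top_or_exists_le_coatom (LinearMap.range r)).resolve_left hr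
    have hfW : ∀ w ∈ W, f w ∈ W := fun w hw ↦ by
      have : f w = r w + μ • w := by simp [r]
      rw [this]
      exact add_mem (hW (LinearMap.mem_range_self r w)) (W.smul_mem μ hw)
    obtain ⟨v, -, hv⟩ := SetLike.exists_of_lt hWc.1.lt_top
    have hsup : W ⊔ K ∙ v = ⊤ := hWc.2 _ (lt_of_le_of_ne le_sup_left fun h ↦
      hv (h ▸ Submodule.mem_sup_right (Submodule.mem_span_singleton_self v)))
    have hv0 : v ≠ 0 := fun h ↦ hv (h ▸ W.zero_mem)
    have hdisj : W ⊓ (K ∙ v) = ⊥ :=
      ((Submodule.disjoint_span_singleton' hv0).2 hv).eq_bot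
    have hdW : finrank K W = d := by
      have := Submodule.finrank_sup_add_finrank_inf_eq W (K ∙ v)
      rw [hsup, hdisj, finrank_top, finrank_bot, finrank_span_singleton hv0, hd] at this
      omega
    obtain ⟨bW, hbW⟩ := ih hdW (f.restrict hfW)
    have hli : ∀ c : K, ∀ y ∈ W, c • v + y = 0 → c = 0 := fun c y hy h ↦ by
      by_contra hc
      exact hv ((W.smul_mem_iff hc).1 (eq_neg_of_add_eq_zero_left h ▸ W.neg_mem hy))
    have hsp : ∀ z : V, ∃ c : K, z + c • v ∈ W := fun z ↦ by
      obtain ⟨y, hy, t, ht, rfl⟩ := Submodule.mem_sup.1 (hsup ▸ Submodule.mem_top : z ∈ W ⊔ K ∙ v)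
      obtain ⟨c, rfl⟩ := Submodule.mem_span_singleton.1 ht
      exact ⟨-c, by simpa using hy⟩
    let b := Basis.mkFinSnoc bW v hli hsp
    have hcast : ∀ j : Fin d, b j.castSucc = bW j := fun j ↦ by simp [b]
    have hrepr : ∀ (y : W) (i : Fin d), b.repr y.1 i.castSucc = bW.repr y i ∧
        b.repr y.1 (Fin.last d) = 0 := by
      intro y i
      have : (y : V) = ∑ k, bW.repr y k • b k.castSucc := by
        conv_lhs => rw [← bW.sum_repr y]
        simp only [hcast, Submodule.coe_sum, Submodule.coe_smul]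
      rw [this]
      simp [Finsupp.single_apply, Fin.castSucc_inj, (Fin.castSucc_lt_last _).ne]
    refine ⟨b, fun i j hij ↦ ?_⟩
    obtain ⟨j', rfl⟩ := Fin.exists_castSucc_eq.2 (hij.trans_le i.le_last).ne
    have hy : f (bW j' : V) = (f.restrict hfW (bW j') : V) := rfl
    rw [hcast, hy]
    induction i using Fin.lastCases with
    | last => exact (hrepr _ j').2
    | cast i =>
      rw [(hrepr _ i).1]
      exact hbW i j' (Fin.castSucc_lt_castSucc_iff.1 hij)

lemma lhs_eq_one_field (a : Matrix (Fin m) (Fin m) K) : lhs a = 1 := by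
  classical
  let u : (Fin m → K) →ₗ[K] (Fin m → K) := Matrix.toLin' a
  have hγ : ∀ n (x : Gam n K (Fin m → K)),
      (gamMap n u x).1 = PiTensorProduct.map (fun _ : Fin n => u) x.1 := fun n x ↦ rfl
  obtain ⟨b, hb⟩ := exists_triangular m (Module.finrank_fin_fun K) u
  have h1 := lhs_intrinsic (Pi.basisFun K (Fin m)) u _ hγ
  have h2 := lhs_intrinsic b u _ hγ
  have hu : LinearMap.toMatrix (Pi.basisFun K (Fin m)) (Pi.basisFun K (Fin m)) u = a := by
    simp [u, LinearMap.toMatrix_eq_toMatrix']
  rw [hu] at h1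
  rw [← h1, h2]
  exact lhs_triangular _ fun i j hij ↦ by
    rw [LinearMap.toMatrix_apply]; exact hb i j hij

end Field

lemma lhs_eq_one {R : Type*} [CommRing R] (a : Matrix (Fin m) (Fin m) R) : lhs a = 1 := by
  let R₀ := MvPolynomial (Fin m × Fin m) ℤ
  let K := AlgebraicClosure (FractionRing R₀)
  let g : Matrix (Fin m) (Fin m) R₀ := Matrix.of fun i j ↦ MvPolynomial.X (i, j)
  let ι : R₀ →+* K := (algebraMap (FractionRing R₀) K).comp (algebraMap R₀ (FractionRing R₀))
  have hι : Function.Injective ι := (FaithfulSMul.algebraMap_injective (FractionRing R₀) K).comp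
    (IsFractionRing.injective R₀ (FractionRing R₀))
  have hg : lhs g = 1 := by
    refine PowerSeries.map_injective ι hι ?_
    rw [← map_lhs, lhs_eq_one_field, map_one]
  let φ : R₀ →+* R := (MvPolynomial.aeval fun p : Fin m × Fin m ↦ a p.1 p.2).toRingHom
  have : g.map φ = a := by
    ext i j
    simp only [Matrix.map_apply, g, Matrix.of_apply, φ]
    exact MvPolynomial.aeval_X _ _
  rw [← this, map_lhs, hg, map_one]

end Groth.Agent.Et18.SymTensorTrace
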