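import Mathlib
import Groth.Prelude.Def_SGA7a

/-!
# Tame extensions when everything is inertia
-/

set_option autoImplicit false
set_option linter.deprecated false
universe u

open scoped IntermediateField

noncomputable section

namespace Groth.Agent.Et18.Tame

variable {K Ω : Type u} [Field K] [Field Ω] [Algebra K Ω] [IsSepClosure K Ω] (W : ValuationSubring Ω)
  (hI : ∀ σ : Ω ≃ₐ[K] Ω, SGA7.IsInertia W σ)

omit [IsSepClosure K Ω] in
include hI in
theorem mem_iff (σ : Ω ≃ₐ[K] Ω) (x : Ω) : σ x ∈ W ↔ x ∈ W :=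
  ⟨fun h => by simpa using (hI σ.symm _ h).1, fun h => (hI σ x h).1⟩

omit [IsSepClosure K Ω] in
include hI in
theorem lt_iff (σ : Ω ≃ₐ[K] Ω) {x y : Ω} (hx : x ≠ 0) :
    W.valuation (σ y) < W.valuation (σ x) ↔ W.valuation y < W.valuation x := by
  have key : ∀ a b : Ω, a ≠ 0 → (W.valuation b ≤ W.valuation a ↔ b / a ∈ W) := fun a b ha => by
    rw [← ValuationSubring.valuation_le_one_iff, map_div₀, div_le_one₀ (zero_lt_iff.2 (W.valuation.ne_zero_iff.2 ha))]
  by_cases hy : y = 0
  · simp only [hy, map_zero, zero_lt_iff, ne_eq, Valuation.zero_iff, map_eq_zero]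
  · rw [← not_le, ← not_le, key y x hy, key (σ y) (σ x) (by simpa using hy), ← map_div₀, mem_iff W hI]

include hI in
theorem val_fix (σ : Ω ≃ₐ[K] Ω) (x : Ω) : W.valuation (σ x) = W.valuation x := by
  have hint : Algebra.IsSeparable K Ω := IsSepClosure.separable
  have key : ∀ (σ : Ω ≃ₐ[K] Ω), ¬ W.valuation (σ x) < W.valuation x := fun σ hlt => by
    have hx : x ≠ 0 := fun h => by simp [h] at hlt
    let f : ℕ → Ω := fun i => (σ : Ω → Ω)^[i] x
    have hne : ∀ i, f i ≠ 0 := fun i => by
      induction i with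
      | zero => exact hx
      | succ i ih => simp only [f, Function.iterate_succ_apply']; simpa using ih
    have hanti : StrictAnti (fun i => W.valuation (f i)) := strictAnti_nat_of_succ_lt fun i => by
      induction i with
      | zero => exact hlt
      | succ i ih =>
        simp only [f] at ih ⊢
        rw [Function.iterate_succ_apply' _ (i + 1)]
        conv_rhs => rw [Function.iterate_succ_apply']
        exact (lt_iff W hI σ (hne i)).2 ih
    have hint' : IsIntegral K x := Algebra.IsIntegral.isIntegral x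
    have hroot : ∀ i, f i ∈ (minpoly K x).rootSet Ω := fun i => by
      rw [Polynomial.mem_rootSet]
      refine ⟨minpoly.ne_zero hint', ?_⟩
      induction i with
      | zero => exact minpoly.aeval K x
      | succ i ih =>
        simp only [f, Function.iterate_succ_apply']
        rw [Polynomial.aeval_algHom_apply, ih, map_zero]
    exact Set.infinite_range_of_injective (fun a b h => hanti.injective (congrArg W.valuation h))
      (((minpoly K x).rootSet_finite Ω).subset (Set.range_subset_iff.2 hroot))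
  refine le_antisymm (le_of_not_gt fun h => ?_) (le_of_not_gt (key σ))
  by_cases hx : x = 0
  · simp [hx] at h
  · refine key σ.symm ((lt_iff W hI σ hx).1 ?_)
    rwa [AlgEquiv.apply_symm_apply]

omit [Algebra K Ω] [IsSepClosure K Ω] in
theorem eq_one_of {n : ℕ} (hn : W.valuation (n : Ω) = 1) {η : Ω} (hη : η ^ n = 1) (h1 : W.valuation (η - 1) < 1) :
    η = 1 := by
  have hv : W.valuation η = 1 := by
    have h : W.valuation (1 + (η - 1)) = W.valuation (1 : Ω) := W.valuation.map_add_eq_of_lt_left (by rwa [map_one])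
    rwa [add_sub_cancel, map_one] at h
  have hi : ∀ i : ℕ, W.valuation (η ^ i - 1) < 1 := fun i => by
    induction i with
    | zero => simp
    | succ i ih =>
      rw [show η ^ (i + 1) - 1 = η ^ i * (η - 1) + (η ^ i - 1) by ring]
      refine lt_of_le_of_lt (W.valuation.map_add _ _) (max_lt ?_ ih)
      rwa [map_mul, map_pow, hv, one_pow, one_mul]
  have hs : W.valuation (∑ i ∈ Finset.range n, η ^ i) = 1 := by
    have e : (∑ i ∈ Finset.range n, η ^ i) = (n : Ω) + ∑ i ∈ Finset.range n, (η ^ i - 1) := by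
      simp [Finset.sum_sub_distrib]
    rw [e, W.valuation.map_add_eq_of_lt_left, hn]
    rw [hn]
    exact W.valuation.map_sum_lt (by simp) fun i _ => hi i
  have h0 : (∑ i ∈ Finset.range n, η ^ i) * (η - 1) = 0 := by rw [geom_sum_mul, hη, sub_self]
  rcases mul_eq_zero.1 h0 with h | h
  · rw [h, map_zero] at hs; exact absurd hs zero_ne_one
  · exact sub_eq_zero.1 h

include hI in
theorem fixed_root_of_unity {n : ℕ} (hn : W.valuation (n : Ω) = 1) {ζ : Ω} (hζ : ζ ^ n = 1) (σ : Ω ≃ₐ[K] Ω) :
    σ ζ = ζ := by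
  have hn0 : n ≠ 0 := fun h => by simp [h] at hn
  have hv : W.valuation ζ = 1 := (pow_left_inj₀ zero_le' zero_le' hn0).1 (by rw [← map_pow, hζ, map_one, one_pow])
  have hζ0 : ζ ≠ 0 := fun h => by simp [h] at hv
  have h := (hI σ ζ ((ValuationSubring.valuation_le_one_iff W ζ).1 hv.le)).2
  have := eq_one_of W hn (η := σ ζ / ζ) (by rw [div_pow, ← map_pow, hζ, map_one, div_one]) (by
    rw [div_sub_one hζ0, map_div₀, hv, div_one]; exact h)
  exact (div_eq_one_iff_eq hζ0).1 this

variable (R : Type u) [CommRing R] [IsDomain R] [IsDiscreteValuationRing R] [Algebra R K] [IsFractionRing R K]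
  [Algebra R Ω] [IsScalarTower R K Ω] (hW : SGA7.LiesOver K R W)

include hW

theorem val_unit {a : R} (ha : IsUnit a) : W.valuation (algebraMap R Ω a) = 1 := by
  obtain ⟨u, rfl⟩ := ha
  have h : ∀ b : R, W.valuation (algebraMap R Ω b) ≤ 1 := fun b => by
    rw [ValuationSubring.valuation_le_one_iff, IsScalarTower.algebraMap_apply R K Ω]
    exact hW.1 b
  refine le_antisymm (h _) ?_
  have h1 : W.valuation (algebraMap R Ω u) * W.valuation (algebraMap R Ω (↑u⁻¹ : R)) = 1 := by
    rw [← map_mul, ← map_mul, Units.mul_inv, map_one, map_one]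
  calc (1 : W.ValueGroup) = _ := h1.symm
    _ ≤ W.valuation (algebraMap R Ω u) * 1 := mul_le_mul' le_rfl (h _)
    _ = _ := mul_one _

theorem exists_zpow {π : R} (hπ : Irreducible π) {c : K} (hc : c ≠ 0) :
    ∃ i : ℤ, W.valuation (algebraMap K Ω c) = W.valuation (algebraMap R Ω π) ^ i := by
  obtain ⟨a, b, hb, rfl⟩ := IsFractionRing.div_surjective (A := R) c
  rw [div_ne_zero_iff] at hc
  have key : ∀ a : R, algebraMap R K a ≠ 0 → ∃ i : ℕ,
      W.valuation (algebraMap K Ω (algebraMap R K a)) = W.valuation (algebraMap R Ω π) ^ i := fun a ha => by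
    obtain ⟨i, u, hu⟩ := IsDiscreteValuationRing.eq_unit_mul_pow_irreducible (fun h : a = 0 => ha (by simp [h])) hπ
    refine ⟨i, ?_⟩
    rw [← IsScalarTower.algebraMap_apply, hu, map_mul, map_mul, val_unit W R hW u.isUnit, one_mul, map_pow, map_pow]
  obtain ⟨i, hi⟩ := key a hc.1
  obtain ⟨j, hj⟩ := key b hc.2
  refine ⟨(i : ℤ) - j, ?_⟩
  have hπ0 : W.valuation (algebraMap R Ω π) ≠ 0 := by
    rw [Valuation.ne_zero_iff, IsScalarTower.algebraMap_apply R K Ω]
    simp [hπ.ne_zero]
  rw [map_div₀, map_div₀, hi, hj, zpow_sub₀ hπ0, zpow_natCast, zpow_natCast]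

include hI in
theorem norm_val {π : R} (hπ : Irreducible π) (L : IntermediateField K Ω) [FiniteDimensional K L] [IsGalois K L]
    {x : Ω} (hx : x ∈ L) (hx0 : x ≠ 0) :
    ∃ i : ℤ, W.valuation x ^ Module.finrank K L = W.valuation (algebraMap R Ω π) ^ i := by
  haveI : IsGalois K Ω := IsSepClosure.isGalois
  have h0 : Algebra.norm K (⟨x, hx⟩ : L) ≠ 0 := Algebra.norm_ne_zero_iff.2 fun h => hx0 (congrArg Subtype.val h)
  obtain ⟨i, hi⟩ := exists_zpow W R hW hπ h0
  refine ⟨i, ?_⟩
  rw [← hi, IsScalarTower.algebraMap_apply K L Ω, Algebra.norm_eq_prod_automorphisms, map_prod, map_prod,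
    Finset.prod_congr rfl (fun σ _ => show W.valuation (algebraMap L Ω (σ ⟨x, hx⟩)) = W.valuation x by
      rw [← AlgEquiv.liftNormal_commutes σ Ω]; exact val_fix W hI _ x), Finset.prod_const, Finset.card_univ,
    ← IsGalois.card_aut_eq_finrank, Nat.card_eq_fintype_card]

section main

variable {r : ℕ} (hr : 0 < r) (hrk : (r : IsLocalRing.ResidueField R) ≠ 0) {π : R} (hπ : Irreducible π)
  {ρ : Ω} (hρ : ρ ^ r = algebraMap R Ω π)

include hrk in
theorem val_r : W.valuation (r : Ω) = 1 := by
  have hu : IsUnit (r : R) := (IsLocalRing.residue_ne_zero_iff_isUnit _).1 (by rwa [map_natCast])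
  simpa using val_unit W R hW hu

include hπ in
theorem val_pi : W.valuation (algebraMap R Ω π) < 1 := by
  rw [IsScalarTower.algebraMap_apply R K Ω]
  exact hW.2 π ((IsLocalRing.mem_maximalIdeal π).2 hπ.not_isUnit)

include hπ hρ hr in
theorem rho_ne_zero : ρ ≠ 0 := fun h => by
  rw [h, zero_pow hr.ne', IsScalarTower.algebraMap_apply R K Ω, eq_comm, map_eq_zero,
    IsFractionRing.to_map_eq_zero_iff] at hρ
  exact hπ.ne_zero hρ

include hI hr hrk hπ hρ in
theorem galois_adjoin : IsGalois K K⟮ρ⟯ := by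
  haveI : IsGalois K Ω := IsSepClosure.isGalois
  haveI : Normal K K⟮ρ⟯ := by
    rw [IntermediateField.normal_iff_forall_map_le']
    intro σ
    rw [IntermediateField.adjoin_map, Set.image_singleton, IntermediateField.adjoin_simple_le_iff]
    have hρ0 := rho_ne_zero W R hW hr hπ hρ
    have hζ : ((σ ρ) / ρ) ^ r = 1 := by
      rw [div_pow, ← map_pow, hρ, IsScalarTower.algebraMap_apply R K Ω, AlgEquiv.commutes, div_self]
      simp [hπ.ne_zero]
    obtain ⟨c, hc⟩ : σ ρ / ρ ∈ Set.range (algebraMap K Ω) :=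
      (InfiniteGalois.mem_range_algebraMap_iff_fixed _).2 fun τ => fixed_root_of_unity W hI (val_r W R hW hrk) hζ τ
    rw [show σ.toAlgHom ρ = algebraMap K Ω c * ρ by rw [hc, div_mul_cancel₀ _ hρ0]; rfl]
    exact mul_mem (IntermediateField.algebraMap_mem _ _) (IntermediateField.mem_adjoin_simple_self K ρ)
  exact ⟨⟩

include hI hr hrk hπ hρ in
theorem finrank_adjoin : Module.finrank K K⟮ρ⟯ = r := by
  have hint : IsIntegral K ρ := by
    haveI : IsGalois K Ω := IsSepClosure.isGalois
    exact Algebra.IsIntegral.isIntegral ρ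
  haveI := IntermediateField.adjoin.finiteDimensional hint
  haveI := galois_adjoin W hI R hW hr hrk hπ hρ
  set d := Module.finrank K K⟮ρ⟯ with hd
  have hdr : d ≤ r := by
    rw [hd, IntermediateField.adjoin.finrank hint]
    refine (Polynomial.natDegree_le_of_dvd (minpoly.dvd K ρ (p := Polynomial.X ^ r - Polynomial.C (algebraMap R K π)) ?_)
      (Polynomial.X_pow_sub_C_ne_zero hr _)).trans (Polynomial.natDegree_X_pow_sub_C).le
    rw [map_sub, Polynomial.aeval_X_pow, Polynomial.aeval_C, hρ, IsScalarTower.algebraMap_apply R K Ω, sub_self]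
  obtain ⟨i, hi⟩ := norm_val W hI R hW hπ K⟮ρ⟯ (IntermediateField.mem_adjoin_simple_self K ρ) (rho_ne_zero W R hW hr hπ hρ)
  set P := W.valuation (algebraMap R Ω π)
  have hP0 : 0 < P := by
    rw [zero_lt_iff, Valuation.ne_zero_iff, IsScalarTower.algebraMap_apply R K Ω]
    simp [hπ.ne_zero]
  have e : P ^ (d : ℤ) = P ^ (i * r) := by
    rw [zpow_mul, ← hi, zpow_natCast, zpow_natCast, ← hd, ← pow_mul, mul_comm, pow_mul, ← map_pow W.valuation ρ r, hρ]
  have e' : (d : ℤ) = i * r := (zpow_right_strictAnti₀ hP0 (val_pi W R hW hπ)).injective e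
  have hd0 : 0 < d := Module.finrank_pos
  have : (r : ℤ) ∣ d := ⟨i, by rw [e', mul_comm]⟩
  exact le_antisymm hdr (Nat.le_of_dvd hd0 (Int.natCast_dvd_natCast.1 this))

include hI hr hrk hπ hρ in
theorem le_adjoin (L : IntermediateField K Ω) (hL : Module.finrank K L = r) [IsGalois K L] : L ≤ K⟮ρ⟯ := by
  haveI : IsGalois K Ω := IsSepClosure.isGalois
  haveI : FiniteDimensional K L := Module.finite_of_finrank_pos (hL ▸ hr)
  intro x hx
  suffices h : ∀ σ : Ω ≃ₐ[K] Ω, σ ρ = ρ → σ x = x by
    rw [← InfiniteGalois.fixedField_fixingSubgroup K⟮ρ⟯, IntermediateField.mem_fixedField_iff]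
    exact fun σ hσ => h σ ((IntermediateField.mem_fixingSubgroup_iff _ σ).1 hσ ρ (IntermediateField.mem_adjoin_simple_self K ρ))
  intro σ hσ
  let τ := AlgEquiv.restrictNormalHom L σ
  have hpow : ∀ (i : ℕ) (y : L), ((τ ^ i) y : Ω) = (σ : Ω → Ω)^[i] y := fun i y => by
    induction i with
    | zero => rfl
    | succ i ih =>
      rw [pow_succ', AlgEquiv.mul_apply, Function.iterate_succ_apply', ← ih]
      exact AlgEquiv.restrictNormal_commutes σ L _
  have hτr : τ ^ r = 1 := by
    rw [← hL, ← IsGalois.card_aut_eq_finrank]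
    exact pow_card_eq_one'
  have hcong : ∀ y ∈ L, y ≠ 0 → W.valuation (σ y - y) < W.valuation y := fun y hy hy0 => by
    obtain ⟨i, hi⟩ := norm_val W hI R hW hπ L hy hy0
    have hv : W.valuation y = W.valuation (ρ ^ i) := by
      refine (pow_left_inj₀ zero_le' zero_le' hr.ne').1 ?_
      rw [← hL, hi, hL, ← hρ, map_zpow₀, map_pow, ← zpow_natCast, ← zpow_natCast, ← zpow_mul, ← zpow_mul, mul_comm]
    have hρi : ρ ^ i ≠ 0 := zpow_ne_zero _ (rho_ne_zero W R hW hr hπ hρ)
    have hu : y / ρ ^ i ∈ W := by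
      rw [← ValuationSubring.valuation_le_one_iff, map_div₀, hv, div_self (W.valuation.ne_zero_iff.2 hρi)]
    have h := (hI σ _ hu).2
    rw [map_div₀, map_zpow₀, hσ, ← sub_div, map_div₀, ← hv, div_lt_one₀ (zero_lt_iff.2 (W.valuation.ne_zero_iff.2 hy0))] at h
    exact h
  by_contra hne
  set d := σ x - x
  have hd : d ∈ L := by
    refine sub_mem ?_ hx
    have := hpow 1 ⟨x, hx⟩
    rw [pow_one, Function.iterate_one] at this
    rw [← this]; exact SetLike.coe_mem _
  have hd0 : d ≠ 0 := sub_ne_zero.2 hne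
  have hi : ∀ i : ℕ, W.valuation ((σ : Ω → Ω)^[i] d - d) < W.valuation d := fun i => by
    induction i with
    | zero => simpa using zero_lt_iff.2 (W.valuation.ne_zero_iff.2 hd0)
    | succ i ih =>
      rw [Function.iterate_succ_apply', show σ ((σ : Ω → Ω)^[i] d) - d = σ ((σ : Ω → Ω)^[i] d - d) + (σ d - d) by
        rw [map_sub]; ring]
      exact lt_of_le_of_lt (W.valuation.map_add _ _) (max_lt (by rwa [val_fix W hI]) (hcong d hd hd0))
  have hsum : ∑ i ∈ Finset.range r, (σ : Ω → Ω)^[i] d = 0 := by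
    have e : ∀ i, (σ : Ω → Ω)^[i] d = (σ : Ω → Ω)^[i + 1] x - (σ : Ω → Ω)^[i] x := fun i => by
      induction i with
      | zero => rfl
      | succ i ih => rw [Function.iterate_succ_apply', ih, map_sub, Function.iterate_succ_apply' _ (i + 1),
          Function.iterate_succ_apply' _ i]
    rw [Finset.sum_congr rfl (fun i _ => e i), Finset.sum_range_sub (fun i => (σ : Ω → Ω)^[i] x),
      ← hpow r ⟨x, hx⟩, hτr]
    simp
  have hs : W.valuation (∑ i ∈ Finset.range r, ((σ : Ω → Ω)^[i] d - d)) < W.valuation d :=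
    W.valuation.map_sum_lt (W.valuation.ne_zero_iff.2 hd0) fun i _ => hi i
  rw [Finset.sum_sub_distrib, hsum, zero_sub, Valuation.map_neg, Finset.sum_const, Finset.card_range, nsmul_eq_mul,
    map_mul, val_r W R hW hrk, one_mul] at hs
  exact lt_irrefl _ hs

include hI hr hrk hπ hρ in
theorem ramificationIdx_eq (L : IntermediateField K Ω) (hL : Module.finrank K L = r) (hρL : ρ ∈ L)
    [IsGalois K L] (P : Ideal (integralClosure R L)) [P.IsMaximal] : P.ramificationIdx R = r := by
  haveI : FiniteDimensional K L := Module.finite_of_finrank_pos (hL ▸ hr)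
  haveI : IsFractionRing (integralClosure R L) L := integralClosure.isFractionRing_of_finite_extension K L
  haveI : IsDedekindDomain (integralClosure R L) := integralClosure.isDedekindDomain R K L
  have hm : (IsLocalRing.maximalIdeal R) ≠ ⊥ := IsDiscreteValuationRing.not_a_field R
  haveI : P.LiesOver (IsLocalRing.maximalIdeal R) := ⟨by
    haveI : (P.under R).IsMaximal := Ideal.IsMaximal.under R P
    exact (IsLocalRing.eq_maximalIdeal inferInstance).symm⟩
  haveI : Module.IsTorsionFree R (integralClosure R L) := by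
    haveI : FaithfulSMul R L := (faithfulSMul_iff_algebraMap_injective R L).2 (by
      rw [IsScalarTower.algebraMap_eq R K L]; exact (algebraMap K L).injective.comp (IsFractionRing.injective R K))
    infer_instance
  have hint : IsIntegral R (⟨ρ, hρL⟩ : L) := by
    refine IsIntegral.of_pow hr ?_
    rw [show (⟨ρ, hρL⟩ : L) ^ r = algebraMap R L π from Subtype.ext (by rw [IntermediateField.coe_pow]; exact hρ)]
    exact isIntegral_algebraMap
  let s : integralClosure R L := ⟨⟨ρ, hρL⟩, hint⟩
  have hs : s ^ r = algebraMap R _ π := Subtype.ext (Subtype.ext hρ)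
  have hπm : π ∈ IsLocalRing.maximalIdeal R := (IsLocalRing.mem_maximalIdeal π).2 hπ.not_isUnit
  have hsP : s ∈ P := Ideal.IsPrime.mem_of_pow_mem inferInstance r (by
    rw [hs]; exact (Ideal.mem_of_liesOver P (IsLocalRing.maximalIdeal R) π).1 hπm)
  have hle : Ideal.map (algebraMap R (integralClosure R L)) (IsLocalRing.maximalIdeal R) ≤ P ^ r := by
    rw [(IsDiscreteValuationRing.irreducible_iff_uniformizer π).1 hπ, Ideal.map_span, Set.image_singleton,
      Ideal.span_singleton_le_iff_mem, ← hs]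
    exact Ideal.pow_mem_pow hsP r
  rw [← Ideal.ramificationIdx'_eq_ramificationIdx (IsLocalRing.maximalIdeal R) P hm]
  haveI : IsIntegralClosure (integralClosure R L) R L := integralClosure.isIntegralClosure R L
  haveI : Module.Finite R (integralClosure R L) := IsIntegralClosure.finite R K L (integralClosure R L)
  haveI : NoZeroSMulDivisors R (integralClosure R L) := ⟨fun {c x} h => smul_eq_zero.1 h⟩
  refine le_antisymm ((Ideal.ramificationIdx_le_finrank (integralClosure R L) K L P).trans hL.le) ?_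
  classical
  have hmap : Ideal.map (algebraMap R (integralClosure R L)) (IsLocalRing.maximalIdeal R) ≠ ⊥ :=
    Ideal.map_ne_bot_of_ne_bot hm
  have hP0 : P ≠ ⊥ := Ideal.ne_bot_of_liesOver_of_ne_bot hm P
  rw [Ideal.IsDedekindDomain.ramificationIdx'_eq_normalizedFactors_count hmap inferInstance hP0,
    Multiset.le_count_iff_replicate_le]
  have h1 := (UniqueFactorizationMonoid.dvd_iff_normalizedFactors_le_normalizedFactors
    (pow_ne_zero r hP0) hmap).1 (Ideal.dvd_iff_le.2 hle)
  rwa [UniqueFactorizationMonoid.normalizedFactors_pow,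
    UniqueFactorizationMonoid.normalizedFactors_irreducible (Ideal.prime_of_isPrime hP0 inferInstance).irreducible,
    normalize_eq, Multiset.nsmul_singleton] at h1

end main

end Groth.Agent.Et18.Tame
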