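import Groth.Agent.Et18.Stalk
import Groth.Agent.Et18.SmallSiteBasics
import Groth.Prelude.Def_EtTens2

/-!
# Fibres of pointwise tensor products of presheaves of abelian groups
-/

universe u

open CategoryTheory CategoryTheory.Limits AlgebraicGeometry Opposite TensorProduct

set_option backward.isDefEq.respectTransparency.types false
set_option backward.isDefEq.respectTransparency false

namespace Groth.Agent.Et18.TensAb

variable {X : Scheme.{u}} (Φ : GrothendieckTopology.Point.{u} X.smallEtaleTopology)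
  (P Q : X.Etaleᵒᵖ ⥤ AddCommGrpCat.{u + 1})

/-- The fibre of a presheaf. -/
noncomputable abbrev Fib : AddCommGrpCat.{u + 1} := Φ.presheafFiber.obj P

variable {P}

/-- Two neighbourhoods have a common refinement. -/
lemma exists_refine {V W : X.Etale} (v : Φ.fiber.obj V) (w : Φ.fiber.obj W) :
    ∃ (U : X.Etale) (u : Φ.fiber.obj U) (a : U ⟶ V) (b : U ⟶ W), Φ.fiber.map a u = v ∧ Φ.fiber.map b u = w := by
  let A : Φ.fiber.Elements := ⟨V, v⟩
  let B : Φ.fiber.Elements := ⟨W, w⟩
  obtain ⟨C, a, b, -⟩ := IsCofilteredOrEmpty.cone_objs A B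
  exact ⟨C.1, C.2, a.1, b.1, a.2, b.2⟩

lemma germ_map {V U : X.Etale} (a : U ⟶ V) (u : Φ.fiber.obj U) (s : P.obj (op V)) :
    Φ.toPresheafFiber U u P (P.map a.op s) = Φ.toPresheafFiber V (Φ.fiber.map a u) P s :=
  Φ.toPresheafFiber_w_apply a u P s

variable {Q}

/-- The germ of a pure tensor. -/
noncomputable abbrev germT (U : X.Etale) (u : Φ.fiber.obj U) (s : P.obj (op U)) (t : Q.obj (op U)) :
    Fib Φ (EtTens.tensorObj P Q) :=
  Φ.toPresheafFiber U u (EtTens.tensorObj P Q) (show (EtTens.tensorObj P Q).obj (op U) from s ⊗ₜ[ℤ] t)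

lemma germT_map {V U : X.Etale} (a : U ⟶ V) (u : Φ.fiber.obj U) (s : P.obj (op V)) (t : Q.obj (op V)) :
    germT Φ U u (P.map a.op s) (Q.map a.op t) = germT Φ V (Φ.fiber.map a u) s t :=
  Φ.toPresheafFiber_w_apply a u (EtTens.tensorObj P Q) (show (EtTens.tensorObj P Q).obj (op V) from s ⊗ₜ[ℤ] t)

lemma germT_congr_same {U : X.Etale} (u : Φ.fiber.obj U) {s s' : P.obj (op U)} {t t' : Q.obj (op U)}
    (hs : Φ.toPresheafFiber U u P s = Φ.toPresheafFiber U u P s')
    (ht : Φ.toPresheafFiber U u Q t = Φ.toPresheafFiber U u Q t') :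
    germT Φ U u s t = germT Φ U u s' t' := by
  obtain ⟨Y, a, y, rfl, e⟩ := (Φ.toPresheafFiber_eq_iff' U u s s').mp hs
  rw [← germT_map, ← germT_map, e]
  rw [← germ_map, ← germ_map] at ht
  obtain ⟨Z, b, z, rfl, e'⟩ := (Φ.toPresheafFiber_eq_iff' Y y _ _).mp ht
  rw [← germT_map, ← germT_map, e']

lemma germT_congr {V W : X.Etale} (v : Φ.fiber.obj V) (w : Φ.fiber.obj W) {s : P.obj (op V)} {t : Q.obj (op V)}
    {s' : P.obj (op W)} {t' : Q.obj (op W)}
    (hs : Φ.toPresheafFiber V v P s = Φ.toPresheafFiber W w P s')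
    (ht : Φ.toPresheafFiber V v Q t = Φ.toPresheafFiber W w Q t') :
    germT Φ V v s t = germT Φ W w s' t' := by
  obtain ⟨U, u, a, b, rfl, rfl⟩ := exists_refine Φ v w
  rw [← germT_map, ← germT_map]
  refine germT_congr_same Φ u ?_ ?_
  · rw [germ_map, germ_map]; exact hs
  · rw [germ_map, germ_map]; exact ht

lemma exists_common (p : Fib Φ P) (q : Fib Φ Q) :
    ∃ (U : X.Etale) (u : Φ.fiber.obj U) (s : P.obj (op U)) (t : Q.obj (op U)),
      Φ.toPresheafFiber U u P s = p ∧ Φ.toPresheafFiber U u Q t = q := by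
  obtain ⟨V, v, s, rfl⟩ := Φ.toPresheafFiber_jointly_surjective p
  obtain ⟨W, w, t, rfl⟩ := Φ.toPresheafFiber_jointly_surjective q
  obtain ⟨U, u, a, b, rfl, rfl⟩ := exists_refine Φ v w
  exact ⟨U, u, P.map a.op s, Q.map b.op t, germ_map Φ a u s, germ_map Φ b u t⟩

/-- The pairing of germs. -/
noncomputable def pairing (p : Fib Φ P) (q : Fib Φ Q) : Fib Φ (EtTens.tensorObj P Q) :=
  germT Φ _ (exists_common Φ p q).choose_spec.choose
    (exists_common Φ p q).choose_spec.choose_spec.choose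
    (exists_common Φ p q).choose_spec.choose_spec.choose_spec.choose

lemma pairing_germ (U : X.Etale) (u : Φ.fiber.obj U) (s : P.obj (op U)) (t : Q.obj (op U)) :
    pairing Φ (Φ.toPresheafFiber U u P s) (Φ.toPresheafFiber U u Q t) = germT Φ U u s t := by
  have h := (exists_common Φ (Φ.toPresheafFiber U u P s)
    (Φ.toPresheafFiber U u Q t)).choose_spec.choose_spec.choose_spec.choose_spec
  exact germT_congr Φ _ _ h.1 h.2

lemma pairing_add_left (p p' : Fib Φ P) (q : Fib Φ Q) :
    pairing Φ (p + p') q = pairing Φ p q + pairing Φ p' q := by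
  obtain ⟨V, v, s, s', rfl, rfl⟩ := Φ.toPresheafFiber_jointly_surjective₂ p p'
  obtain ⟨W, w, t, rfl⟩ := Φ.toPresheafFiber_jointly_surjective q
  obtain ⟨U, u, a, b, rfl, rfl⟩ := exists_refine Φ v w
  simp only [← germ_map, ← map_add, pairing_germ]
  refine congrArg (fun z => Φ.toPresheafFiber U u (EtTens.tensorObj P Q) z) ?_
  rw [map_add]
  exact TensorProduct.add_tmul _ _ _

lemma pairing_add_right (p : Fib Φ P) (q q' : Fib Φ Q) :
    pairing Φ p (q + q') = pairing Φ p q + pairing Φ p q' := by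
  obtain ⟨V, v, t, t', rfl, rfl⟩ := Φ.toPresheafFiber_jointly_surjective₂ q q'
  obtain ⟨W, w, s, rfl⟩ := Φ.toPresheafFiber_jointly_surjective p
  obtain ⟨U, u, a, b, rfl, rfl⟩ := exists_refine Φ v w
  simp only [← germ_map, ← map_add, pairing_germ]
  refine congrArg (fun z => Φ.toPresheafFiber U u (EtTens.tensorObj P Q) z) ?_
  rw [map_add]
  exact TensorProduct.tmul_add _ _ _

variable (P Q)

/-- From the tensor product of fibres. -/
noncomputable def fromTens : (Fib Φ P ⊗[ℤ] Fib Φ Q) →+ Fib Φ (EtTens.tensorObj P Q) :=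
  (TensorProduct.lift
    ((AddMonoidHom.toIntLinearMap
      (AddMonoidHom.mk' (fun p => AddMonoidHom.toIntLinearMap
        (AddMonoidHom.mk' (fun q => pairing Φ p q) (pairing_add_right Φ p)))
        fun p p' => LinearMap.ext fun q => pairing_add_left Φ p p' q)))).toAddMonoidHom

lemma fromTens_tmul (U : X.Etale) (u : Φ.fiber.obj U) (s : P.obj (op U)) (t : Q.obj (op U)) :
    fromTens Φ P Q (Φ.toPresheafFiber U u P s ⊗ₜ Φ.toPresheafFiber U u Q t) = germT Φ U u s t :=
  pairing_germ Φ U u s t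

/-- To the tensor product of fibres. -/
noncomputable def toTens : Fib Φ (EtTens.tensorObj P Q) ⟶ AddCommGrpCat.of (Fib Φ P ⊗[ℤ] Fib Φ Q) :=
  Φ.presheafFiberDesc (fun U u => AddCommGrpCat.ofHom
    (TensorProduct.map (Φ.toPresheafFiber U u P).hom.toIntLinearMap
      (Φ.toPresheafFiber U u Q).hom.toIntLinearMap).toAddMonoidHom) fun U V a u =>
    EtTens.hom_ext_tmul fun s t => by
      show Φ.toPresheafFiber _ _ P (P.map a.op s) ⊗ₜ[ℤ] Φ.toPresheafFiber _ _ Q (Q.map a.op t) = _
      rw [germ_map, germ_map]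
      rfl

lemma toTens_germT (U : X.Etale) (u : Φ.fiber.obj U) (s : P.obj (op U)) (t : Q.obj (op U)) :
    toTens Φ P Q (germT Φ U u s t) = Φ.toPresheafFiber U u P s ⊗ₜ Φ.toPresheafFiber U u Q t := by
  refine (ConcreteCategory.comp_apply _ _ _).symm.trans ?_
  have h : Φ.toPresheafFiber U u (EtTens.tensorObj P Q) ≫ toTens Φ P Q = AddCommGrpCat.ofHom
      (TensorProduct.map (Φ.toPresheafFiber U u P).hom.toIntLinearMap
        (Φ.toPresheafFiber U u Q).hom.toIntLinearMap).toAddMonoidHom := colimit.ι_desc _ _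
  rw [h]
  rfl

/-- The fibre of a pointwise tensor product. -/
theorem fromTens_bijective : Function.Bijective (fromTens Φ P Q) := by
  refine Function.bijective_iff_has_inverse.mpr ⟨toTens Φ P Q, fun z => ?_, fun z => ?_⟩
  · induction z using TensorProduct.induction_on with
    | zero => rw [map_zero, map_zero]
    | tmul p q =>
      obtain ⟨U, u, s, t, rfl, rfl⟩ := exists_common Φ p q
      rw [fromTens_tmul, toTens_germT]
    | add a b ha hb => rw [map_add, map_add, ha, hb]
  · obtain ⟨U, u, z, rfl⟩ := Φ.toPresheafFiber_jointly_surjective z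
    induction z using TensorProduct.induction_on with
    | zero => simp
    | tmul s t =>
      show fromTens Φ P Q (toTens Φ P Q (germT Φ U u s t)) = germT Φ U u s t
      rw [toTens_germT, fromTens_tmul]
    | add a b ha hb => simp only [map_add, ha, hb]

end Groth.Agent.Et18.TensAb
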