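import Groth.Agent.FEtLib.Section
import Mathlib.CategoryTheory.Comma.Over.Pullback

/-!
# Morphisms into étale schemes and universal homeomorphisms of the base
-/

universe u

open CategoryTheory CategoryTheory.Limits AlgebraicGeometry

set_option backward.isDefEq.respectTransparency.types false
set_option backward.isDefEq.respectTransparency false

namespace Groth.Agent.Et18

/-- Base change along a universal homeomorphism is bijective on morphisms into étale schemes. -/
theorem pullback_hom_bijective {S S' : Scheme.{u}} (g : S' ⟶ S) [IsIntegralHom g]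
    [UniversallyInjective g] [Surjective g] (X Y : Over S) [AlgebraicGeometry.Etale X.hom] :
    Function.Bijective (fun φ : Y ⟶ X => (Over.pullback g).map φ) := by
  let i := pullback.fst Y.hom g
  have : IsIntegralHom i :=
    MorphismProperty.of_isPullback (P := @IsIntegralHom) (IsPullback.of_hasPullback Y.hom g).flip inferInstance
  have : UniversallyInjective i :=
    MorphismProperty.of_isPullback (P := @UniversallyInjective) (IsPullback.of_hasPullback Y.hom g).flip inferInstance
  have : Surjective i :=
    MorphismProperty.of_isPullback (P := @Surjective) (IsPullback.of_hasPullback Y.hom g).flip inferInstance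
  have hfst : ∀ φ : Y ⟶ X, ((Over.pullback g).map φ).left ≫ pullback.fst X.hom g = i ≫ φ.left :=
    fun φ => pullback.lift_fst _ _ _
  refine ⟨fun φ ψ h => ?_, fun χ => ?_⟩
  · have h' : i ≫ φ.left = i ≫ ψ.left := by
      rw [← hfst, ← hfst]
      exact congrArg (fun k => k.left ≫ pullback.fst X.hom g) h
    obtain ⟨_, -, hu⟩ := FEtLib.existsUnique_lift X.hom Y.hom i (i ≫ φ.left)
      (by rw [Category.assoc, Over.w φ])
    exact Over.OverMorphism.ext ((hu _ ⟨Over.w φ, rfl⟩).trans (hu _ ⟨Over.w ψ, h'.symm⟩).symm)
  · have hw : χ.left ≫ pullback.snd X.hom g = pullback.snd Y.hom g := Over.w χ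
    obtain ⟨φ, ⟨h1, h2⟩, -⟩ := FEtLib.existsUnique_lift X.hom Y.hom i (χ.left ≫ pullback.fst X.hom g) (by
      rw [Category.assoc, pullback.condition, reassoc_of% hw]
      exact (pullback.condition (f := Y.hom) (g := g)).symm)
    refine ⟨Over.homMk φ h1, Over.OverMorphism.ext (pullback.hom_ext ?_ ?_)⟩
    · exact (hfst _).trans h2
    · exact (pullback.lift_snd _ _ _).trans hw.symm

end Groth.Agent.Et18
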