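import Groth.Agent.Et18.EtalePieces
import Groth.Agent.Et18.TopInvHom
import Mathlib.AlgebraicGeometry.Gluing

/-!
# Topological invariance of the small étale site

For a universal homeomorphism `i : S₀ ⟶ S`, base change of étale schemes is fully faithful; it is
an equivalence as soon as étale schemes over `S₀` lift Zariski locally.
-/

universe u

open CategoryTheory CategoryTheory.Limits AlgebraicGeometry

set_option backward.isDefEq.respectTransparency.types false
set_option backward.isDefEq.respectTransparency false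

namespace Groth.Agent.Et18

variable {S S₀ : Scheme.{u}} (i : S₀ ⟶ S) [IsIntegralHom i] [UniversallyInjective i] [Surjective i]

theorem bc_map_bijective (A B : S.Etale) :
    Function.Bijective fun φ : A ⟶ B => (EtCoh.bc i).map φ := by
  have : Etale ((Scheme.Etale.forget S).obj B).hom := B.prop
  have hb := pullback_hom_bijective i ((Scheme.Etale.forget S).obj B) ((Scheme.Etale.forget S).obj A)
  refine ⟨fun φ ψ h => (Scheme.Etale.forget S).map_injective (hb.injective
    (Over.OverMorphism.ext (congrArg (fun k => k.left) h))), fun χ => ?_⟩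
  obtain ⟨φ, hφ⟩ := hb.surjective (Over.homMk χ.left (Over.w χ.hom))
  refine ⟨(Scheme.Etale.forget S).preimage φ, etaleHom_ext ?_⟩
  have := congrArg (fun k => k.left) hφ
  rw [← (Scheme.Etale.forget S).map_preimage φ] at this
  exact this

theorem bc_fullyFaithful : (EtCoh.bc i).Full ∧ (EtCoh.bc i).Faithful :=
  ⟨⟨fun {A B} => (bc_map_bijective i A B).surjective⟩,
    ⟨fun {A B} => @fun a b h => (bc_map_bijective i A B).injective h⟩⟩

/-- The projection of a base change. -/
noncomputable abbrev bcFst (A : S.Etale) : ((EtCoh.bc i).obj A).left ⟶ A.left :=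
  pullback.fst A.hom i

lemma isHomeomorph_bcFst (A : S.Etale) : IsHomeomorph (bcFst i A) := by
  have sq := (IsPullback.of_hasPullback A.hom i).flip
  have : IsIntegralHom (bcFst i A) := MorphismProperty.of_isPullback (P := @IsIntegralHom) sq inferInstance
  have : UniversallyInjective (bcFst i A) :=
    MorphismProperty.of_isPullback (P := @UniversallyInjective) sq inferInstance
  have : Surjective (bcFst i A) := MorphismProperty.of_isPullback (P := @Surjective) sq inferInstance
  exact isHomeomorph_iff_continuous_isClosedMap_bijective.mpr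
    ⟨(bcFst i A).continuous, (bcFst i A).isClosedMap, (bcFst i A).injective, (bcFst i A).surjective⟩

lemma bcFst_naturality {A B : S.Etale} (a : A ⟶ B) :
    ((EtCoh.bc i).map a).left ≫ bcFst i B = bcFst i A ≫ a.left :=
  (EtCoh.isPullback_bc_map i a).w

lemma isOpenImmersion_bc_map {A B : S.Etale} (a : A ⟶ B) [IsOpenImmersion a.left] :
    IsOpenImmersion ((EtCoh.bc i).map a).left :=
  MorphismProperty.of_isPullback (P := @IsOpenImmersion) (EtCoh.isPullback_bc_map i a).flip inferInstance

theorem essImage_etalePiece_mono (W : S₀.Etale) {O O' : W.left.Opens} (h : O' ≤ O)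
    (hO : (EtCoh.bc i).essImage (etalePiece W O)) : (EtCoh.bc i).essImage (etalePiece W O') := by
  obtain ⟨V, ⟨e⟩⟩ := hO
  have : IsIso e.hom.left := inferInstanceAs
    (IsIso ((Scheme.Etale.forget S₀ ⋙ Over.forget S₀).map e.hom))
  let b : ((EtCoh.bc i).obj V).left ⟶ W.left := e.hom.left ≫ O.ι
  have : IsOpenImmersion b := inferInstanceAs (IsOpenImmersion (e.hom.left ≫ O.ι))
  let U' : V.left.Opens := ⟨bcFst i V '' (b ⁻¹' O'),
    (isHomeomorph_bcFst i V).isOpenMap _ (O'.isOpen.preimage b.continuous)⟩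
  let a : etalePiece V U' ⟶ V := etalePieceHom V U'
  have : IsOpenImmersion a.left := inferInstanceAs (IsOpenImmersion U'.ι)
  have := isOpenImmersion_bc_map i a
  let c : (EtCoh.bc i).obj (etalePiece V U') ⟶ W :=
    (EtCoh.bc i).map a ≫ e.hom ≫ etalePieceHom W O
  have hc : c.left = ((EtCoh.bc i).map a).left ≫ b := rfl
  have : IsOpenImmersion c.left := by rw [hc]; infer_instance
  have hr : Set.range c.left = O' := by
    rw [hc]
    ext w
    constructor
    · rintro ⟨z, rfl⟩
      obtain ⟨z', hz', he⟩ : (bcFst i V (((EtCoh.bc i).map a).left z)) ∈ U' := by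
        rw [← Scheme.Hom.comp_apply, bcFst_naturality]
        exact (bcFst i (etalePiece V U') z).2
      obtain rfl := (isHomeomorph_bcFst i V).injective he
      exact hz'
    · intro hw
      obtain ⟨o, ho⟩ : ∃ o : (etalePiece W O).left, O.ι o = w := ⟨⟨w, h hw⟩, rfl⟩
      obtain ⟨z, rfl⟩ : ∃ z, e.hom.left z = o :=
        ⟨(asIso e.hom.left).inv o, congrArg (fun k => k o) (asIso e.hom.left).inv_hom_id⟩
      obtain ⟨q, hq, -⟩ := Scheme.Pullback.exists_preimage_pullback
        (f := bcFst i V) (g := a.left) z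
        ⟨bcFst i V z, ⟨z, by change b z ∈ O'; rwa [show b z = w from ho], rfl⟩⟩ rfl
      refine ⟨(EtCoh.isPullback_bc_map i a).flip.flip.isoPullback.inv q, ?_⟩
      rw [← Scheme.Hom.comp_apply, IsPullback.isoPullback_inv_fst_assoc, Scheme.Hom.comp_apply, hq]
      exact ho
  obtain ⟨f⟩ := nonempty_iso_etalePiece c O' hr
  exact ⟨_, ⟨f⟩⟩

/-- Base change along a universal homeomorphism is essentially surjective as soon as étale schemes
lift Zariski locally. -/
theorem bc_isEquivalence_of_local_lift
    (hloc : ∀ (W : S₀.Etale) (w : W.left), ∃ O : W.left.Opens,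
      w ∈ O ∧ (EtCoh.bc i).essImage (etalePiece W O)) :
    (EtCoh.bc i).IsEquivalence := by
  obtain ⟨_, _⟩ := bc_fullyFaithful i
  refine { essSurj := ⟨fun W => ?_⟩ }
  let J := {O : W.left.Opens // (EtCoh.bc i).essImage (etalePiece W O)}
  let D : J ⥤ S₀.Etale :=
    { obj := fun O => etalePiece W O.1
      map := fun {A B} h => etalePieceLE W (leOfHom h : A ≤ B)
      map_id := fun A => etaleHom_ext (Scheme.homOfLE_rfl _ _)
      map_comp := fun {A B C} f g => etaleHom_ext
        (Scheme.homOfLE_homOfLE W.left (U := A.1) (V := B.1) (W := C.1) (leOfHom f) (leOfHom g)).symm }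
  let L : J ⥤ S.Etale := Functor.essImage.liftFunctor D (EtCoh.bc i) fun O => O.2
  let ε : L ⋙ EtCoh.bc i ≅ D := Functor.essImage.liftFunctorCompIso D (EtCoh.bc i) fun O => O.2
  let p : ∀ O : J, ((EtCoh.bc i).obj (L.obj O)).left ⟶ W.left := fun O => (ε.hom.app O).left ≫ O.1.ι
  have hεiso : ∀ O : J, IsIso (ε.hom.app O).left := fun O =>
    inferInstanceAs (IsIso ((Scheme.Etale.forget S₀ ⋙ Over.forget S₀).map (ε.hom.app O)))
  have hpo : ∀ O : J, IsOpenImmersion (p O) := fun O =>
    inferInstanceAs (IsOpenImmersion ((ε.hom.app O).left ≫ O.1.ι))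
  have hp : ∀ {A B : J} (h : A ⟶ B), ((EtCoh.bc i).map (L.map h)).left ≫ p B = p A := fun {A B} h => by
    have := congrArg (fun k => k.left ≫ B.1.ι) (ε.hom.naturality h)
    refine (Category.assoc _ _ _).symm.trans (this.trans ?_)
    change ((ε.hom.app A).left ≫ W.left.homOfLE (leOfHom h : A.1 ≤ B.1)) ≫ B.1.ι =
      (ε.hom.app A).left ≫ A.1.ι
    rw [Category.assoc, Scheme.homOfLE_ι]
  have hmono : ∀ {A B : J} (h : A ⟶ B), Mono (L.map h) := fun {A B} h => by
    refine (EtCoh.bc i).mono_of_mono_map ?_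
    have : IsOpenImmersion ((EtCoh.bc i).map (L.map h)).left :=
      have := hpo B
      have : IsOpenImmersion (((EtCoh.bc i).map (L.map h)).left ≫ p B) := by rw [hp]; exact hpo A
      IsOpenImmersion.of_comp _ (p B)
    exact (Scheme.Etale.forget S₀ ⋙ Over.forget S₀).mono_of_mono_map
      (inferInstanceAs (Mono ((EtCoh.bc i).map (L.map h)).left))
  let F : J ⥤ Scheme.{u} := L ⋙ Scheme.Etale.forget S ⋙ Over.forget S
  have hFo : ∀ {A B : J} (h : A ⟶ B), IsOpenImmersion (F.map h) := fun h =>
    haveI := hmono h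
    isOpenImmersion_left_of_mono (L.map h)
  have hsub : ∀ O : J, ∀ z, p O z ∈ O.1 := fun O z => ((ε.hom.app O).left z).2
  have : (F ⋙ Scheme.forget).IsLocallyDirected := by
    refine ⟨fun {A B C} fa fb xa xb hx => ?_⟩
    obtain ⟨za, rfl⟩ := (isHomeomorph_bcFst i (L.obj A)).surjective xa
    obtain ⟨zb, rfl⟩ := (isHomeomorph_bcFst i (L.obj B)).surjective xb
    have hz : ((EtCoh.bc i).map (L.map fa)).left za = ((EtCoh.bc i).map (L.map fb)).left zb := by
      refine (isHomeomorph_bcFst i (L.obj C)).injective ?_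
      rw [← Scheme.Hom.comp_apply, ← Scheme.Hom.comp_apply, bcFst_naturality, bcFst_naturality]
      exact hx
    have hw : p A za = p B zb := by
      have := congrArg (p C) hz
      rwa [← Scheme.Hom.comp_apply, ← Scheme.Hom.comp_apply, hp, hp] at this
    let K : J := ⟨A.1 ⊓ B.1, essImage_etalePiece_mono i W inf_le_left A.2⟩
    let ka : K ⟶ A := homOfLE (show K.1 ≤ A.1 from inf_le_left)
    let kb : K ⟶ B := homOfLE (show K.1 ≤ B.1 from inf_le_right)
    have := hεiso K
    let z : ((EtCoh.bc i).obj (L.obj K)).left :=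
      inv (ε.hom.app K).left ⟨p A za, hsub A za, by rw [hw]; exact hsub B zb⟩
    have hz' : p K z = p A za := by
      change (inv (ε.hom.app K).left ≫ (ε.hom.app K).left ≫ K.1.ι) _ = _
      rw [IsIso.inv_hom_id_assoc]
      rfl
    refine ⟨K, ka, kb, bcFst i (L.obj K) z, ?_, ?_⟩
    · change (bcFst i (L.obj K) ≫ (L.map ka).left) z = bcFst i (L.obj A) za
      rw [← bcFst_naturality, Scheme.Hom.comp_apply]
      exact congrArg _ ((hpo A).base_open.injective
        ((congrArg (fun q => q z) (hp ka)).trans hz'))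
    · change (bcFst i (L.obj K) ≫ (L.map kb).left) z = bcFst i (L.obj B) zb
      rw [← bcFst_naturality, Scheme.Hom.comp_apply]
      exact congrArg _ ((hpo B).base_open.injective
        ((congrArg (fun q => q z) (hp kb)).trans (hz'.trans hw)))
  let co : Cocone F :=
    { pt := S
      ι :=
        { app := fun O => (L.obj O).hom
          naturality := fun A B h => (Over.w (L.map h).hom).trans (Category.comp_id _).symm } }
  let π : colimit F ⟶ S := colimit.desc F co
  have : Etale π := by
    rw [IsZariskiLocalAtSource.iff_of_openCover (P := @Etale) (Scheme.IsLocallyDirected.openCover F)]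
    intro O
    change Etale (colimit.ι F O ≫ π)
    rw [colimit.ι_desc]
    exact (L.obj O).prop
  let V : S.Etale := Scheme.Etale.mk π
  let inc : ∀ O : J, L.obj O ⟶ V := fun O => MorphismProperty.Over.homMk (colimit.ι F O) (colimit.ι_desc co O)
  let g : ∀ O : J, etalePiece W O.1 ⟶ (EtCoh.bc i).obj V := fun O => ε.inv.app O ≫ (EtCoh.bc i).map (inc O)
  have hg : ∀ {A B : J} (h : A ⟶ B), D.map h ≫ g B = g A := fun {A B} h => by
    change D.map h ≫ ε.inv.app B ≫ _ = ε.inv.app A ≫ _
    rw [← Category.assoc, ε.inv.naturality h, Category.assoc, Functor.comp_map, ← Functor.map_comp]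
    congr 2
    exact etaleHom_ext (colimit.w F h)
  choose O hmem hO using hloc W
  let 𝒰 : W.left.OpenCover := W.left.openCoverOfIsOpenCover O
    (TopologicalSpace.Opens.ext (Set.eq_univ_iff_forall.mpr fun w => by
      rw [SetLike.mem_coe, TopologicalSpace.Opens.mem_iSup]; exact ⟨w, hmem w⟩))
  let a : W.left → J := fun w => ⟨O w, hO w⟩
  have hcompat : ∀ u v : W.left, pullback.fst (O u).ι (O v).ι ≫ (g (a u)).left =
      pullback.snd (O u).ι (O v).ι ≫ (g (a v)).left := by
    intro u v
    let K : J := ⟨O u ⊓ O v, essImage_etalePiece_mono i W inf_le_left (hO u)⟩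
    let c : pullback (O u).ι (O v).ι ⟶ K.1 :=
      IsOpenImmersion.lift K.1.ι (pullback.fst (O u).ι (O v).ι ≫ (O u).ι) (by
        rw [Scheme.Opens.range_ι]
        rintro _ ⟨t, rfl⟩
        refine ⟨(pullback.fst (O u).ι (O v).ι t).2, ?_⟩
        rw [pullback.condition]
        exact (pullback.snd (O u).ι (O v).ι t).2)
    have hc : c ≫ K.1.ι = pullback.fst (O u).ι (O v).ι ≫ (O u).ι := IsOpenImmersion.lift_fac _ _ _
    have h1 : c ≫ (D.map (homOfLE (show K ≤ a u from (inf_le_left : O u ⊓ O v ≤ O u)))).left = pullback.fst (O u).ι (O v).ι := by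
      refine (cancel_mono (O u).ι).mp ?_
      change (c ≫ W.left.homOfLE (inf_le_left : O u ⊓ O v ≤ O u)) ≫ _ = _
      rw [Category.assoc, Scheme.homOfLE_ι, hc]
    have h2 : c ≫ (D.map (homOfLE (show K ≤ a v from (inf_le_right : O u ⊓ O v ≤ O v)))).left = pullback.snd (O u).ι (O v).ι := by
      refine (cancel_mono (O v).ι).mp ?_
      change (c ≫ W.left.homOfLE (inf_le_right : O u ⊓ O v ≤ O v)) ≫ _ = _
      rw [Category.assoc, Scheme.homOfLE_ι, hc, pullback.condition]
    rw [← h1, ← h2, Category.assoc, Category.assoc]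
    exact (congrArg (fun k => c ≫ k.left) (hg _)).trans (congrArg (fun k => c ≫ k.left) (hg _)).symm
  let H : W.left ⟶ ((EtCoh.bc i).obj V).left := Scheme.Cover.glueMorphisms 𝒰 (fun w => (g (a w)).left) hcompat
  have hH : ∀ w, (O w).ι ≫ H = (g (a w)).left := fun w => Scheme.Cover.ι_glueMorphisms 𝒰 _ hcompat w
  have hgo : ∀ A : J, IsOpenImmersion (g A).left := fun A => by
    have : IsOpenImmersion (inc A).left := inferInstanceAs (IsOpenImmersion (colimit.ι F A))
    have := isOpenImmersion_bc_map i (inc A)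
    have : IsIso (ε.inv.app A).left :=
      inferInstanceAs (IsIso ((Scheme.Etale.forget S₀ ⋙ Over.forget S₀).map (ε.inv.app A)))
    exact inferInstanceAs (IsOpenImmersion ((ε.inv.app A).left ≫ ((EtCoh.bc i).map (inc A)).left))
  have hfst : ∀ (A : J) z, bcFst i V ((g A).left ((ε.hom.app A).left z)) =
      colimit.ι F A (bcFst i (L.obj A) z) := fun A z => by
    have h3 : (ε.hom.app A).left ≫ (g A).left = ((EtCoh.bc i).map (inc A)).left :=
      congrArg (fun k => k.left) (ε.hom_inv_id_app_assoc A ((EtCoh.bc i).map (inc A)))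
    rw [← Scheme.Hom.comp_apply (f := (ε.hom.app A).left), h3, ← Scheme.Hom.comp_apply, bcFst_naturality]
    rfl
  have hinj : Function.Injective H := by
    intro u v huv
    obtain ⟨za, hza⟩ := (ε.hom.app (a u)).left.surjective ⟨u, hmem u⟩
    obtain ⟨zb, hzb⟩ := (ε.hom.app (a v)).left.surjective ⟨v, hmem v⟩
    have e1 : H u = (g (a u)).left ((ε.hom.app (a u)).left za) := by rw [hza, ← hH]; rfl
    have e2 : H v = (g (a v)).left ((ε.hom.app (a v)).left zb) := by rw [hzb, ← hH]; rfl
    have := congrArg (bcFst i V) (e1.symm.trans (huv.trans e2))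
    rw [hfst, hfst] at this
    obtain ⟨K, fa, fb, x, hxa, hxb⟩ := (Scheme.IsLocallyDirected.ι_eq_ι_iff F).mp this
    obtain ⟨z, rfl⟩ := (isHomeomorph_bcFst i (L.obj K)).surjective x
    have ha : ((EtCoh.bc i).map (L.map fa)).left z = za := (isHomeomorph_bcFst i _).injective (by
      rw [← Scheme.Hom.comp_apply, bcFst_naturality]; exact hxa)
    have hb : ((EtCoh.bc i).map (L.map fb)).left z = zb := (isHomeomorph_bcFst i _).injective (by
      rw [← Scheme.Hom.comp_apply, bcFst_naturality]; exact hxb)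
    calc u = p (a u) za := congrArg (fun t => (a u).1.ι t) hza.symm
      _ = p K z := by rw [← ha, ← Scheme.Hom.comp_apply, hp]
      _ = p (a v) zb := by rw [← hb, ← Scheme.Hom.comp_apply, hp]
      _ = v := congrArg (fun t => (a v).1.ι t) hzb
  have hsurj : Function.Surjective H := by
    intro y
    obtain ⟨A, x, hx⟩ := Scheme.IsLocallyDirected.ι_jointly_surjective F (bcFst i V y)
    obtain ⟨z, rfl⟩ := (isHomeomorph_bcFst i (L.obj A)).surjective x
    refine ⟨p A z, (isHomeomorph_bcFst i V).injective ?_⟩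
    rw [← hx, ← hfst]
    let w : W.left := p A z
    let K : J := ⟨A.1 ⊓ O w, essImage_etalePiece_mono i W inf_le_left A.2⟩
    let k : (etalePiece W K.1).left := ⟨w, hsub A z, hmem w⟩
    have e1 : (g K).left k = (g A).left ((ε.hom.app A).left z) := by
      rw [← hg (homOfLE (show K ≤ A from (inf_le_left : A.1 ⊓ O w ≤ A.1)))]
      refine congrArg (g A).left (A.1.ι.isOpenEmbedding.injective ?_)
      change (W.left.homOfLE (inf_le_left : A.1 ⊓ O w ≤ A.1) ≫ A.1.ι) k = p A z
      rw [Scheme.homOfLE_ι]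
      rfl
    have e2 : (g K).left k = H w := by
      rw [← hg (homOfLE (show K ≤ a w from (inf_le_right : A.1 ⊓ O w ≤ O w))), MorphismProperty.Comma.comp_left, ← hH]
      change (W.left.homOfLE (inf_le_right : A.1 ⊓ O w ≤ O w) ≫ (O w).ι ≫ H) k = H w
      rw [Scheme.homOfLE_ι_assoc]
      rfl
    rw [← e1, ← e2]
  have hstalk : ∀ u : W.left, IsIso (H.stalkMap u) := fun u => by
    have := hgo (a u)
    have h4 : IsIso (((O u).ι ≫ H).stalkMap ⟨u, hmem u⟩) := by rw [hH]; infer_instance
    rw [Scheme.Hom.stalkMap_comp] at h4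
    exact IsIso.of_isIso_comp_right (H.stalkMap ((O u).ι ⟨u, hmem u⟩)) ((O u).ι.stalkMap ⟨u, hmem u⟩)
  have hHw : H ≫ ((EtCoh.bc i).obj V).hom = W.hom := by
    refine Scheme.Cover.hom_ext 𝒰 _ _ fun w => ?_
    change (O w).ι ≫ H ≫ _ = (O w).ι ≫ W.hom
    rw [← Category.assoc, hH]
    exact Over.w (g (a w)).hom
  have : IsIso H := by
    rw [isIso_iff_isIso_stalkMap]
    refine ⟨?_, hstalk⟩
    have hopen : IsOpenMap H := by
      let Hm : W ⟶ (EtCoh.bc i).obj V := MorphismProperty.Over.homMk H hHw
      have : Etale H := etale_left Hm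
      exact H.isOpenMap
    rw [TopCat.isIso_iff_isHomeomorph]
    exact ⟨H.continuous, hopen, hinj, hsurj⟩
  exact ⟨V, ⟨(MorphismProperty.Over.isoMk (asIso H) hHw).symm⟩⟩

end Groth.Agent.Et18
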