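import Mathlib.CategoryTheory.Monoidal.Tor
import Mathlib.CategoryTheory.Abelian.LeftDerived
import Mathlib.Algebra.Category.ModuleCat.Projective
import Mathlib.Algebra.Category.ModuleCat.EnoughInjectives
import Mathlib.Algebra.Category.ModuleCat.Monoidal.Symmetric
import Mathlib.Algebra.Category.ModuleCat.Abelian
import Mathlib.Algebra.Homology.ShortComplex.ModuleCat
import Mathlib.RingTheory.Flat.Basic
import Mathlib.LinearAlgebra.TensorProduct.Prod
import Mathlib.LinearAlgebra.TensorProduct.RightExactness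
import Mathlib.RingTheory.Flat.Stability

/-! Vanishing of `Tor` of a fibre product of modules. -/

set_option autoImplicit false
set_option backward.isDefEq.respectTransparency false

universe u

open TensorProduct CategoryTheory CategoryTheory.Limits Function

namespace Groth.Agent.Et18.TorFP

variable {R : Type u} [CommRing R]

theorem exists_resolution (N : Type u) [AddCommGroup N] [Module R N] :
    ∃ (F : ℕ → Type u) (_ : ∀ m, AddCommGroup (F m)) (_ : ∀ m, Module R (F m)) (_ : ∀ m, Module.Flat R (F m))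
      (d : ∀ m, F (m + 1) →ₗ[R] F m),
      (∀ m, LinearMap.range (d (m + 1)) = LinearMap.ker (d m)) ∧
      ∀ (M : Type u) [AddCommGroup M] [Module R M] (i : ℕ),
        IsZero (((Tor (ModuleCat.{u} R) (i + 1)).obj (ModuleCat.of R M)).obj (ModuleCat.of R N)) ↔
          LinearMap.range ((d (i + 1)).lTensor M) = LinearMap.ker ((d i).lTensor M) := by
  let Pr := projectiveResolution (ModuleCat.of R N)
  refine ⟨fun m => Pr.complex.X m, fun m => inferInstance, fun m => inferInstance, fun m => ?_,
    fun m => (Pr.complex.d (m + 1) m).hom, fun m => (Pr.exact_succ m).moduleCat_range_eq_ker,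
    fun M _ _ i => ?_⟩
  · have : Module.Projective R (Pr.complex.X m) :=
      (IsProjective.iff_projective _).2 (Pr.projective m)
    infer_instance
  · let F₁ := (MonoidalCategory.tensoringLeft (ModuleCat.{u} R)).obj (ModuleCat.of R M)
    have e := Pr.isoLeftDerivedObj F₁ (i + 1)
    rw [show ((Tor (ModuleCat.{u} R) (i + 1)).obj (ModuleCat.of R M)).obj (ModuleCat.of R N) =
        (F₁.leftDerived (i + 1)).obj (ModuleCat.of R N) from rfl, Iso.isZero_iff e,
      HomologicalComplex.homologyFunctor_obj, ← HomologicalComplex.exactAt_iff_isZero_homology,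
      HomologicalComplex.exactAt_iff' _ (i + 2) (i + 1) i (by simp) (by simp),
      ShortComplex.moduleCat_exact_iff_range_eq_ker]
    rfl

theorem isZero_tor_of_fibreProduct {P B' C B S : Type u} [AddCommGroup P] [Module R P] [AddCommGroup B'] [Module R B']
    [Module.Flat R B'] [AddCommGroup C] [Module R C] [AddCommGroup B] [Module R B] [AddCommGroup S] [Module R S]
    (ι : P →ₗ[R] B' × C) (π : B' × C →ₗ[R] B) (hι : Injective ι) (hιπ : Exact ι π)
    (hf : Surjective (π ∘ₗ LinearMap.inl R B' C)) (i : ℕ)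
    (hC : IsZero (((Tor (ModuleCat.{u} R) (i + 1)).obj (ModuleCat.of R C)).obj (ModuleCat.of R S)))
    (hB : IsZero (((Tor (ModuleCat.{u} R) (i + 2)).obj (ModuleCat.of R B)).obj (ModuleCat.of R S))) :
    IsZero (((Tor (ModuleCat.{u} R) (i + 1)).obj (ModuleCat.of R P)).obj (ModuleCat.of R S)) := by
  obtain ⟨F, _, _, _, d, hd, hiff⟩ := exists_resolution (R := R) S
  rw [hiff] at hC hB ⊢
  have hπ : Surjective π := fun b => by obtain ⟨x, hx⟩ := hf b; exact ⟨_, hx⟩
  have hd2 : ∀ (M : Type u) [AddCommGroup M] [Module R M] (j : ℕ) (x : M ⊗[R] F (j + 2)),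
      (d j).lTensor M ((d (j + 1)).lTensor M x) = 0 := fun M _ _ j x => by
    rw [← LinearMap.comp_apply, ← LinearMap.lTensor_comp,
      LinearMap.range_le_ker_iff.1 (hd j).le, LinearMap.lTensor_zero, LinearMap.zero_apply]
  refine le_antisymm ?_ fun z hz => ?_
  · rintro _ ⟨x, rfl⟩
    exact hd2 P i x
  · have hz' : (d i).lTensor P z = 0 := hz
    let a := LinearMap.fst R B' C ∘ₗ ι
    let b := LinearMap.snd R B' C ∘ₗ ι
    let f := π ∘ₗ LinearMap.inl R B' C
    let g := π ∘ₗ LinearMap.inr R B' C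
    have nat : ∀ {M M' : Type u} [AddCommGroup M] [Module R M] [AddCommGroup M'] [Module R M'] (φ : M →ₗ[R] M')
        (j : ℕ) (x : M ⊗[R] F (j + 1)), (d j).lTensor M' (φ.rTensor _ x) = φ.rTensor _ ((d j).lTensor M x) :=
      fun φ j x => by
        rw [← LinearMap.comp_apply, ← LinearMap.comp_apply, LinearMap.lTensor_comp_rTensor,
          LinearMap.rTensor_comp_lTensor]
    have hB' : LinearMap.range ((d (i + 1)).lTensor B') = LinearMap.ker ((d i).lTensor B') := by
      have := Module.Flat.lTensor_exact B' (LinearMap.exact_iff.2 (hd i).symm)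
      exact (LinearMap.exact_iff.1 this).symm
    obtain ⟨y₁, hy₁⟩ := hB'.ge (show a.rTensor _ z ∈ LinearMap.ker ((d i).lTensor B') by
      rw [LinearMap.mem_ker, nat, hz', map_zero])
    obtain ⟨y₂, hy₂⟩ := hC.ge (show b.rTensor _ z ∈ LinearMap.ker ((d i).lTensor C) by
      rw [LinearMap.mem_ker, nat, hz', map_zero])
    have hfg : f ∘ₗ a + g ∘ₗ b = 0 := by
      ext p
      change π (ι p |>.1, 0) + π (0, (ι p).2) = 0
      rw [← map_add, Prod.mk_add_mk, add_zero, zero_add]
      exact hιπ.apply_apply_eq_zero p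
    have hcyc : f.rTensor _ y₁ + g.rTensor _ y₂ ∈ LinearMap.ker ((d (i + 1)).lTensor B) := by
      rw [LinearMap.mem_ker, map_add, nat, nat, hy₁, hy₂, ← LinearMap.rTensor_comp_apply,
        ← LinearMap.rTensor_comp_apply, ← LinearMap.add_apply, ← LinearMap.rTensor_add, hfg,
        LinearMap.rTensor_zero, LinearMap.zero_apply]
    obtain ⟨w, hw⟩ := hB.ge hcyc
    obtain ⟨w', rfl⟩ := LinearMap.rTensor_surjective (F (i + 3)) hf w
    let y₁' := y₁ - (d (i + 2)).lTensor B' w'
    have hy₁' : (d (i + 1)).lTensor B' y₁' = a.rTensor _ z := by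
      rw [map_sub, hy₁, hd2, sub_zero]
    have h0 : f.rTensor _ y₁' + g.rTensor _ y₂ = 0 := by
      rw [map_sub, ← nat, hw]
      abel
    -- lift the pair to `P`
    let Y : (B' × C) ⊗[R] F (i + 1 + 1) :=
      (LinearMap.inl R B' C).rTensor _ y₁' + (LinearMap.inr R B' C).rTensor _ y₂
    have hY : π.rTensor _ Y = 0 := by
      rw [map_add, ← LinearMap.rTensor_comp_apply, ← LinearMap.rTensor_comp_apply]
      exact h0
    obtain ⟨p, hp⟩ := (rTensor_exact (F (i + 1 + 1)) hιπ hπ Y).1 hY
    refine ⟨p, Module.Flat.rTensor_preserves_injective_linearMap (M := F (i + 1)) ι hι ?_⟩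
    rw [← nat, hp, map_add, nat, nat, hy₁', hy₂, ← LinearMap.rTensor_comp_apply,
      ← LinearMap.rTensor_comp_apply, ← LinearMap.add_apply, ← LinearMap.rTensor_add]
    refine congrArg (fun φ : P →ₗ[R] B' × C => φ.rTensor _ z) ?_
    ext q <;> simp [a, b]

end Groth.Agent.Et18.TorFP
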