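import Groth.Agent.Et18.TorsionColim

/-!
# Localization of the coefficients of étale cohomology
-/

set_option autoImplicit false
set_option linter.all false
set_option backward.isDefEq.respectTransparency.types false
set_option backward.isDefEq.respectTransparency false
set_option backward.defeqAttrib.useBackward true

universe u

open CategoryTheory CategoryTheory.Limits CategoryTheory.Abelian AlgebraicGeometry Opposite

namespace Groth.Agent.Et18.TorsionLocalize

/-- The primes dividing some element of `S`. -/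
def primes (S : Submonoid ℤ) : Set ℕ := {p | ∃ s ∈ S, (p : ℤ) ∣ s}

variable {S : Submonoid ℤ}

theorem exists_dvd_mem (m : ℕ) (hm : EtAcyc.PrimesIn (primes S) m) : ∃ s ∈ S, (m : ℤ) ∣ s := by
  induction m using Nat.recOnMul with
  | zero => exact absurd hm.1 (lt_irrefl 0)
  | one => exact ⟨1, S.one_mem, by simp⟩
  | prime p hp => exact hm.2 p hp dvd_rfl
  | mul a b iha ihb =>
    obtain ⟨hab, hdvd⟩ := hm
    obtain ⟨s, hs, has⟩ := iha ⟨Nat.pos_of_mul_pos_right hab, fun p hp h => hdvd p hp (h.mul_right b)⟩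
    obtain ⟨t, ht, hbt⟩ := ihb ⟨Nat.pos_of_mul_pos_left hab, fun p hp h => hdvd p hp (h.mul_left a)⟩
    exact ⟨s * t, S.mul_mem hs ht, by push_cast; exact mul_dvd_mul has hbt⟩

theorem exists_primesIn (h0 : (0 : ℤ) ∉ S) {s : ℤ} (hs : s ∈ S) :
    EtAcyc.PrimesIn (primes S) s.natAbs :=
  ⟨Int.natAbs_pos.2 fun h => h0 (h ▸ hs), fun p hp hd =>
    ⟨s, hs, (Int.natCast_dvd_natCast.2 hd).trans (Int.natAbs_dvd.2 dvd_rfl)⟩⟩

theorem natAbs_smul {A : Type*} [AddCommGroup A] {s : ℤ} {a : A} (h : s • a = 0) : s.natAbs • a = 0 := by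
  rcases s.natAbs_eq with e | e <;> rw [e] at h
  · exact_mod_cast h
  · rw [neg_smul, neg_eq_zero] at h
    exact_mod_cast h

theorem nsmul_comp' {C : Type*} [Category C] [Abelian C] [HasExt.{u + 1} C] {A B D : C} {p q r : ℕ} (n : ℕ)
    (a : Ext.{u + 1} A B p) (b : Ext.{u + 1} B D q) (h : p + q = r) : (n • a).comp b h = n • a.comp b h :=
  map_nsmul (b.postcomp A h) n a

variable {X : Scheme.{u}}

theorem germ_affine {Ω : Type u} [Field Ω] [IsSepClosed Ω] (ξ : Spec (CommRingCat.of Ω) ⟶ X) (F : EtCoh.Ab X)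
    (U : X.Etale) (v : (Scheme.pointSmallEtale ξ).fiber.obj U) :
    ∃ (V : X.Etale) (g : V ⟶ U) (w : (Scheme.pointSmallEtale ξ).fiber.obj V),
      IsAffine V.left ∧ (Scheme.pointSmallEtale ξ).fiber.map g w = v := by
  obtain ⟨V, g, hV, z, hz⟩ := TorsionColim.exists_affine_obj U (fiberPt v)
  haveI := etale_map_left g
  let vl : Spec (CommRingCat.of Ω) ⟶ U.left := v.left
  obtain ⟨l, hl, -⟩ := Scheme.exists_fac_of_etale_of_isSepClosed g.left vl z hz
  refine ⟨V, g, Over.homMk l ?_, hV, Over.OverMorphism.ext hl⟩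
  have : (l ≫ g.left) ≫ U.hom = ξ := by rw [hl]; exact Over.w v
  rw [Category.assoc] at this
  exact (congrArg (fun t => l ≫ t) (Over.w g.hom)).symm.trans this

theorem exists_germ_affine {Ω : Type u} [Field Ω] [IsSepClosed Ω] (ξ : Spec (CommRingCat.of Ω) ⟶ X)
    (F : EtCoh.Ab X) (t : (EtCoh.stalk ξ).obj F) :
    ∃ (V : X.Etale) (w : (Scheme.pointSmallEtale ξ).fiber.obj V) (σ : EtCoh.sect F V),
      IsAffine V.left ∧ (Scheme.pointSmallEtale ξ).toPresheafFiber V w F.obj σ = t := by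
  obtain ⟨U, v, σ, rfl⟩ := (Scheme.pointSmallEtale ξ).toPresheafFiber_jointly_surjective (P := F.obj) t
  obtain ⟨V, g, w, hV, rfl⟩ := germ_affine ξ F U v
  exact ⟨V, w, F.obj.map g.op σ, hV, GrothendieckTopology.Point.toPresheafFiber_w_apply ..⟩

variable {F G : EtCoh.Ab X} (φ : F ⟶ G)
  (hφ : ∀ U : X.Etale, IsAffine U.left → IsLocalizedModule S (φ.hom.app (op U)).hom.toIntLinearMap)

include hφ

variable {Ω : Type u} [Field Ω] [IsSepClosed Ω] (ξ : Spec (CommRingCat.of Ω) ⟶ X)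

theorem stalk_surj (t : (EtCoh.stalk ξ).obj G) :
    ∃ s ∈ S, ∃ a, (EtCoh.stalk ξ).map φ a = s • t := by
  obtain ⟨V, w, σ, hV, rfl⟩ := exists_germ_affine ξ G t
  obtain ⟨⟨a, s, hs⟩, h⟩ := (hφ V hV).surj σ
  refine ⟨s, hs, (Scheme.pointSmallEtale ξ).toPresheafFiber V w F.obj a, ?_⟩
  refine (GrothendieckTopology.Point.toPresheafFiber_naturality_apply ..).trans ?_
  refine (congrArg _ h.symm).trans ?_
  exact map_zsmul ((Scheme.pointSmallEtale ξ).toPresheafFiber V w G.obj).hom s σ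

theorem stalk_inj (a : (EtCoh.stalk ξ).obj F) (h : (EtCoh.stalk ξ).map φ a = 0) : ∃ s ∈ S, s • a = 0 := by
  obtain ⟨U, v, σ, rfl⟩ := (Scheme.pointSmallEtale ξ).toPresheafFiber_jointly_surjective (P := F.obj) a
  have h' : (Scheme.pointSmallEtale ξ).toPresheafFiber U v G.obj (φ.hom.app (op U) σ) =
      (Scheme.pointSmallEtale ξ).toPresheafFiber U v G.obj 0 :=
    (GrothendieckTopology.Point.toPresheafFiber_naturality_apply ..).symm.trans (h.trans (map_zero _).symm)
  obtain ⟨W, g, w, hw, hσ⟩ := ((Scheme.pointSmallEtale ξ).toPresheafFiber_eq_iff' (P := G.obj) U v _ _).1 h'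
  obtain ⟨V, k, z, hV, hz⟩ := germ_affine ξ F W w
  let τ : EtCoh.sect F V := F.obj.map (k ≫ g).op σ
  have hτ : φ.hom.app (op V) τ = φ.hom.app (op V) 0 := by
    refine (NatTrans.naturality_apply φ.hom (k ≫ g).op σ).trans ?_
    rw [op_comp, Functor.map_comp, ConcreteCategory.comp_apply, hσ, map_zero, map_zero, map_zero]
  obtain ⟨⟨s, hs⟩, hs0⟩ := (hφ V hV).exists_of_eq hτ
  refine ⟨s, hs, ?_⟩
  have e : (Scheme.pointSmallEtale ξ).toPresheafFiber V z F.obj τ =
      (Scheme.pointSmallEtale ξ).toPresheafFiber U v F.obj σ := by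
    refine (GrothendieckTopology.Point.toPresheafFiber_w_apply ..).trans ?_
    rw [Functor.map_comp]
    change (Scheme.pointSmallEtale ξ).toPresheafFiber U ((Scheme.pointSmallEtale ξ).fiber.map g
      ((Scheme.pointSmallEtale ξ).fiber.map k z)) F.obj σ = _
    rw [hz, hw]
  refine (congrArg (s • ·) e.symm).trans ?_
  refine (map_zsmul ((Scheme.pointSmallEtale ξ).toPresheafFiber V z F.obj).hom s τ).symm.trans ?_
  rw [show s • τ = 0 from hs0.trans (smul_zero _), map_zero]

theorem stalk_bijective {s : ℤ} (hs : s ∈ S) : Function.Bijective (fun t : (EtCoh.stalk ξ).obj G => s • t) := by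
  have key : ∀ V : X.Etale, IsAffine V.left → Function.Bijective (fun σ : EtCoh.sect G V => s • σ) :=
    fun V hV => (Module.End.isUnit_iff _).1 ((hφ V hV).map_units ⟨s, hs⟩)
  refine ⟨(injective_iff_map_eq_zero (zsmulAddGroupHom (α := (EtCoh.stalk ξ).obj G) s)).2 fun t ht => ?_, fun t => ?_⟩
  · obtain ⟨U, v, σ, rfl⟩ := (Scheme.pointSmallEtale ξ).toPresheafFiber_jointly_surjective (P := G.obj) t
    have h' : (Scheme.pointSmallEtale ξ).toPresheafFiber U v G.obj (s • σ) =
        (Scheme.pointSmallEtale ξ).toPresheafFiber U v G.obj 0 :=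
      (map_zsmul _ s σ).trans (ht.trans (map_zero _).symm)
    obtain ⟨W, g, w, hw, hσ⟩ := ((Scheme.pointSmallEtale ξ).toPresheafFiber_eq_iff' (P := G.obj) U v _ _).1 h'
    obtain ⟨V, k, z, hV, hz⟩ := germ_affine ξ G W w
    have h1 : G.obj.map g.op σ = G.obj.map g.op σ := rfl
    have h2 : G.obj.map k.op (G.obj.map g.op σ) = 0 := (key V hV).1 (by
      refine ((map_zsmul (G.obj.map k.op).hom s (G.obj.map g.op σ)).symm.trans ?_).trans (smul_zero s).symm
      refine (congrArg _ ((map_zsmul (G.obj.map g.op).hom s σ).symm.trans (hσ.trans (map_zero _)))).trans ?_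
      exact map_zero _)
    rw [← hw, ← GrothendieckTopology.Point.toPresheafFiber_w_apply, ← hz,
      ← GrothendieckTopology.Point.toPresheafFiber_w_apply, h2, map_zero]
  · obtain ⟨V, w, σ, hV, rfl⟩ := exists_germ_affine ξ G t
    obtain ⟨a, ha⟩ := (key V hV).2 σ
    exact ⟨(Scheme.pointSmallEtale ξ).toPresheafFiber V w G.obj a, (map_zsmul _ s a).symm.trans (congrArg _ ha)⟩

omit ξ in
theorem isLTorsion_kernel (h0 : (0 : ℤ) ∉ S) : EtAcyc.IsLTorsion (primes S) (kernel φ) := by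
  rw [isLTorsion_iff_stalks]
  intro Ω' _ _ ξ' t
  let P := EtCoh.stalk ξ'
  have h1 : P.map φ (P.map (kernel.ι φ) t) = 0 := by
    rw [← ConcreteCategory.comp_apply, ← P.map_comp, kernel.condition, P.map_zero]
    rfl
  obtain ⟨s, hs, h⟩ := stalk_inj φ hφ ξ' _ h1
  refine ⟨s.natAbs, exists_primesIn h0 hs, natAbs_smul ?_⟩
  refine (AddCommGrpCat.mono_iff_injective (P.map (kernel.ι φ))).1 inferInstance ?_
  exact (map_zsmul (P.map (kernel.ι φ)).hom s t).trans (h.trans (map_zero _).symm)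

omit ξ in
theorem isLTorsion_cokernel (h0 : (0 : ℤ) ∉ S) : EtAcyc.IsLTorsion (primes S) (cokernel φ) := by
  rw [isLTorsion_iff_stalks]
  intro Ω' _ _ ξ' t
  let P := EtCoh.stalk ξ'
  obtain ⟨y, rfl⟩ := (AddCommGrpCat.epi_iff_surjective (P.map (cokernel.π φ))).1 inferInstance t
  obtain ⟨s, hs, a, ha⟩ := stalk_surj φ hφ ξ' y
  refine ⟨s.natAbs, exists_primesIn h0 hs, natAbs_smul ?_⟩
  refine (map_zsmul (P.map (cokernel.π φ)).hom s y).symm.trans ?_
  refine (congrArg _ ha.symm).trans ?_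
  show (P.map φ ≫ P.map (cokernel.π φ)) a = 0
  rw [← P.map_comp, cokernel.condition, P.map_zero]
  rfl

omit ξ in
theorem isIso_zsmul {s : ℤ} (hs : s ∈ S) : IsIso (s • 𝟙 G) := by
  refine isIso_of_stalks _ fun x => ?_
  haveI : (EtCoh.stalk (sepPoint X x)).Additive := Functor.additive_of_preserves_binary_products _
  rw [ConcreteCategory.isIso_iff_bijective, Functor.map_zsmul, CategoryTheory.Functor.map_id]
  exact stalk_bijective φ hφ (sepPoint X x) hs

omit ξ in
theorem isLocalizedModule_H [CompactSpace X] [QuasiSeparatedSpace X] (i : ℕ) :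
    IsLocalizedModule S ((EtCoh.HF X i).map φ).hom.toIntLinearMap := by
  let f := (EtCoh.HF X i).map φ
  let Z := (constantSheaf X.smallEtaleTopology AddCommGrpCat.{u + 1}).obj (AddCommGrpCat.of (ULift.{u + 1} ℤ))
  have hunit : ∀ s : S, Function.Bijective (fun y : EtCoh.H X G i => (s : ℤ) • y) := fun s => by
    haveI := isIso_zsmul φ hφ s.2
    haveI : IsIso ((EtCoh.HF X i).map ((s : ℤ) • 𝟙 G)) := inferInstance
    have h := ConcreteCategory.bijective_of_isIso ((EtCoh.HF X i).map ((s : ℤ) • 𝟙 G))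
    have e : ∀ y : EtCoh.H X G i, (EtCoh.HF X i).map ((s : ℤ) • 𝟙 G) y = (s : ℤ) • y := fun y => by
      refine (HF_map_apply i _ y).trans ?_
      have := map_zsmul (AddMonoidHom.mk' (fun k : G ⟶ G => (y.comp (Ext.mk₀ k) (add_zero i) : EtCoh.H X G i))
        (fun k k' => by rw [Ext.mk₀_add, Ext.comp_add])) (s : ℤ) (𝟙 G)
      exact this.trans (congrArg ((s : ℤ) • ·) (Ext.comp_mk₀_id y))
    exact (funext e) ▸ h
  refine ⟨fun s => (Module.End.isUnit_iff _).2 (hunit s), fun y => ?_, fun {x₁ x₂} h => ?_⟩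
  · by_cases h0 : (0 : ℤ) ∈ S
    · exact ⟨⟨0, ⟨0, h0⟩⟩, (zero_smul ℤ y).trans (map_zero _).symm⟩
    let Si := ShortComplex.mk (Abelian.image.ι φ) (cokernel.π (Abelian.image.ι φ)) (cokernel.condition _)
    have hSi : Si.ShortExact := { exact := ShortComplex.exact_of_g_is_cokernel Si (cokernelIsCokernel _) }
    let Sk := ShortComplex.mk (kernel.ι φ) (Abelian.factorThruImage φ)
      (by rw [← cancel_mono (Abelian.image.ι φ), Category.assoc, Abelian.image.fac, kernel.condition, zero_comp])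
    have hSk : Sk.ShortExact :=
      { exact := ShortComplex.exact_of_f_is_kernel Sk (KernelFork.IsLimit.ofι' (kernel.ι φ) Sk.zero fun g hg =>
          ⟨kernel.lift φ g ((congrArg (g ≫ ·) (Abelian.image.fac φ).symm).trans
            ((Category.assoc _ _ _).symm.trans ((congrArg (· ≫ _) hg).trans zero_comp))), kernel.lift_ι _ _ _⟩) }
    let e : cokernel φ ⟶ cokernel (Abelian.image.ι φ) := cokernel.desc _ (cokernel.π _) (by
      conv_lhs => arg 1; rw [← Abelian.image.fac φ]
      rw [Category.assoc, cokernel.condition, comp_zero])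
    haveI : Epi e := epi_of_epi_fac (cokernel.π_desc _ _ _)
    obtain ⟨m, hm, hm0⟩ := TorsionColim.exists_smul_eq_zero (primes S) Si.X₃
      (isLTorsion_of_epi _ e (isLTorsion_cokernel φ hφ h0)) i
      ((show Ext.{u + 1} Z Si.X₂ i from y).comp (Ext.mk₀ Si.g) (add_zero i))
    obtain ⟨z, hz⟩ := Ext.covariant_sequence_exact₂ Z hSi (m • (show Ext.{u + 1} Z Si.X₂ i from y))
      (by rw [nsmul_comp']; exact hm0)
    obtain ⟨n, hn, hn0⟩ := TorsionColim.exists_smul_eq_zero (primes S) Sk.X₁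
      (isLTorsion_kernel φ hφ h0) (i + 1) (z.comp hSk.extClass rfl)
    obtain ⟨x, hx⟩ := Ext.covariant_sequence_exact₃ Z hSk (n • z) rfl (by rw [nsmul_comp']; exact hn0)
    have hfx : f x = (n * m : ℕ) • y := by
      refine (HF_map_apply i φ x).trans ?_
      rw [← Abelian.image.fac φ, ← Ext.mk₀_comp_mk₀, ← Ext.comp_assoc_of_second_deg_zero]
      show (x.comp (Ext.mk₀ Sk.g) (add_zero i)).comp (Ext.mk₀ Si.f) (add_zero i) = _
      rw [hx, nsmul_comp', hz, mul_smul]
    obtain ⟨s, hs, c, hc⟩ := exists_dvd_mem (n * m) ⟨Nat.mul_pos hn.1 hm.1, fun p hp h =>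
      ((Nat.Prime.dvd_mul hp).1 h).elim (hn.2 p hp) (hm.2 p hp)⟩
    refine ⟨⟨c • x, ⟨s, hs⟩⟩, ?_⟩
    show s • y = f (c • x)
    rw [map_zsmul, hfx, hc, mul_comm, mul_smul, natCast_zsmul]
  · by_cases h0 : (0 : ℤ) ∈ S
    · exact ⟨⟨0, h0⟩, (zero_smul ℤ x₁).trans (zero_smul ℤ x₂).symm⟩
    let a : EtCoh.H X F i := x₁ - x₂
    have ha : (show Ext.{u + 1} Z F i from a).comp (Ext.mk₀ φ) (add_zero i) = 0 := by
      refine (HF_map_apply i φ a).symm.trans ?_
      exact (map_sub f.hom x₁ x₂).trans (sub_eq_zero.2 h)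
    obtain ⟨n, hn, y, hy⟩ : ∃ (n : ℕ) (_ : EtAcyc.PrimesIn (primes S) n) (y : Ext.{u + 1} Z (kernel φ) i),
        y.comp (Ext.mk₀ (kernel.ι φ)) (add_zero i) = n • (show Ext.{u + 1} Z F i from a) := by
      let Si := ShortComplex.mk (Abelian.image.ι φ) (cokernel.π (Abelian.image.ι φ)) (cokernel.condition _)
      have hSi : Si.ShortExact := { exact := ShortComplex.exact_of_g_is_cokernel Si (cokernelIsCokernel _) }
      let Sk := ShortComplex.mk (kernel.ι φ) (Abelian.factorThruImage φ)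
        (by rw [← cancel_mono (Abelian.image.ι φ), Category.assoc, Abelian.image.fac, kernel.condition, zero_comp])
      have hSk : Sk.ShortExact :=
        { exact := ShortComplex.exact_of_f_is_kernel Sk (KernelFork.IsLimit.ofι' (kernel.ι φ) Sk.zero fun g hg =>
          ⟨kernel.lift φ g ((congrArg (g ≫ ·) (Abelian.image.fac φ).symm).trans
            ((Category.assoc _ _ _).symm.trans ((congrArg (· ≫ _) hg).trans zero_comp))), kernel.lift_ι _ _ _⟩) }
      let e : cokernel φ ⟶ cokernel (Abelian.image.ι φ) := cokernel.desc _ (cokernel.π _) (by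
        conv_lhs => arg 1; rw [← Abelian.image.fac φ]
        rw [Category.assoc, cokernel.condition, comp_zero])
      haveI : Epi e := epi_of_epi_fac (cokernel.π_desc _ _ _)
      let b := (show Ext.{u + 1} Z Sk.X₂ i from a).comp (Ext.mk₀ Sk.g) (add_zero i)
      have hb : b.comp (Ext.mk₀ Si.f) (add_zero i) = 0 := by
        rw [Ext.comp_assoc_of_second_deg_zero, Ext.mk₀_comp_mk₀]
        show (show Ext.{u + 1} Z F i from a).comp (Ext.mk₀ (Abelian.factorThruImage φ ≫ Abelian.image.ι φ)) _ = 0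
        rw [Abelian.image.fac]
        exact ha
      have key : ∃ (n : ℕ) (_ : EtAcyc.PrimesIn (primes S) n), n • b = 0 := by
        cases i with
        | zero =>
          refine ⟨1, TorsionColim.primesIn_one _, ?_⟩
          rw [one_smul]
          exact Ext.postcomp_mk₀_injective_of_mono Z Si.f (hb.trans (map_zero ((Ext.mk₀ Si.f).postcomp Z (add_zero 0))).symm)
        | succ k =>
          obtain ⟨w, hw⟩ := Ext.covariant_sequence_exact₁ Z hSi b hb (n₀ := k) rfl
          obtain ⟨n, hn, hn0⟩ := TorsionColim.exists_smul_eq_zero (primes S) Si.X₃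
            (isLTorsion_of_epi _ e (isLTorsion_cokernel φ hφ h0)) k w
          refine ⟨n, hn, ?_⟩
          rw [← hw, ← nsmul_comp']
          exact (congrArg (fun v => Ext.comp v hSi.extClass rfl) hn0).trans (map_zero (hSi.extClass.postcomp Z (rfl : k + 1 = k + 1)))
      obtain ⟨n, hn, hn0⟩ := key
      obtain ⟨y, hy⟩ := Ext.covariant_sequence_exact₂ Z hSk (n • (show Ext.{u + 1} Z Sk.X₂ i from a))
        (by rw [nsmul_comp']; exact hn0)
      exact ⟨n, hn, y, hy⟩
    obtain ⟨m, hm, hm0⟩ := TorsionColim.exists_smul_eq_zero (primes S) (kernel φ)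
      (isLTorsion_kernel φ hφ h0) i y
    obtain ⟨s, hs, c, hc⟩ := exists_dvd_mem (m * n) ⟨Nat.mul_pos hm.1 hn.1, fun p hp h =>
      ((Nat.Prime.dvd_mul hp).1 h).elim (hm.2 p hp) (hn.2 p hp)⟩
    have h1 : (m * n : ℕ) • a = 0 := by
      rw [mul_smul]
      refine (congrArg (m • ·) hy.symm).trans ?_
      refine (map_nsmul ((Ext.mk₀ (kernel.ι φ)).postcomp Z (add_zero i)) m y).symm.trans ?_
      exact (congrArg (fun v => Ext.comp v (Ext.mk₀ (kernel.ι φ)) (add_zero i)) hm0).trans (by simp)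
    refine ⟨⟨s, hs⟩, ?_⟩
    show s • x₁ = s • x₂
    rw [← sub_eq_zero, ← smul_sub, hc, mul_comm, mul_smul, natCast_zsmul]
    exact (congrArg (c • ·) h1).trans (smul_zero c)

end Groth.Agent.Et18.TorsionLocalize
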