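import Groth.Prelude.Def_SGA7a
import Groth.Agent.CAlgH3.Branches
import Groth.Agent.SmoothLib.Monogenic
import Mathlib

/-!
# The maximal unramified extension inside a separable closure of a henselian discretely valued field
-/

set_option autoImplicit false

universe u

open scoped TensorProduct
open Polynomial

namespace Groth.Agent.Et18.UnramClosure

variable {R K Ω : Type u} [CommRing R] [Field K] [Algebra R K] [Field Ω] [Algebra K Ω]
  [Algebra R Ω] [IsScalarTower R K Ω]

theorem algebraMap_mem [IsLocalRing R] {W : ValuationSubring Ω} (hW : SGA7.LiesOver K R W) (r : R) :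
    algebraMap R Ω r ∈ W := by
  rw [IsScalarTower.algebraMap_apply R K Ω]; exact hW.1 r

theorem valuation_lt_one [IsLocalRing R] {W : ValuationSubring Ω} (hW : SGA7.LiesOver K R W) {r : R}
    (hr : r ∈ IsLocalRing.maximalIdeal R) : W.valuation (algebraMap R Ω r) < 1 := by
  rw [IsScalarTower.algebraMap_apply R K Ω]; exact hW.2 r hr

/-- Integral elements lie in the valuation ring. -/
theorem mem_of_isIntegral [IsLocalRing R] {W : ValuationSubring Ω} (hW : SGA7.LiesOver K R W) {w : Ω}
    (hw : IsIntegral R w) : w ∈ W := by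
  let iW : R →+* W := (algebraMap R Ω).codRestrict W.toSubring (algebraMap_mem hW)
  letI : Algebra R W := iW.toAlgebra
  haveI : IsScalarTower R W Ω := IsScalarTower.of_algebraMap_eq fun _ => rfl
  obtain ⟨y, hy⟩ := IsIntegrallyClosed.isIntegral_iff.1 (hw.tower_top (A := W))
  rw [← hy]; exact y.2

/-- Over a henselian discrete valuation ring every element of the valuation ring is integral. -/
theorem isIntegral_of_mem [IsDomain R] [IsDiscreteValuationRing R] [HenselianLocalRing R] [IsFractionRing R K]
    [Algebra.IsSeparable K Ω] {W : ValuationSubring Ω} (hW : SGA7.LiesOver K R W) {w : Ω} (hw : w ∈ W) :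
    IsIntegral R w := by
  by_cases hw0 : w = 0
  · rw [hw0]; exact isIntegral_zero
  let L : IntermediateField K Ω := IntermediateField.adjoin K {w}
  haveI : FiniteDimensional K L :=
    IntermediateField.adjoin.finiteDimensional (Algebra.IsSeparable.isIntegral K w)
  haveI : Algebra.IsSeparable K L := Algebra.isSeparable_tower_bot_of_isSeparable K L Ω
  haveI : IsScalarTower R L Ω := IsScalarTower.of_algebraMap_eq fun r => by
    rw [IsScalarTower.algebraMap_apply R K Ω, IsScalarTower.algebraMap_apply R K L, ← IsScalarTower.algebraMap_apply K L Ω]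
  let B := integralClosure R L
  haveI : IsDedekindDomain B := integralClosure.isDedekindDomain R K L
  haveI : Module.Finite R B := IsIntegralClosure.finite R K L B
  haveI : IsFractionRing B L := integralClosure.isFractionRing_of_finite_extension K L
  haveI : HenselianRing R (IsLocalRing.maximalIdeal R) := inferInstance
  haveI : IsLocalRing B := by
    obtain ⟨M, hM⟩ := Ideal.exists_maximal B
    exact IsLocalRing.of_unique_max_ideal ⟨M, hM, fun M' hM' => @CAlgH3.Branches.maximal_unique R B _ _ _ _ _ _ _ M' M hM' hM⟩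
  have hinj : Function.Injective (algebraMap R B) := by
    intro a b h
    apply IsFractionRing.injective R K
    apply (algebraMap K L).injective
    rw [← IsScalarTower.algebraMap_apply, ← IsScalarTower.algebraMap_apply]
    exact congrArg Subtype.val h
  haveI : IsPrincipalIdealRing B := by
    refine IsPrincipalIdealRing.of_finite_primes ?_
    refine ({⊥, IsLocalRing.maximalIdeal B} : Set (Ideal B)).toFinite.subset fun P hP => ?_
    by_cases hP0 : P = ⊥
    · exact Or.inl hP0
    · exact Or.inr (IsLocalRing.eq_maximalIdeal (Ideal.IsPrime.isMaximal hP hP0))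
  haveI : ValuationRing B := inferInstance
  let wL : L := ⟨w, IntermediateField.mem_adjoin_simple_self K w⟩
  have hint : ∀ y : B, IsIntegral R ((y : L) : Ω) := fun y =>
    (IsIntegral.map (IsScalarTower.toAlgHom R L Ω) y.2)
  obtain ⟨b, hb⟩ | ⟨b, hb⟩ := ValuationRing.isInteger_or_isInteger B wL
  · have := hint b
    rwa [show ((b : L) : Ω) = w from congrArg Subtype.val hb] at this
  · by_cases hbu : IsUnit b
    · obtain ⟨u, rfl⟩ := hbu
      have h2 : ((↑(u⁻¹) : B) : L) = wL := by
        have h3 : ((↑u : B) : L) * ((↑(u⁻¹) : B) : L) = 1 := by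
          rw [← Subalgebra.coe_mul, Units.mul_inv, Subalgebra.coe_one]
        rw [show ((↑u : B) : L) = wL⁻¹ from hb] at h3
        have hwL : wL ≠ 0 := fun h => hw0 (congrArg Subtype.val h)
        exact (inv_mul_eq_one₀ hwL).1 h3 |>.symm
      have := hint ↑(u⁻¹)
      rwa [h2] at this
    · exfalso
      have hne : Ideal.map (algebraMap R B) (IsLocalRing.maximalIdeal R) ≠ ⊥ := by
        rw [Ne, Ideal.map_eq_bot_iff_of_injective hinj]
        exact IsDiscreteValuationRing.not_a_field R
      have hrad : b ∈ (Ideal.map (algebraMap R B) (IsLocalRing.maximalIdeal R)).radical := by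
        rw [Ideal.radical_eq_sInf, Ideal.mem_sInf]
        rintro P ⟨hP, hPp⟩
        have hP0 : P ≠ ⊥ := fun h => hne (le_bot_iff.1 (h ▸ hP))
        rw [IsLocalRing.eq_maximalIdeal (Ideal.IsPrime.isMaximal hPp hP0)]
        exact (IsLocalRing.mem_maximalIdeal b).2 hbu
      obtain ⟨e, he⟩ := hrad
      have hlt : ∀ y ∈ Ideal.map (algebraMap R B) (IsLocalRing.maximalIdeal R),
          W.valuation ((y : L) : Ω) < 1 := by
        intro y hy
        induction hy using Submodule.span_induction with
        | mem z hz =>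
          obtain ⟨r, hr, rfl⟩ := hz
          exact valuation_lt_one (K := K) hW hr
        | zero => simp
        | add x y _ _ hx hy =>
          have : (((x + y : B) : L) : Ω) = ((x : L) : Ω) + ((y : L) : Ω) := rfl
          rw [this]
          exact Valuation.map_add_lt _ hx hy
        | smul c x _ hx =>
          have : (((c • x : B) : L) : Ω) = ((c : L) : Ω) * ((x : L) : Ω) := rfl
          rw [this, map_mul]
          exact mul_lt_one_of_nonneg_of_lt_one_right
            ((W.valuation_le_one_iff _).2 (mem_of_isIntegral hW (hint c))) zero_le' hx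
      have hb' : ((b : L) : Ω) = w⁻¹ := congrArg Subtype.val hb
      have h1 := hlt _ he
      rw [Subalgebra.coe_pow, IntermediateField.coe_pow, hb', map_pow] at h1
      have hw1 : W.valuation w ≤ 1 := (W.valuation_le_one_iff _).2 hw
      have hwv : W.valuation w ≠ 0 := (Valuation.ne_zero_iff _).2 hw0
      have h2 : 1 ≤ W.valuation w⁻¹ := by
        rw [map_inv₀]
        exact (one_le_inv₀ (zero_lt_iff.2 hwv)).2 hw1
      exact not_lt.2 (one_le_pow₀ h2) h1

variable (R K Ω)

/-- Membership in a field generated by a finite étale algebra. -/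
def InFinEt (α : Ω) : Prop :=
  ∃ (A : Type u) (_ : CommRing A) (_ : Algebra R A) (ψ : A →ₐ[R] Ω),
    Module.Finite R A ∧ Algebra.Etale R A ∧ α ∈ Algebra.adjoin K (Set.range ψ)

variable {R K Ω}

theorem inFinEt_base (c : K) : InFinEt R K Ω (algebraMap K Ω c) :=
  ⟨R, inferInstance, inferInstance, Algebra.ofId R Ω, inferInstance, inferInstance,
    Subalgebra.algebraMap_mem _ c⟩

theorem combine {α β : Ω} (hα : InFinEt R K Ω α) (hβ : InFinEt R K Ω β) :
    ∃ (A : Type u) (_ : CommRing A) (_ : Algebra R A) (ψ : A →ₐ[R] Ω),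
      Module.Finite R A ∧ Algebra.Etale R A ∧ α ∈ Algebra.adjoin K (Set.range ψ) ∧
        β ∈ Algebra.adjoin K (Set.range ψ) := by
  obtain ⟨A, _, _, ψ, _, _, hA⟩ := hα
  obtain ⟨B, _, _, φ, _, _, hB⟩ := hβ
  haveI : Algebra.Etale R (A ⊗[R] B) := Algebra.Etale.comp R A (A ⊗[R] B)
  refine ⟨A ⊗[R] B, inferInstance, inferInstance, Algebra.TensorProduct.productMap ψ φ, inferInstance, inferInstance,
    Algebra.adjoin_mono ?_ hA, Algebra.adjoin_mono ?_ hB⟩
  · rintro _ ⟨a, rfl⟩
    exact ⟨a ⊗ₜ 1, by simp⟩
  · rintro _ ⟨b, rfl⟩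
    exact ⟨1 ⊗ₜ b, by simp⟩

variable (R K Ω)

/-- The maximal unramified subextension, as a subalgebra. -/
def nrSub : Subalgebra K Ω where
  carrier := {α | InFinEt R K Ω α}
  mul_mem' := fun {a b} ha hb => by
    obtain ⟨A, _, _, ψ, h₁, h₂, ha', hb'⟩ := combine ha hb
    exact ⟨A, inferInstance, inferInstance, ψ, h₁, h₂, mul_mem ha' hb'⟩
  add_mem' := fun {a b} ha hb => by
    obtain ⟨A, _, _, ψ, h₁, h₂, ha', hb'⟩ := combine ha hb
    exact ⟨A, inferInstance, inferInstance, ψ, h₁, h₂, add_mem ha' hb'⟩
  algebraMap_mem' := inFinEt_base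

variable [Algebra.IsAlgebraic K Ω]

/-- The maximal unramified subextension. -/
noncomputable def nr : IntermediateField K Ω :=
  (nrSub R K Ω).toIntermediateField fun x hx =>
    Subalgebra.inv_mem_of_algebraic (nrSub R K Ω) (x := ⟨x, hx⟩) (Algebra.IsAlgebraic.isAlgebraic x)

variable {R K Ω}

/-- A finite subset of the unramified field comes from one finite étale algebra. -/
theorem exists_finEt (s : Finset Ω) (hs : ∀ α ∈ s, α ∈ nr R K Ω) :
    ∃ (A : Type u) (_ : CommRing A) (_ : Algebra R A) (ψ : A →ₐ[R] Ω),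
      Module.Finite R A ∧ Algebra.Etale R A ∧ ∀ α ∈ s, α ∈ Algebra.adjoin K (Set.range ψ) := by
  classical
  induction s using Finset.induction_on with
  | empty => exact ⟨R, inferInstance, inferInstance, Algebra.ofId R Ω, inferInstance, inferInstance, by simp⟩
  | insert a s _ ih =>
    obtain ⟨B, _, _, φ, _, _, hB⟩ := ih fun α hα => hs α (Finset.mem_insert_of_mem hα)
    have ha : InFinEt R K Ω a := hs a (Finset.mem_insert_self a s)
    obtain ⟨A, _, _, ψ, _, _, hA⟩ := ha
    haveI : Algebra.Etale R (A ⊗[R] B) := Algebra.Etale.comp R A (A ⊗[R] B)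
    refine ⟨A ⊗[R] B, inferInstance, inferInstance, Algebra.TensorProduct.productMap ψ φ, inferInstance, inferInstance,
      fun α hα => ?_⟩
    rcases Finset.mem_insert.1 hα with rfl | hα
    · refine Algebra.adjoin_mono ?_ hA
      rintro _ ⟨a, rfl⟩; exact ⟨a ⊗ₜ 1, by simp⟩
    · refine Algebra.adjoin_mono ?_ (hB α hα)
      rintro _ ⟨b, rfl⟩; exact ⟨1 ⊗ₜ b, by simp⟩

theorem root_mem_nr [IsLocalRing R] {f : R[X]} (hm : f.Monic)
    (hs : (f.map (IsLocalRing.residue R)).Separable) {α : Ω} (hα : aeval α f = 0) : α ∈ nr R K Ω := by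
  haveI := SmoothLib.etale_adjoinRoot_of_separable f hm (SmoothLib.separable_of_residue f hm hs)
  haveI : Module.Finite R (AdjoinRoot f) := hm.finite_adjoinRoot
  exact ⟨AdjoinRoot f, inferInstance, inferInstance, AdjoinRoot.liftAlgHom f (Algebra.ofId R Ω) α hα,
    inferInstance, inferInstance, Algebra.subset_adjoin ⟨AdjoinRoot.root f, AdjoinRoot.liftAlgHom_root f _ _ _⟩⟩

/-- Automorphisms fixing the unramified field belong to inertia. -/
theorem isInertia_of_fixes [IsDomain R] [IsDiscreteValuationRing R] [HenselianLocalRing R] [IsFractionRing R K]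
    [IsSepClosure K Ω] {W : ValuationSubring Ω} (hW : SGA7.LiesOver K R W) (σ : Ω ≃ₐ[K] Ω)
    (hσ : ∀ α ∈ nr R K Ω, σ α = α) : SGA7.IsInertia W σ := by
  haveI : IsSepClosed Ω := IsSepClosure.sep_closed K
  haveI : Algebra.IsSeparable K Ω := IsSepClosure.separable
  intro x hx
  have hσx : σ x ∈ W := mem_of_isIntegral hW
    (IsIntegral.map (σ.toAlgHom.restrictScalars R) (isIntegral_of_mem hW hx))
  refine ⟨hσx, ?_⟩
  let iW : R →+* W := (algebraMap R Ω).codRestrict W.toSubring (algebraMap_mem hW)
  haveI : IsLocalHom iW := ⟨fun r hr => by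
    by_contra h
    exact (IsLocalRing.mem_maximalIdeal _).1 ((W.valuation_lt_one_iff (iW r)).2
      (valuation_lt_one hW ((IsLocalRing.mem_maximalIdeal r).2 h))) hr⟩
  let res := IsLocalRing.residue W
  letI : Algebra (IsLocalRing.ResidueField R) (IsLocalRing.ResidueField W) :=
    (IsLocalRing.ResidueField.map iW).toAlgebra
  have hcomm : ∀ r : R, algebraMap (IsLocalRing.ResidueField R) (IsLocalRing.ResidueField W)
      (IsLocalRing.residue R r) = res (iW r) := fun r => rfl
  let w : W := ⟨x, hx⟩
  have hint : IsIntegral (IsLocalRing.ResidueField R) (res w) := by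
    obtain ⟨f, hf, hfx⟩ := isIntegral_of_mem hW hx
    refine ⟨f.map (IsLocalRing.residue R), hf.map _, ?_⟩
    have h1 : f.eval₂ iW w = 0 := by
      apply Subtype.val_injective
      rw [← ValuationSubring.subtype_apply, hom_eval₂]
      exact hfx
    rw [eval₂_map, show (algebraMap (IsLocalRing.ResidueField R) (IsLocalRing.ResidueField W)).comp
      (IsLocalRing.residue R) = res.comp iW from RingHom.ext hcomm, ← hom_eval₂, h1, map_zero]
  set q := ringExpChar (IsLocalRing.ResidueField R) with hq
  haveI : ExpChar (IsLocalRing.ResidueField W) q :=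
    expChar_of_injective_ringHom (algebraMap (IsLocalRing.ResidueField R) (IsLocalRing.ResidueField W)).injective q
  obtain ⟨g, hgsep, n, hg⟩ := (minpoly.irreducible hint).hasSeparableContraction q
  have hgm : g.Monic := by
    have := minpoly.monic hint
    rw [← hg] at this
    exact (monic_expand_iff (pow_pos (expChar_pos (IsLocalRing.ResidueField W) q) n)).1 this
  have hgr : aeval (res (w ^ q ^ n)) g = 0 := by
    rw [map_pow, ← expand_aeval, hg, minpoly.aeval]
  obtain ⟨f, hf, -, hfm⟩ := lifts_and_natDegree_eq_and_monic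
    ((mem_lifts g).2 (map_surjective _ IsLocalRing.residue_surjective g)) hgm
  have hfs : (f.map (IsLocalRing.residue R)).Separable := by rw [hf]; exact hgsep
  have hfΩ : (f.map (algebraMap R Ω)).Separable := (SmoothLib.separable_of_residue f hfm hfs).map
  have hsplit := IsSepClosed.splits_of_separable (f.map (algebraMap R Ω)) hfΩ
  have heq := hsplit.eq_prod_roots_of_monic (hfm.map _)
  -- some root reduces to the chosen element
  obtain ⟨α, hαmem, hα⟩ : ∃ α ∈ (f.map (algebraMap R Ω)).roots,
      W.valuation (((w ^ q ^ n : W) : Ω) - α) < 1 := by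
    have h0 : W.valuation ((f.map (algebraMap R Ω)).eval ((w ^ q ^ n : W) : Ω)) < 1 := by
      have h1 : res (f.eval₂ iW (w ^ q ^ n)) = 0 := by
        rw [hom_eval₂, ← hgr, ← hf, aeval_def, eval₂_map]
        rfl
      rw [IsLocalRing.residue_eq_zero_iff, W.valuation_lt_one_iff] at h1
      rw [eval_map]
      rw [← ValuationSubring.subtype_apply, hom_eval₂] at h1
      exact h1
    rw [heq, eval_multiset_prod, map_multiset_prod, Multiset.map_map, Multiset.map_map] at h0
    by_contra hall
    simp only [not_exists, not_and, not_lt] at hall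
    refine not_le.2 h0 (Multiset.one_le_prod_of_one_le fun v hv => ?_)
    obtain ⟨α, hα, rfl⟩ := Multiset.mem_map.1 hv
    simpa using hall α hα
  have hαroot : aeval α f = 0 := by
    rw [aeval_def, ← eval_map]
    exact (mem_roots (hfm.map _).ne_zero).1 hαmem
  have hαW : α ∈ W := mem_of_isIntegral hW ⟨f, hfm, hαroot⟩
  let a : W := ⟨α, hαW⟩
  let sw : W := ⟨σ x, hσx⟩
  have hres : res w ^ q ^ n = res a := by
    rw [← map_pow, ← sub_eq_zero, ← map_sub, IsLocalRing.residue_eq_zero_iff, W.valuation_lt_one_iff]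
    exact hα
  have hres' : res sw ^ q ^ n = res a := by
    rw [← map_pow, ← sub_eq_zero, ← map_sub, IsLocalRing.residue_eq_zero_iff, W.valuation_lt_one_iff]
    have hfix : σ α = α := hσ α (root_mem_nr hfm hfs hαroot)
    have hd : (((w ^ q ^ n : W) : Ω) - α) ∈ W := sub_mem (w ^ q ^ n).2 hαW
    -- `σ` preserves the maximal ideal
    set d : W := ⟨_, hd⟩
    have hσd : σ (d : Ω) ∈ W := mem_of_isIntegral hW
      (IsIntegral.map (σ.toAlgHom.restrictScalars R) (isIntegral_of_mem hW hd))
    have heq' : ((sw ^ q ^ n - a : W) : Ω) = σ (d : Ω) := by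
      simp [d, sw, a, w, hfix]
    rw [heq', ← W.valuation_lt_one_iff ⟨_, hσd⟩, IsLocalRing.mem_maximalIdeal]
    intro hu
    obtain ⟨b, hb⟩ := isUnit_iff_exists_inv.1 hu
    have hb' : σ.symm (b : Ω) ∈ W := mem_of_isIntegral hW
      (IsIntegral.map (σ.symm.toAlgHom.restrictScalars R) (isIntegral_of_mem hW b.2))
    have hdu : IsUnit d := isUnit_iff_exists_inv.2 ⟨⟨_, hb'⟩, Subtype.ext (σ.injective (by
      have := congrArg Subtype.val hb
      simpa using this))⟩
    exact (IsLocalRing.mem_maximalIdeal _).1 ((W.valuation_lt_one_iff d).2 hα) hdu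
  have : res sw = res w := by
    have h := hres'.trans hres.symm
    have hinj := iterateFrobenius_inj (IsLocalRing.ResidueField W) q n
    exact hinj (by simpa [iterateFrobenius_def] using h)
  rw [← sub_eq_zero, ← map_sub, IsLocalRing.residue_eq_zero_iff, W.valuation_lt_one_iff] at this
  exact this

end Groth.Agent.Et18.UnramClosure
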