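import Groth.Prelude.Def_SGA7IX
import Groth.Agent.Et18.UnramClosure
import Groth.Agent.Et18.NeronComm
import Groth.Agent.AbVarLib.PowEtale
import Groth.Agent.HenselLib.QFLocal
import Groth.Agent.FEtLib.EqLocus
import Mathlib

/-!
# Torsion points fixed by inertia and specialisation on Néron models
-/

set_option autoImplicit false

universe u

open CategoryTheory CategoryTheory.Limits AlgebraicGeometry MonObj MonoidalCategory CartesianMonoidalCategory
open scoped TensorProduct

namespace Groth.Agent.Et18.TorsionSpecialise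

variable {R K Ω : Type u} [CommRing R] [IsDomain R] [IsDiscreteValuationRing R] [HenselianLocalRing R]
  [Field K] [Algebra R K] [IsFractionRing R K] [Field Ω] [Algebra K Ω] [IsSepClosure K Ω]
  [Algebra R Ω] [IsScalarTower R K Ω]

theorem assoc_helper {C : Type*} [Category C] {V W X Y Z U : C} (a : V ⟶ W) (b : W ⟶ X) (c : X ⟶ Y)
    (d : Y ⟶ Z) (g : Z ⟶ U) {e : W ⟶ Z} (h : b ≫ c ≫ d = e) : a ≫ b ≫ c ≫ d ≫ g = (a ≫ e) ≫ g := by
  subst h; simp only [Category.assoc]

/-- The structure map to the valuation ring. -/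
noncomputable def toW {W : ValuationSubring Ω} (hW : SGA7.LiesOver K R W) : R →+* W :=
  (algebraMap R Ω).codRestrict W.toSubring (UnramClosure.algebraMap_mem hW)

theorem isLocalHom_toW {W : ValuationSubring Ω} (hW : SGA7.LiesOver K R W) : IsLocalHom (toW hW) :=
  ⟨fun r hr => by
    by_contra h
    exact (IsLocalRing.mem_maximalIdeal _).1 ((W.valuation_lt_one_iff (toW hW r)).2
      (UnramClosure.valuation_lt_one hW ((IsLocalRing.mem_maximalIdeal r).2 h))) hr⟩

/-- A torsion point whose underlying point specialises extends to the valuation ring. -/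
theorem exists_extension (N : Over (Spec (CommRingCat.of R))) [GrpObj N] [IsCommMonObj N]
    [Smooth N.hom] [IsSeparated N.hom] [QuasiCompact N.hom]
    {W : ValuationSubring Ω} (hW : SGA7.LiesOver K R W)
    (m : ℕ) (hm : IsUnit ((m : ℤ) : Γ(Spec (CommRingCat.of R), ⊤)))
    {P : Over (Spec (CommRingCat.of R))} (ePΩ : P.left = Spec (CommRingCat.of Ω))
    (hP : P.hom = eqToHom ePΩ ≫ Spec.map (CommRingCat.ofHom (algebraMap R Ω)))
    (yb : P ⟶ N) (hyb : yb ^ m = 1)
    (z : N.left) (hz : z ∈ SGA7.specialFibreSet R N)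
    (hspec : (eqToHom ePΩ.symm ≫ yb.left).base (IsLocalRing.closedPoint Ω) ⤳ z) :
    ∃ l : Spec (CommRingCat.of W) ⟶ N.left, l ≫ N.hom = Spec.map (CommRingCat.ofHom (toW hW)) ∧
      Spec.map (CommRingCat.ofHom W.subtype) ≫ l = eqToHom ePΩ.symm ≫ yb.left := by
  haveI : Etale ((𝟙 N : N ⟶ N) ^ m).left := by
    rw [← zpow_natCast]; exact AbVarLib.etale_zpow N (m : ℤ) hm
  let f : N.left ⟶ N.left := ((𝟙 N : N ⟶ N) ^ m).left
  have hfw : f ≫ N.hom = N.hom := Over.w _
  let one : 𝟙_ (Over (Spec (CommRingCat.of R))) ⟶ N := 1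
  haveI : IsClosedImmersion one.left := by
    haveI : IsClosedImmersion (one.left ≫ N.hom) := by rw [Over.w one]; exact inferInstanceAs (IsClosedImmersion (𝟙 _))
    exact IsClosedImmersion.of_comp one.left N.hom
  let pE : pullback one.left f ⟶ Spec (CommRingCat.of R) := pullback.fst one.left f
  let sE : pullback one.left f ⟶ N.left := pullback.snd one.left f
  haveI : Etale pE := inferInstanceAs (Etale (pullback.fst one.left f))
  haveI : IsClosedImmersion sE := inferInstanceAs (IsClosedImmersion (pullback.snd one.left f))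
  have hsE : sE ≫ N.hom = pE := by
    rw [← hfw, ← Category.assoc, ← pullback.condition, Category.assoc, Over.w one]
    exact Category.comp_id _
  let y₀ : Spec (CommRingCat.of Ω) ⟶ N.left := eqToHom ePΩ.symm ≫ yb.left
  have hy₀ : y₀ ≫ N.hom = Spec.map (CommRingCat.ofHom (algebraMap R Ω)) := by
    simp only [y₀, Category.assoc, Over.w yb, hP, eqToHom_trans_assoc, eqToHom_refl, Category.id_comp]
  have hke : Spec.map (CommRingCat.ofHom (algebraMap R Ω)) ≫ one.left = y₀ ≫ f := by
    have h1 : yb ≫ ((𝟙 N : N ⟶ N) ^ m) = toUnit P ≫ one := by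
      rw [MonObj.comp_pow, Category.comp_id, hyb, MonObj.comp_one]
    have h2 := congrArg (·.left) h1
    simp only [Over.comp_left] at h2
    simp only [y₀, Category.assoc]
    rw [show yb.left ≫ f = (toUnit P).left ≫ one.left from h2, show (toUnit P).left = P.hom from rfl, hP]
    simp
  let e : Spec (CommRingCat.of Ω) ⟶ pullback one.left f :=
    pullback.lift (Spec.map (CommRingCat.ofHom (algebraMap R Ω))) y₀ hke
  have he1 : e ≫ pE = Spec.map (CommRingCat.ofHom (algebraMap R Ω)) := pullback.lift_fst _ _ _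
  have he2 : e ≫ sE = y₀ := pullback.lift_snd _ _ _
  let pt0 : (Spec (CommRingCat.of Ω) : Scheme.{u}) := IsLocalRing.closedPoint Ω
  have hpt0 : sE (e pt0) = y₀ pt0 := congrArg (fun h => h pt0) he2
  obtain ⟨zE, hzE⟩ : z ∈ Set.range sE :=
    hspec.mem_closed sE.isClosedEmbedding.isClosed_range ⟨e pt0, hpt0⟩
  have hespec : e (IsLocalRing.closedPoint Ω) ⤳ zE := by
    refine sE.isClosedEmbedding.isInducing.specializes_iff.1 ?_
    rw [hzE]
    show sE (e pt0) ⤳ z
    rw [hpt0]
    exact hspec
  have hzEcp : pE zE = IsLocalRing.closedPoint R := by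
    rw [← hsE, Scheme.Hom.comp_apply, hzE]; exact hz
  obtain ⟨V, hV, hzV, -⟩ := exists_isAffineOpen_mem_and_subset (x := zE) (U := ⊤) trivial
  have her : Set.range e ⊆ Set.range hV.fromSpec := by
    rintro _ ⟨a, rfl⟩
    rw [hV.range_fromSpec, Subsingleton.elim a (IsLocalRing.closedPoint Ω)]
    exact hespec.mem_open V.2 hzV
  obtain ⟨χ, hχ⟩ := Spec.map_surjective (IsOpenImmersion.lift hV.fromSpec e her)
  obtain ⟨φ, hφ⟩ := Spec.map_surjective (hV.fromSpec ≫ pE)
  have het : φ.hom.Etale := (HasRingHomProperty.Spec_iff (P := @Etale)).mp (hφ ▸ inferInstance)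
  algebraize [φ.hom]
  let Q := (hV.primeIdealOf ⟨zE, hzV⟩).asIdeal
  haveI : Q.IsPrime := (hV.primeIdealOf ⟨zE, hzV⟩).isPrime
  have hQ : Q.comap (algebraMap R Γ(pullback one.left f, V)) = IsLocalRing.maximalIdeal R := by
    have h1 : (Spec.map φ) (hV.primeIdealOf ⟨zE, hzV⟩) = IsLocalRing.closedPoint R := by
      rw [hφ]
      refine (congrArg pE (hV.fromSpec_primeIdealOf ⟨zE, hzV⟩)).trans hzEcp
    exact congrArg PrimeSpectrum.asIdeal h1
  have hχφ : φ ≫ χ = CommRingCat.ofHom (algebraMap R Ω) := by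
    apply Spec.map_injective
    rw [Spec.map_comp, hχ, hφ, ← Category.assoc, IsOpenImmersion.lift_fac, he1]
  let χA : Γ(pullback one.left f, V) →ₐ[R] Ω :=
    { χ.hom with commutes' := fun r => congr($(congrArg CommRingCat.Hom.hom hχφ) r) }
  have hker : ∀ a : Q.primeCompl, IsUnit (χA a) := by
    rintro ⟨a, ha⟩
    refine isUnit_iff_ne_zero.2 fun h0 => ha ?_
    have hs : (Spec.map χ) (IsLocalRing.closedPoint Ω) ⤳ hV.primeIdealOf ⟨zE, hzV⟩ := by
      refine hV.fromSpec.isOpenEmbedding.isInducing.specializes_iff.1 ?_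
      have h2 : hV.fromSpec ((Spec.map χ) pt0) = e pt0 := by
        rw [hχ]; exact congrArg (fun h => h pt0) (IsOpenImmersion.lift_fac hV.fromSpec e her)
      change hV.fromSpec ((Spec.map χ) pt0) ⤳ hV.fromSpec (hV.primeIdealOf ⟨zE, hzV⟩)
      rw [h2]
      exact hespec.trans (specializes_of_eq (hV.fromSpec_primeIdealOf ⟨zE, hzV⟩).symm)
    have hle := (PrimeSpectrum.le_iff_specializes _ _).2 hs
    refine hle ?_
    show χ.hom a ∈ (IsLocalRing.closedPoint Ω).asIdeal
    rw [show χ.hom a = 0 from h0]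
    exact zero_mem _
  obtain ⟨-, hfin⟩ := HenselLib.QFLocal.surjective_and_finite R Q hQ
  let L : Localization.AtPrime Q →ₐ[R] Ω := IsLocalization.liftAlgHom (M := Q.primeCompl) hker
  have hmem : ∀ a, χA a ∈ W := fun a => by
    refine UnramClosure.mem_of_isIntegral hW ?_
    have h1 : IsIntegral R (algebraMap Γ(pullback one.left f, V) (Localization.AtPrime Q) a) :=
      Algebra.IsIntegral.isIntegral _
    have h2 := h1.map L
    rwa [show L (algebraMap _ (Localization.AtPrime Q) a) = χA a from IsLocalization.lift_eq hker a] at h2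
  let χW : Γ(pullback one.left f, V) →+* W := χA.toRingHom.codRestrict W.toSubring hmem
  refine ⟨Spec.map (CommRingCat.ofHom χW) ≫ hV.fromSpec ≫ sE, ?_, ?_⟩
  · rw [Category.assoc, Category.assoc, hsE, ← hφ, ← Spec.map_comp]
    refine congrArg Spec.map (CommRingCat.hom_ext (RingHom.ext fun r => Subtype.ext ?_))
    exact χA.commutes r
  · rw [← Category.assoc, ← Spec.map_comp,
      show CommRingCat.ofHom χW ≫ CommRingCat.ofHom W.subtype = χ from CommRingCat.hom_ext (RingHom.ext fun _ => rfl),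
      hχ, ← Category.assoc, IsOpenImmersion.lift_fac, he2]

set_option maxHeartbeats 1600000 in
/-- Points fixed by inertia come from a finite étale algebra, hence specialise. -/
theorem exists_specialization_of_fixed (N : Over (Spec (CommRingCat.of R))) [GrpObj N] (hN : SGA7.IsNeron R K N)
    {W : ValuationSubring Ω} (hW : SGA7.LiesOver K R W)
    (x : SGA7.Pts Ω ((SGA7.genFib R K).obj N))
    (hfix : ∀ σ : Ω ≃ₐ[K] Ω, SGA7.IsInertia W σ → SGA7.galAct σ x = x) :
    ∃ z ∈ SGA7.specialFibreSet R N,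
      (x.left ≫ pullback.fst N.hom (Spec.map (CommRingCat.ofHom (algebraMap R K)))).base
        (IsLocalRing.closedPoint Ω) ⤳ z := by
  haveI : IsSepClosed Ω := IsSepClosure.sep_closed K
  haveI : IsGalois K Ω := IsSepClosure.isGalois
  haveI := hN.1
  let NK := (SGA7.genFib R K).obj N
  haveI : LocallyOfFiniteType NK.hom :=
    inferInstanceAs (LocallyOfFiniteType (pullback.snd N.hom (Spec.map (CommRingCat.ofHom (algebraMap R K)))))
  obtain ⟨U, hU, hxU, -⟩ := exists_isAffineOpen_mem_and_subset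
    (x := x.left.base (IsLocalRing.closedPoint Ω)) (U := ⊤) trivial
  have hxr : Set.range x.left ⊆ Set.range hU.fromSpec := by
    rintro _ ⟨a, rfl⟩
    haveI : Subsingleton (SGA7.pt (K := K) Ω).left := inferInstanceAs (Subsingleton (PrimeSpectrum Ω))
    rw [hU.range_fromSpec, Subsingleton.elim a (IsLocalRing.closedPoint Ω)]
    exact hxU
  obtain ⟨χ, hχ⟩ := Spec.map_surjective (IsOpenImmersion.lift hU.fromSpec x.left hxr)
  have hx0 : Spec.map χ ≫ hU.fromSpec = x.left := by rw [hχ, IsOpenImmersion.lift_fac]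
  obtain ⟨φ, hφ⟩ := Spec.map_surjective (hU.fromSpec ≫ NK.hom)
  have hft : φ.hom.FiniteType := (HasRingHomProperty.Spec_iff (P := @LocallyOfFiniteType)).mp (hφ ▸ inferInstance)
  algebraize [φ.hom]
  have hχφ : φ ≫ χ = CommRingCat.ofHom (algebraMap K Ω) := by
    apply Spec.map_injective
    rw [Spec.map_comp, hφ, ← Category.assoc, hx0]
    exact Over.w x
  let χA : Γ(NK.left, U) →ₐ[K] Ω :=
    { χ.hom with commutes' := fun r => congr($(congrArg CommRingCat.Hom.hom hχφ) r) }
  -- values lie in the unramified field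
  have hnr : ∀ a, χA a ∈ UnramClosure.nr R K Ω := by
    intro a
    rw [← InfiniteGalois.fixedField_fixingSubgroup (UnramClosure.nr R K Ω)]
    rintro ⟨σ, hσ⟩
    have hσ' : ∀ α ∈ UnramClosure.nr R K Ω, σ α = α := fun α hα =>
      (IntermediateField.mem_fixingSubgroup_iff _ σ).1 hσ α hα
    have h1 := hfix σ (UnramClosure.isInertia_of_fixes hW σ hσ')
    have h2 : Spec.map (CommRingCat.ofHom (σ : Ω →+* Ω)) ≫ x.left = x.left := congrArg (·.left) h1
    rw [← hx0, ← Category.assoc, cancel_mono, ← Spec.map_comp] at h2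
    exact congr($(congrArg CommRingCat.Hom.hom (Spec.map_injective h2)) a)
  classical
  obtain ⟨gen, hgen⟩ := (inferInstance : Algebra.FiniteType K Γ(NK.left, U)).out
  obtain ⟨A, _, _, ψ, _, _, hA⟩ := UnramClosure.exists_finEt (R := R) (K := K) (gen.image χA)
    (fun α hα => by obtain ⟨a, -, rfl⟩ := Finset.mem_image.1 hα; exact hnr a)
  -- the generic algebra
  let T := A ⊗[R] K
  let ψK : T →ₐ[R] Ω := Algebra.TensorProduct.productMap ψ (IsScalarTower.toAlgHom R K Ω)
  have hrange : ∀ a, χA a ∈ ψK.range := by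
    intro a
    have ha : χA a ∈ Algebra.adjoin K (Set.range ψ) := by
      have : a ∈ Algebra.adjoin K (gen : Set Γ(NK.left, U)) := by rw [hgen]; trivial
      induction this using Algebra.adjoin_induction with
      | mem y hy => exact hA _ (Finset.mem_image_of_mem _ hy)
      | algebraMap r => rw [AlgHom.commutes]; exact Subalgebra.algebraMap_mem _ r
      | add y y' _ _ h h' => rw [map_add]; exact add_mem h h'
      | mul y y' _ _ h h' => rw [map_mul]; exact mul_mem h h'
    suffices ∀ b ∈ Algebra.adjoin K (Set.range ψ), b ∈ ψK.range from this _ ha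
    intro b hb
    induction hb using Algebra.adjoin_induction with
    | mem y hy => obtain ⟨b, rfl⟩ := hy; exact ⟨b ⊗ₜ 1, Algebra.TensorProduct.productMap_left_apply _ _ b⟩
    | algebraMap r => exact ⟨1 ⊗ₜ r, Algebra.TensorProduct.productMap_right_apply _ _ r⟩
    | add y y' _ _ h h' => exact add_mem h h'
    | mul y y' _ _ h h' => exact mul_mem h h'
  haveI : IsArtinianRing (K ⊗[R] A) := IsArtinianRing.of_finite K _
  haveI : IsReduced (K ⊗[R] A) := Algebra.FormallyUnramified.isReduced_of_field K _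
  let cm := (Algebra.TensorProduct.comm R K A).toRingEquiv
  haveI : IsArtinianRing T := cm.surjective.isArtinianRing (f := cm.toRingHom)
  haveI : IsReduced T := isReduced_of_injective cm.symm cm.symm.injective
  haveI : IsSemisimpleRing T := IsArtinianRing.isSemisimpleRing_of_isReduced T
  let mI : Ideal T := RingHom.ker ψK.toRingHom
  obtain ⟨nI, hnI⟩ := exists_isCompl mI
  let crt : T →+* (T ⧸ mI) × (T ⧸ nI) := (Ideal.Quotient.mk mI).prod (Ideal.Quotient.mk nI)
  have hcrt : Function.Bijective crt := by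
    constructor
    · rw [injective_iff_map_eq_zero]
      intro a ha
      have h1 : a ∈ mI := Ideal.Quotient.eq_zero_iff_mem.1 (congrArg Prod.fst ha)
      have h2 : a ∈ nI := Ideal.Quotient.eq_zero_iff_mem.1 (congrArg Prod.snd ha)
      exact (Submodule.mem_bot T).1 (hnI.inf_eq_bot ▸ Submodule.mem_inf.2 ⟨h1, h2⟩)
    · rintro ⟨a, b⟩
      obtain ⟨a, rfl⟩ := Ideal.Quotient.mk_surjective a
      obtain ⟨b, rfl⟩ := Ideal.Quotient.mk_surjective b
      obtain ⟨i, hi, j, hj, hij⟩ := Submodule.mem_sup.1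
        ((hnI.sup_eq_top ▸ Submodule.mem_top : a - b ∈ mI ⊔ nI))
      refine ⟨a - i, Prod.ext ?_ ?_⟩
      · exact Ideal.Quotient.eq.2 (by rw [sub_sub_cancel_left]; exact mI.neg_mem hi)
      · refine Ideal.Quotient.eq.2 ?_
        rw [show a - i - b = j by linear_combination -hij]
        exact hj
  let ψbar : T ⧸ mI →+* Ω := Ideal.Quotient.lift mI ψK.toRingHom fun a ha => ha
  have hψbar : Function.Injective ψbar := by
    rw [injective_iff_map_eq_zero]
    intro a ha
    obtain ⟨a, rfl⟩ := Ideal.Quotient.mk_surjective a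
    exact Ideal.Quotient.eq_zero_iff_mem.2 ha
  have hrange' : ∀ a, ∃ y, ψK y = χA a := fun a => hrange a
  choose pre hpre using hrange'
  let ρ : Γ(NK.left, U) →+* T ⧸ mI :=
    { toFun := fun a => Ideal.Quotient.mk mI (pre a)
      map_one' := hψbar (by change ψK (pre 1) = _; rw [hpre, map_one, map_one])
      map_mul' := fun a b => hψbar (by
        rw [map_mul]
        change ψK (pre (a * b)) = ψK (pre a) * ψK (pre b)
        rw [hpre, hpre, hpre, map_mul])
      map_zero' := hψbar (by change ψK (pre 0) = _; rw [hpre, map_zero, map_zero])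
      map_add' := fun a b => hψbar (by
        rw [map_add]
        change ψK (pre (a + b)) = ψK (pre a) + ψK (pre b)
        rw [hpre, hpre, hpre, map_add]) }
  have hρ : ψbar.comp ρ = χ.hom := RingHom.ext fun a => hpre a
  have hρK : ρ.comp φ.hom = (Ideal.Quotient.mk mI).comp (Algebra.TensorProduct.includeRight : K →ₐ[R] T).toRingHom := by
    refine RingHom.ext fun r => hψbar ?_
    change ψK (pre (φ.hom r)) = ψK (1 ⊗ₜ r)
    rw [hpre]
    exact (χA.commutes r).trans (Algebra.TensorProduct.productMap_right_apply ψ (IsScalarTower.toAlgHom R K Ω) r).symm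
  -- the morphism on the generic fibre
  let Y : Over (Spec (CommRingCat.of R)) := Over.mk (Spec.map (CommRingCat.ofHom (algebraMap R A)))
  haveI : Smooth Y.hom := by
    change Smooth (Spec.map (CommRingCat.ofHom (algebraMap R A)))
    rw [HasRingHomProperty.Spec_iff (P := @Smooth)]
    exact RingHom.smooth_algebraMap.2 inferInstance
  let θ : Spec (CommRingCat.of (T ⧸ mI)) ⨿ Spec (CommRingCat.of (T ⧸ nI)) ⟶
      pullback (Spec.map (CommRingCat.ofHom (algebraMap R A))) (Spec.map (CommRingCat.ofHom (algebraMap R K))) :=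
    coprodSpec (T ⧸ mI) (T ⧸ nI) ≫ Spec.map (CommRingCat.ofHom crt) ≫ (pullbackSpecIso R A K).inv
  haveI : IsIso (CommRingCat.ofHom crt) := (ConcreteCategory.isIso_iff_bijective _).2 hcrt
  haveI : IsIso θ := inferInstanceAs (IsIso (_ ≫ _ ≫ _))
  let c1 : Spec (CommRingCat.of (T ⧸ mI)) ⟶ NK.left := Spec.map (CommRingCat.ofHom ρ) ≫ hU.fromSpec
  letI : GrpObj NK := Functor.grpObjObj
  let c2 : Spec (CommRingCat.of (T ⧸ nI)) ⟶ NK.left :=
    Spec.map (CommRingCat.ofHom ((Ideal.Quotient.mk nI).comp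
      (Algebra.TensorProduct.includeRight : K →ₐ[R] T).toRingHom)) ≫ η[NK].left
  have hθfst : ∀ {B : Type u} [CommRing B] (q : T →+* B) (i : Spec (CommRingCat.of B) ⟶ _)
      (_ : i ≫ coprodSpec (T ⧸ mI) (T ⧸ nI) ≫ Spec.map (CommRingCat.ofHom crt) = Spec.map (CommRingCat.ofHom q)),
      i ≫ θ ≫ pullback.fst _ _ = Spec.map (CommRingCat.ofHom (q.comp Algebra.TensorProduct.includeLeftRingHom)) ∧
      i ≫ θ ≫ pullback.snd _ _ = Spec.map (CommRingCat.ofHom (q.comp
        (Algebra.TensorProduct.includeRight : K →ₐ[R] T).toRingHom)) := by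
    intro B _ q i hi
    constructor
    · rw [show i ≫ θ ≫ pullback.fst _ _ = (i ≫ coprodSpec (T ⧸ mI) (T ⧸ nI) ≫ Spec.map (CommRingCat.ofHom crt)) ≫
        (pullbackSpecIso R A K).inv ≫ pullback.fst _ _ by simp [θ], hi, pullbackSpecIso_inv_fst, ← Spec.map_comp]
      rfl
    · rw [show i ≫ θ ≫ pullback.snd _ _ = (i ≫ coprodSpec (T ⧸ mI) (T ⧸ nI) ≫ Spec.map (CommRingCat.ofHom crt)) ≫
        (pullbackSpecIso R A K).inv ≫ pullback.snd _ _ by simp [θ], hi, pullbackSpecIso_inv_snd, ← Spec.map_comp]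
      rfl
  have hl := hθfst (Ideal.Quotient.mk mI) coprod.inl (by
    rw [← Category.assoc, coprodSpec_inl, ← Spec.map_comp]; rfl)
  have hr := hθfst (Ideal.Quotient.mk nI) coprod.inr (by
    rw [← Category.assoc, coprodSpec_inr, ← Spec.map_comp]; rfl)
  let v : (SGA7.genFib R K).obj Y ⟶ NK := Over.homMk (inv θ ≫ coprod.desc c1 c2) (by
    change (inv θ ≫ coprod.desc c1 c2) ≫ NK.hom = pullback.snd _ _
    rw [Category.assoc, IsIso.inv_comp_eq]
    apply coprod.hom_ext
    · rw [← Category.assoc, coprod.inl_desc, hl.2, Category.assoc, ← hφ, ← Spec.map_comp]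
      exact congrArg Spec.map (CommRingCat.hom_ext hρK)
    · rw [← Category.assoc, coprod.inr_desc, hr.2, Category.assoc, Over.w η[NK]]
      exact Category.comp_id _)
  obtain ⟨g, hg⟩ := (hN.2.2.2 Y inferInstance).2 v
  let ψW : A →+* W := ψ.toRingHom.codRestrict W.toSubring fun a =>
    UnramClosure.mem_of_isIntegral hW ((Algebra.IsIntegral.isIntegral a).map ψ)
  let gW : Spec (CommRingCat.of W) ⟶ N.left := Spec.map (CommRingCat.ofHom ψW) ≫ g.left
  have hgW : x.left ≫ pullback.fst N.hom (Spec.map (CommRingCat.ofHom (algebraMap R K))) =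
      Spec.map (CommRingCat.ofHom W.subtype) ≫ gW := by
    have ht : Spec.map (CommRingCat.ofHom ψbar) ≫ coprod.inl ≫ θ ≫ v.left = x.left := by
      change Spec.map (CommRingCat.ofHom ψbar) ≫ coprod.inl ≫ θ ≫ inv θ ≫ coprod.desc c1 c2 = x.left
      rw [IsIso.hom_inv_id_assoc, coprod.inl_desc, ← hx0]
      simp only [c1]
      rw [← Category.assoc, ← Spec.map_comp]
      exact congrArg (· ≫ hU.fromSpec) (congrArg Spec.map (CommRingCat.hom_ext hρ))
    have hmap : v.left ≫ pullback.fst N.hom (Spec.map (CommRingCat.ofHom (algebraMap R K))) =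
        pullback.fst Y.hom (Spec.map (CommRingCat.ofHom (algebraMap R K))) ≫ g.left := by
      rw [← hg]; exact pullback.lift_fst _ _ _
    rw [← ht]
    simp only [Category.assoc]
    rw [hmap]
    refine (assoc_helper _ _ _ _ _ hl.1).trans ((congrArg (· ≫ g.left) ?_).trans (Category.assoc _ _ _))
    rw [← Spec.map_comp, ← Spec.map_comp]
    refine congrArg Spec.map (CommRingCat.hom_ext (RingHom.ext fun a => ?_))
    change ψK (a ⊗ₜ 1) = ψ a
    exact Algebra.TensorProduct.productMap_left_apply _ _ a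
  refine ⟨gW (IsLocalRing.closedPoint W), ?_, ?_⟩
  · haveI := isLocalHom_toW (K := K) hW
    have hgover : gW ≫ N.hom = Spec.map (CommRingCat.ofHom (toW hW)) := by
      simp only [gW, Category.assoc, Over.w g]
      change _ ≫ Spec.map _ = _
      rw [← Spec.map_comp]
      exact congrArg Spec.map (CommRingCat.hom_ext (RingHom.ext fun r => Subtype.ext (ψ.commutes r)))
    change (gW ≫ N.hom).base (IsLocalRing.closedPoint W) = IsLocalRing.closedPoint R
    rw [hgover]
    exact IsLocalRing.comap_closedPoint (toW hW)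
  · rw [hgW]
    exact ((IsLocalRing.specializes_closedPoint
      ((Spec.map (CommRingCat.ofHom W.subtype)).base (IsLocalRing.closedPoint Ω))).map gW.continuous)

end Groth.Agent.Et18.TorsionSpecialise
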