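/-
The trace only sees a stable subspace containing the image of an iterate.
-/
import Mathlib.LinearAlgebra.Trace
import Mathlib.LinearAlgebra.PID
import Mathlib.LinearAlgebra.Projection
import Mathlib.LinearAlgebra.Basis.VectorSpace

universe u v

namespace Groth.Agent.Et18.TraceStable

variable {K : Type u} [Field K] {V : Type v} [AddCommGroup V] [Module K V] [FiniteDimensional K V]

theorem trace_eq_restrict (f : V →ₗ[K] V) (W : Submodule K V) (hW : ∀ x ∈ W, f x ∈ W) (N : ℕ)
    (hN : ∀ x, (f ^ N) x ∈ W) : LinearMap.trace K V f = LinearMap.trace K W (f.restrict hW) := by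
  obtain ⟨p, hp⟩ := W.subtype.exists_leftInverse_of_injective W.ker_subtype
  let P : V →ₗ[K] V := W.subtype ∘ₗ p
  have hPW : ∀ x ∈ W, P x = x := fun x hx ↦
    congrArg Subtype.val (LinearMap.congr_fun hp ⟨x, hx⟩)
  have hPmem : ∀ x, P x ∈ W := fun x ↦ (p x).2
  let Q : V →ₗ[K] V := LinearMap.id - P
  have hQQ : Q * Q = Q := by
    ext x
    simp [Q, hPW _ (hPmem x)]
  have hQW : ∀ x ∈ W, Q x = 0 := fun x hx ↦ by simp [Q, hPW x hx]
  have hQf : ∀ x, Q (f (Q x)) = Q (f x) := fun x ↦ by
    have : Q x = x - P x := rfl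
    rw [this, map_sub, map_sub, hQW _ (hW _ (hPmem x)), sub_zero]
  have hpow : ∀ n x, ((Q * f * Q) ^ (n + 1)) x = Q ((f ^ (n + 1)) (Q x)) := by
    intro n
    induction n with
    | zero => simp
    | succ n ih =>
      intro x
      rw [pow_succ', Module.End.mul_apply, ih]
      change Q (f (Q (Q _))) = _
      rw [← Module.End.mul_apply (f := Q) (g := Q), hQQ, hQf, pow_succ' f (n + 1)]
      rfl
  have hnil : IsNilpotent (Q * f * Q) := ⟨N + 1, LinearMap.ext fun x ↦ by
    rw [hpow, pow_succ' f, Module.End.mul_apply]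
    exact hQW _ (hW _ (hN _))⟩
  have hzero : LinearMap.trace K V (f * Q) = 0 := by
    have : f * Q = f * Q * Q := by rw [mul_assoc, hQQ]
    rw [this, LinearMap.trace_mul_comm, ← mul_assoc]
    exact (LinearMap.isNilpotent_trace_of_isNilpotent hnil).eq_zero
  have hsum : f = f ∘ₗ P + f * Q := by ext x; simp [Q]
  have hfP : ∀ x, (f ∘ₗ P) x ∈ W := fun x ↦ hW _ (hPmem x)
  conv_lhs => rw [hsum]
  rw [map_add, hzero, add_zero, ← LinearMap.trace_restrict_eq_of_forall_mem W (f ∘ₗ P) hfP]
  congr 1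
  ext x
  simp [P, hPW _ x.2]
  exact congrArg f (hPW _ x.2)

end Groth.Agent.Et18.TraceStable
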