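import Groth.Agent.Et18.ConstTorsor
import Groth.Agent.Et18.Descent
import Groth.Agent.RelPerfH3.TwConstVal
import Groth.Agent.SGA3cLib.FpqcCov
import Groth.Agent.SGA3cLib.BCPoints
import Groth.Agent.RatCurve29.Points
import Mathlib.AlgebraicGeometry.Morphisms.LocalFlatDescent

/-! Twisted lattices: etale, separated, points in fields are torsion free. -/

set_option autoImplicit false
set_option backward.isDefEq.respectTransparency.types false
set_option linter.style.haveILetI false

universe u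

open CategoryTheory CategoryTheory.Limits MonoidalCategory CartesianMonoidalCategory MonObj
open AlgebraicGeometry TopologicalSpace

namespace Groth.Agent.Et18.TwLattice

open ConstTorsor

/-- Properties of constant schemes which descend hold for twisted constant schemes. -/
theorem of_twConst (Q : MorphismProperty Scheme.{u}) [IsZariskiLocalAtTarget Q]
    [Q.IsStableUnderBaseChange] [Q.DescendsAlong (@Surjective ⊓ @Flat ⊓ @QuasiCompact)]
    (hQ : ∀ (U : Scheme.{u}) (I : Type u), Q (TwC.const U I).hom)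
    {S : Scheme.{u}} (X : Over S) (hX : TwC.IsTwConst TwC.Topology.fpqc X) : Q X.hom := by
  obtain ⟨S', f, hf, -, hq, hloc⟩ := hX
  refine (SGA3cLib.IsFpqcCov.of_forall f hq).descend Q X.hom ?_
  choose U hm I e using hloc
  rw [IsZariskiLocalAtTarget.iff_of_openCover (P := Q) (S'.openCoverOfIsOpenCover U
    (TopologicalSpace.IsOpenCover.mk (top_le_iff.1 fun y _ => TopologicalSpace.Opens.mem_iSup.2 ⟨y, hm y⟩)))]
  intro (x : S')
  change Q (pullback.snd (pullback.snd X.hom f) (U x).ι)
  rw [← pullbackLeftPullbackSndIso_hom_snd, MorphismProperty.cancel_left_of_respectsIso Q]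
  let i : Red.bc ((U x).ι ≫ f) X ≅ TwC.const (U x : Scheme.{u}) (I x) := (e x).some
  haveI : IsIso i.hom.left := inferInstanceAs (IsIso ((Over.forget _).map i.hom))
  have h : i.hom.left ≫ (TwC.const (U x : Scheme.{u}) (I x)).hom = pullback.snd X.hom ((U x).ι ≫ f) := Over.w i.hom
  rw [← h, MorphismProperty.cancel_left_of_respectsIso Q]
  exact hQ _ _

theorem etale_of_twConst {S : Scheme.{u}} (X : Over S) (hX : TwC.IsTwConst TwC.Topology.fpqc X) :
    Etale X.hom :=
  of_twConst.{u} @Etale (fun (U : Scheme.{u}) (I : Type u) =>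
    (IsZariskiLocalAtSource.sigmaDesc fun _ => inferInstance : Etale (TwC.const U I).hom)) X hX

theorem isSeparated_of_twConst {S : Scheme.{u}} (X : Over S) (hX : TwC.IsTwConst TwC.Topology.fpqc X) :
    IsSeparated X.hom := by
  haveI := Et18.descends_isSeparated.{u}
  exact of_twConst @IsSeparated RelPerfH3.TwConstVal.isSeparated_const X hX

/-- Points of a torsion free constant group on a one-point scheme are torsion free. -/
theorem torsionFree_const {U : Scheme.{u}} {Z : Type u} [Group Z] (hZ : ∀ z : Z, IsOfFinOrder z → z = 1)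
    {G : Over U} [GrpObj G] (eG : G ≅ TwC.const U Z) (hG : TwC.IsConstGrp Z G eG)
    (T : Over U) [Subsingleton T.left] (pt : T.left) (n : T ⟶ G) (hn : IsOfFinOrder n) : n = 1 := by
  let ψ : Z →* (T ⟶ G) :=
    { toFun := fun z => toUnit T ≫ c eG z
      map_one' := by rw [c_one eG hG, MonObj.comp_one]
      map_mul' := fun a b => by rw [← MonObj.comp_mul]; exact congrArg (toUnit T ≫ ·) (hG a b).symm }
  obtain ⟨z, hz⟩ := mem_range_c eG (n.left pt)
  have hr : Set.range n.left ⊆ Set.range (c eG z).left := by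
    rintro _ ⟨q, rfl⟩
    rw [Subsingleton.elim q pt]
    exact hz
  have hnz : n = ψ z := by
    refine Over.OverMorphism.ext ?_
    change n.left = T.hom ≫ (c eG z).left
    have h1 := IsOpenImmersion.lift_fac (c eG z).left n.left hr
    have h3 : IsOpenImmersion.lift (c eG z).left n.left hr = T.hom := by
      have h4 := congrArg (· ≫ G.hom) h1
      simp only [Category.assoc, Over.w n] at h4
      rw [c_left_hom] at h4
      exact (Category.comp_id _).symm.trans h4
    rw [← h3, h1]
  obtain ⟨m, hm, hnm⟩ := isOfFinOrder_iff_pow_eq_one.1 hn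
  have hzm : z ^ m = 1 := by
    have h1 : ψ (z ^ m) = ψ 1 := by rw [map_pow, ← hnz, hnm, map_one]
    have h2 := congrArg (fun φ : T ⟶ G => φ.left pt) h1
    exact c_injective eG _ _ (T.hom pt) (T.hom pt) h2
  rw [hnz, hZ z (isOfFinOrder_iff_pow_eq_one.2 ⟨m, hm, hzm⟩), map_one]

/-- Points in fields of a twisted torsion free constant group are torsion free. -/
theorem torsionFree_twConst {S : Scheme.{u}} (M : Over S) [GrpObj M]
    (hM : TwC.Locally S TwC.Topology.fpqc fun S' f =>
      ∃ (Z : Type u) (_ : Group Z) (e : Red.bc f M ≅ TwC.const S' Z),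
        TwC.IsConstGrp Z (Red.bc f M) e ∧ ∀ z : Z, IsOfFinOrder z → z = 1)
    (L : Type u) [Field L] (x : Spec (CommRingCat.of L) ⟶ S) (n : Over.mk x ⟶ M) (hn : IsOfFinOrder n) :
    n = 1 := by
  obtain ⟨S', f, -, hsurj, -, hloc⟩ := hM
  haveI := hsurj
  obtain ⟨s', hs'⟩ := f.surjective (x (IsLocalRing.closedPoint L))
  obtain ⟨U, hU, Z, _, e, hG, hZ⟩ := hloc s'
  obtain ⟨t, -, ht⟩ := Scheme.Pullback.exists_preimage_pullback (f := x) (g := f)
    (IsLocalRing.closedPoint L) s' hs'.symm
  let P := pullback x f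
  let K := P.residueField t
  let a : Spec K ⟶ Spec (CommRingCat.of L) := P.fromSpecResidueField t ≫ pullback.fst x f
  let b₀ : Spec K ⟶ S' := P.fromSpecResidueField t ≫ pullback.snd x f
  have hb₀ : Set.range b₀ ⊆ Set.range U.ι := by
    rintro _ ⟨q, rfl⟩
    rw [Scheme.Opens.range_ι, Scheme.Hom.comp_apply, Scheme.fromSpecResidueField_apply, ht]
    exact hU
  let b : Spec K ⟶ (U : Scheme.{u}) := IsOpenImmersion.lift U.ι b₀ hb₀
  let g : (U : Scheme.{u}) ⟶ S := U.ι ≫ f
  have hab : a ≫ x = b ≫ g := by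
    rw [← Category.assoc b, IsOpenImmersion.lift_fac, Category.assoc, Category.assoc, pullback.condition]
  let T : Over (U : Scheme.{u}) := Over.mk b
  let m : (Over.map g).obj T ⟶ Over.mk x := Over.homMk a hab
  haveI : Flat a := RatCurve29.flat_of_field a
  haveI : Surjective a := ⟨fun q => ⟨IsLocalRing.closedPoint (P.residueField t),
    Subsingleton.elim (α := ↥(Spec (CommRingCat.of L))) _ _⟩⟩
  haveI : Epi a := Flat.epi_of_flat_of_surjective a
  let Φ : ((Over.map g).obj T ⟶ M) →* (T ⟶ Red.bc g M) :=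
    MonoidHom.mk' (SGA3cLib.BCPoints.pt g M T) (SGA3cLib.BCPoints.pt_mul g)
  let pre : (Over.mk x ⟶ M) →* ((Over.map g).obj T ⟶ M) :=
    { toFun := fun r => m ≫ r
      map_one' := MonObj.comp_one m
      map_mul' := fun r r' => MonObj.comp_mul m r r' }
  haveI : Subsingleton T.left := inferInstanceAs (Subsingleton ↥(Spec K))
  have h1 : Φ (pre n) = 1 := torsionFree_const hZ e hG T (IsLocalRing.closedPoint (P.residueField t)) _
    ((Φ.comp pre).isOfFinOrder hn)
  have h2 : pre n = pre 1 := by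
    refine (SGA3cLib.BCPoints.pt g M T).injective ?_
    change Φ (pre n) = Φ (pre 1)
    rw [h1, map_one, map_one]
  refine Over.OverMorphism.ext ((cancel_epi a).1 ?_)
  exact congrArg CommaMorphism.left h2

/-- The lattice case. -/
theorem locally_torsionFree {S : Scheme.{u}} {M : Over S} [GrpObj M]
    (hM : TwC.Locally S TwC.Topology.fpqc (fun S' f =>
      ∃ (r : ℕ) (e : Red.bc f M ≅ TwC.const S' (Multiplicative (Fin r → ℤ))),
        TwC.IsConstGrp (Multiplicative (Fin r → ℤ)) (Red.bc f M) e)) :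
    TwC.IsTwConst TwC.Topology.fpqc M ∧
      ∀ (L : Type u) [Field L] (x : Spec (CommRingCat.of L) ⟶ S) (n : Over.mk x ⟶ M),
        IsOfFinOrder n → n = 1 := by
  obtain ⟨S', f, hf, hs, hq, hloc⟩ := hM
  have key : ∀ {U : Scheme.{u}} (g : U ⟶ S) (r : ℕ) (e : Red.bc g M ≅ TwC.const U (Multiplicative (Fin r → ℤ))),
      TwC.IsConstGrp (Multiplicative (Fin r → ℤ)) (Red.bc g M) e →
      ∃ (Z : Type u) (_ : Group Z) (e : Red.bc g M ≅ TwC.const U Z),
        TwC.IsConstGrp Z (Red.bc g M) e ∧ ∀ z : Z, IsOfFinOrder z → z = 1 := by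
    intro U g r e he
    let Z := ULift.{u} (Multiplicative (Fin r → ℤ))
    let i₁ : TwC.const U (Multiplicative (Fin r → ℤ)) ⟶ TwC.const U Z := TwC.constMap U ULift.up
    let i₂ : TwC.const U Z ⟶ TwC.const U (Multiplicative (Fin r → ℤ)) := TwC.constMap U ULift.down
    let i : TwC.const U (Multiplicative (Fin r → ℤ)) ≅ TwC.const U Z :=
      ⟨i₁, i₂, Over.OverMorphism.ext (Sigma.hom_ext _ _ fun z => by simp [i₁, i₂, TwC.constMap]),
        Over.OverMorphism.ext (Sigma.hom_ext _ _ fun z => by obtain ⟨z⟩ := z; simp [i₁, i₂, TwC.constMap])⟩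
    have hi : ∀ z : Z, TwC.pt U Z z ≫ i.inv = TwC.pt U (Multiplicative (Fin r → ℤ)) z.down := fun z =>
      Over.OverMorphism.ext (by obtain ⟨z⟩ := z; simp [i, i₂, TwC.constMap, TwC.pt])
    refine ⟨Z, inferInstance, e ≪≫ i, fun z w => ?_, fun z hz => ?_⟩
    · simp only [Iso.trans_inv, ← Category.assoc, hi]
      exact he z.down w.down
    · obtain ⟨m, hm, hzm⟩ := isOfFinOrder_iff_pow_eq_one.1 hz
      have h1 : m • Multiplicative.toAdd z.down = 0 := congrArg (fun w : Z => Multiplicative.toAdd w.down) hzm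
      apply ULift.ext
      exact Multiplicative.toAdd.injective ((smul_eq_zero.1 h1).resolve_left hm.ne')
  refine ⟨⟨S', f, hf, hs, hq, fun s' => ?_⟩, torsionFree_twConst M ⟨S', f, hf, hs, hq, fun s' => ?_⟩⟩
  · obtain ⟨U, hU, r, e, he⟩ := hloc s'
    obtain ⟨Z, _, e', -, -⟩ := key _ r e he
    exact ⟨U, hU, Z, ⟨e'⟩⟩
  · obtain ⟨U, hU, r, e, he⟩ := hloc s'
    exact ⟨U, hU, key _ r e he⟩

end Groth.Agent.Et18.TwLattice
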