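import Groth.Agent.Et18.IntegralPush
import Groth.Agent.FEtLib.EqLocus
import Mathlib.AlgebraicGeometry.Noetherian
import Mathlib.RingTheory.Unramified.Finite
import Mathlib.FieldTheory.Minpoly.Field

/-!
# There are only finitely many morphisms into an unramified scheme
-/

universe u

open CategoryTheory CategoryTheory.Limits AlgebraicGeometry TopologicalSpace

set_option backward.isDefEq.respectTransparency.types false
set_option backward.isDefEq.respectTransparency false

namespace Groth.Agent.Et18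

/-- An affine scheme unramified over a field has finitely many rational points. -/
theorem finite_points_of_affine {Ω : Type u} [Field Ω] {U : Scheme.{u}} [IsAffine U]
    (q : U ⟶ Spec (CommRingCat.of Ω)) [FormallyUnramified q] [LocallyOfFiniteType q] :
    Finite {s : Spec (CommRingCat.of Ω) ⟶ U // s ≫ q = 𝟙 _} := by
  let φ : CommRingCat.of Ω ⟶ Γ(U, ⊤) := Spec.preimage (U.isoSpec.inv ≫ q)
  have hφ : Spec.map φ = U.isoSpec.inv ≫ q := Spec.map_preimage _
  have : FormallyUnramified (U.isoSpec.inv ≫ q) := MorphismProperty.comp_mem _ _ _ inferInstance inferInstance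
  have h1 : φ.hom.FiniteType :=
    (HasRingHomProperty.Spec_iff (P := @LocallyOfFiniteType)).mp (by rw [hφ]; infer_instance)
  have h2 : φ.hom.FormallyUnramified :=
    (HasRingHomProperty.Spec_iff (P := @FormallyUnramified)).mp (by rw [hφ]; infer_instance)
  algebraize [φ.hom]
  have : Algebra.FormallyUnramified Ω Γ(U, ⊤) := RingHom.formallyUnramified_algebraMap.mp h2
  have : Module.Finite Ω Γ(U, ⊤) := Algebra.FormallyUnramified.finite_of_free Ω _
  let F : {s : Spec (CommRingCat.of Ω) ⟶ U // s ≫ q = 𝟙 _} → (Γ(U, ⊤) →ₐ[Ω] Ω) := fun s =>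
    { (Spec.preimage (s.1 ≫ U.isoSpec.hom)).hom with
      commutes' := fun r => by
        have : φ ≫ Spec.preimage (s.1 ≫ U.isoSpec.hom) = 𝟙 _ := Spec.map_injective (by
          rw [Spec.map_comp, Spec.map_preimage, hφ, Category.assoc, Iso.hom_inv_id_assoc, s.2, Spec.map_id])
        exact congrArg (fun k : CommRingCat.of Ω ⟶ CommRingCat.of Ω => k r) this }
  refine Finite.of_injective F fun s t hst => Subtype.ext ?_
  have : Spec.preimage (s.1 ≫ U.isoSpec.hom) = Spec.preimage (t.1 ≫ U.isoSpec.hom) :=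
    CommRingCat.hom_ext (congrArg AlgHom.toRingHom hst)
  rw [← cancel_mono U.isoSpec.hom, ← Spec.map_preimage (s.1 ≫ U.isoSpec.hom), this, Spec.map_preimage]

variable {X S Y : Scheme.{u}} (π : X ⟶ S) [FormallyUnramified π] [LocallyOfFiniteType π]
  [QuasiCompact π]

/-- An unramified quasi-compact morphism has finitely many lifts of a point with values in a field. -/
theorem finite_lifts {Ω : Type u} [Field Ω] (η : Spec (CommRingCat.of Ω) ⟶ S) :
    Finite {z : Spec (CommRingCat.of Ω) ⟶ X // z ≫ π = η} := by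
  let q : pullback π η ⟶ Spec (CommRingCat.of Ω) := pullback.snd π η
  have : FormallyUnramified q :=
    MorphismProperty.of_isPullback (P := @FormallyUnramified) (IsPullback.of_hasPullback π η) inferInstance
  have : CompactSpace ↥(pullback π η) := QuasiCompact.compactSpace_of_compactSpace q
  obtain ⟨W, hWf, hW, hcov⟩ : ∃ W : Set (pullback π η).Opens, W.Finite ∧
      (∀ U ∈ W, IsAffineOpen U) ∧ ∀ p, ∃ U ∈ W, p ∈ U := by
    choose U hU hm _ using fun p : ↥(pullback π η) =>
      exists_isAffineOpen_mem_and_subset (X := pullback π η) (x := p) (U := ⊤) trivial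
    obtain ⟨t, ht⟩ := isCompact_univ.elim_finite_subcover (fun p => (U p : Set ↥(pullback π η)))
      (fun p => (U p).isOpen) (fun p _ => Set.mem_iUnion.mpr ⟨p, hm p⟩)
    refine ⟨U '' ↑t, t.finite_toSet.image U, by rintro _ ⟨p, -, rfl⟩; exact hU p, fun p => ?_⟩
    obtain ⟨k, hk, hpk⟩ := Set.mem_iUnion₂.mp (ht (Set.mem_univ p))
    exact ⟨U k, ⟨k, hk, rfl⟩, hpk⟩
  have := hWf.to_subtype
  have : ∀ U : W, Finite {s : Spec (CommRingCat.of Ω) ⟶ (U.1 : Scheme.{u}) // s ≫ U.1.ι ≫ q = 𝟙 _} :=
    fun U => by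
      have : IsAffine (U.1 : Scheme.{u}) := hW _ U.2
      have : FormallyUnramified (U.1.ι ≫ q) := MorphismProperty.comp_mem _ _ _ inferInstance inferInstance
      exact finite_points_of_affine (U.1.ι ≫ q)
  let back : (Σ U : W, {s : Spec (CommRingCat.of Ω) ⟶ (U.1 : Scheme.{u}) // s ≫ U.1.ι ≫ q = 𝟙 _}) →
      {z : Spec (CommRingCat.of Ω) ⟶ X // z ≫ π = η} := fun a =>
    ⟨a.2.1 ≫ a.1.1.ι ≫ pullback.fst π η, by
      simp only [Category.assoc, pullback.condition]
      rw [← Category.assoc, ← Category.assoc, Category.assoc a.2.1, a.2.2, Category.id_comp]⟩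
  refine Finite.of_surjective back fun z => ?_
  let l := pullback.lift z.1 (𝟙 _) (by rw [z.2, Category.id_comp]) (f := π) (g := η)
  obtain ⟨U, hUW, hlU⟩ := hcov (l default)
  have hr : Set.range l ⊆ Set.range U.ι := by
    rw [Scheme.Opens.range_ι]
    rintro _ ⟨t, rfl⟩
    rw [Subsingleton.elim t default]
    exact hlU
  refine ⟨⟨⟨U, hUW⟩, IsOpenImmersion.lift U.ι l hr, ?_⟩, Subtype.ext ?_⟩
  · rw [IsOpenImmersion.lift_fac_assoc]
    exact pullback.lift_snd _ _ _
  · change IsOpenImmersion.lift U.ι l hr ≫ U.ι ≫ pullback.fst π η = z.1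
    rw [IsOpenImmersion.lift_fac_assoc, pullback.lift_fst]

/-- Finitely many morphisms into a separated unramified scheme from a Noetherian scheme. -/
theorem finite_homs_to_unramified [IsNoetherian Y] [IsSeparated π] (h : Y ⟶ S) :
    Set.Finite {f : Y ⟶ X | f ≫ π = h} := by
  have := (NoetherianSpace.finite_irreducibleComponents (α := Y)).to_subtype
  choose y hy using fun Z : irreducibleComponents Y => Z.2.1.nonempty
  have : ∀ Z, Finite {z : Spec (CommRingCat.of (AlgebraicClosure (Y.residueField (y Z)))) ⟶ X //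
      z ≫ π = algPoint Y (y Z) ≫ h} := fun Z => finite_lifts π _
  let F : {f : Y ⟶ X // f ≫ π = h} → ∀ Z, {z : Spec (CommRingCat.of (AlgebraicClosure (Y.residueField (y Z)))) ⟶ X //
      z ≫ π = algPoint Y (y Z) ≫ h} := fun f Z => ⟨algPoint Y (y Z) ≫ f.1, by rw [Category.assoc, f.2]⟩
  refine Set.finite_coe_iff.mp (Finite.of_injective F fun u v huv => Subtype.ext ?_)
  have w : u.1 ≫ π = v.1 ≫ π := u.2.trans v.2.symm
  refine FEtLib.eq_of_eqLocus_eq_top π u.1 v.1 w (TopologicalSpace.Opens.ext (Set.eq_univ_iff_forall.mpr fun p => ?_))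
  let Z : irreducibleComponents Y := ⟨irreducibleComponent p, irreducibleComponent_mem_irreducibleComponents p⟩
  have hyu : y Z ∈ FEtLib.eqLocus π u.1 v.1 w := by
    have := FEtLib.mem_of_comp_eq π u.1 v.1 w (algPoint Y (y Z))
      (congrArg Subtype.val (congrFun huv Z)) default
    rwa [algPoint_default] at this
  exact isIrreducible_irreducibleComponent.isConnected.isPreconnected.subset_isClopen
    ⟨FEtLib.isClosed_eqLocus π u.1 v.1 w, (FEtLib.eqLocus π u.1 v.1 w).isOpen⟩
    ⟨y Z, hy Z, hyu⟩ mem_irreducibleComponent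

end Groth.Agent.Et18
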