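import Mathlib.AlgebraicGeometry.Morphisms.Finite
import Mathlib.AlgebraicGeometry.Morphisms.ClosedImmersion
import Mathlib.AlgebraicGeometry.Morphisms.Etale
import Mathlib.AlgebraicGeometry.Morphisms.FormallyUnramified
import Mathlib.AlgebraicGeometry.ResidueField
import Mathlib.RingTheory.Unramified.Field
import Mathlib.RingTheory.Spectrum.Prime.Jacobson
import Mathlib.RingTheory.Support
import Groth.Agent.FEtLib.EqLocus

/-!
# Finite unramified morphisms with a single rational point in a fibre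
-/

universe u

open CategoryTheory AlgebraicGeometry TensorProduct

set_option backward.isDefEq.respectTransparency.types false
set_option backward.isDefEq.respectTransparency false

namespace Groth.Agent.Et18

/-- Spreading out surjectivity of a finite unramified ring map from a single rational point. -/
theorem exists_surjective_away (R S : Type u) [CommRing R] [CommRing S] [Algebra R S] [Module.Finite R S]
    [Algebra.FormallyUnramified R S] (p : Ideal R) [p.IsPrime] (q : Ideal S)
    (huniq : ∀ q' : Ideal S, q'.IsPrime → q'.comap (algebraMap R S) = p → q' = q)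
    (hres : ∀ s : S, ∃ a b : R, b ∉ p ∧ algebraMap R S b * s - algebraMap R S a ∈ q) :
    ∃ g ∉ p, ∀ s : S, ∃ r : R, algebraMap R S r = algebraMap R S g * s := by
  let M := S ⧸ LinearMap.range (Algebra.linearMap R S)
  let K := p.ResidueField
  have : IsReduced (K ⊗[R] S) := Algebra.FormallyUnramified.isReduced_of_field K _
  have hz : ∀ z ∈ q, (1 : K) ⊗ₜ[R] z = 0 := by
    intro z hz
    refine IsReduced.eq_zero _ ?_
    rw [nilpotent_iff_mem_prime]
    intro P hP
    have : q = P.comap (Algebra.TensorProduct.includeRight : S →ₐ[R] K ⊗[R] S).toRingHom := by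
      refine (huniq _ inferInstance ?_).symm
      rw [Ideal.comap_comap,
        show (Algebra.TensorProduct.includeRight : S →ₐ[R] K ⊗[R] S).toRingHom.comp (algebraMap R S) = algebraMap R (K ⊗[R] S) from RingHom.ext fun r => (Algebra.TensorProduct.includeRight : S →ₐ[R] K ⊗[R] S).commutes r, IsScalarTower.algebraMap_eq R K (K ⊗[R] S),
        ← Ideal.comap_comap]
      have hbot : P.comap (algebraMap K (K ⊗[R] S)) = ⊥ :=
        (Ideal.eq_bot_or_top _).resolve_right (Ideal.comap_ne_top _ hP.ne_top)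
      rw [hbot, ← RingHom.ker_eq_comap_bot, Ideal.ker_algebraMap_residueField]
    rw [this] at hz
    exact hz
  have hM : Subsingleton (K ⊗[R] M) := subsingleton_of_forall_eq 0 fun w => by
    induction w using TensorProduct.induction_on with
    | zero => rfl
    | add x y hx hy => rw [hx, hy, add_zero]
    | tmul c m =>
        obtain ⟨s, rfl⟩ := Submodule.Quotient.mk_surjective _ m
        obtain ⟨a, b, hb, hab⟩ := hres s
        have h1 := congrArg ((LinearMap.range (Algebra.linearMap R S)).mkQ.lTensor K) (hz _ hab)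
        rw [LinearMap.lTensor_tmul, map_zero, map_sub,
          (Submodule.Quotient.mk_eq_zero _).mpr ⟨a, rfl⟩ |> fun h =>
            show (LinearMap.range (Algebra.linearMap R S)).mkQ (algebraMap R S a) = 0 from h,
          sub_zero, ← Algebra.smul_def, map_smul, Submodule.mkQ_apply] at h1
        have hb' : algebraMap R K b ≠ 0 := fun h => hb (Ideal.algebraMap_residueField_eq_zero.mp h)
        calc c ⊗ₜ[R] (Submodule.Quotient.mk s : M)
            = (c * (algebraMap R K b)⁻¹) • ((algebraMap R K b) ⊗ₜ[R] (Submodule.Quotient.mk s : M)) := by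
              rw [TensorProduct.smul_tmul', smul_eq_mul, mul_assoc, inv_mul_cancel₀ hb', mul_one]
          _ = 0 := by
              rw [show (algebraMap R K b) ⊗ₜ[R] (Submodule.Quotient.mk s : M) = (1 : K) ⊗ₜ[R] (b • (Submodule.Quotient.mk s : M)) by
                rw [← TensorProduct.smul_tmul, Algebra.smul_def, mul_one], h1, smul_zero]
  have hnm : (⟨p, inferInstance⟩ : PrimeSpectrum R) ∉ Module.support R M := by
    rw [Module.mem_support_iff_nontrivial_residueField_tensorProduct, not_nontrivial_iff_subsingleton]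
    exact hM
  rw [Module.support_eq_zeroLocus, PrimeSpectrum.mem_zeroLocus, Set.not_subset] at hnm
  obtain ⟨g, hg, hgp⟩ := hnm
  refine ⟨g, hgp, fun s => ?_⟩
  obtain ⟨r, hr⟩ := (Submodule.Quotient.mk_eq_zero (LinearMap.range (Algebra.linearMap R S))).mp
    (show (Submodule.Quotient.mk (g • s) : M) = 0 by
      rw [Submodule.Quotient.mk_smul]; exact Module.mem_annihilator.mp hg _)
  exact ⟨r, hr.trans (Algebra.smul_def g s)⟩

variable {X S : Scheme.{u}} (f : X ⟶ S)

/-- A finite unramified morphism with a single rational point over `s` is a closed immersion near `s`. -/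
theorem exists_nhd_isClosedImmersion [IsFinite f] [FormallyUnramified f] (s : S) (x : X)
    (hx : f.base ⁻¹' {s} = {x}) (hκ : Function.Surjective (f.residueFieldMap x)) :
    ∃ U : S.Opens, s ∈ U ∧ IsClosedImmersion (f ∣_ U) := by
  obtain ⟨U, hU, hsU, -⟩ := exists_isAffineOpen_mem_and_subset (X := S) (x := s) (U := ⊤) trivial
  obtain rfl : f x = s := by
    have : x ∈ f.base ⁻¹' {s} := hx.symm.le rfl
    exact this
  have hV : IsAffineOpen (f ⁻¹ᵁ U) := hU.preimage f
  have h1 : (f.app U).hom.Finite := IsFinite.finite_app f U hU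
  have h2 := HasRingHomProperty.appLE @FormallyUnramified f inferInstance ⟨U, hU⟩ ⟨_, hV⟩ le_rfl
  rw [← Scheme.Hom.app_eq_appLE] at h2
  algebraize [(f.app U).hom]
  have : Algebra.FormallyUnramified Γ(S, U) Γ(X, f ⁻¹ᵁ U) := RingHom.formallyUnramified_algebraMap.mp h2
  let xV : (f ⁻¹ᵁ U : X.Opens) := ⟨x, hsU⟩
  have hq : ∀ y : (f ⁻¹ᵁ U : X.Opens), ∀ z : Γ(X, f ⁻¹ᵁ U),
      z ∈ (hV.primeIdealOf y).asIdeal ↔ X.evaluation (f ⁻¹ᵁ U) y.1 y.2 z = 0 := fun y z => by
    rw [Scheme.evaluation_eq_zero_iff_notMem_basicOpen, ← hV.fromSpec_image_basicOpen z]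
    constructor
    · rintro hz ⟨P, hP, hPy⟩
      obtain rfl := hV.fromSpec.isOpenEmbedding.injective (hPy.trans (hV.fromSpec_primeIdealOf y).symm)
      exact hP hz
    · intro hz
      by_contra h
      exact hz ⟨_, h, hV.fromSpec_primeIdealOf y⟩
  have hp : ∀ r : Γ(S, U), r ∈ (hU.primeIdealOf ⟨f x, hsU⟩).asIdeal ↔ S.evaluation U (f x) hsU r = 0 := fun r => by
    rw [Scheme.evaluation_eq_zero_iff_notMem_basicOpen, ← hU.fromSpec_image_basicOpen r]
    constructor
    · rintro hz ⟨P, hP, hPy⟩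
      obtain rfl := hU.fromSpec.isOpenEmbedding.injective (hPy.trans (hU.fromSpec_primeIdealOf ⟨f x, hsU⟩).symm)
      exact hP hz
    · intro hz
      by_contra h
      exact hz ⟨_, h, hU.fromSpec_primeIdealOf _⟩
  obtain ⟨g, hg, hsur⟩ := exists_surjective_away Γ(S, U) Γ(X, f ⁻¹ᵁ U)
    (hU.primeIdealOf ⟨f x, hsU⟩).asIdeal (hV.primeIdealOf xV).asIdeal (fun q' hq' hc => by
      let P : PrimeSpectrum Γ(X, f ⁻¹ᵁ U) := ⟨q', hq'⟩
      have hP : f (hV.fromSpec P) = f x := by
        have e := congrArg (fun k : Spec Γ(X, f ⁻¹ᵁ U) ⟶ S => k P)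
          (IsAffineOpen.SpecMap_appLE_fromSpec f hU hV le_rfl)
        rw [← Scheme.Hom.app_eq_appLE] at e
        refine e.symm.trans ?_
        change hU.fromSpec (Spec.map (f.app U) P) = f x
        rw [show Spec.map (f.app U) P = hU.primeIdealOf ⟨f x, hsU⟩ from PrimeSpectrum.ext hc,
          hU.fromSpec_primeIdealOf]
      have hPx : hV.fromSpec P = x := hx.le (by exact hP)
      have : P = hV.primeIdealOf xV :=
        hV.fromSpec.isOpenEmbedding.injective (hPx.trans (hV.fromSpec_primeIdealOf xV).symm)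
      exact congrArg PrimeSpectrum.asIdeal this) (fun z => by
      obtain ⟨c, hc⟩ := hκ (X.evaluation (f ⁻¹ᵁ U) x hsU z)
      obtain ⟨w, rfl⟩ := S.residue_surjective (f x) c
      letI : Algebra Γ(S, U) (S.presheaf.stalk (f x)) := (S.presheaf.germ U (f x) hsU).hom.toAlgebra
      have : IsLocalization.AtPrime (S.presheaf.stalk (f x)) (hU.primeIdealOf ⟨f x, hsU⟩).asIdeal :=
        hU.isLocalization_stalk ⟨f x, hsU⟩
      obtain ⟨⟨a, b⟩, hab⟩ := IsLocalization.surj (hU.primeIdealOf ⟨f x, hsU⟩).asIdeal.primeCompl w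
      refine ⟨a, b, b.2, (hq xV _).mpr ?_⟩
      have hab' := congrArg (fun t => f.residueFieldMap x (S.residue (f x) t)) hab
      simp only [map_mul, hc] at hab'
      rw [map_sub, map_mul]
      change X.evaluation (f ⁻¹ᵁ U) x hsU (f.app U b.1) * _ - X.evaluation (f ⁻¹ᵁ U) x hsU (f.app U a) = 0
      rw [← Scheme.evaluation_naturality_apply, ← Scheme.evaluation_naturality_apply, sub_eq_zero, mul_comm]
      exact hab')
  refine ⟨S.basicOpen g, ?_, ?_⟩
  · rw [← Scheme.evaluation_ne_zero_iff_mem_basicOpen (hx := hsU)]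
    exact fun h => hg ((hp g).mpr h)
  · have hsurj : ∀ W : S.Opens, W = S.basicOpen g → Function.Surjective (f.app W) := by
      rintro _ rfl
      intro z
      have hle : f ⁻¹ᵁ S.basicOpen g = X.basicOpen (f.app U g) := f.preimage_basicOpen g
      letI : Algebra Γ(X, f ⁻¹ᵁ U) Γ(X, f ⁻¹ᵁ S.basicOpen g) :=
        (X.presheaf.map (homOfLE (f.preimage_mono (S.basicOpen_le g))).op).hom.toAlgebra
      have : IsLocalization.Away (f.app U g) Γ(X, f ⁻¹ᵁ S.basicOpen g) :=
        hV.isLocalization_of_eq_basicOpen (f.app U g) (homOfLE (f.preimage_mono (S.basicOpen_le g))) hle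
      obtain ⟨⟨m, ⟨_, k, rfl⟩⟩, hm⟩ := IsLocalization.surj (Submonoid.powers (f.app U g)) z
      obtain ⟨r, hr⟩ := hsur m
      letI : Algebra Γ(S, U) Γ(S, S.basicOpen g) := (S.presheaf.map (homOfLE (S.basicOpen_le g)).op).hom.toAlgebra
      have := hU.isLocalization_basicOpen g
      refine ⟨IsLocalization.mk' Γ(S, S.basicOpen g) r (⟨g ^ (k + 1), k + 1, rfl⟩ : Submonoid.powers g), ?_⟩
      have hnat : ∀ t : Γ(S, U), f.app (S.basicOpen g) (algebraMap Γ(S, U) Γ(S, S.basicOpen g) t) =
          algebraMap Γ(X, f ⁻¹ᵁ U) Γ(X, f ⁻¹ᵁ S.basicOpen g) (f.app U t) := fun t =>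
        congrArg (fun k : Γ(S, U) ⟶ Γ(X, f ⁻¹ᵁ S.basicOpen g) => k t)
          (f.naturality (homOfLE (S.basicOpen_le g)).op)
      have hu : IsUnit (algebraMap Γ(X, f ⁻¹ᵁ U) Γ(X, f ⁻¹ᵁ S.basicOpen g) (f.app U g ^ (k + 1))) :=
        IsLocalization.map_units _ (⟨_, k + 1, rfl⟩ : Submonoid.powers (f.app U g))
      refine hu.mul_left_injective ?_
      change f.app _ _ * _ = z * _
      rw [← map_pow, ← hnat, ← map_mul, IsLocalization.mk'_spec, hnat,
        show f.app U r = f.app U g * m from hr, hnat, map_pow (f.app U).hom, pow_succ, map_mul, map_mul,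
        ← mul_assoc, hm, mul_comm]
    have hW : IsAffineOpen (S.basicOpen g) := hU.basicOpen g
    have : IsAffine (S.basicOpen g : Scheme.{u}) := hW
    have : IsAffine (f ⁻¹ᵁ S.basicOpen g : Scheme.{u}) := hW.preimage f
    refine IsClosedImmersion.of_surjective_of_isAffine (f ∣_ S.basicOpen g) ?_
    rw [morphismRestrict_appTop]
    intro z
    obtain ⟨w, rfl⟩ := (ConcreteCategory.bijective_of_isIso
      (X.presheaf.map (eqToHom (image_morphismRestrict_preimage f (S.basicOpen g) ⊤)).op)).2 z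
    obtain ⟨t, rfl⟩ := hsurj _ (Scheme.Opens.ι_image_top _) w
    exact ⟨t, rfl⟩

/-- A finite étale morphism with a single rational point over `s` is an isomorphism near `s`. -/
theorem exists_nhd_isIso [IsFinite f] [Etale f] (s : S) (x : X)
    (hx : f.base ⁻¹' {s} = {x}) (hκ : Function.Surjective (f.residueFieldMap x)) :
    ∃ U : S.Opens, s ∈ U ∧ IsIso (f ∣_ U) := by
  obtain ⟨U, hs, hU⟩ := exists_nhd_isClosedImmersion f s x hx hκ
  have hfx : f x = s := hx.symm.le rfl
  let U' : S.Opens := ⟨U ∩ Set.range f, U.isOpen.inter f.isOpenMap.isOpen_range⟩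
  refine ⟨U', ⟨hs, x, hfx⟩, ?_⟩
  have : Etale (f ∣_ U) := MorphismProperty.of_isPullback (P := @Etale) (isPullback_morphismRestrict f U).flip inferInstance
  have : IsOpenImmersion (f ∣_ U) := FEtLib.isOpenImmersion_of_etale_universallyInjective (f ∣_ U)
  have hle : U' ≤ U := fun _ h => h.1
  have : IsOpenImmersion (f ∣_ U') := by
    have h1 := isPullback_morphismRestrict f U'
    have h2 : IsOpenImmersion ((f ∣_ U') ≫ S.homOfLE hle) := by
      let j : (f ⁻¹ᵁ U' : Scheme.{u}) ⟶ f ⁻¹ᵁ U := X.homOfLE (f.preimage_mono hle)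
      have e : (f ∣_ U') ≫ S.homOfLE hle = j ≫ (f ∣_ U) := by
        rw [← cancel_mono U.ι]
        simp [j, morphismRestrict_ι]
      rw [e]
      infer_instance
    exact IsOpenImmersion.of_comp (f ∣_ U') (S.homOfLE hle)
  have : Surjective (f ∣_ U') := ⟨fun ⟨t, ht, y, hy⟩ =>
    ⟨⟨y, show f y ∈ U' from hy ▸ ⟨ht, y, hy⟩⟩, Subtype.ext ((morphismRestrict_base_coe f U' _).trans hy)⟩⟩
  have : Epi (f ∣_ U').base := (TopCat.epi_iff_surjective _).mpr (f ∣_ U').surjective
  exact IsOpenImmersion.isIso _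

end Groth.Agent.Et18
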