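import Groth.Agent.Et18.UnramifiedNhd
import Groth.Agent.Et18.StrictHenselCover
import Mathlib.RingTheory.Etale.QuasiFinite
import Mathlib.RingTheory.Unramified.LocalStructure
import Mathlib.FieldTheory.Minpoly.Field
import Mathlib.FieldTheory.IsAlgClosed.AlgebraicClosure
import Mathlib.AlgebraicGeometry.Limits

/-!
# Finite unramified morphisms are étale locally disjoint unions of closed immersions
-/

universe u

open TensorProduct

namespace Groth.Agent.Et18

variable {R : Type u} [CommRing R] {Ω : Type u} [Field Ω] [Algebra R Ω]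

/-- Elements which are quotients of values at the point of a neighbourhood. -/
def InField (N : SHensel.Nbhd R Ω) (α : Ω) : Prop :=
  ∃ x y : N.A, N.pt y ≠ 0 ∧ α * N.pt y = N.pt x

lemma InField.mono {N M : SHensel.Nbhd R Ω} (ψ : N.Hom M) {α : Ω} (h : InField N α) : InField M α := by
  obtain ⟨x, y, hy, e⟩ := h
  have hψ : ∀ a, M.pt (ψ.map a) = N.pt a := fun a => DFunLike.congr_fun ψ.comp a
  exact ⟨ψ.map x, ψ.map y, by rw [hψ]; exact hy, by rw [hψ, hψ, e]⟩

/-- The values of a point of an unramified algebra are realised by an étale neighbourhood. -/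
theorem exists_nbhd_values {S : Type u} [CommRing S] [Algebra R S] [Algebra.FiniteType R S]
    [Algebra.FormallyUnramified R S] (ξ : S →ₐ[R] Ω) :
    ∃ N : SHensel.Nbhd R Ω, ∀ s, InField N (ξ s) := by
  have : (RingHom.ker ξ).IsPrime := RingHom.ker_isPrime _
  obtain ⟨g, hg, P, φ, hφ⟩ := Algebra.IsUnramifiedAt.exists_hasStandardEtaleSurjectionOn (R := R) (RingHom.ker ξ)
  have hu : ∀ y : Submonoid.powers g, IsUnit (ξ y) := by
    rintro ⟨_, n, rfl⟩
    change IsUnit (ξ (g ^ n))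
    rw [map_pow]
    exact (isUnit_iff_ne_zero.mpr fun h => hg (RingHom.mem_ker.mpr h)).pow n
  let ξ' : Localization.Away g →ₐ[R] Ω :=
    IsLocalization.liftAlgHom (M := Submonoid.powers g) (S := Localization.Away g) (f := ξ) hu
  refine ⟨{ A := P.Ring, pt := ξ'.comp φ }, fun s => ?_⟩
  obtain ⟨x, hx⟩ := hφ (algebraMap S (Localization.Away g) s)
  refine ⟨x, 1, ?_, ?_⟩
  · simp
  · change ξ s * (ξ'.comp φ) 1 = ξ' (φ x)
    rw [map_one, mul_one, hx]
    simp [ξ']

/-- All values over a geometric point are realised by one étale neighbourhood. -/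
theorem exists_nbhd_all_values {S : Type u} [CommRing S] [Algebra R S] [Module.Finite R S]
    [Algebra.FormallyUnramified R S] (p : Ideal R) [p.IsPrime] [Algebra p.ResidueField Ω]
    [IsScalarTower R p.ResidueField Ω] :
    ∃ N : SHensel.Nbhd R Ω, ∀ (ξ : S →ₐ[R] Ω) (s : S), InField N (ξ s) := by
  have : Finite (p.ResidueField ⊗[R] S →ₐ[p.ResidueField] Ω) :=
    Finite.of_fintype _
  have : Finite (S →ₐ[R] Ω) := Finite.of_injective
    (fun ξ : S →ₐ[R] Ω => Algebra.TensorProduct.lift (Algebra.ofId p.ResidueField Ω) ξ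
      fun _ _ => Commute.all _ _) fun ξ₁ ξ₂ h => AlgHom.ext fun s => by
      have := DFunLike.congr_fun h ((1 : p.ResidueField) ⊗ₜ[R] s)
      simpa using this
  obtain ⟨n, ⟨e⟩⟩ := Finite.exists_equiv_fin (S →ₐ[R] Ω)
  choose N hN using fun ξ : S →ₐ[R] Ω => exists_nbhd_values ξ
  obtain ⟨L, ⟨ψ⟩⟩ := SHensel.exists_common n fun k => N (e.symm k)
  refine ⟨L, fun ξ s => ?_⟩
  have h := (hN (e.symm (e ξ)) s).mono (ψ (e ξ))
  rwa [e.symm_apply_apply] at h

/-- An embedding of a domain into an algebraically closed field extends to an algebraic extension. -/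
theorem exists_injective_extension [IsAlgClosed Ω] {A₀ T₀ : Type u} [CommRing A₀] [IsDomain A₀] [CommRing T₀]
    [IsDomain T₀] [Algebra A₀ T₀] [Algebra.IsIntegral A₀ T₀] [Module.IsTorsionFree A₀ T₀]
    (ι : A₀ →+* Ω) (hι : Function.Injective ι) :
    ∃ φ : T₀ →+* Ω, φ.comp (algebraMap A₀ T₀) = ι ∧ Function.Injective φ := by
  letI := ι.toAlgebra
  have : Module.IsTorsionFree A₀ Ω := Module.isTorsionFree_iff_algebraMap_injective.mpr hι
  let φ : T₀ →ₐ[A₀] Ω := IsAlgClosed.lift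
  refine ⟨φ.toRingHom, φ.comp_algebraMap, ?_⟩
  rw [RingHom.injective_iff_ker_eq_bot]
  refine Ideal.eq_bot_of_comap_eq_bot (R := A₀) ?_
  rw [RingHom.comap_ker]
  exact (RingHom.injective_iff_ker_eq_bot _).mp (φ.comp_algebraMap ▸ hι)

/-- Primes of an integral algebra over the kernel of a point are kernels of extensions of the point. -/
theorem exists_extension_ker_eq [IsAlgClosed Ω] {A T : Type u} [CommRing A] [CommRing T] [Algebra A T]
    [Algebra.IsIntegral A T] (pt : A →+* Ω) (P : Ideal A) (Q : Ideal T) [P.IsPrime] [Q.IsPrime]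
    [Q.LiesOver P] (hP : RingHom.ker pt = P) :
    ∃ ψ : T →+* Ω, ψ.comp (algebraMap A T) = pt ∧ RingHom.ker ψ = Q := by
  let ι : A ⧸ P →+* Ω := Ideal.Quotient.lift P pt fun a ha => RingHom.mem_ker.mp (hP ▸ ha)
  have hι : Function.Injective ι := RingHom.lift_injective_of_ker_le_ideal P _ hP.le
  have : Module.IsTorsionFree (A ⧸ P) (T ⧸ Q) :=
    Module.isTorsionFree_iff_algebraMap_injective.mpr <| (injective_iff_map_eq_zero _).mpr fun a ha => by
      obtain ⟨a, rfl⟩ := Ideal.Quotient.mk_surjective a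
      exact Ideal.Quotient.eq_zero_iff_mem.mpr
        ((Ideal.mem_of_liesOver Q P a).mpr (Ideal.Quotient.eq_zero_iff_mem.mp ha))
  have : Algebra.IsIntegral (A ⧸ P) (T ⧸ Q) := Algebra.IsIntegral.tower_top (R := A)
  obtain ⟨φ, hφ, hinj⟩ := exists_injective_extension (T₀ := T ⧸ Q) ι hι
  refine ⟨φ.comp (Ideal.Quotient.mk Q), RingHom.ext fun a => ?_, ?_⟩
  · exact RingHom.congr_fun hφ (Ideal.Quotient.mk P a)
  · rw [← RingHom.comap_ker, (RingHom.injective_iff_ker_eq_bot φ).mp hinj, ← RingHom.ker_eq_comap_bot,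
      Ideal.mk_ker]

/-- A quotient of a base change along which all primes over a prime are one rational prime becomes
cyclic after inverting one element. -/
theorem split_away {R R₂ S : Type u} [CommRing R] [CommRing R₂] [CommRing S] [Algebra R R₂] [Algebra R S]
    {n : ℕ} (e : Fin n → R₂ ⊗[R] S) (he : CompleteOrthogonalIdempotents e) (g : R₂)
    (h : ∀ i, ∀ t : R₂ ⊗[R] S, ∃ r : R₂,
      algebraMap R₂ (R₂ ⊗[R] S) g * t - algebraMap R₂ (R₂ ⊗[R] S) r ∈ Ideal.span {1 - e i}) :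
    ∃ e' : Fin n → Localization.Away g ⊗[R] S, CompleteOrthogonalIdempotents e' ∧
      ∀ i, Function.Surjective ((Ideal.Quotient.mk (Ideal.span {1 - e' i})).comp
        (algebraMap (Localization.Away g) (Localization.Away g ⊗[R] S))) := by
  let R' := Localization.Away g
  let φ : R₂ ⊗[R] S →+* R' ⊗[R] S :=
    (Algebra.TensorProduct.map (IsScalarTower.toAlgHom R R₂ R') (AlgHom.id R S)).toRingHom
  refine ⟨φ ∘ e, he.map φ, fun i w => ?_⟩
  suffices key : ∀ z : R' ⊗[R] S, ∃ r : R', z - algebraMap R' (R' ⊗[R] S) r ∈ Ideal.span {1 - φ (e i)} by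
    obtain ⟨z, rfl⟩ := Ideal.Quotient.mk_surjective w
    obtain ⟨r, hr⟩ := key z
    exact ⟨r, (Ideal.Quotient.eq.mpr hr).symm⟩
  intro z
  induction z using TensorProduct.induction_on with
  | zero => exact ⟨0, by simp⟩
  | add a b ha hb =>
      obtain ⟨x, hx⟩ := ha
      obtain ⟨y, hy⟩ := hb
      exact ⟨x + y, by rw [map_add]; convert Ideal.add_mem _ hx hy using 1; ring⟩
  | tmul r' s =>
      obtain ⟨r, hr⟩ := h i ((1 : R₂) ⊗ₜ[R] s)
      have hφa : ∀ a, φ (algebraMap R₂ _ a) = algebraMap R' (R' ⊗[R] S) (algebraMap R₂ R' a) := fun a => by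
        simp [φ]
      have h0 := Ideal.mem_map_of_mem φ hr
      simp only [Ideal.map_span, Set.image_singleton, map_sub, map_mul, map_one, hφa,
        show φ ((1 : R₂) ⊗ₜ[R] s) = (1 : R') ⊗ₜ[R] s by simp [φ]] at h0
      refine ⟨r' * (algebraMap R₂ R' r * IsLocalization.Away.invSelf g), ?_⟩
      have hsplit : r' ⊗ₜ[R] s = algebraMap R' (R' ⊗[R] S) r' * ((1 : R') ⊗ₜ[R] s) := by
        rw [Algebra.TensorProduct.algebraMap_apply, Algebra.TensorProduct.tmul_mul_tmul, mul_one, one_mul]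
        rfl
      have hu : algebraMap R' (R' ⊗[R] S) (algebraMap R₂ R' g) *
          algebraMap R' (R' ⊗[R] S) (IsLocalization.Away.invSelf g) = 1 := by
        rw [← map_mul, IsLocalization.Away.mul_invSelf, map_one]
      convert Ideal.mul_mem_left _
        (algebraMap R' (R' ⊗[R] S) r' * algebraMap R' (R' ⊗[R] S) (IsLocalization.Away.invSelf g)) h0 using 1
      rw [hsplit, map_mul, map_mul]
      linear_combination (-(algebraMap R' (R' ⊗[R] S) r' * ((1 : R') ⊗ₜ[R] s))) * hu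

/-- Finite unramified algebras become products of quotients after an étale extension of the base. -/
theorem exists_etale_split {R S : Type u} [CommRing R] [CommRing S] [Algebra R S] [Module.Finite R S]
    [Algebra.FormallyUnramified R S] (p : Ideal R) [p.IsPrime] :
    ∃ (R' : Type u) (_ : CommRing R') (_ : Algebra R R') (_ : Algebra.Etale R R') (P : Ideal R')
      (_ : P.IsPrime) (_ : P.comap (algebraMap R R') = p) (n : ℕ) (e : Fin n → R' ⊗[R] S),
      CompleteOrthogonalIdempotents e ∧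
        ∀ i, Function.Surjective
          ((Ideal.Quotient.mk (Ideal.span {1 - e i})).comp (algebraMap R' (R' ⊗[R] S))) := by
  let Ω := AlgebraicClosure p.ResidueField
  obtain ⟨N, hN⟩ := exists_nbhd_all_values (S := S) (Ω := Ω) p
  let P₁ : Ideal N.A := RingHom.ker N.pt
  have : P₁.IsPrime := RingHom.ker_isPrime _
  have hP₁ : P₁.comap (algebraMap R N.A) = p := by
    ext r
    rw [Ideal.mem_comap, RingHom.mem_ker, N.pt.commutes, IsScalarTower.algebraMap_apply R p.ResidueField Ω,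
      map_eq_zero, Ideal.algebraMap_residueField_eq_zero]
  let S₁ := N.A ⊗[R] S
  -- residue fields over `P₁` are trivial
  have hres : ∀ Q : Ideal S₁, Q.IsPrime → Q.comap (algebraMap N.A S₁) = P₁ → ∀ s : S,
      ∃ x y : N.A, y ∉ P₁ ∧ algebraMap N.A S₁ y * ((1 : N.A) ⊗ₜ[R] s) - algebraMap N.A S₁ x ∈ Q := by
    intro Q _ hQ s
    have : Q.LiesOver P₁ := ⟨hQ.symm⟩
    obtain ⟨ψ, hψc, hψk⟩ := exists_extension_ker_eq N.pt.toRingHom P₁ Q rfl
    have hψ : ∀ a, ψ (algebraMap N.A S₁ a) = N.pt a := fun a => RingHom.congr_fun hψc a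
    let ξ : S →ₐ[R] Ω :=
      { ψ.comp (Algebra.TensorProduct.includeRight : S →ₐ[R] S₁).toRingHom with
        commutes' := fun r => by
          change ψ ((Algebra.TensorProduct.includeRight : S →ₐ[R] S₁) (algebraMap R S r)) = _
          rw [AlgHom.commutes, IsScalarTower.algebraMap_apply R N.A S₁, hψ, N.pt.commutes] }
    obtain ⟨x, y, hy, e⟩ := hN ξ s
    refine ⟨x, y, fun h => hy h, ?_⟩
    have h0 : ψ (algebraMap N.A S₁ y * ((1 : N.A) ⊗ₜ[R] s) - algebraMap N.A S₁ x) = 0 := by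
      rw [map_sub, map_mul, hψ, hψ, sub_eq_zero, mul_comm]
      exact e
    rw [← hψk]
    exact h0
  obtain ⟨R₂, _, _, _, P₂, _, _, n, e, he, Q, _, _, -, -, hQ⟩ :=
    Algebra.exists_etale_completeOrthogonalIdempotents_forall_liesOver_eq (R := N.A) (S := S₁) P₁
  let T := R₂ ⊗[N.A] S₁
  -- residue fields over `P₂` are trivial
  have hresT : ∀ Q' : Ideal T, Q'.IsPrime → Q'.comap (algebraMap R₂ T) = P₂ → ∀ t : T,
      ∃ a c : R₂, c ∉ P₂ ∧ algebraMap R₂ T c * t - algebraMap R₂ T a ∈ Q' := by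
    intro Q' _ hQ' t
    have hmul : ∀ t₁ t₂ : T, (∃ a c, c ∉ P₂ ∧ algebraMap R₂ T c * t₁ - algebraMap R₂ T a ∈ Q') →
        (∃ a c, c ∉ P₂ ∧ algebraMap R₂ T c * t₂ - algebraMap R₂ T a ∈ Q') →
        (∃ a c, c ∉ P₂ ∧ algebraMap R₂ T c * (t₁ * t₂) - algebraMap R₂ T a ∈ Q') := by
      rintro t₁ t₂ ⟨a₁, c₁, hc₁, h₁⟩ ⟨a₂, c₂, hc₂, h₂⟩
      refine ⟨a₁ * a₂, c₁ * c₂, fun h => (Ideal.IsPrime.mem_or_mem ‹_› h).elim hc₁ hc₂, ?_⟩
      rw [map_mul, map_mul]
      convert Q'.add_mem (Q'.mul_mem_left (algebraMap R₂ T c₂ * t₂) h₁)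
        (Q'.mul_mem_left (algebraMap R₂ T a₁) h₂) using 1
      ring
    have h1 : (1 : R₂) ∉ P₂ := fun h => Ideal.IsPrime.ne_top ‹_› ((Ideal.eq_top_iff_one _).mpr h)
    induction t using TensorProduct.induction_on with
    | zero => exact ⟨0, 1, h1, by simp⟩
    | add t₁ t₂ ih₁ ih₂ =>
        obtain ⟨a₁, c₁, hc₁, h₁⟩ := ih₁
        obtain ⟨a₂, c₂, hc₂, h₂⟩ := ih₂
        refine ⟨a₁ * c₂ + a₂ * c₁, c₁ * c₂, fun h => (Ideal.IsPrime.mem_or_mem ‹_› h).elim hc₁ hc₂, ?_⟩
        rw [map_add, map_mul, map_mul, map_mul]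
        convert Q'.add_mem (Q'.mul_mem_left (algebraMap R₂ T c₂) h₁)
          (Q'.mul_mem_left (algebraMap R₂ T c₁) h₂) using 1
        ring
    | tmul r z =>
        rw [show r ⊗ₜ[N.A] z = algebraMap R₂ T r * ((1 : R₂) ⊗ₜ[N.A] z) by
          rw [Algebra.TensorProduct.algebraMap_apply, Algebra.TensorProduct.tmul_mul_tmul, mul_one, one_mul]
          rfl]
        refine hmul _ _ ⟨r, 1, h1, by simp⟩ ?_
        let jr : S₁ →ₐ[N.A] T := Algebra.TensorProduct.includeRight
        have hA : ∀ a : N.A, jr (algebraMap N.A S₁ a) = algebraMap R₂ T (algebraMap N.A R₂ a) := fun a => by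
          rw [jr.commutes, IsScalarTower.algebraMap_apply N.A R₂ T]
        induction z using TensorProduct.induction_on with
        | zero => exact ⟨0, 1, h1, by simp⟩
        | add z₁ z₂ ih₁ ih₂ =>
            obtain ⟨a₁, c₁, hc₁, h₁⟩ := ih₁
            obtain ⟨a₂, c₂, hc₂, h₂⟩ := ih₂
            refine ⟨a₁ * c₂ + a₂ * c₁, c₁ * c₂, fun h => (Ideal.IsPrime.mem_or_mem ‹_› h).elim hc₁ hc₂, ?_⟩
            rw [TensorProduct.tmul_add, map_add, map_mul, map_mul, map_mul]
            convert Q'.add_mem (Q'.mul_mem_left (algebraMap R₂ T c₂) h₁)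
              (Q'.mul_mem_left (algebraMap R₂ T c₁) h₂) using 1
            ring
        | tmul a s =>
            have hz : jr (a ⊗ₜ[R] s) = jr (algebraMap N.A S₁ a) * jr ((1 : N.A) ⊗ₜ[R] s) := by
              rw [← map_mul, Algebra.TensorProduct.algebraMap_apply, Algebra.TensorProduct.tmul_mul_tmul,
                mul_one, one_mul]
              rfl
            change ∃ b c, c ∉ P₂ ∧ algebraMap R₂ T c * jr (a ⊗ₜ[R] s) - algebraMap R₂ T b ∈ Q'
            rw [hz]
            refine hmul _ _ ⟨algebraMap N.A R₂ a, 1, h1, by simp [hA]⟩ ?_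
            obtain ⟨x, y, hy, hm⟩ := hres (Q'.comap jr.toRingHom) inferInstance (by
              rw [Ideal.comap_comap, show jr.toRingHom.comp (algebraMap N.A S₁) =
                (algebraMap R₂ T).comp (algebraMap N.A R₂) from RingHom.ext hA, ← Ideal.comap_comap, hQ']
              exact (Ideal.over_def P₂ P₁).symm) s
            refine ⟨algebraMap N.A R₂ x, algebraMap N.A R₂ y, fun h => hy ?_, ?_⟩
            · rw [Ideal.over_def P₂ P₁]; exact h
            · rw [← hA, ← hA, ← map_mul, ← map_sub]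
              exact hm
  -- surjectivity near `P₂`
  let E : Fin (n + 1) → Ideal T := fun i => Ideal.span {1 - e i}
  have hnot : ∀ (i) (Q' : Ideal T), Q'.IsPrime → E i ≤ Q' → e i ∉ Q' := fun i Q' hQ' hle h =>
    hQ'.ne_top ((Ideal.eq_top_iff_one _).mpr (sub_add_cancel 1 (e i) ▸
      Q'.add_mem (hle (Ideal.mem_span_singleton_self _)) h))
  have huniq : ∀ i : Fin (n + 1), ∃ q : Ideal (T ⧸ E i), (∀ q' : Ideal (T ⧸ E i), q'.IsPrime →
      q'.comap (algebraMap R₂ (T ⧸ E i)) = P₂ → q' = q) ∧ ∀ b : T, ∃ a c : R₂,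
      c ∉ P₂ ∧ algebraMap R₂ T c * b - algebraMap R₂ T a ∈ q.comap (Ideal.Quotient.mk (E i)) := by
    intro i
    have key : ∀ q' : Ideal (T ⧸ E i), q'.IsPrime → q'.comap (algebraMap R₂ (T ⧸ E i)) = P₂ →
        ∃ j : Fin n, i = j.castSucc ∧ q'.comap (Ideal.Quotient.mk (E i)) = Q j := by
      intro q' _ hq'
      have hlo : (q'.comap (Ideal.Quotient.mk (E i))).LiesOver P₂ :=
        ⟨by rw [Ideal.under, Ideal.comap_comap]; exact hq'.symm⟩
      have hne := hnot i (q'.comap (Ideal.Quotient.mk (E i))) inferInstance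
        (by intro z hz; rw [Ideal.mem_comap, Ideal.Quotient.eq_zero_iff_mem.mpr hz]; exact zero_mem _)
      obtain ⟨hl, hj⟩ := hQ _ inferInstance hlo
      obtain ⟨j, rfl⟩ : ∃ j : Fin n, i = j.castSucc := by
        induction i using Fin.lastCases with
        | last => exact absurd hl hne
        | cast j => exact ⟨j, rfl⟩
      exact ⟨j, rfl, hj j hne⟩
    by_cases h : ∃ q' : Ideal (T ⧸ E i), q'.IsPrime ∧ q'.comap (algebraMap R₂ (T ⧸ E i)) = P₂
    · obtain ⟨q, hq, hq2⟩ := h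
      refine ⟨q, fun q' hq' hq2' => ?_, fun b => ?_⟩
      · obtain ⟨j, hj, ej⟩ := key q hq hq2
        obtain ⟨j', hj', ej'⟩ := key q' hq' hq2'
        obtain rfl : j = j' := Fin.castSucc_injective _ (hj.symm.trans hj')
        exact Ideal.comap_injective_of_surjective _ Ideal.Quotient.mk_surjective (ej'.trans ej.symm)
      · obtain ⟨a, c, hc, hm⟩ := hresT (q.comap (Ideal.Quotient.mk (E i))) inferInstance
          (by rw [Ideal.comap_comap]; exact hq2) b
        exact ⟨a, c, hc, hm⟩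
    · exact ⟨⊤, fun q' h1 h2 => absurd ⟨q', h1, h2⟩ h,
        fun b => ⟨0, 1, fun h1 => Ideal.IsPrime.ne_top ‹_› ((Ideal.eq_top_iff_one _).mpr h1), trivial⟩⟩
  choose q hq hqres using huniq
  have hsurj : ∀ i : Fin (n + 1), ∃ g ∉ P₂, ∀ t : T, ∃ r : R₂,
      algebraMap R₂ T g * t - algebraMap R₂ T r ∈ E i := by
    intro i
    have : Algebra.FormallyUnramified T (T ⧸ E i) := Algebra.FormallyUnramified.quotient (E i)
    have : Algebra.FormallyUnramified R₂ (T ⧸ E i) := Algebra.FormallyUnramified.comp R₂ T _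
    obtain ⟨g, hg, hgs⟩ := exists_surjective_away R₂ (T ⧸ E i) P₂ (q i) (hq i) (fun b => by
      obtain ⟨b, rfl⟩ := Ideal.Quotient.mk_surjective b
      obtain ⟨a, c, hc, hm⟩ := hqres i b
      refine ⟨a, c, hc, ?_⟩
      exact hm)
    refine ⟨g, hg, fun t => ?_⟩
    obtain ⟨r, hr⟩ := hgs (Ideal.Quotient.mk (E i) t)
    exact ⟨r, Ideal.Quotient.eq.mp hr.symm⟩
  choose g hg hgs using hsurj
  let g₀ := ∏ i, g i
  have hg₀ : g₀ ∉ P₂ := fun h => by
    obtain ⟨i, -, hi⟩ := Ideal.IsPrime.prod_mem_iff.mp h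
    exact hg i hi
  letI : Algebra R R₂ := ((algebraMap N.A R₂).comp (algebraMap R N.A)).toAlgebra
  have : IsScalarTower R N.A R₂ := IsScalarTower.of_algebraMap_eq' rfl
  have : Algebra.Etale R R₂ := Algebra.Etale.comp R N.A R₂
  let c : T ≃ₐ[R₂] R₂ ⊗[R] S := Algebra.TensorProduct.cancelBaseChange R N.A R₂ R₂ S
  obtain ⟨e', he', hs'⟩ := split_away (fun i => c (e i)) (he.map c.toAlgHom.toRingHom) g₀ fun i t => by
    obtain ⟨r, h1⟩ := hgs i (c.symm t)
    refine ⟨r * ∏ j ∈ Finset.univ.erase i, g j, ?_⟩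
    have h2 := Ideal.mem_map_of_mem c.toAlgHom.toRingHom (Ideal.mul_mem_left _
      (algebraMap R₂ T (∏ j ∈ Finset.univ.erase i, g j)) h1)
    rw [Ideal.map_span, Set.image_singleton] at h2
    simp only [AlgHom.toRingHom_eq_coe, RingHom.coe_coe, AlgEquiv.coe_toAlgHom, map_mul, map_sub, map_one,
      AlgEquiv.commutes, AlgEquiv.apply_symm_apply] at h2
    convert h2 using 1
    rw [show g₀ = g i * ∏ j ∈ Finset.univ.erase i, g j from
      (Finset.mul_prod_erase _ _ (Finset.mem_univ i)).symm, map_mul, map_mul]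
    ring
  have : Algebra.Etale R₂ (Localization.Away g₀) := Algebra.Etale.of_isLocalizationAway g₀
  have : Algebra.Etale R (Localization.Away g₀) := Algebra.Etale.comp R R₂ _
  have hdisj : Disjoint (Submonoid.powers g₀ : Set R₂) P₂ := Set.disjoint_left.mpr (by
    rintro _ ⟨k, rfl⟩ h
    exact hg₀ (Ideal.IsPrime.mem_of_pow_mem ‹_› k h))
  refine ⟨Localization.Away g₀, inferInstance, inferInstance, inferInstance,
    P₂.map (algebraMap R₂ (Localization.Away g₀)),
    IsLocalization.isPrime_of_isPrime_disjoint (Submonoid.powers g₀) _ _ ‹_› hdisj, ?_, n + 1, e', he', hs'⟩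
  rw [IsScalarTower.algebraMap_eq R R₂ (Localization.Away g₀), ← Ideal.comap_comap]
  rw [show (P₂.map (algebraMap R₂ (Localization.Away g₀))).comap (algebraMap R₂ (Localization.Away g₀)) = P₂ from
    IsLocalization.comap_map_of_isPrime_disjoint (Submonoid.powers g₀) _ ‹_› hdisj]
  rw [IsScalarTower.algebraMap_eq R N.A R₂, ← Ideal.comap_comap,
    show P₂.comap (algebraMap N.A R₂) = P₁ from (Ideal.over_def P₂ P₁).symm, hP₁]

section Scheme

open CategoryTheory CategoryTheory.Limits AlgebraicGeometry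

set_option backward.isDefEq.respectTransparency.types false
set_option backward.isDefEq.respectTransparency false

/-- A finite unramified morphism is étale locally a disjoint union of closed immersions. -/
theorem exists_etale_nhd_closedImmersions {X S : Scheme.{u}} (f : X ⟶ S) [IsFinite f]
    [FormallyUnramified f] (s : S) :
    ∃ (U : Scheme.{u}) (g : U ⟶ S) (_ : AlgebraicGeometry.Etale g) (u : U) (_ : g.base u = s)
      (n : ℕ) (V : Fin n → Scheme.{u}) (c : ∀ j, V j ⟶ U) (_ : ∀ j, IsClosedImmersion (c j))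
      (e : (∐ V) ≅ pullback f g), ∀ j, Sigma.ι V j ≫ e.hom ≫ pullback.snd f g = c j := by
  obtain ⟨U, hU, hsU, -⟩ := exists_isAffineOpen_mem_and_subset (X := S) (x := s) (U := ⊤) trivial
  have hV : IsAffineOpen (f ⁻¹ᵁ U) := hU.preimage f
  have h1 : (f.app U).hom.Finite := IsFinite.finite_app f U hU
  have h2 := HasRingHomProperty.appLE @FormallyUnramified f inferInstance ⟨U, hU⟩ ⟨_, hV⟩ le_rfl
  rw [← Scheme.Hom.app_eq_appLE] at h2
  algebraize [(f.app U).hom]
  have : Algebra.FormallyUnramified Γ(S, U) Γ(X, f ⁻¹ᵁ U) := RingHom.formallyUnramified_algebraMap.mp h2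
  obtain ⟨R', _, _, _, P, hP, hPp, n, e, he, hsur⟩ :=
    exists_etale_split (R := Γ(S, U)) (S := Γ(X, f ⁻¹ᵁ U)) (hU.primeIdealOf ⟨s, hsU⟩).asIdeal
  let a : Γ(S, U) ⟶ CommRingCat.of R' := CommRingCat.ofHom (algebraMap Γ(S, U) R')
  have : Etale (Spec.map a) := by
    rw [HasRingHomProperty.Spec_iff (P := @Etale)]
    exact RingHom.etale_algebraMap.mpr inferInstance
  let g : Spec (CommRingCat.of R') ⟶ S := Spec.map a ≫ hU.fromSpec
  have hu : g.base ⟨P, hP⟩ = s := by
    change hU.fromSpec (Spec.map a ⟨P, hP⟩) = s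
    rw [show Spec.map a ⟨P, hP⟩ = hU.primeIdealOf ⟨s, hsU⟩ from PrimeSpectrum.ext hPp,
      hU.fromSpec_primeIdealOf]
  have sq₁ := (isPullback_SpecMap_of_isPushout _ _ _ _
    (CommRingCat.isPushout_tensorProduct Γ(S, U) R' Γ(X, f ⁻¹ᵁ U))).flip
  have sq₂ : IsPullback hV.fromSpec (Spec.map (f.app U)) f hU.fromSpec := by
    refine (IsOpenImmersion.isPullback _ _ _ _ ?_ ?_).flip
    · rw [← IsAffineOpen.SpecMap_appLE_fromSpec f hU hV le_rfl, Scheme.Hom.app_eq_appLE]
    · rw [hU.opensRange_fromSpec, hV.opensRange_fromSpec]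
  have sq := sq₁.paste_horiz sq₂
  let E : Fin n → Ideal (R' ⊗[Γ(S, U)] Γ(X, f ⁻¹ᵁ U)) := fun j => Ideal.span {1 - e j}
  let B : Fin n → CommRingCat.{u} := fun j => CommRingCat.of ((R' ⊗[Γ(S, U)] Γ(X, f ⁻¹ᵁ U)) ⧸ E j)
  let B' : ULift.{u} (Fin n) → CommRingCat.{u} := fun j => B j.down
  let π : CommRingCat.of (R' ⊗[Γ(S, U)] Γ(X, f ⁻¹ᵁ U)) ≅ CommRingCat.of (∀ j, B' j) :=
    (RingEquiv.ofBijective (RingHom.pi fun j : ULift.{u} (Fin n) => Ideal.Quotient.mk (E j.down))
      (CompleteOrthogonalIdempotents.bijective_pi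
        ((CompleteOrthogonalIdempotents.equiv (Equiv.ulift.{u} (α := Fin n))).mpr he))).toCommRingCatIso
  let V : Fin n → Scheme.{u} := fun j => Spec (B j)
  let q : (∐ V) ≅ pullback f g :=
    (Sigma.reindex (Equiv.ulift.{u} (α := Fin n)) V).symm ≪≫ asIso (sigmaSpec B') ≪≫
      asIso (Spec.map π.hom) ≪≫ sq.isoPullback
  let c : ∀ j, V j ⟶ Spec (CommRingCat.of R') := fun j => Spec.map
    (CommRingCat.ofHom ((Ideal.Quotient.mk (E j)).comp (algebraMap R' (R' ⊗[Γ(S, U)] Γ(X, f ⁻¹ᵁ U)))))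
  refine ⟨Spec (CommRingCat.of R'), g, inferInstanceAs (Etale (Spec.map a ≫ hU.fromSpec)), ⟨P, hP⟩, hu,
    n, V, c, fun j => IsClosedImmersion.spec_of_surjective _ (hsur j), q, fun j => ?_⟩
  simp only [q, Iso.trans_hom, Iso.symm_hom, asIso_hom, Category.assoc]
  have hι : Sigma.ι V j ≫ (Sigma.reindex (Equiv.ulift.{u} (α := Fin n)) V).inv =
      Sigma.ι (fun k : ULift.{u} (Fin n) => Spec (B' k)) ⟨j⟩ := by
    rw [Iso.comp_inv_eq]
    exact (Sigma.ι_reindex_hom (Equiv.ulift.{u} (α := Fin n)) V ⟨j⟩).symm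
  rw [reassoc_of% hι, IsPullback.isoPullback_hom_snd, ι_sigmaSpec_assoc, ← Spec.map_comp, ← Spec.map_comp]
  rfl

end Scheme

end Groth.Agent.Et18
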